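import Groth.Agent.L29.DCoh.QCohLocal
import Groth.Agent.L16.Devissage
import Groth.Agent.L20.Strat.Stratification
import Groth.Agent.L17.QCohExtension

/-!
Quasi-coherent cohomology: zero objects, shifts, covers.
-/

set_option autoImplicit false
set_option backward.isDefEq.respectTransparency false
set_option backward.isDefEq.respectTransparency.types false

universe u

open CategoryTheory CategoryTheory.Limits AlgebraicGeometry

attribute [local instance] HasDerivedCategory.standard

namespace Groth.L29.DC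

variable {X : Scheme.{u}}

theorem isQCoh_of_isZero {N : X.Modules} (h : IsZero N) : Coh.IsQCoh N := by
  refine Groth.L00.Local.isQCoh_of_tilde_charts _ fun x => ?_
  obtain ⟨_, ⟨U, hU, rfl⟩, hxU, -⟩ :=
    X.isBasis_affineOpens.exists_subset_of_mem_open (Set.mem_univ x) isOpen_univ
  exact ⟨_, hU.fromSpec, inferInstance, ModuleCat.of _ PUnit.{u + 1}, hU.opensRange_fromSpec.ge hxU,
    ⟨((Scheme.Modules.restrictFunctor hU.fromSpec).map_isZero h).iso
      ((tilde.functor _).map_isZero (ModuleCat.isZero_of_subsingleton _))⟩⟩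

theorem isQCoh_kernel' {F G : X.Modules} (φ : F ⟶ G) (hF : Coh.IsQCoh F) (hG : Coh.IsQCoh G) :
    Coh.IsQCoh (kernel φ) :=
  haveI := hF; haveI := hG; Groth.L20.Strat.isQCoh_kernel φ

theorem isQCoh_cokernel' {F G : X.Modules} (φ : F ⟶ G) (hF : Coh.IsQCoh F) (hG : Coh.IsQCoh G) :
    Coh.IsQCoh (cokernel φ) :=
  haveI := hF; haveI := hG; Groth.L16.Devissage.isQCoh_cokernel φ

theorem isQCohD_of_isZero {K : DCoh.D X} (h : IsZero K) : DCoh.IsQCohD K :=
  fun i => isQCoh_of_isZero ((DerivedCategory.homologyFunctor _ i).map_isZero h)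

/-- quasi-coherence of cohomology can be checked on any open cover -/
theorem isQCohD_of_cover {K : DCoh.D X}
    (h : ∀ x : X, ∃ (V : X.Opens), x ∈ V ∧ DCoh.IsQCohD ((DCoh.restrictD V.ι).obj K)) : DCoh.IsQCohD K := by
  refine isQCohD_of_charts fun x => ?_
  obtain ⟨V, hx, hV⟩ := h x
  obtain ⟨_, ⟨W, hW, rfl⟩, hxW, -⟩ := (V : Scheme.{u}).isBasis_affineOpens.exists_subset_of_mem_open
    (Set.mem_univ (⟨x, hx⟩ : (V : Scheme.{u}))) isOpen_univ
  let j := hW.fromSpec ≫ V.ι
  obtain ⟨y, hy⟩ := hW.opensRange_fromSpec.ge hxW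
  have hxj : x ∈ j.opensRange := ⟨y, by
    change V.ι.base (hW.fromSpec.base y) = x
    rw [hy]; rfl⟩
  exact ⟨_, j, inferInstance, hxj,
    isQCohD_of_iso ((resTransD V.ι hW.fromSpec j rfl).app K) (isQCohD_restrictD hW.fromSpec hV)⟩

end Groth.L29.DC
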