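import Groth.Agent.L00.KFlatDerived
import Groth.Agent.L00.TensorColim
import Mathlib.Algebra.Homology.BifunctorAssociator
import Mathlib.CategoryTheory.Adjunction.Unique
import Mathlib.CategoryTheory.Adjunction.Mates

/-!
Associativity of the tensor product of complexes of O-modules and of the derived tensor product.
-/

set_option autoImplicit false
set_option backward.isDefEq.respectTransparency false
set_option backward.isDefEq.respectTransparency.types false

universe u

open CategoryTheory CategoryTheory.Limits MonoidalCategory AlgebraicGeometry CochainComplex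

attribute [local instance] HasDerivedCategory.standard

namespace Groth.L29.DC.Assoc

open Groth.L00.Tensor

section
variable {C : Type*} [Category C] [Preadditive C] {T : C ⥤ C ⥤ C} [T.Additive]
  [∀ M, (T.obj M).Additive] [∀ K L : CochainComplex C ℤ, HomologicalComplex.HasMapBifunctor K L T (ComplexShape.up ℤ)]

open HomologicalComplex in
/-- the associator of total complexes is natural in the first complex -/
theorem associator_natural₁ (a : bifunctorComp₁₂ T T ≅ bifunctorComp₂₃ T T)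
    {K₁ K₁' : CochainComplex C ℤ} (f : K₁ ⟶ K₁') (K₂ K₃ : CochainComplex C ℤ)
    [HasGoodTrifunctor₁₂Obj T T K₁ K₂ K₃ (ComplexShape.up ℤ) (ComplexShape.up ℤ)]
    [HasGoodTrifunctor₂₃Obj T T K₁ K₂ K₃ (ComplexShape.up ℤ) (ComplexShape.up ℤ) (ComplexShape.up ℤ)]
    [HasGoodTrifunctor₁₂Obj T T K₁' K₂ K₃ (ComplexShape.up ℤ) (ComplexShape.up ℤ)]
    [HasGoodTrifunctor₂₃Obj T T K₁' K₂ K₃ (ComplexShape.up ℤ) (ComplexShape.up ℤ) (ComplexShape.up ℤ)] :
    mapBifunctorMap (mapBifunctorMap f (𝟙 K₂) T (ComplexShape.up ℤ)) (𝟙 K₃) T (ComplexShape.up ℤ) ≫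
        (mapBifunctorAssociator a K₁' K₂ K₃ (ComplexShape.up ℤ) (ComplexShape.up ℤ) (ComplexShape.up ℤ)).hom =
      (mapBifunctorAssociator a K₁ K₂ K₃ (ComplexShape.up ℤ) (ComplexShape.up ℤ) (ComplexShape.up ℤ)).hom ≫
        mapBifunctorMap f (𝟙 (mapBifunctor K₂ K₃ T (ComplexShape.up ℤ))) T (ComplexShape.up ℤ) := by
  refine HomologicalComplex.hom_ext _ _ fun j => ?_
  refine mapBifunctor₁₂.hom_ext fun i₁ i₂ i₃ h => ?_
  simp only [HomologicalComplex.comp_f, mapBifunctorAssociator, Hom.isoOfComponents_hom_f]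
  rw [ι_mapBifunctorAssociatorX_hom_assoc]
  rw [mapBifunctor₁₂.ι_eq _ _ _ _ _ _ _ i₁ i₂ i₃ (i₁ + i₂) j rfl h,
    mapBifunctor₂₃.ι_eq _ _ _ _ _ _ _ _ i₁ i₂ i₃ (i₂ + i₃) j rfl
      (by rw [← h]; exact (add_assoc _ _ _).symm)]
  simp only [Category.assoc, ι_mapBifunctorMap_assoc, ι_mapBifunctorMap]
  simp only [HomologicalComplex.id_f, CategoryTheory.Functor.map_id, Category.id_comp]
  rw [← NatTrans.comp_app_assoc, ← Functor.map_comp, ι_mapBifunctorMap]
  simp only [HomologicalComplex.id_f, CategoryTheory.Functor.map_id, Category.id_comp]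
  rw [Functor.map_comp, NatTrans.comp_app_assoc,
    ← reassoc_of% (mapBifunctor₁₂.ι_eq T T K₁' K₂ K₃ (ComplexShape.up ℤ) (ComplexShape.up ℤ) i₁ i₂ i₃ (i₁ + i₂) j rfl h),
    ι_mapBifunctorAssociatorX_hom,
    mapBifunctor₂₃.ι_eq _ _ _ _ _ _ _ _ i₁ i₂ i₃ (i₂ + i₃) j rfl
      (by rw [← h]; exact (add_assoc _ _ _).symm),
    NatTrans.naturality_assoc]
  exact (Category.assoc _ _ _).symm.trans
    ((congrArg (fun t => t ≫ _) (NatTrans.naturality_app_app a.hom (f.f i₁) (K₂.X i₂) (K₃.X i₃))).trans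
      (Category.assoc _ _ _))

open HomologicalComplex in
/-- the associator of total complexes as an isomorphism of functors of the first complex -/
noncomputable def assocFunctor' (a : bifunctorComp₁₂ T T ≅ bifunctorComp₂₃ T T) (K L : CochainComplex C ℤ)
    (h₁ : ∀ P : CochainComplex C ℤ,
      HasGoodTrifunctor₁₂Obj T T P K L (ComplexShape.up ℤ) (ComplexShape.up ℤ))
    (h₂ : ∀ P : CochainComplex C ℤ,
      HasGoodTrifunctor₂₃Obj T T P K L (ComplexShape.up ℤ) (ComplexShape.up ℤ) (ComplexShape.up ℤ)) :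
    T.map₂CochainComplex.flip.obj K ⋙ T.map₂CochainComplex.flip.obj L ≅
      T.map₂CochainComplex.flip.obj ((T.map₂CochainComplex.obj K).obj L) :=
  haveI := h₁
  haveI := h₂
  NatIso.ofComponents (fun P => mapBifunctorAssociator a P K L (ComplexShape.up ℤ) (ComplexShape.up ℤ)
      (ComplexShape.up ℤ))
    (fun f => associator_natural₁ a f K L)

end

variable {X : Scheme.{u}}

theorem unit_natural {P Q : PX X} (f : P ⟶ Q) :
    f ≫ unit Q = unit P ≫ (preF X).map ((shf X).map f) :=
  (PresheafOfModules.sheafificationAdjunction (𝟙 X.ringCatSheaf.obj)).unit.naturality f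

theorem assoc_natural {A A' B B' C C' : X.Modules} (f : A ⟶ A') (g : B ⟶ B') (h : C ⟶ C') :
    tensorMap (tensorMap f g) h ≫ (tensorAssoc A' B' C').hom =
      (tensorAssoc A B C).hom ≫ tensorMap f (tensorMap g h) := by
  have h1 : (shf X).map (unit (pre A ⊗ pre B) ▷ pre C) ≫ tensorMap (tensorMap f g) h =
      (shf X).map (((preF X).map f ⊗ₘ (preF X).map g) ⊗ₘ (preF X).map h) ≫
        (shf X).map (unit (pre A' ⊗ pre B') ▷ pre C') := by
    rw [tensorMap, ← Functor.map_comp, ← Functor.map_comp]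
    refine congrArg (shf X).map ?_
    rw [← MonoidalCategory.tensorHom_id, ← MonoidalCategory.tensorHom_id,
      MonoidalCategory.tensorHom_comp_tensorHom, MonoidalCategory.tensorHom_comp_tensorHom,
      Category.id_comp]
    exact congrArg₂ (fun a b => MonoidalCategory.tensorHom a b) (unit_natural _).symm
      (Category.comp_id _).symm
  have h2 : (shf X).map (pre A ◁ unit (pre B ⊗ pre C)) ≫ tensorMap f (tensorMap g h) =
      (shf X).map ((preF X).map f ⊗ₘ ((preF X).map g ⊗ₘ (preF X).map h)) ≫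
        (shf X).map (pre A' ◁ unit (pre B' ⊗ pre C')) := by
    rw [tensorMap, ← Functor.map_comp, ← Functor.map_comp]
    refine congrArg (shf X).map ?_
    rw [← MonoidalCategory.id_tensorHom, ← MonoidalCategory.id_tensorHom,
      MonoidalCategory.tensorHom_comp_tensorHom, MonoidalCategory.tensorHom_comp_tensorHom,
      Category.id_comp]
    exact congrArg₂ (fun a b => MonoidalCategory.tensorHom a b) (Category.comp_id _).symm
      (unit_natural _).symm
  haveI := (isIso_shf_map_iff _).2 (Wp_whiskerRight (unit (pre A ⊗ pre B)) (pre C) (Wp_unit _))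
  rw [← cancel_epi ((shf X).map (unit (pre A ⊗ pre B) ▷ pre C))]
  haveI := (isIso_shf_map_iff _).2 (Wp_whiskerRight (unit (pre A' ⊗ pre B')) (pre C') (Wp_unit _))
  simp only [tensorAssoc, shfTensorLeft, shfTensorRight, Iso.trans_hom, Iso.symm_hom, Iso.symm_inv,
    asIso_inv, asIso_hom, Functor.mapIso_hom, Category.assoc]
  rw [reassoc_of% h1, IsIso.hom_inv_id_assoc, IsIso.hom_inv_id_assoc, h2, ← Functor.map_comp_assoc,
    ← Functor.map_comp_assoc]
  refine congrArg (fun t => (shf X).map t ≫ _) ?_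
  exact MonoidalCategory.associator_naturality _ _ _

theorem map_app_eq {A A' : X.Modules} (φ : A ⟶ A') (B : X.Modules) :
    ((DCoh.tensorBi (X := X)).map φ).app B = tensorMap φ (𝟙 B) := by
  refine congrArg (shf _).map ?_
  rw [CategoryTheory.Functor.map_id]
  exact (MonoidalCategory.tensorHom_id _ _).symm

theorem obj_map_eq (A : X.Modules) {B B' : X.Modules} (φ : B ⟶ B') :
    ((DCoh.tensorBi (X := X)).obj A).map φ = tensorMap (𝟙 A) φ := by
  refine congrArg (shf _).map ?_
  rw [CategoryTheory.Functor.map_id]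
  exact (MonoidalCategory.id_tensorHom _ _).symm

/-- associativity of the tensor product of modules as trifunctors -/
noncomputable def assocNat (X : Scheme.{u}) :
    bifunctorComp₁₂ (DCoh.tensorBi (X := X)) (DCoh.tensorBi (X := X)) ≅
      bifunctorComp₂₃ (DCoh.tensorBi (X := X)) (DCoh.tensorBi (X := X)) :=
  NatIso.ofComponents (fun A => NatIso.ofComponents (fun B => NatIso.ofComponents (fun C => tensorAssoc A B C)
      (fun {C C'} h => by
        change ((DCoh.tensorBi (X := X)).obj (((DCoh.tensorBi (X := X)).obj A).obj B)).map h ≫ _ =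
          _ ≫ ((DCoh.tensorBi (X := X)).obj A).map (((DCoh.tensorBi (X := X)).obj B).map h)
        rw [obj_map_eq, obj_map_eq, obj_map_eq, ← assoc_natural (𝟙 A) (𝟙 B) h]
        simp only [tensorMap_id]
        rfl))
    (fun {B B'} g => by
      ext C : 2
      change ((DCoh.tensorBi (X := X)).map (((DCoh.tensorBi (X := X)).obj A).map g)).app C ≫ _ =
        _ ≫ ((DCoh.tensorBi (X := X)).obj A).map (((DCoh.tensorBi (X := X)).map g).app C)
      rw [map_app_eq, map_app_eq, obj_map_eq, obj_map_eq]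
      exact assoc_natural (𝟙 A) g (𝟙 C)))
    (fun {A A'} f => by
      ext B C : 4
      change ((DCoh.tensorBi (X := X)).map (((DCoh.tensorBi (X := X)).map f).app B)).app C ≫ _ =
        _ ≫ ((DCoh.tensorBi (X := X)).map f).app (((DCoh.tensorBi (X := X)).obj B).obj C)
      rw [map_app_eq, map_app_eq, map_app_eq]
      refine (assoc_natural f (𝟙 B) (𝟙 C)).trans ?_
      simp only [tensorMap_id]
      rfl)

instance preservesColimits_tensorBi_obj (M : X.Modules) :
    PreservesColimitsOfSize.{0, 0} ((DCoh.tensorBi (X := X)).obj M) :=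
  haveI : PreservesColimitsOfSize.{0, 0} (tensorLeftF M) := preservesColimitsOfSize_shrink.{0, u, 0, u} _
  preservesColimits_of_natIso
    (NatIso.ofComponents (fun N => Iso.refl _) (fun f => by
      simp only [Iso.refl_hom, Category.comp_id, Category.id_comp]
      exact (obj_map_eq M f).symm) : tensorLeftF M ≅ (DCoh.tensorBi (X := X)).obj M)

instance preservesColimits_tensorBi_flip (N : X.Modules) :
    PreservesColimitsOfSize.{0, 0} ((DCoh.tensorBi (X := X)).flip.obj N) :=
  haveI : PreservesColimitsOfSize.{0, 0} (tensorRightF N) := preservesColimitsOfSize_shrink.{0, u, 0, u} _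
  preservesColimits_of_natIso
    (NatIso.ofComponents (fun M => Iso.refl _) (fun f => by
      simp only [Iso.refl_hom, Category.comp_id, Category.id_comp]
      exact (map_app_eq f N).symm) : tensorRightF N ≅ (DCoh.tensorBi (X := X)).flip.obj N)

instance hasGood₁₂ (K₁ K₂ K₃ : CochainComplex X.Modules ℤ) :
    HomologicalComplex.HasGoodTrifunctor₁₂Obj (DCoh.tensorBi (X := X)) (DCoh.tensorBi (X := X)) K₁ K₂ K₃
      (ComplexShape.up ℤ) (ComplexShape.up ℤ) :=
  fun _ _ => inferInstance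

instance hasGood₂₃ (K₁ K₂ K₃ : CochainComplex X.Modules ℤ) :
    HomologicalComplex.HasGoodTrifunctor₂₃Obj (DCoh.tensorBi (X := X)) (DCoh.tensorBi (X := X)) K₁ K₂ K₃
      (ComplexShape.up ℤ) (ComplexShape.up ℤ) (ComplexShape.up ℤ) :=
  fun _ _ => inferInstance

/-- associativity on complexes -/
noncomputable def assocCx (P K L : CochainComplex X.Modules ℤ) :
    (DCoh.tensorCx.obj ((DCoh.tensorCx.obj P).obj K)).obj L ≅
      (DCoh.tensorCx.obj P).obj ((DCoh.tensorCx.obj K).obj L) :=
  HomologicalComplex.mapBifunctorAssociator (assocNat X) P K L (ComplexShape.up ℤ) (ComplexShape.up ℤ)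
    (ComplexShape.up ℤ)

/-- naturality in the first variable -/
noncomputable def assocFunctor (K L : CochainComplex X.Modules ℤ) :
    (DCoh.tensorCx (X := X)).flip.obj K ⋙ (DCoh.tensorCx (X := X)).flip.obj L ≅
      (DCoh.tensorCx (X := X)).flip.obj ((DCoh.tensorCx.obj K).obj L) :=
  assocFunctor' (assocNat X) K L (fun P => hasGood₁₂ P K L) (fun P => hasGood₂₃ P K L)

/-- tensoring with a K-flat complex preserves quasi-isomorphisms -/
theorem quasiIso_tensor_right {L : CochainComplex X.Modules ℤ} (hL : DCoh.IsKFlat L)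
    {P Q : CochainComplex X.Modules ℤ} (α : P ⟶ Q) [QuasiIso α] :
    QuasiIso (((DCoh.tensorCx (X := X)).map α).app L) := by
  have hc : ∀ C : CochainComplex X.Modules ℤ, (∀ i, IsZero (C.homology i)) → ∀ i,
      IsZero (((Groth.L00.KFlat.T L).obj C).homology i) := fun C hC i =>
    (hL C hC i).of_iso ((HomologicalComplex.homologyFunctor _ _ i).mapIso (Groth.L00.KFlat.commIso C L))
  haveI : QuasiIso ((Groth.L00.KFlat.T L).map α) :=
    Groth.L00.ConeTransfer.quasiIso_map (Groth.L00.KFlat.T L)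
      (fun S σ => Groth.L00.BifExact.shortExact_T_of_splitting _ L S σ) α
      (hc _ (Groth.L00.ConeTransfer.acyclic_cone (𝟙 P))) (hc _ (Groth.L00.ConeTransfer.acyclic_cone α))
  have h : QuasiIso ((Groth.L00.KFlat.commIso P L).hom ≫ ((DCoh.tensorCx (X := X)).map α).app L) := by
    rw [← Groth.L00.KFlat.commIso_natural]; infer_instance
  exact quasiIso_of_comp_left (Groth.L00.KFlat.commIso P L).hom _

open Groth.L00 in
/-- the derived tensor product on K-flat complexes -/
theorem isIso_counit (L P : CochainComplex X.Modules ℤ) [DCoh.HasLTensorCx L] (hP : DCoh.IsKFlat P) :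
    IsIso (((DCoh.tensorCxQ L).totalLeftDerivedCounit DerivedCategory.Q
      (HomologicalComplex.quasiIso X.Modules (ComplexShape.up ℤ))).app P) := by
  have hG : ∀ {P Q : CochainComplex X.Modules ℤ} (α : P ⟶ Q), QuasiIso α → DCoh.IsKFlat P →
      DCoh.IsKFlat Q → IsIso ((DCoh.tensorCxQ L).map α) := by
    intro P Q α hα hP hQ
    haveI := hα
    haveI : QuasiIso (((DCoh.tensorCx (X := X)).flip.obj L).map α) := KFlat.quasiIso_tensor_left α hP hQ L
    exact Localization.inverts DerivedCategory.Q (HomologicalComplex.quasiIso X.Modules (ComplexShape.up ℤ))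
      _ ((HomologicalComplex.mem_quasiIso_iff _).2 inferInstance)
  have hF : (HomologicalComplex.quasiIso X.Modules (ComplexShape.up ℤ)).IsInvertedBy
      (KFlat.RF X ⋙ DCoh.tensorCxQ L) := fun P Q α hα => by
    haveI := (HomologicalComplex.mem_quasiIso_iff α).1 hα
    exact hG _ (KFlat.quasiIso_RF_map α) (KFlat.isKFlat_RF P) (KFlat.isKFlat_RF Q)
  let a := LeftDeriv.α (DCoh.tensorCxQ L) _ DerivedCategory.Q (KFlat.RF X) (KFlat.rF X) hF
  haveI : (LeftDeriv.LF (DCoh.tensorCxQ L) (HomologicalComplex.quasiIso X.Modules (ComplexShape.up ℤ))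
      DerivedCategory.Q (KFlat.RF X) hF).IsLeftDerivedFunctor a
      (HomologicalComplex.quasiIso X.Modules (ComplexShape.up ℤ)) :=
    LeftDeriv.isLeftDerivedFunctor _ _ _ _ _
      (fun G => (HomologicalComplex.mem_quasiIso_iff _).2 (KFlat.quasiIso_rF G)) hF
      (fun G => hG _ (KFlat.quasiIso_rF _) (KFlat.isKFlat_RF _) (KFlat.isKFlat_RF _))
  have ha : IsIso (a.app P) := by
    simp only [a, LeftDeriv.α_app]
    haveI := hG _ (KFlat.quasiIso_rF P) (KFlat.isKFlat_RF P) hP
    infer_instance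
  exact LeftDeriv.isIso_totalCounit (DCoh.tensorCxQ L) _ DerivedCategory.Q _ a P ha

open Groth.L00 in
/-- on K-flat inputs -/
noncomputable def RFIso (L : CochainComplex X.Modules ℤ) [DCoh.HasLTensorCx L] :
    KFlat.RF X ⋙ DerivedCategory.Q ⋙ DCoh.LTensorCx L ≅
      KFlat.RF X ⋙ (DCoh.tensorCx (X := X)).flip.obj L ⋙ DerivedCategory.Q :=
  haveI : ∀ P, IsIso ((Functor.whiskerLeft (KFlat.RF X) ((DCoh.tensorCxQ L).totalLeftDerivedCounit
      DerivedCategory.Q (HomologicalComplex.quasiIso X.Modules (ComplexShape.up ℤ)))).app P) :=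
    fun P => isIso_counit L _ (KFlat.isKFlat_RF P)
  NatIso.ofComponents (fun P => asIso ((Functor.whiskerLeft (KFlat.RF X) ((DCoh.tensorCxQ L).totalLeftDerivedCounit
      DerivedCategory.Q (HomologicalComplex.quasiIso X.Modules (ComplexShape.up ℤ)))).app P))
    (fun {P Q} f => by exact (Functor.whiskerLeft (KFlat.RF X) ((DCoh.tensorCxQ L).totalLeftDerivedCounit
      DerivedCategory.Q (HomologicalComplex.quasiIso X.Modules (ComplexShape.up ℤ)))).naturality f)

open Groth.L00 in
/-- when the fixed factor is K-flat, on all inputs -/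
noncomputable def allIso (L : CochainComplex X.Modules ℤ) [DCoh.HasLTensorCx L] (hL : DCoh.IsKFlat L) :
    DerivedCategory.Q ⋙ DCoh.LTensorCx L ≅
      (DCoh.tensorCx (X := X)).flip.obj L ⋙ DerivedCategory.Q :=
  haveI : ∀ P, IsIso (DerivedCategory.Q.map ((KFlat.rF X).app P)) := fun P =>
    (DerivedCategory.isIso_Q_map_iff_quasiIso _ _).2 (KFlat.quasiIso_rF P)
  haveI : ∀ P, IsIso (DerivedCategory.Q.map ((((DCoh.tensorCx (X := X)).flip.obj L).map ((KFlat.rF X).app P)))) := fun P => by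
    haveI := KFlat.quasiIso_rF P
    haveI : QuasiIso (((DCoh.tensorCx (X := X)).flip.obj L).map ((KFlat.rF X).app P)) := quasiIso_tensor_right hL _
    exact (DerivedCategory.isIso_Q_map_iff_quasiIso _ _).2 inferInstance
  let e₁ : KFlat.RF X ⋙ DerivedCategory.Q ⋙ DCoh.LTensorCx L ≅ DerivedCategory.Q ⋙ DCoh.LTensorCx L :=
    NatIso.ofComponents (fun P => (DCoh.LTensorCx L).mapIso (asIso (DerivedCategory.Q.map ((KFlat.rF X).app P))))
      (fun {P Q} f => ((DerivedCategory.Q ⋙ DCoh.LTensorCx L).map_comp _ _).symm.trans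
        (((DerivedCategory.Q ⋙ DCoh.LTensorCx L).congr_map ((KFlat.rF X).naturality f)).trans
          ((DerivedCategory.Q ⋙ DCoh.LTensorCx L).map_comp _ _)))
  let e₂ : KFlat.RF X ⋙ (DCoh.tensorCx (X := X)).flip.obj L ⋙ DerivedCategory.Q ≅
      (DCoh.tensorCx (X := X)).flip.obj L ⋙ DerivedCategory.Q :=
    NatIso.ofComponents (fun P => asIso (DerivedCategory.Q.map ((((DCoh.tensorCx (X := X)).flip.obj L).map ((KFlat.rF X).app P)))))
      (fun {P Q} f => (((DCoh.tensorCx (X := X)).flip.obj L ⋙ DerivedCategory.Q).map_comp _ _).symm.trans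
        ((((DCoh.tensorCx (X := X)).flip.obj L ⋙ DerivedCategory.Q).congr_map ((KFlat.rF X).naturality f)).trans
          (((DCoh.tensorCx (X := X)).flip.obj L ⋙ DerivedCategory.Q).map_comp _ _)))
  e₁.symm ≪≫ RFIso L ≪≫ e₂

open Groth.L00 in
/-- `(- ⊗ K) ⊗ L ≅ - ⊗ (K ⊗ L)` on the derived category, `L` K-flat -/
theorem nonempty_LTensor_comp (K L : CochainComplex X.Modules ℤ) (hL : DCoh.IsKFlat L)
    [DCoh.HasLTensorCx K] [DCoh.HasLTensorCx L] [DCoh.HasLTensorCx ((DCoh.tensorCx.obj K).obj L)] :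
    Nonempty (DCoh.LTensorCx K ⋙ DCoh.LTensorCx L ≅ DCoh.LTensorCx ((DCoh.tensorCx.obj K).obj L)) := by
  let q := DerivedCategory.Q (C := X.Modules)
  haveI : ∀ P, IsIso ((Functor.whiskerRight (KFlat.rF X) q).app P) := fun P =>
    (DerivedCategory.isIso_Q_map_iff_quasiIso _ _).2 (KFlat.quasiIso_rF P)
  haveI := NatIso.isIso_of_isIso_app (Functor.whiskerRight (KFlat.rF X) q)
  let r : KFlat.RF X ⋙ q ≅ q := asIso (Functor.whiskerRight (KFlat.rF X) q) ≪≫ q.leftUnitor
  let KL := (DCoh.tensorCx.obj K).obj L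
  let e : q ⋙ (DCoh.LTensorCx K ⋙ DCoh.LTensorCx L) ≅ q ⋙ DCoh.LTensorCx KL :=
    (Functor.isoWhiskerRight r _).symm ≪≫ Functor.associator _ _ _ ≪≫
      (Functor.isoWhiskerLeft (KFlat.RF X) (Functor.associator _ _ _).symm) ≪≫
      (Functor.associator _ _ _).symm ≪≫
      Functor.isoWhiskerRight (RFIso K) (DCoh.LTensorCx L) ≪≫ Functor.associator _ _ _ ≪≫
      Functor.isoWhiskerLeft (KFlat.RF X) (Functor.associator _ _ _ ≪≫
        Functor.isoWhiskerLeft _ (allIso L hL) ≪≫ (Functor.associator _ _ _).symm ≪≫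
        Functor.isoWhiskerRight (assocFunctor K L) q) ≪≫
      (RFIso KL).symm ≪≫ (Functor.associator _ _ _).symm ≪≫ Functor.isoWhiskerRight r _
  exact ⟨Localization.liftNatIso q (HomologicalComplex.quasiIso X.Modules (ComplexShape.up ℤ))
    (q ⋙ (DCoh.LTensorCx K ⋙ DCoh.LTensorCx L)) (q ⋙ DCoh.LTensorCx KL) _ _ e⟩

/-- `RHom(K ⊗ L, -) ≅ RHom(K, RHom(L, -))` -/
theorem nonempty_RSheafHom_comp (K L : CochainComplex X.Modules ℤ) (hL : DCoh.IsKFlat L)
    [DCoh.HasLTensorCx K] [DCoh.HasRSheafHom K] [DCoh.HasLTensorCx L] [DCoh.HasRSheafHom L]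
    [DCoh.HasLTensorCx ((DCoh.tensorCx.obj K).obj L)] [DCoh.HasRSheafHom ((DCoh.tensorCx.obj K).obj L)] :
    Nonempty (DCoh.RSheafHom ((DCoh.tensorCx.obj K).obj L) ≅ DCoh.RSheafHom L ⋙ DCoh.RSheafHom K) := by
  obtain ⟨e⟩ := nonempty_LTensor_comp K L hL
  exact ⟨((DCoh.RSheafHomAdj ((DCoh.tensorCx.obj K).obj L)).ofNatIsoLeft e.symm).rightAdjointUniq
    ((DCoh.RSheafHomAdj K).comp (DCoh.RSheafHomAdj L))⟩

end Groth.L29.DC.Assoc
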