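import Groth.Agent.L29.DCoh.Triangle
import Groth.Agent.L00.TensorRestrict

/-!
Derived tensor products of perfect objects are perfect.
-/

set_option autoImplicit false
set_option backward.isDefEq.respectTransparency false
set_option backward.isDefEq.respectTransparency.types false

universe u

open CategoryTheory CategoryTheory.Limits MonoidalCategory AlgebraicGeometry CochainComplex

attribute [local instance] HasDerivedCategory.standard

namespace Groth.L29.DC

open Groth.L00.Tensor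

variable {X Y : Scheme.{u}}

section LocFree

theorem isFinLocFree_of_local {M : X.Modules}
    (h : ∀ x : X, ∃ (U : X.Opens), x ∈ U ∧ FlatMod.IsFinLocFree (M.restrict U.ι)) :
    FlatMod.IsFinLocFree M := fun x => by
  obtain ⟨U, hx, hU⟩ := h x
  obtain ⟨V, n, hV, ⟨i⟩⟩ := hU ⟨x, hx⟩
  let j := V.ι ≫ U.ι
  refine ⟨j.opensRange, n, mem_opensRange_comp hx hV, ⟨?_⟩⟩
  exact ((resTrans j j.isoOpensRange.inv _ j.isoOpensRange_inv_comp).app M).symm ≪≫
    (Scheme.Modules.restrictFunctor j.isoOpensRange.inv).mapIso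
      (((resTrans U.ι V.ι j rfl).app M).symm ≪≫ i) ≪≫
    (Scheme.Modules.restrictFunctorIsoPullback j.isoOpensRange.inv).app _ ≪≫
    Groth.L29.LocFree.pullbackFreeIso _ n

theorem isFinLocFree_freeMod (X : Scheme.{u}) (n : ℕ) : FlatMod.IsFinLocFree (FlatMod.freeMod X n) :=
  fun _ => ⟨⊤, n, trivial, ⟨(Scheme.Modules.restrictFunctorIsoPullback (⊤ : X.Opens).ι).app _ ≪≫
    Groth.L29.LocFree.pullbackFreeIso _ n⟩⟩

/-- splitting off the first summand -/
noncomputable def coprodFinSuccIso {C : Type*} [Category C] [Preadditive C] {n : ℕ} (M : Fin (n + 1) → C)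
    [HasBinaryBiproducts C] [HasCoproduct M] [HasCoproduct fun i : Fin n => M i.succ] :
    (∐ M) ≅ (M 0 ⊞ ∐ fun i : Fin n => M i.succ) where
  hom := Sigma.desc (Fin.cases (motive := fun i => M i ⟶ M 0 ⊞ ∐ fun i : Fin n => M i.succ) biprod.inl
    fun i => Sigma.ι (fun i : Fin n => M i.succ) i ≫ biprod.inr)
  inv := biprod.desc (Sigma.ι M 0) (Sigma.desc fun i => Sigma.ι M i.succ)
  hom_inv_id := Sigma.hom_ext _ _ fun i => by refine Fin.cases ?_ (fun i => ?_) i <;> simp
  inv_hom_id := by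
    refine biprod.hom_ext' _ _ (by simp) ?_
    rw [biprod.inr_desc_assoc, Category.comp_id]
    exact Sigma.hom_ext _ _ fun i => by simp

attribute [local instance] preservesBinaryBiproducts_of_preservesBinaryCoproducts

theorem isFinLocFree_coprod_fin : ∀ (n : ℕ) (M : Fin n → X.Modules), (∀ i, FlatMod.IsFinLocFree (M i)) →
    FlatMod.IsFinLocFree (∐ M) := by
  intro n
  induction n with
  | zero =>
    intro M _
    refine Groth.L29.LocFree.of_isZero ((IsZero.iff_id_eq_zero _).2 (Sigma.hom_ext _ _ fun i => i.elim0))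
  | succ n ih =>
    intro M h
    exact Groth.L29.LocFree.of_iso (coprodFinSuccIso M).symm
      (Groth.L29.LocFree.biprod (h 0) (ih _ fun i => h i.succ))

theorem isFinLocFree_coprod {ι : Type} (M : ι → X.Modules) [HasCoproduct M] (s : Finset ι)
    (hs : ∀ i ∉ s, IsZero (M i)) (h : ∀ i, FlatMod.IsFinLocFree (M i)) : FlatMod.IsFinLocFree (∐ M) := by
  classical
  let e := s.equivFin
  refine Groth.L29.LocFree.of_iso (M := ∐ fun k : Fin s.card => M (e.symm k).1)
    ⟨Sigma.desc fun k => Sigma.ι M (e.symm k).1,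
      Sigma.desc fun i => if hi : i ∈ s then
        eqToHom (by rw [Equiv.symm_apply_apply]) ≫ Sigma.ι (fun k : Fin s.card => M (e.symm k).1) (e ⟨i, hi⟩)
      else 0, ?_, ?_⟩ (isFinLocFree_coprod_fin _ _ fun k => h _)
  · refine Sigma.hom_ext _ _ fun k => ?_
    rw [Sigma.ι_desc_assoc, Sigma.ι_desc, dif_pos (e.symm k).2, Category.comp_id]
    exact Sigma.eqToHom_comp_ι (fun k : Fin s.card => M (e.symm k).1) (by exact (e.apply_symm_apply k).symm)
  · refine Sigma.hom_ext _ _ fun i => ?_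
    by_cases hi : i ∈ s
    · rw [Sigma.ι_desc_assoc, dif_pos hi, Category.assoc, Sigma.ι_desc, Category.comp_id]
      exact Sigma.eqToHom_comp_ι M (by simp)
    · exact (hs i hi).eq_of_src _ _

end LocFree

section Tensor

/-- the tensor of two locally free modules is locally free -/
theorem isFinLocFree_tensor {M N : X.Modules} (hM : FlatMod.IsFinLocFree M) (hN : FlatMod.IsFinLocFree N) :
    FlatMod.IsFinLocFree (CohB1.tensorMod M N) := by
  refine isFinLocFree_of_local fun x => ?_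
  obtain ⟨U, n, hxU, ⟨i⟩⟩ := hM x
  obtain ⟨V, m, hxV, ⟨j⟩⟩ := hN x
  obtain ⟨i'⟩ := Groth.L29.LocFree.restrict_le (inf_le_left : U ⊓ V ≤ U) i
  obtain ⟨j'⟩ := Groth.L29.LocFree.restrict_le (inf_le_right : U ⊓ V ≤ V) j
  refine ⟨U ⊓ V, ⟨hxU, hxV⟩, Groth.L29.LocFree.of_iso
    ((tensorIso i' j').symm ≪≫ tensorRestrict (U ⊓ V).ι M N) ?_⟩
  let W : Scheme.{u} := ↑(U ⊓ V)
  let F := (DCoh.tensorBi (X := W)).obj (FlatMod.freeMod W n)
  haveI : PreservesFiniteBiproducts F := Functor.preservesFiniteBiproductsOfAdditive F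
  haveI : PreservesColimitsOfShape (Discrete (Fin m)) F := preservesCoproductsOfShape_of_preservesBiproductsOfShape F
  refine Groth.L29.LocFree.of_iso (PreservesCoproduct.iso F fun _ : Fin m => Coh.structureModule W).symm
    (isFinLocFree_coprod_fin _ _ fun _ =>
      Groth.L29.LocFree.of_iso (tensorUnitRight (FlatMod.freeMod W n)).symm (isFinLocFree_freeMod W n))

variable (j : X ⟶ Y) [IsOpenImmersion j]

theorem restrictCmp_natural {M M' N N' : Y.Modules} (f : M ⟶ M') (g : N ⟶ N') :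
    restrictCmp j M N ≫ (preF X).map ((Scheme.Modules.restrictFunctor j).map (tensorMap f g)) =
      (((preF X).map ((Scheme.Modules.restrictFunctor j).map f)) ⊗ₘ
        ((preF X).map ((Scheme.Modules.restrictFunctor j).map g))) ≫ restrictCmp j M' N' := by
  refine PresheafOfModules.hom_ext fun U => ModuleCat.MonoidalCategory.tensor_ext fun m n => ?_
  exact (congr($(congrArg (fun t => PresheafOfModules.Hom.app t (Opposite.op (j ''ᵁ U.unop)))
    ((PresheafOfModules.sheafificationAdjunction (𝟙 Y.ringCatSheaf.obj)).unit.naturality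
      (show pre M ⊗ pre N ⟶ pre M' ⊗ pre N' from (preF Y).map f ⊗ₘ (preF Y).map g))) (toY j M U.unop m ⊗ₜ toY j N U.unop n))).symm

theorem tensorRestrict_natural {M M' N N' : Y.Modules} (f : M ⟶ M') (g : N ⟶ N') :
    tensorMap ((Scheme.Modules.restrictFunctor j).map f) ((Scheme.Modules.restrictFunctor j).map g) ≫
        (tensorRestrict j M' N').hom =
      (tensorRestrict j M N).hom ≫ (Scheme.Modules.restrictFunctor j).map (tensorMap f g) := by
  have h := congrArg (shf X).map (restrictCmp_natural j f g)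
  have hc : ∀ {A B : X.Modules} (φ : A ⟶ B), (shf X).map ((preF X).map φ) ≫ (counitIso B).hom =
      (counitIso A).hom ≫ φ := fun φ =>
    (PresheafOfModules.sheafificationAdjunction (𝟙 X.ringCatSheaf.obj)).counit.naturality φ
  change (shf X).map _ ≫ (shf X).map (restrictCmp j M' N') ≫ (counitIso _).hom =
    ((shf X).map (restrictCmp j M N) ≫ (counitIso _).hom) ≫ _
  rw [Category.assoc, ← hc, ← Functor.map_comp_assoc, ← Functor.map_comp_assoc]
  exact congrArg (fun t => (shf X).map t ≫ _) (restrictCmp_natural j f g).symm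

/-- restriction commutes with tensor products of complexes -/
noncomputable def restrictTensorCxIso (K L : CochainComplex Y.Modules ℤ) :
    (DCoh.tensorCx.obj (((Scheme.Modules.restrictFunctor j).mapHomologicalComplex (ComplexShape.up ℤ)).obj K)).obj
        (((Scheme.Modules.restrictFunctor j).mapHomologicalComplex (ComplexShape.up ℤ)).obj L) ≅
      ((Scheme.Modules.restrictFunctor j).mapHomologicalComplex (ComplexShape.up ℤ)).obj
        ((DCoh.tensorCx.obj K).obj L) :=
  haveI : PreservesColimitsOfSize.{0, 0} (Scheme.Modules.restrictFunctor j) :=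
    preservesColimitsOfSize_shrink.{0, u, 0, u} _
  Groth.L00.FunctorTotal.totalIso (DCoh.tensorBi (X := Y)) (DCoh.tensorBi (X := X))
    (Scheme.Modules.restrictFunctor j) (Scheme.Modules.restrictFunctor j) (Scheme.Modules.restrictFunctor j)
    (fun M N => tensorRestrict j M N)
    (fun {M M'} f N => by
      have e : ∀ {Z : Scheme.{u}} {A A' : Z.Modules} (φ : A ⟶ A') (B : Z.Modules),
          ((DCoh.tensorBi (X := Z)).map φ).app B = tensorMap φ (𝟙 B) := fun φ B => by
        refine congrArg (shf _).map ?_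
        rw [CategoryTheory.Functor.map_id]
        exact (MonoidalCategory.tensorHom_id _ _).symm
      rw [e, e, ← tensorRestrict_natural j f (𝟙 N), CategoryTheory.Functor.map_id])
    (fun M {N N'} g => by
      have e : ∀ {Z : Scheme.{u}} (A : Z.Modules) {B B' : Z.Modules} (φ : B ⟶ B'),
          ((DCoh.tensorBi (X := Z)).obj A).map φ = tensorMap (𝟙 A) φ := fun A _ _ φ => by
        refine congrArg (shf _).map ?_
        rw [CategoryTheory.Functor.map_id]
        exact (MonoidalCategory.id_tensorHom _ _).symm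
      rw [e, e, ← tensorRestrict_natural j (𝟙 M) g, CategoryTheory.Functor.map_id])
    (c := ComplexShape.up ℤ) K L

theorem isStrictlyPerfect_tensor {E F : CochainComplex X.Modules ℤ} (hE : DCoh.IsStrictlyPerfect E)
    (hF : DCoh.IsStrictlyPerfect F) : DCoh.IsStrictlyPerfect ((DCoh.tensorCx.obj E).obj F) := by
  obtain ⟨⟨a, b, hv⟩, hE'⟩ := hE
  obtain ⟨⟨a', b', hv'⟩, hF'⟩ := hF
  let G := fun p q : ℤ => ((DCoh.tensorBi (X := X)).obj (E.X p)).obj (F.X q)
  have hz : ∀ p q, (p < a ∨ b < p ∨ q < a' ∨ b' < q) → IsZero (G p q) := by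
    intro p q h
    by_cases hp : p < a ∨ b < p
    · exact IsZero.of_iso (((Functor.map_isZero _ (hv p hp))).obj _) (Iso.refl _)
    · exact Functor.map_isZero _ (hv' q (by tauto))
  refine ⟨⟨a + a', b + b', fun n hn => ?_⟩, fun n => ?_⟩
  · refine (IsZero.iff_id_eq_zero _).2 (HomologicalComplex.mapBifunctor.hom_ext fun p q h => ?_)
    refine (hz p q ?_).eq_of_src _ _
    have : p + q = n := h
    omega
  · let e : ∀ k : (ComplexShape.π (ComplexShape.up ℤ) (ComplexShape.up ℤ) (ComplexShape.up ℤ)) ⁻¹' {n},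
        X.Modules := fun k => G k.1.1 k.1.2
    classical
    haveI : HasCoproduct e := inferInstance
    refine Groth.L29.LocFree.of_iso (M := ∐ e) (Iso.refl _) (isFinLocFree_coprod e
      ((((Finset.range (b - a + 1).toNat).image fun k : ℕ => (a + k : ℤ)).image fun p => (p, n - p)).subtype _) (fun k hk => hz _ _ ?_) fun k =>
        isFinLocFree_tensor (hE' _) (hF' _))
    have hk' : k.1.1 + k.1.2 = n := k.2
    by_contra h
    refine hk ?_
    simp only [Finset.mem_subtype, Finset.mem_image, Finset.mem_range]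
    exact ⟨k.1.1, ⟨(k.1.1 - a).toNat, by omega, by omega⟩, Prod.ext rfl (by omega)⟩

end Tensor

open Groth.L00 in
/-- the derived tensor product on a K-flat complex -/
theorem nonempty_LTensorCx_iso (L : CochainComplex X.Modules ℤ) [DCoh.HasLTensorCx L]
    (P : CochainComplex X.Modules ℤ) (hP : DCoh.IsKFlat P) :
    Nonempty ((DCoh.LTensorCx L).obj (DCoh.toD X P) ≅
      DerivedCategory.Q.obj ((DCoh.tensorCx.obj P).obj L)) := by
  have hG : ∀ {P Q : CochainComplex X.Modules ℤ} (α : P ⟶ Q), QuasiIso α → DCoh.IsKFlat P →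
      DCoh.IsKFlat Q → IsIso ((DCoh.tensorCxQ L).map α) := by
    intro P Q α hα hP hQ
    haveI := hα
    haveI : QuasiIso (((DCoh.tensorCx (X := X)).flip.obj L).map α) := KFlat.quasiIso_tensor_left α hP hQ L
    exact Localization.inverts DerivedCategory.Q (HomologicalComplex.quasiIso X.Modules (ComplexShape.up ℤ))
      _ ((HomologicalComplex.mem_quasiIso_iff _).2 inferInstance)
  have hF : (HomologicalComplex.quasiIso X.Modules (ComplexShape.up ℤ)).IsInvertedBy
      (KFlat.RF X ⋙ DCoh.tensorCxQ L) := fun P Q α hα => by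
    haveI := (HomologicalComplex.mem_quasiIso_iff α).1 hα
    exact hG _ (KFlat.quasiIso_RF_map α) (KFlat.isKFlat_RF P) (KFlat.isKFlat_RF Q)
  let a := LeftDeriv.α (DCoh.tensorCxQ L) _ DerivedCategory.Q (KFlat.RF X) (KFlat.rF X) hF
  haveI : (LeftDeriv.LF (DCoh.tensorCxQ L) (HomologicalComplex.quasiIso X.Modules (ComplexShape.up ℤ))
      DerivedCategory.Q (KFlat.RF X) hF).IsLeftDerivedFunctor a
      (HomologicalComplex.quasiIso X.Modules (ComplexShape.up ℤ)) :=
    LeftDeriv.isLeftDerivedFunctor _ _ _ _ _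
      (fun G => (HomologicalComplex.mem_quasiIso_iff _).2 (KFlat.quasiIso_rF G)) hF
      (fun G => hG _ (KFlat.quasiIso_rF _) (KFlat.isKFlat_RF _) (KFlat.isKFlat_RF _))
  have ha : IsIso (a.app P) := by
    simp only [a, LeftDeriv.α_app]
    haveI := hG _ (KFlat.quasiIso_rF P) (KFlat.isKFlat_RF P) hP
    infer_instance
  exact ⟨@asIso _ _ _ _ _ (LeftDeriv.isIso_totalCounit (DCoh.tensorCxQ L) _ DerivedCategory.Q _ a P ha)⟩

open Groth.L00 in
/-- tensor products of K-flat complexes only depend on the classes in the derived category -/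
theorem nonempty_tensor_iso {P E L F : CochainComplex X.Modules ℤ} (hP : DCoh.IsKFlat P)
    (hE : DCoh.IsKFlat E) (hL : DCoh.IsKFlat L) (hF : DCoh.IsKFlat F)
    (e : DCoh.toD X P ≅ DCoh.toD X E) (e' : DCoh.toD X L ≅ DCoh.toD X F) :
    Nonempty (DerivedCategory.Q.obj ((DCoh.tensorCx.obj P).obj L) ≅
      DerivedCategory.Q.obj ((DCoh.tensorCx.obj E).obj F)) := by
  have roof : ∀ {A B : CochainComplex X.Modules ℤ}, (DCoh.toD X A ≅ DCoh.toD X B) →
      ∃ (R : CochainComplex X.Modules ℤ) (p : R ⟶ A) (q : R ⟶ B), DCoh.IsKFlat R ∧ QuasiIso p ∧ QuasiIso q := by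
    intro A B i
    obtain ⟨R₀, s, hs, g, hg⟩ := DerivedCategory.right_fac i.hom
    haveI : IsIso (DerivedCategory.Q.map g) := by
      rw [show DerivedCategory.Q.map g = DerivedCategory.Q.map s ≫ i.hom by rw [hg, IsIso.hom_inv_id_assoc]]
      infer_instance
    haveI : QuasiIso s := (DerivedCategory.isIso_Q_map_iff_quasiIso _ s).1 inferInstance
    haveI : QuasiIso g := (DerivedCategory.isIso_Q_map_iff_quasiIso _ g).1 inferInstance
    obtain ⟨R, r, hR, -, hr, -⟩ := KFlat.exists_resolution R₀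
    exact ⟨R, r ≫ s, r ≫ g, hR, inferInstance, inferInstance⟩
  obtain ⟨R, p, q, hR, hp, hq⟩ := roof e
  obtain ⟨S, p', q', hS, hp', hq'⟩ := roof e'
  let inv : ∀ {A B : CochainComplex X.Modules ℤ} (φ : A ⟶ B), QuasiIso φ →
      (DerivedCategory.Q.obj A ≅ DerivedCategory.Q.obj B) := fun φ h =>
    @asIso _ _ _ _ (DerivedCategory.Q.map φ) ((DerivedCategory.isIso_Q_map_iff_quasiIso _ φ).2 h)
  exact ⟨(inv _ (KFlat.quasiIso_tensor_left p hR hP L)).symm ≪≫
    inv _ (KFlat.quasiIso_tensor_left q hR hE L) ≪≫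
    (inv _ (KFlat.quasiIso_tensor p' hS hL E)).symm ≪≫ inv _ (KFlat.quasiIso_tensor q' hS hF E)⟩

theorem isKFlat_restrict (j : X ⟶ Y) [IsOpenImmersion j] {P : CochainComplex Y.Modules ℤ}
    (hP : DCoh.IsKFlat P) :
    DCoh.IsKFlat (((Scheme.Modules.restrictFunctor j).mapHomologicalComplex (ComplexShape.up ℤ)).obj P) :=
  Groth.L00.KFlat.of_iso
    ((NatIso.mapHomologicalComplex (Scheme.Modules.restrictFunctorIsoPullback j).symm _).app P)
    (Groth.L00.KFlat.pullback_kflat j P hP)

/-- perfect tensor perfect is perfect -/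
theorem isPerfect_LTensorCx (L : CochainComplex X.Modules ℤ) (hL : DCoh.IsKFlat L)
    (hLp : DCoh.IsPerfect (DerivedCategory.Q.obj L)) [DCoh.HasLTensorCx L] (K : DCoh.D X)
    (hK : DCoh.IsPerfect K) : DCoh.IsPerfect ((DCoh.LTensorCx L).obj K) := by
  obtain ⟨P, q, hP, -, hq, -⟩ := Groth.L00.KFlat.exists_resolution (DerivedCategory.Q.objPreimage K)
  haveI := (DerivedCategory.isIso_Q_map_iff_quasiIso _ q).2 hq
  let eK : DCoh.toD X P ≅ K := asIso (DerivedCategory.Q.map q) ≪≫ DerivedCategory.Q.objObjPreimageIso K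
  obtain ⟨eT⟩ := nonempty_LTensorCx_iso L P hP
  rw [isPerfect_iff_wit] at hK hLp
  refine perfect_of_on fun x => ?_
  obtain ⟨V₁, hx₁, w₁⟩ := hK x
  obtain ⟨V₂, hx₂, w₂⟩ := hLp x
  let W := V₁ ⊓ V₂
  obtain ⟨E, hE, ⟨e₁⟩⟩ := res_le (fun {Z} => PWit) (fun k _ _ h => h.restrict k) (fun e h => h.of_iso e)
    (inf_le_left : W ≤ V₁) w₁
  obtain ⟨F, hF, ⟨e₂⟩⟩ := res_le (fun {Z} => PWit) (fun k _ _ h => h.restrict k) (fun e h => h.of_iso e)
    (inf_le_right : W ≤ V₂) w₂
  obtain ⟨t⟩ := nonempty_tensor_iso (isKFlat_restrict W.ι hP) (isKFlat_of_isStrictlyPerfect hE)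
    (isKFlat_restrict W.ι hL) (isKFlat_of_isStrictlyPerfect hF)
    ((resQIso W P).symm ≪≫ (resD W).mapIso eK ≪≫ e₁) ((resQIso W L).symm ≪≫ e₂)
  exact ⟨W, W.ι, inferInstance, W.opensRange_ι.symm ▸ (⟨hx₁, hx₂⟩ : x ∈ W), _, isStrictlyPerfect_tensor hE hF,
    ⟨(resD W).mapIso ((DCoh.LTensorCx L).mapIso eK.symm ≪≫ eT) ≪≫ resQIso W _ ≪≫
      DerivedCategory.Q.mapIso (restrictTensorCxIso W.ι P L).symm ≪≫ t⟩⟩

end Groth.L29.DC
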