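import Groth.Agent.L17.ClosedPush
import Groth.Agent.L00.FunctorTotal
import Groth.Agent.L29.DCoh.TensorAssoc
import Groth.Agent.L29.DCoh.TensorPerfect
import Groth.Agent.L00.LComp
import Mathlib.Algebra.Category.ModuleCat.Monoidal.Adjunction

/-!
Pullback of O-modules along any morphism of schemes commutes with tensor products, naturally, also
on total complexes.
-/

set_option autoImplicit false
set_option backward.isDefEq.respectTransparency false
set_option backward.isDefEq.respectTransparency.types false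

universe u

open CategoryTheory CategoryTheory.Limits MonoidalCategory AlgebraicGeometry Opposite TensorProduct

attribute [local instance] HasDerivedCategory.standard

namespace Groth.L29.DC.PullTensor

open Groth.L00.Tensor Groth.L00.StalkTensor Groth.L00.PullStalk Groth.L17.ClosedPush

variable {X Y : Scheme.{u}} (f : X ⟶ Y)

/-- `A ⊗ B ⟶ f_* (f^* A ⊗ f^* B)` -/
noncomputable def δ₀ (A B : Y.Modules) : CohB1.tensorMod A B ⟶ (Scheme.Modules.pushforward f).obj
    (CohB1.tensorMod ((Scheme.Modules.pullback f).obj A) ((Scheme.Modules.pullback f).obj B)) :=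
  tensorMap ((Scheme.Modules.pullbackPushforwardAdjunction f).unit.app A)
    ((Scheme.Modules.pullbackPushforwardAdjunction f).unit.app B) ≫ μ f _ _

/-- `f^*(A ⊗ B) ⟶ f^* A ⊗ f^* B` -/
noncomputable def δ (A B : Y.Modules) : (Scheme.Modules.pullback f).obj (CohB1.tensorMod A B) ⟶
    CohB1.tensorMod ((Scheme.Modules.pullback f).obj A) ((Scheme.Modules.pullback f).obj B) :=
  ((Scheme.Modules.pullbackPushforwardAdjunction f).homEquiv _ _).symm (δ₀ f A B)

theorem unit_push_δ (A B : Y.Modules) :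
    (Scheme.Modules.pullbackPushforwardAdjunction f).unit.app _ ≫
      (Scheme.Modules.pushforward f).map (δ f A B) = δ₀ f A B := by
  exact ((Scheme.Modules.pullbackPushforwardAdjunction f).homEquiv_unit ..).symm.trans
    (((Scheme.Modules.pullbackPushforwardAdjunction f).homEquiv _ _).apply_symm_apply (δ₀ f A B))

theorem μ_natural {M M' N N' : X.Modules} (g : M ⟶ M') (h : N ⟶ N') :
    tensorMap ((Scheme.Modules.pushforward f).map g) ((Scheme.Modules.pushforward f).map h) ≫ μ f M' N' =
      μ f M N ≫ (Scheme.Modules.pushforward f).map (tensorMap g h) := by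
  refine ((shAdj Y).homEquiv
    (pre ((Scheme.Modules.pushforward f).obj M) ⊗ pre ((Scheme.Modules.pushforward f).obj N)) _).injective ?_
  refine ((shAdj Y).homEquiv_unit ..).trans (Eq.trans ?_ ((shAdj Y).homEquiv_unit ..).symm)
  refine PresheafOfModules.hom_ext fun V => ModuleCat.MonoidalCategory.tensor_ext fun m a => ?_
  exact ((congrArg ((μ f M' N').app V.unop) (tensorMap_unit _ _ V.unop m a)).trans
    (μ_unit f M' N' V.unop _ _)).trans (((congrArg (((Scheme.Modules.pushforward f).map (tensorMap g h)).app V.unop)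
      (μ_unit f M N V.unop m a)).trans (tensorMap_unit g h (f ⁻¹ᵁ V.unop) m a)).symm)

theorem δ_natural {A A' B B' : Y.Modules} (g : A ⟶ A') (h : B ⟶ B') :
    (Scheme.Modules.pullback f).map (tensorMap g h) ≫ δ f A' B' =
      δ f A B ≫ tensorMap ((Scheme.Modules.pullback f).map g) ((Scheme.Modules.pullback f).map h) := by
  refine ((Scheme.Modules.pullbackPushforwardAdjunction f).homEquiv _ _).injective ?_
  rw [Adjunction.homEquiv_naturality_left, Adjunction.homEquiv_naturality_right]
  simp only [δ, Equiv.apply_symm_apply, δ₀, Category.assoc]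
  rw [← μ_natural, ← Category.assoc, ← Category.assoc, ← tensorMap_comp, ← tensorMap_comp]
  exact congrArg₂ (fun a b => tensorMap a b ≫ μ f _ _)
    ((Scheme.Modules.pullbackPushforwardAdjunction f).unit.naturality g)
    ((Scheme.Modules.pullbackPushforwardAdjunction f).unit.naturality h)

/-- the stalk of the pullback of a tensor product -/
noncomputable def stalkCompIso (A B : Y.Modules) (x : X) :
    (Groth.L00.Stk.F Y (f x) ⋙ ModuleCat.extendScalars (φ f x)).obj (CohB1.tensorMod A B) ≅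
      (Groth.L00.Stk.F X x).obj
        (CohB1.tensorMod ((Scheme.Modules.pullback f).obj A) ((Scheme.Modules.pullback f).obj B)) :=
  (ModuleCat.extendScalars (φ f x)).mapIso (Groth.L00.Stk.τ (f x) A B).symm ≪≫
    (Functor.Monoidal.μIso (ModuleCat.extendScalars (φ f x)) ((Groth.L00.Stk.F Y (f x)).obj A)
      ((Groth.L00.Stk.F Y (f x)).obj B)).symm ≪≫
    MonoidalCategory.tensorIso ((stalkIso f x).app A).symm ((stalkIso f x).app B).symm ≪≫
    Groth.L00.Stk.τ x _ _

theorem stalkIso_inv_unit_germ (N : Y.Modules) (x : X) {V : Y.Opens} (hx : f x ∈ V) (n : (pre N).obj (op V)) :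
    (stalkIso f x).inv.app N ((ModuleCat.extendRestrictScalarsAdj (φ f x)).unit.app
        ((Groth.L00.Stk.F Y (f x)).obj N) (germ (pre N) (f x) hx n)) =
      germ (pre ((Scheme.Modules.pullback f).obj N)) x (show x ∈ f ⁻¹ᵁ V from hx)
        (((Scheme.Modules.pullbackPushforwardAdjunction f).unit.app N).app V n) := by
  rw [← stalkIso_unit_germ f N x hx n]
  exact ConcreteCategory.congr_hom ((stalkIso f x).app N).hom_inv_id _

theorem τ_inv_τfun (A B : Y.Modules) (y : Y)
    (t : St (pre A) y ⊗[Y.presheaf.stalk y] St (pre B) y) :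
    (Groth.L00.Stk.τ y A B).inv (Groth.L00.Stk.τfun y A B t) = t :=
  ConcreteCategory.congr_hom (Groth.L00.Stk.τ y A B).hom_inv_id t

/-- `m ↦ 1 ⊗ m` -/
noncomputable abbrev ins {R S : Type u} [CommRing R] [CommRing S] (g : R →+* S) (M : ModuleCat.{u} R) (m : M) :
    ((ModuleCat.extendScalars g).obj M : ModuleCat.{u} S) :=
  (ModuleCat.extendRestrictScalarsAdj g).unit.app M m

theorem extend_map_unit {R S : Type u} [CommRing R] [CommRing S] (g : R →+* S) {M N : ModuleCat.{u} R}
    (h : M ⟶ N) (m : M) : (ModuleCat.extendScalars g).map h (ins g M m) = ins g N (h m) :=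
  ConcreteCategory.congr_hom ((ModuleCat.extendRestrictScalarsAdj g).unit.naturality h).symm m

theorem extend_δ_unit {R S : Type u} [CommRing R] [CommRing S] (g : R →+* S) (M N : ModuleCat.{u} R)
    (m : M) (n : N) :
    (Functor.Monoidal.μIso (ModuleCat.extendScalars g) M N).inv (ins g (M ⊗ N) (m ⊗ₜ[R] n)) =
      (ins g M m) ⊗ₜ[S] (ins g N n) := by
  rw [Functor.Monoidal.μIso_inv]
  exact ModuleCat.extendScalars_δ_tmul g M N m n

theorem stalkCompIso_unit (A B : Y.Modules) (x : X) (p : St (pre A) (f x)) (q : St (pre B) (f x)) :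
    (stalkCompIso f A B x).hom (ins (φ f x) ((Groth.L00.Stk.F Y (f x)).obj (CohB1.tensorMod A B))
        (Groth.L00.Stk.τfun (f x) A B (p ⊗ₜ q))) =
      Groth.L00.Stk.τfun x _ _
        (((stalkIso f x).inv.app A (ins (φ f x) _ p)) ⊗ₜ[X.presheaf.stalk x]
          ((stalkIso f x).inv.app B (ins (φ f x) _ q))) := by
  rw [stalkCompIso, Iso.trans_hom, Iso.trans_hom, Iso.trans_hom, ModuleCat.comp_apply, ModuleCat.comp_apply,
    ModuleCat.comp_apply, Functor.mapIso_hom, Iso.symm_hom, Iso.symm_hom]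
  let T := (MonoidalCategory.tensorIso ((stalkIso f x).app A).symm ((stalkIso f x).app B).symm).hom
  let M := (Functor.Monoidal.μIso (ModuleCat.extendScalars (φ f x)) ((Groth.L00.Stk.F Y (f x)).obj A)
    ((Groth.L00.Stk.F Y (f x)).obj B)).inv
  refine (congrArg (fun w => (Groth.L00.Stk.τ x _ _).hom (T (M w)))
    ((extend_map_unit (φ f x) (Groth.L00.Stk.τ (f x) A B).inv (Groth.L00.Stk.τfun (f x) A B (p ⊗ₜ q))).trans
      (congrArg (ins (φ f x) _) (τ_inv_τfun A B (f x) (p ⊗ₜ q))))).trans ?_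
  refine (congrArg (fun w => (Groth.L00.Stk.τ x _ _).hom (T w))
    (extend_δ_unit (φ f x) ((Groth.L00.Stk.F Y (f x)).obj A) ((Groth.L00.Stk.F Y (f x)).obj B) p q)).trans ?_
  rfl

theorem stalk_δ_germ (A B : Y.Modules) (x : X) {V : Y.Opens} (hV : f x ∈ V) (a : (pre A).obj (op V))
    (b : (pre B).obj (op V)) :
    (Groth.L00.Stk.F X x).map (δ f A B)
        ((stalkIso f x).inv.app (CohB1.tensorMod A B) (ins (φ f x) ((Groth.L00.Stk.F Y (f x)).obj (CohB1.tensorMod A B))
          (Groth.L00.Stk.τfun (f x) A B (germ (pre A) (f x) hV a ⊗ₜ germ (pre B) (f x) hV b)))) =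
      Groth.L00.Stk.τfun x _ _
        (germ (pre ((Scheme.Modules.pullback f).obj A)) x (show x ∈ f ⁻¹ᵁ V from hV)
            (((Scheme.Modules.pullbackPushforwardAdjunction f).unit.app A).app V a) ⊗ₜ
          germ (pre ((Scheme.Modules.pullback f).obj B)) x (show x ∈ f ⁻¹ᵁ V from hV)
            (((Scheme.Modules.pullbackPushforwardAdjunction f).unit.app B).app V b)) := by
  rw [Groth.L00.Stk.τfun_tmul]
  dsimp only [ins]
  refine (congrArg ((Groth.L00.Stk.F X x).map (δ f A B))
    (stalkIso_inv_unit_germ f (CohB1.tensorMod A B) x hV _)).trans ?_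
  refine Eq.trans ?_ (Groth.L00.Stk.τfun_tmul x _ _ (show x ∈ f ⁻¹ᵁ V from hV) _ _).symm
  refine (stk_map_germ (δ f A B) x _ _).trans (congrArg (germ _ x _) ?_)
  refine (congrArg (fun k => (Scheme.Modules.Hom.app k V)
    ((Groth.L00.Tensor.unit (pre A ⊗ pre B)).app (op V) (a ⊗ₜ[Y.sheaf.obj.obj (op V)] b)))
      (unit_push_δ f A B)).trans ?_
  rw [δ₀, Scheme.Modules.Hom.comp_app]
  exact (congrArg ((μ f ((Scheme.Modules.pullback f).obj A) ((Scheme.Modules.pullback f).obj B)).app V)
      (tensorMap_unit ((Scheme.Modules.pullbackPushforwardAdjunction f).unit.app A)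
        ((Scheme.Modules.pullbackPushforwardAdjunction f).unit.app B) V a b)).trans
    (μ_unit f ((Scheme.Modules.pullback f).obj A) ((Scheme.Modules.pullback f).obj B) V
      (((Scheme.Modules.pullbackPushforwardAdjunction f).unit.app A).app V a)
      (((Scheme.Modules.pullbackPushforwardAdjunction f).unit.app B).app V b))

theorem stalk_δ (A B : Y.Modules) (x : X) :
    (stalkIso f x).inv.app (CohB1.tensorMod A B) ≫ (Groth.L00.Stk.F X x).map (δ f A B) =
      (stalkCompIso f A B x).hom := by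
  refine ((ModuleCat.extendRestrictScalarsAdj (φ f x)).homEquiv _ _).injective ?_
  rw [Adjunction.homEquiv_unit, Adjunction.homEquiv_unit]
  ext w
  obtain ⟨t, rfl⟩ := (Groth.L00.Stk.τfun_bijective (f x) A B).2 w
  induction t using TensorProduct.induction_on with
  | zero => simp only [map_zero]
  | add a b ha hb => simp only [map_add, ha, hb]
  | tmul p q =>
    obtain ⟨V, hV, a, b, rfl, rfl⟩ := exists_pair (pre A) (pre B) (f x) p q
    refine (stalk_δ_germ f A B x hV a b).trans (Eq.trans ?_ (stalkCompIso_unit f A B x _ _).symm)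
    rw [stalkIso_inv_unit_germ, stalkIso_inv_unit_germ]

theorem isIso_δ (A B : Y.Modules) : IsIso (δ f A B) := by
  refine (Groth.L21.Mod.isIso_iff_stalk_bijective _).2 fun x => ?_
  haveI : IsIso ((stalkIso f x).inv.app (CohB1.tensorMod A B) ≫ (Groth.L00.Stk.F X x).map (δ f A B)) := by
    rw [stalk_δ]; infer_instance
  haveI : IsIso ((Groth.L00.Stk.F X x).map (δ f A B)) :=
    IsIso.of_isIso_comp_left ((stalkIso f x).inv.app (CohB1.tensorMod A B)) _
  exact ConcreteCategory.bijective_of_isIso ((Groth.L00.Stk.F X x).map (δ f A B))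

/-- `f^* A ⊗ f^* B ≅ f^* (A ⊗ B)` -/
noncomputable def pullTensor (A B : Y.Modules) :
    CohB1.tensorMod ((Scheme.Modules.pullback f).obj A) ((Scheme.Modules.pullback f).obj B) ≅
      (Scheme.Modules.pullback f).obj (CohB1.tensorMod A B) :=
  haveI := isIso_δ f A B
  (asIso (δ f A B)).symm

theorem pullTensor_natural {A A' B B' : Y.Modules} (g : A ⟶ A') (h : B ⟶ B') :
    tensorMap ((Scheme.Modules.pullback f).map g) ((Scheme.Modules.pullback f).map h) ≫ (pullTensor f A' B').hom =
      (pullTensor f A B).hom ≫ (Scheme.Modules.pullback f).map (tensorMap g h) := by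
  haveI := isIso_δ f A B
  haveI := isIso_δ f A' B'
  simp only [pullTensor, Iso.symm_hom, asIso_inv]
  rw [IsIso.comp_inv_eq, Category.assoc, δ_natural, IsIso.inv_hom_id_assoc]

section TotalNatural

open HomologicalComplex

variable {C₁ C₂ C₁' C₂' : Type*} [Category C₁] [Category C₂] [Category C₁'] [Category C₂']
  {D : Type*} [Category D] {E : Type*} [Category E]
  [Preadditive C₁] [Preadditive C₂] [Preadditive C₁'] [Preadditive C₂'] [Preadditive D] [Preadditive E]
  (F : C₁ ⥤ C₂ ⥤ D) [F.Additive] [∀ M, (F.obj M).Additive]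
  (F' : C₁' ⥤ C₂' ⥤ E) [F'.Additive] [∀ M, (F'.obj M).Additive]
  (G₁ : C₁ ⥤ C₁') (G₂ : C₂ ⥤ C₂') (G : D ⥤ E) [G₁.Additive] [G₂.Additive] [G.Additive]
  (β : ∀ M N, (F'.obj (G₁.obj M)).obj (G₂.obj N) ≅ G.obj ((F.obj M).obj N))
  (hβ₁ : ∀ {M M' : C₁} (g : M ⟶ M') (N : C₂),
    (F'.map (G₁.map g)).app (G₂.obj N) ≫ (β M' N).hom = (β M N).hom ≫ G.map ((F.map g).app N))

include hβ₁ in
theorem compX_natural₁ {K K' : CochainComplex C₁ ℤ} (a : K ⟶ K') (L : CochainComplex C₂ ℤ)
    [HasMapBifunctor K L F (ComplexShape.up ℤ)] [HasMapBifunctor K' L F (ComplexShape.up ℤ)]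
    [HasMapBifunctor ((G₁.mapHomologicalComplex (ComplexShape.up ℤ)).obj K)
      ((G₂.mapHomologicalComplex (ComplexShape.up ℤ)).obj L) F' (ComplexShape.up ℤ)]
    [HasMapBifunctor ((G₁.mapHomologicalComplex (ComplexShape.up ℤ)).obj K')
      ((G₂.mapHomologicalComplex (ComplexShape.up ℤ)).obj L) F' (ComplexShape.up ℤ)] (j : ℤ) :
    (mapBifunctorMap ((G₁.mapHomologicalComplex (ComplexShape.up ℤ)).map a)
        (𝟙 ((G₂.mapHomologicalComplex (ComplexShape.up ℤ)).obj L)) F' (ComplexShape.up ℤ)).f j ≫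
        Groth.L00.FunctorTotal.compX F F' G₁ G₂ G β K' L j =
      Groth.L00.FunctorTotal.compX F F' G₁ G₂ G β K L j ≫
        G.map ((mapBifunctorMap a (𝟙 L) F (ComplexShape.up ℤ)).f j) := by
  refine mapBifunctor.hom_ext fun p q h => ?_
  rw [ι_mapBifunctorMap_assoc, Groth.L00.FunctorTotal.ι_compX, ← Category.assoc (f := ιMapBifunctor _ _ _ _ p q j h),
    Groth.L00.FunctorTotal.ι_compX, Category.assoc, ← G.map_comp, ι_mapBifunctorMap]
  simp only [HomologicalComplex.id_f, CategoryTheory.Functor.map_id, Category.id_comp]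
  rw [G.map_comp]
  exact (Category.assoc _ _ _).symm.trans
    ((congrArg (fun t => t ≫ _) (hβ₁ (a.f p) (L.X q))).trans (Category.assoc _ _ _))

end TotalNatural

theorem hβ₁ {A A' : Y.Modules} (g : A ⟶ A') (B : Y.Modules) :
    ((DCoh.tensorBi (X := X)).map ((Scheme.Modules.pullback f).map g)).app ((Scheme.Modules.pullback f).obj B) ≫
        (pullTensor f A' B).hom =
      (pullTensor f A B).hom ≫ (Scheme.Modules.pullback f).map (((DCoh.tensorBi (X := Y)).map g).app B) := by
  rw [Assoc.map_app_eq, Assoc.map_app_eq, ← pullTensor_natural, CategoryTheory.Functor.map_id]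

theorem hβ₂ (A : Y.Modules) {B B' : Y.Modules} (h : B ⟶ B') :
    ((DCoh.tensorBi (X := X)).obj ((Scheme.Modules.pullback f).obj A)).map ((Scheme.Modules.pullback f).map h) ≫
        (pullTensor f A B').hom =
      (pullTensor f A B).hom ≫ (Scheme.Modules.pullback f).map (((DCoh.tensorBi (X := Y)).obj A).map h) := by
  rw [Assoc.obj_map_eq, Assoc.obj_map_eq, ← pullTensor_natural, CategoryTheory.Functor.map_id]

/-- `f^*` on complexes -/
noncomputable abbrev pullCx : CochainComplex Y.Modules ℤ ⥤ CochainComplex X.Modules ℤ :=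
  (Scheme.Modules.pullback f).mapHomologicalComplex (ComplexShape.up ℤ)

/-- `f^*` commutes with tensor products of complexes -/
noncomputable def pullTensorCx (K L : CochainComplex Y.Modules ℤ) :
    (DCoh.tensorCx.obj ((pullCx f).obj K)).obj ((pullCx f).obj L) ≅
      (pullCx f).obj ((DCoh.tensorCx.obj K).obj L) :=
  haveI : PreservesColimitsOfSize.{0, 0} (Scheme.Modules.pullback f) :=
    haveI := (Scheme.Modules.pullbackPushforwardAdjunction f).leftAdjoint_preservesColimits
    preservesColimitsOfSize_shrink.{0, u, 0, u} _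
  Groth.L00.FunctorTotal.totalIso (DCoh.tensorBi (X := Y)) (DCoh.tensorBi (X := X)) (Scheme.Modules.pullback f)
    (Scheme.Modules.pullback f) (Scheme.Modules.pullback f) (pullTensor f) (fun g N => hβ₁ f g N)
    (fun A _ _ h => hβ₂ f A h) K L

/-- naturally in the first complex -/
noncomputable def pullTensorFunctor (L : CochainComplex Y.Modules ℤ) :
    pullCx f ⋙ (DCoh.tensorCx (X := X)).flip.obj ((pullCx f).obj L) ≅
      (DCoh.tensorCx (X := Y)).flip.obj L ⋙ pullCx f :=
  NatIso.ofComponents (fun K => pullTensorCx f K L) (fun a => HomologicalComplex.hom_ext _ _ fun j =>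
    compX_natural₁ (DCoh.tensorBi (X := Y)) (DCoh.tensorBi (X := X)) (Scheme.Modules.pullback f)
      (Scheme.Modules.pullback f) (Scheme.Modules.pullback f) (pullTensor f) (fun g N => hβ₁ f g N) a L j)

/-- the tensor product of K-flat complexes is K-flat -/
theorem isKFlat_tensor {P L : CochainComplex X.Modules ℤ} (hP : DCoh.IsKFlat P) (hL : DCoh.IsKFlat L) :
    DCoh.IsKFlat ((DCoh.tensorCx.obj P).obj L) := fun M hM i =>
  (hL _ (fun j => hP M hM j) i).of_iso
    ((HomologicalComplex.homologyFunctor _ _ i).mapIso (Assoc.assocCx M P L)).symm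

open Groth.L00 in
/-- `Lf^*(K ⊗ L) ≅ Lf^* K ⊗ f^* L`, `L` K-flat -/
theorem nonempty_Lpull_LTensorCx [DCoh.HasLpull f] (L : CochainComplex Y.Modules ℤ) (hL : DCoh.IsKFlat L)
    [DCoh.HasLTensorCx L] [DCoh.HasLTensorCx ((pullCx f).obj L)] (K : DCoh.D Y) :
    Nonempty ((DCoh.Lpull f).obj ((DCoh.LTensorCx L).obj K) ≅
      (DCoh.LTensorCx ((pullCx f).obj L)).obj ((DCoh.Lpull f).obj K)) := by
  obtain ⟨P, q, hP, -, hq, -⟩ := KFlat.exists_resolution (DerivedCategory.Q.objPreimage K)
  haveI := (DerivedCategory.isIso_Q_map_iff_quasiIso _ q).2 hq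
  let e : DerivedCategory.Q.obj P ≅ K :=
    asIso (DerivedCategory.Q.map q) ≪≫ DerivedCategory.Q.objObjPreimageIso K
  obtain ⟨e₁⟩ := nonempty_LTensorCx_iso L P hP
  obtain ⟨e₂⟩ := nonempty_LTensorCx_iso ((pullCx f).obj L) _ (KFlat.pullback_kflat f P hP)
  exact ⟨(DCoh.Lpull f).mapIso ((DCoh.LTensorCx L).mapIso e.symm ≪≫ e₁) ≪≫
    DerivedApi.objIso (DerivedApi.acyclicKFlat_pullback f) _ (isKFlat_tensor hP hL) ≪≫
    DerivedCategory.Q.mapIso (pullTensorCx f P L).symm ≪≫ e₂.symm ≪≫
    (DCoh.LTensorCx ((pullCx f).obj L)).mapIso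
      ((DerivedApi.objIso (DerivedApi.acyclicKFlat_pullback f) P hP).symm ≪≫ (DCoh.Lpull f).mapIso e)⟩

end Groth.L29.DC.PullTensor
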