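import Groth.Agent.L00.TorAmp
import Groth.Agent.L29.LocFree
import Groth.Agent.L22.WeakAssPoints
import Mathlib.Algebra.Category.ModuleCat.Products

/-!
Finite locally free modules are flat; bounded above flat resolutions; right t-exactness of derived functors.
-/

set_option autoImplicit false
set_option backward.isDefEq.respectTransparency false
set_option backward.isDefEq.respectTransparency.types false

universe u

open CategoryTheory CategoryTheory.Limits AlgebraicGeometry CochainComplex

attribute [local instance] HasDerivedCategory.standard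

namespace Groth.L29.DC

variable {X Y : Scheme.{u}}

theorem isFlat_structureModule (X : Scheme.{u}) : FlatMod.IsFlat (Coh.structureModule X) := fun x =>
  Module.Flat.of_linearEquiv (LinearEquiv.ofBijective
    (LinearMap.toSpanSingleton (X.presheaf.stalk x) ((Coh.structureModule X).presheaf.stalk x)
      (Groth.L22.oneGerm x))
    ⟨(injective_iff_map_eq_zero _).2 fun a ha => Groth.L22.eq_zero_of_smul_oneGerm ha,
      Groth.L22.stalk_smul_oneGerm_surjective x⟩).symm

theorem isFlat_freeMod (X : Scheme.{u}) (n : ℕ) : FlatMod.IsFlat (FlatMod.freeMod X n) := fun x => by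
  haveI : Module.Flat (X.presheaf.stalk x) ((Groth.L00.Stk.F X x).obj (Coh.structureModule X)) :=
    isFlat_structureModule X x
  classical
  exact Module.Flat.of_linearEquiv
    ((PreservesCoproduct.iso (Groth.L00.Stk.F X x) fun _ : Fin n => Coh.structureModule X) ≪≫
      ModuleCat.coprodIsoDirectSum _).toLinearEquiv

theorem flat_of_extendScalars_bijective {A B : Type u} [CommRing A] [CommRing B] (g : A →+* B)
    (hg : Function.Bijective g) (M : ModuleCat.{u} A)
    (h : Module.Flat B ((ModuleCat.extendScalars g).obj M)) : Module.Flat A M := by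
  letI := g.toAlgebra
  haveI : Module.Flat B (TensorProduct A B M) := h
  haveI : Module.Flat A B := Module.Flat.of_linearEquiv
    (LinearEquiv.ofBijective (Algebra.linearMap A B) hg).symm
  haveI : Module.Flat A (TensorProduct A B M) := Module.Flat.trans A B _
  exact Module.Flat.of_linearEquiv ((TensorProduct.lid A M).symm ≪≫ₗ
    LinearEquiv.rTensor M (LinearEquiv.ofBijective (Algebra.linearMap A B) hg))

theorem isFlat_of_isFinLocFree {M : X.Modules} (h : FlatMod.IsFinLocFree M) : FlatMod.IsFlat M := fun x => by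
  obtain ⟨U, n, hx, ⟨i⟩⟩ := h x
  let y : (U : Scheme.{u}) := ⟨x, hx⟩
  have h' : Module.Flat _ ((Groth.L00.Stk.F (U : Scheme.{u}) y).obj
      ((Scheme.Modules.pullback U.ι).obj M)) :=
    Groth.L00.KFlat.isFlat_of_iso (i.symm ≪≫ (Scheme.Modules.restrictFunctorIsoPullback U.ι).app M)
      (isFlat_freeMod _ n) y
  exact flat_of_extendScalars_bijective (Groth.L00.PullStalk.φ U.ι y)
    (ConcreteCategory.bijective_of_isIso (U.ι.stalkMap y)) _
    (Groth.L00.TorAmp.flat_of_iso ((Groth.L00.PullStalk.stalkIso U.ι y).app M).symm h')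

/-- strictly perfect complexes are K-flat -/
theorem isKFlat_of_isStrictlyPerfect {E : CochainComplex X.Modules ℤ} (h : DCoh.IsStrictlyPerfect E) :
    DCoh.IsKFlat E := by
  obtain ⟨⟨a, b, hv⟩, hf⟩ := h
  exact Groth.L00.TorAmp.isKFlat_of_vanishes hv fun i => isFlat_of_isFinLocFree (hf i)

open Groth.L00 in
/-- bounded above complexes have bounded above flat resolutions -/
theorem exists_flat_resolution_le (G : CochainComplex X.Modules ℤ) (b : ℤ) [G.IsStrictlyLE b] :
    ∃ (P : CochainComplex X.Modules ℤ) (q : P ⟶ G), P.IsStrictlyLE b ∧ DCoh.IsKFlat P ∧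
      (∀ n, FlatMod.IsFlat (P.X n)) ∧ QuasiIso q := by
  let e : Arrow (CochainComplex X.Modules ℤ) :=
    Arrow.mk (0 : (HomologicalComplex.zero : CochainComplex X.Modules ℤ) ⟶ G)
  haveI := Groth.L00.KFlat.hasExactColimitsOfShapeNat (X := X)
  haveI : ∀ A, Epi ((FlatCover.π X).app A) := FlatCover.epi_π
  have hz : ∀ n, IsZero ((HomologicalComplex.zero : CochainComplex X.Modules ℤ).X n) := fun n =>
    (HomologicalComplex.eval X.Modules (ComplexShape.up ℤ) n).map_isZero HomologicalComplex.isZero_zero
  have hP : ∀ n, b < n → IsZero (((Groth.L00.KFlat.Res X).obj e).X n) := by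
    refine Cell.res_induction (FlatCover.cover X) (FlatCover.π X) e
      (fun N => ∀ n, b < n → IsZero (N.X n)) (fun n _ => hz n) (fun f ih n hn => ?_)
      (fun K c hc hK n hn => ?_)
    · refine IsZero.of_iso ?_ (HomologicalComplex.homotopyCofiber.XIsoBiprod (Cell.φ (FlatCover.cover X) (FlatCover.π X) f) n (n + 1) rfl)
      refine (biprod_isZero_iff _ _).2 ⟨FlatCover.isZero_cover ?_, ih n hn⟩
      refine (IsZero.iff_id_eq_zero _).2 (pullback.hom_ext ?_ ?_)
      · exact (((ih (n + 1) (by omega)).of_mono (HomologicalComplex.iCycles _ (n + 1)))).eq_of_tgt _ _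
      · exact ((G.isZero_of_isStrictlyLE b (n + 1 - 1) (by omega))).eq_of_tgt _ _
    · refine (IsZero.iff_id_eq_zero _).2
        ((isColimitOfPreserves (HomologicalComplex.eval X.Modules (ComplexShape.up ℤ) n) hc).hom_ext
          fun k => (hK k n hn).eq_of_src _ _)
  haveI : ((Groth.L00.KFlat.Res X).obj e).IsStrictlyLE b :=
    (CochainComplex.isStrictlyLE_iff _ b).2 hP
  have hfl := fun n => Groth.L00.KFlat.isFlat_res e (fun n => Groth.L00.KFlat.isFlat_zero (hz n)) n
  exact ⟨_, (Cell.resOut _ _).app e, inferInstance, Groth.L00.KFlat.of_bounded _ b inferInstance hfl, hfl,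
    Cell.quasiIso_resOut _ _ e⟩

open Groth.L00 Groth.L00.DerivedApi in
/-- derived functors of right exact functors are right t-exact -/
theorem isLE_LG {G : Y.Modules ⥤ X.Modules} [G.Additive] (hG : AcyclicKFlat G)
    [(Kh G).HasLeftDerivedFunctor (HomotopyCategory.quasiIso Y.Modules (ComplexShape.up ℤ))]
    (K : DCoh.D Y) (b : ℤ) [K.IsLE b] : DerivedCategory.IsLE ((LG G).obj K) b := by
  obtain ⟨F, _, ⟨e⟩⟩ := DerivedCategory.exists_iso_Q_obj_of_isLE K b
  obtain ⟨P, q, hP, hk, -, hq⟩ := exists_flat_resolution_le F b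
  haveI := hP
  haveI : IsIso (DerivedCategory.Q.map q) :=
    Localization.inverts DerivedCategory.Q (HomologicalComplex.quasiIso Y.Modules (ComplexShape.up ℤ)) _
      ((HomologicalComplex.mem_quasiIso_iff _).2 hq)
  refine (DerivedCategory.isLE_iff _ b).2 fun i hi => ?_
  refine (isZero_HD_iff hG hk (asIso (DerivedCategory.Q.map q) ≪≫ e.symm) i).2 ?_
  exact ShortComplex.isZero_homology_of_isZero_X₂ _ (G.map_isZero (P.isZero_of_isStrictlyLE b i hi))

end Groth.L29.DC
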