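import Groth.Agent.L29.DCoh.ExtZeroD
import Groth.Agent.L29.DCoh.QRlim
import Groth.Agent.L17.PushQCoh
import Groth.Agent.L10.KInjDerived
import Groth.Prelude.Def_DCoh3

/-!
The derived direct image commutes with restriction to opens of the target.
-/

set_option autoImplicit false
set_option backward.defeqAttrib.useBackward true
set_option backward.isDefEq.respectTransparency false
set_option backward.isDefEq.respectTransparency.types false

universe u

open CategoryTheory CategoryTheory.Limits AlgebraicGeometry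

attribute [local instance] HasDerivedCategory.standard

namespace Groth.L29.DC.RpushRes

variable {X Y : Scheme.{u}} (f : X ⟶ Y) {X' T : Scheme.{u}} (j : T ⟶ Y) [IsOpenImmersion j]
  (ι : X' ⟶ X) [IsOpenImmersion ι] (g : X' ⟶ T)

/-- restriction on homotopy categories -/
noncomputable abbrev resKh {U Z : Scheme.{u}} (i : U ⟶ Z) [IsOpenImmersion i]
    [(Scheme.Modules.restrictFunctor i).Additive] :
    HomotopyCategory Z.Modules (ComplexShape.up ℤ) ⥤ HomotopyCategory U.Modules (ComplexShape.up ℤ) :=
  (Scheme.Modules.restrictFunctor i).mapHomotopyCategory (ComplexShape.up ℤ)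

theorem isKInjective_res {U Z : Scheme.{u}} (i : U ⟶ Z) [IsOpenImmersion i]
    [(Scheme.Modules.restrictFunctor i).Additive] (I : CochainComplex Z.Modules ℤ) [I.IsKInjective] :
    CochainComplex.IsKInjective
      (((Scheme.Modules.restrictFunctor i).mapHomologicalComplex (ComplexShape.up ℤ)).obj I) := by
  haveI := ExtZero.preservesFiniteLimits i
  haveI := (CxOX.extZeroAdj i).leftAdjoint_preservesColimits
  haveI : (CxOX.extZero i).Additive := (CxOX.extZeroAdj i).left_adjoint_additive
  exact Groth.L10.s0481 (Scheme.Modules.restrictFunctor i) (CxOX.extZero i) (CxOX.extZeroAdj i) I inferInstance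

/-- `Rf_*` followed by restriction is `Rg_*` after restriction -/
theorem nonempty_iso [DCoh.HasRpush f] [DCoh.HasRpush g]
    [PreservesFiniteLimits (Scheme.Modules.restrictFunctor j)]
    [PreservesFiniteLimits (Scheme.Modules.restrictFunctor ι)]
    (hr : f ⁻¹ᵁ j.opensRange ≤ ι.opensRange) (w : g ≫ j = ι ≫ f) :
    Nonempty (DCoh.Rpush f ⋙ DCoh.restrictD j ≅ DCoh.restrictD ι ⋙ DCoh.Rpush g) := by
  haveI := QRlim.enoughKInj X
  haveI := QRlim.enoughKInj X'
  haveI := Groth.L17.PushQCoh.additive_push f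
  haveI := Groth.L17.PushQCoh.additive_push g
  let c := ComplexShape.up ℤ
  let H := Scheme.Modules.pushforward f ⋙ Scheme.Modules.restrictFunctor j
  let F := DCoh.pushKh f ⋙ DCoh.restrictD j
  let ηf := (DCoh.pushKh f).totalRightDerivedUnit DerivedCategory.Qh (HomotopyCategory.quasiIso X.Modules c)
  let ηg := (DCoh.pushKh g).totalRightDerivedUnit DerivedCategory.Qh (HomotopyCategory.quasiIso X'.Modules c)
  let e : F ≅ resKh ι ⋙ DCoh.pushKh g :=
    Functor.associator _ _ _ ≪≫
      Functor.isoWhiskerLeft _ (Scheme.Modules.restrictFunctor j).mapDerivedCategoryFactorsh ≪≫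
      (Functor.associator _ _ _).symm ≪≫
      Functor.isoWhiskerRight (Functor.mapHomotopyCategoryCompIso (Iso.refl H) c ≪≫
        (Functor.mapHomotopyCategoryCompIso (Groth.L17.PushQCoh.pushRestrictIso f j ι g hr w).symm c).symm) _ ≪≫
      Functor.associator _ _ _
  let α₁ : F ⟶ DerivedCategory.Qh ⋙ (DCoh.Rpush f ⋙ DCoh.restrictD j) :=
    Functor.whiskerRight ηf (DCoh.restrictD j)
  let α₂ : F ⟶ DerivedCategory.Qh ⋙ (DCoh.restrictD ι ⋙ DCoh.Rpush g) :=
    e.hom ≫ Functor.whiskerLeft (resKh ι) ηg ≫
      Functor.whiskerRight (Scheme.Modules.restrictFunctor ι).mapDerivedCategoryFactorsh.inv (DCoh.Rpush g)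
  haveI : (DCoh.Rpush f ⋙ DCoh.restrictD j).IsRightDerivedFunctor α₁ (HomotopyCategory.quasiIso X.Modules c) :=
    Groth.L10.KInjDerived.isRightDerivedFunctor_of_isIso α₁ fun I hI => by
      haveI := hI
      haveI := Groth.L10.KInjDerived.isIso_app_quotient (RF := DCoh.Rpush f) ηf I
      change IsIso ((DCoh.restrictD j).map (ηf.app _))
      infer_instance
  haveI : (DCoh.restrictD ι ⋙ DCoh.Rpush g).IsRightDerivedFunctor α₂ (HomotopyCategory.quasiIso X.Modules c) :=
    Groth.L10.KInjDerived.isRightDerivedFunctor_of_isIso α₂ fun I hI => by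
      haveI := hI
      haveI := isKInjective_res ι I
      haveI : IsIso (ηg.app ((resKh ι).obj ((HomotopyCategory.quotient X.Modules c).obj I))) :=
        Groth.L10.KInjDerived.isIso_app_of_isKInjective (RF := DCoh.Rpush g) ηg _ (isKInjective_res ι I)
      change IsIso (e.hom.app _ ≫ ηg.app ((resKh ι).obj _) ≫ (DCoh.Rpush g).map _)
      infer_instance
  exact ⟨Functor.rightDerivedUnique (DCoh.Rpush f ⋙ DCoh.restrictD j) (α := α₁) (W := HomotopyCategory.quasiIso X.Modules c)
    (RF' := DCoh.restrictD ι ⋙ DCoh.Rpush g) (α'₂ := α₂)⟩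

end Groth.L29.DC.RpushRes
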