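import Groth.Agent.L29.DCoh.RHomQCoh

/-!
Internal Hom out of pseudo-coherent objects into bounded below objects with quasi-coherent cohomology.
-/

set_option autoImplicit false
set_option backward.isDefEq.respectTransparency false
set_option backward.isDefEq.respectTransparency.types false

universe u

open CategoryTheory CategoryTheory.Limits AlgebraicGeometry CochainComplex

attribute [local instance] HasDerivedCategory.standard

namespace Groth.L29.DC.RHom

open Groth.L00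

variable {X : Scheme.{u}}

/-- the derived tensor product only depends on the class in the derived category -/
theorem nonempty_lt_iso {E E' : CochainComplex X.Modules ℤ} [DCoh.HasLTensorCx E] [DCoh.HasLTensorCx E']
    (e : DCoh.toD X E ≅ DCoh.toD X E') : Nonempty (DCoh.LTensorCx E ≅ DCoh.LTensorCx E') := by
  obtain ⟨R, s, hs, g, hg⟩ := DerivedCategory.right_fac e.hom
  haveI : IsIso (DerivedCategory.Q.map g) := by
    rw [show DerivedCategory.Q.map g = DerivedCategory.Q.map s ≫ e.hom by rw [hg, IsIso.hom_inv_id_assoc]]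
    infer_instance
  haveI : QuasiIso s := (DerivedCategory.isIso_Q_map_iff_quasiIso _ s).1 inferInstance
  haveI : QuasiIso g := (DerivedCategory.isIso_Q_map_iff_quasiIso _ g).1 inferInstance
  haveI := KFlat.hasLTensorCx R
  haveI := isIso_ltMap g
  haveI := isIso_ltMap s
  exact ⟨(asIso (ltMap s)).symm ≪≫ asIso (ltMap g)⟩

theorem isStrictlyLE_tensor {P C : CochainComplex X.Modules ℤ} {p c : ℤ} [P.IsStrictlyLE p]
    [C.IsStrictlyLE c] : ((DCoh.tensorCx.obj P).obj C).IsStrictlyLE (p + c) := by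
  refine (CochainComplex.isStrictlyLE_iff _ _).2 fun n hn => ?_
  refine (IsZero.iff_id_eq_zero _).2 (HomologicalComplex.mapBifunctor.hom_ext fun i j h => ?_)
  have hij : i + j = n := h
  by_cases hi : p < i
  · exact (((DCoh.tensorBi (X := X)).map_isZero (P.isZero_of_isStrictlyLE p i hi)).obj (C.X j)).eq_of_src _ _
  · exact (Functor.map_isZero _ (C.isZero_of_isStrictlyLE c j (by omega))).eq_of_src _ _

/-- the derived tensor product of bounded above objects -/
theorem isLE_LTensorCx (C : CochainComplex X.Modules ℤ) (c : ℤ) (hC : (DCoh.toD X C).IsLE c)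
    [DCoh.HasLTensorCx C] (M : DCoh.D X) (p : ℤ) (hM : M.IsLE p) :
    ((DCoh.LTensorCx C).obj M).IsLE (p + c) := by
  obtain ⟨C', hC', -, -, ⟨eC⟩⟩ := exists_flat_representative_le (DCoh.toD X C) c
    (fun i hi => DerivedCategory.isZero_of_isLE _ c i hi)
  obtain ⟨P, hP, hPk, -, ⟨eP⟩⟩ := exists_flat_representative_le M p
    (fun i hi => DerivedCategory.isZero_of_isLE _ p i hi)
  haveI := hC'
  haveI := hP
  haveI := KFlat.hasLTensorCx C'
  haveI := Assoc.isIso_counit C' P hPk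
  obtain ⟨t⟩ := nonempty_lt_iso eC
  let i : (DCoh.LTensorCx C).obj M ≅ DerivedCategory.Q.obj ((DCoh.tensorCx.obj P).obj C') :=
    t.symm.app M ≪≫ (DCoh.LTensorCx C').mapIso eP.symm ≪≫
      asIso (((DCoh.tensorCxQ C').totalLeftDerivedCounit DerivedCategory.Q
        (HomologicalComplex.quasiIso X.Modules (ComplexShape.up ℤ))).app P)
  haveI := isStrictlyLE_tensor (P := P) (C := C') (p := p) (c := c)
  haveI : (DerivedCategory.Q.obj ((DCoh.tensorCx.obj P).obj C')).IsLE (p + c) := inferInstance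
  exact DerivedCategory.TStructure.t.isLE_of_iso i.symm _

/-- internal Hom of a bounded above object into a bounded below one -/
theorem isGE_RSheafHom (C : CochainComplex X.Modules ℤ) (c : ℤ) (hC : (DCoh.toD X C).IsLE c)
    [DCoh.HasLTensorCx C] [DCoh.HasRSheafHom C] (L : DCoh.D X) (r : ℤ) (hL : L.IsGE r) :
    ((DCoh.RSheafHom C).obj L).IsGE (r - c) := by
  haveI := FiveRight.additive_left (DCoh.RSheafHomAdj C)
  refine (DerivedCategory.TStructure.t.isGE_iff_orthogonal (r - c - 1) (r - c) (by omega) _).2 fun M f hM => ?_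
  apply ((DCoh.RSheafHomAdj C).homEquiv M L).symm.injective
  rw [RHomExact.symm_zero]
  have h := isLE_LTensorCx C c hC M (r - c - 1) hM
  exact DerivedCategory.TStructure.t.zero_of_isLE_of_isGE _ (r - c - 1 + c) r (by omega) h hL

theorem isGE_shift {L : DCoh.D X} {r : ℤ} (h : L.IsGE r) (n : ℤ) : (L⟦n⟧).IsGE (r - n) :=
  haveI : DerivedCategory.TStructure.t.IsGE L r := h
  DerivedCategory.TStructure.t.isGE_shift L r n (r - n) (by omega)

/-- one degree, with a global approximation -/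
theorem isQCoh_HD_of_wit (K : CochainComplex X.Modules ℤ) [DCoh.HasLTensorCx K] [DCoh.HasRSheafHom K]
    (m : ℤ) {E : CochainComplex X.Modules ℤ} (hE : DCoh.IsStrictlyPerfect E)
    (α : DCoh.toD X E ⟶ DCoh.toD X K) (hα : Approx α m)
    (L : DCoh.D X) (hL : DCoh.IsQCohD L) (r : ℤ) (hLr : L.IsGE r) (j : ℤ) (hj : j < r - m) :
    Coh.IsQCoh (DCoh.HD ((DCoh.RSheafHom K).obj L) j) := by
  obtain ⟨R, s, hs, g, hg⟩ := DerivedCategory.right_fac α
  haveI : QuasiIso s := (DerivedCategory.isIso_Q_map_iff_quasiIso _ s).1 hs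
  haveI := hs
  have hgA : Approx (DerivedCategory.Q.map g) m := by
    rw [show DerivedCategory.Q.map g = DerivedCategory.Q.map s ≫ α by rw [hg, IsIso.hom_inv_id_assoc]]
    exact (Approx.of_isIso _ m).comp hα
  let S := mappingCone.triangleRotateShortComplex g
  haveI := KFlat.hasLTensorCx S.X₂
  haveI := KFlat.hasLTensorCx S.X₃
  haveI := hasRSheafHom S.X₂
  haveI := hasRSheafHom S.X₃
  haveI := QRlim.enoughKInj X
  haveI : DCoh.HasLTensorCx S.X₁ := inferInstanceAs (DCoh.HasLTensorCx K)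
  haveI : DCoh.HasRSheafHom S.X₁ := inferInstanceAs (DCoh.HasRSheafHom K)
  have hC : (DCoh.toD X S.X₂).IsLE (m - 1) := (approx_Q_map_iff g m).1 hgA
  have h₃ : RPres S.X₃ :=
    (rPres_shift R 1).2 ((rPres_iff_qis s).2 (rPres_of_isStrictlyPerfect hE))
  have hz : ∀ (L' : DCoh.D X) (r' : ℤ), L'.IsGE r' → j < r' - (m - 1) →
      Coh.IsQCoh (DCoh.HD ((DCoh.RSheafHom S.X₂).obj L') j) := fun L' r' h' hj' =>
    haveI := isGE_RSheafHom S.X₂ (m - 1) hC L' r' h'
    isQCoh_of_isZero (DerivedCategory.isZero_of_isGE _ (r' - (m - 1)) j hj')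
  have hL1 : DCoh.IsQCohD (L⟦(1 : ℤ)⟧) :=
    FiveRight.PD_shift (fun N : X.Modules => Coh.IsQCoh N) (fun e h => isQCoh_of_iso' e h) hL 1
  exact FiveRight.first_of_at (fun N : X.Modules => Coh.IsQCoh N)
    (fun φ a b => isQCoh_kernel' φ a b) (fun φ a b => isQCoh_cokernel' φ a b)
    (fun T hT a b => Groth.L17.QCohExtension.isQCoh_extension T hT a b)
    ((DCoh.tensorCx (X := X)).flip.map S.f) ((DCoh.tensorCx (X := X)).flip.map S.g)
    (flip_comp_zero S) (flip_shortExact S (mappingCone.triangleRotateShortComplexSplitting g))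
    (DCoh.RSheafHomAdj S.X₁) (DCoh.RSheafHomAdj S.X₂) (DCoh.RSheafHomAdj S.X₃)
    ((DCoh.tensorCxQ S.X₁).totalLeftDerivedCounit DerivedCategory.Q _)
    ((DCoh.tensorCxQ S.X₂).totalLeftDerivedCounit DerivedCategory.Q _)
    ((DCoh.tensorCxQ S.X₃).totalLeftDerivedCounit DerivedCategory.Q _)
    DCoh.IsKFlat (fun P hP => Assoc.isIso_counit _ P hP) (fun P hP => Assoc.isIso_counit _ P hP)
    (fun P hP => Assoc.isIso_counit _ P hP) (exists_good S (mappingCone.triangleRotateShortComplexSplitting g))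
    (ltMap S.f) (ltMap S.g) (fun P => ltMap_fac S.f P) (fun P => ltMap_fac S.g P) L j
    (hz L r hLr (by omega)) (hz _ (r - 1) (isGE_shift hLr 1) (by omega))
    (h₃.pres L hL j) (h₃.pres _ hL1 j)

theorem isQCoh_of_cover {M : X.Modules}
    (h : ∀ x : X, ∃ (V : X.Opens), x ∈ V ∧ Coh.IsQCoh (M.restrict V.ι)) : Coh.IsQCoh M := by
  refine Groth.L00.Local.isQCoh_of_tilde_charts _ fun x => ?_
  obtain ⟨V, hx, hV⟩ := h x
  haveI := hV
  obtain ⟨_, ⟨W, hW, rfl⟩, hxW, -⟩ := (V : Scheme.{u}).isBasis_affineOpens.exists_subset_of_mem_open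
    (Set.mem_univ (⟨x, hx⟩ : (V : Scheme.{u}))) isOpen_univ
  obtain ⟨N, ⟨e⟩⟩ := Groth.L00.Local.exists_tilde_iso_restrict hW.fromSpec (M.restrict V.ι)
  let j := hW.fromSpec ≫ V.ι
  obtain ⟨y, hy⟩ := hW.opensRange_fromSpec.ge hxW
  have hxj : x ∈ j.opensRange := ⟨y, by
    change V.ι.base (hW.fromSpec.base y) = x
    rw [hy]; rfl⟩
  exact ⟨_, j, inferInstance, N, hxj, ⟨((resTrans V.ι hW.fromSpec j rfl).app M).symm ≪≫ e⟩⟩

/-- pseudo-coherent into bounded below, one degree -/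
theorem isQCoh_HD_of_pseudoCoherent (K : CochainComplex X.Modules ℤ) (m : ℤ)
    (hK : DCoh.IsPseudoCoherentD m (DCoh.toD X K)) [DCoh.HasLTensorCx K] [DCoh.HasRSheafHom K]
    (L : DCoh.D X) (hL : DCoh.IsQCohD L) (r : ℤ) (hLr : L.IsGE r) (j : ℤ) (hj : j < r - m) :
    Coh.IsQCoh (DCoh.HD ((DCoh.RSheafHom K).obj L) j) := by
  refine isQCoh_of_cover fun x => ?_
  obtain ⟨V, hx, hV⟩ := hK x
  obtain ⟨E, α, hE, h1, h2⟩ := hV K ⟨Iso.refl _⟩
  let K' := (ExtZero.rCx V.ι).obj K
  haveI := KFlat.hasLTensorCx K'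
  haveI := hasRSheafHom K'
  obtain ⟨i⟩ := ExtZero.nonempty_res_RSheafHom V.ι K
  refine ⟨V, hx, isQCoh_of_iso' ((DerivedCategory.homologyFunctor _ j).mapIso (i.app L).symm ≪≫ HDResIso V.ι _ j)
    (isQCoh_HD_of_wit K' m hE α ⟨h1, h2⟩ _ (isQCohD_restrictD V.ι hL) r ?_ j hj)⟩
  exact ((DCoh.restrictD V.ι).obj L).isGE_iff r |>.2 fun k hk =>
    ((Scheme.Modules.restrictFunctor V.ι).map_isZero (DerivedCategory.isZero_of_isGE L r k hk)).of_iso
      (HDResIso V.ι L k)

end Groth.L29.DC.RHom
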