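import Groth.Agent.L29.DCoh.Local

/-!
Perfect and pseudo-coherent objects in distinguished triangles.
-/

set_option autoImplicit false
set_option backward.isDefEq.respectTransparency false
set_option backward.isDefEq.respectTransparency.types false

universe u

open CategoryTheory CategoryTheory.Limits AlgebraicGeometry CochainComplex Pretriangulated

attribute [local instance] HasDerivedCategory.standard

namespace Groth.L29.DC

variable {X : Scheme.{u}}

/-- a global witness of `m`-pseudo-coherence -/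
def Wit (m : ℤ) (K : DCoh.D X) : Prop :=
  ∃ (E : CochainComplex X.Modules ℤ) (α : DerivedCategory.Q.obj E ⟶ K), DCoh.IsStrictlyPerfect E ∧ Approx α m

/-- a global witness of perfectness -/
def PWit (K : DCoh.D X) : Prop :=
  ∃ E : CochainComplex X.Modules ℤ, DCoh.IsStrictlyPerfect E ∧ Nonempty (K ≅ DerivedCategory.Q.obj E)

theorem Wit.of_approx {m : ℤ} {K L : DCoh.D X} (h : Wit m K) (f : K ⟶ L) (hf : Approx f m) : Wit m L := by
  obtain ⟨E, α, hE, hα⟩ := h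
  exact ⟨E, α ≫ f, hE, hα.comp hf⟩

theorem Wit.restrict {U : Scheme.{u}} (j : U ⟶ X) [IsOpenImmersion j] {m : ℤ} {K : DCoh.D X} (h : Wit m K) :
    Wit m ((DCoh.restrictD j).obj K) := by
  obtain ⟨E, α, hE, hα⟩ := h
  exact ⟨_, ((Scheme.Modules.restrictFunctor j).mapDerivedCategoryFactors.app E).inv ≫ (DCoh.restrictD j).map α,
    isStrictlyPerfect_restrict j hE,
    (Approx.of_isIso _ m).comp (hα.map_exact (Scheme.Modules.restrictFunctor j))⟩

theorem PWit.restrict {U : Scheme.{u}} (j : U ⟶ X) [IsOpenImmersion j] {K : DCoh.D X} (h : PWit K) :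
    PWit ((DCoh.restrictD j).obj K) := by
  obtain ⟨E, hE, ⟨e⟩⟩ := h
  exact ⟨_, isStrictlyPerfect_restrict j hE, ⟨(DCoh.restrictD j).mapIso e ≪≫
    (Scheme.Modules.restrictFunctor j).mapDerivedCategoryFactors.app E⟩⟩

theorem PWit.of_iso {K L : DCoh.D X} (e : K ≅ L) (h : PWit K) : PWit L := by
  obtain ⟨E, hE, ⟨e'⟩⟩ := h
  exact ⟨E, hE, ⟨e.symm ≪≫ e'⟩⟩

/-- a property holding near `x` after restriction along an open immersion holds on an open -/
theorem exists_opens_of_on (P : ∀ {Z : Scheme.{u}}, DCoh.D Z → Prop)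
    (hres : ∀ {Z W : Scheme.{u}} (k : W ⟶ Z) [IsOpenImmersion k] {K : DCoh.D Z}, P K →
      P ((DCoh.restrictD k).obj K))
    (hiso : ∀ {Z : Scheme.{u}} {K L : DCoh.D Z}, (K ≅ L) → P K → P L)
    {K : DCoh.D X} {x : X} {U : Scheme.{u}} (j : U ⟶ X) [IsOpenImmersion j] (hx : x ∈ j.opensRange)
    (h : P ((DCoh.restrictD j).obj K)) : ∃ V : X.Opens, x ∈ V ∧ P ((resD V).obj K) :=
  ⟨j.opensRange, hx, hiso ((resTransD j j.isoOpensRange.inv _ j.isoOpensRange_inv_comp).app K)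
    (hres j.isoOpensRange.inv h)⟩

/-- witnesses pass from an open to smaller opens -/
theorem res_le (P : ∀ {Z : Scheme.{u}}, DCoh.D Z → Prop)
    (hres : ∀ {Z W : Scheme.{u}} (k : W ⟶ Z) [IsOpenImmersion k] {K : DCoh.D Z}, P K →
      P ((DCoh.restrictD k).obj K))
    (hiso : ∀ {Z : Scheme.{u}} {K L : DCoh.D Z}, (K ≅ L) → P K → P L)
    {K : DCoh.D X} {V W : X.Opens} (h : W ≤ V) (hV : P ((resD V).obj K)) : P ((resD W).obj K) :=
  hiso ((resTransD V.ι (X.homOfLE h) W.ι (X.homOfLE_ι h)).app K) (hres (X.homOfLE h) hV)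

theorem isPC_iff_wit (m : ℤ) (K : DCoh.D X) :
    DCoh.IsPseudoCoherentD m K ↔ ∀ x : X, ∃ V : X.Opens, x ∈ V ∧ Wit m ((resD V).obj K) :=
  isPseudoCoherentD_iff m K

theorem isPerfect_iff_wit (K : DCoh.D X) :
    DCoh.IsPerfect K ↔ ∀ x : X, ∃ V : X.Opens, x ∈ V ∧ PWit ((resD V).obj K) :=
  isPerfect_iff K

theorem wit_iso {Z : Scheme.{u}} {m : ℤ} {K L : DCoh.D Z} (e : K ≅ L) (h : Wit m K) : Wit m L :=
  h.of_approx e.hom (Approx.of_isIso _ m)

theorem pc_of_on {m : ℤ} {K : DCoh.D X}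
    (h : ∀ x : X, ∃ (U : Scheme.{u}) (j : U ⟶ X) (_ : IsOpenImmersion j), x ∈ j.opensRange ∧
      Wit m ((DCoh.restrictD j).obj K)) : DCoh.IsPseudoCoherentD m K := by
  rw [isPC_iff_wit]
  intro x
  obtain ⟨U, j, _, hx, hj⟩ := h x
  exact exists_opens_of_on (fun {Z} => Wit m) (fun k _ _ h => h.restrict k) (fun e h => wit_iso e h) j hx hj

theorem perfect_of_on {K : DCoh.D X}
    (h : ∀ x : X, ∃ (U : Scheme.{u}) (j : U ⟶ X) (_ : IsOpenImmersion j), x ∈ j.opensRange ∧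
      PWit ((DCoh.restrictD j).obj K)) : DCoh.IsPerfect K := by
  rw [isPerfect_iff_wit]
  intro x
  obtain ⟨U, j, _, hx, hj⟩ := h x
  exact exists_opens_of_on (fun {Z} => PWit) (fun k _ _ h => h.restrict k) (fun e h => h.of_iso e) j hx hj

theorem mem_opensRange_comp {V : X.Opens} {W : (V : Scheme.{u}).Opens} {x : X} (hx : x ∈ V)
    (hW : (⟨x, hx⟩ : (V : Scheme.{u})) ∈ W) : x ∈ (W.ι ≫ V.ι).opensRange :=
  ⟨⟨⟨x, hx⟩, hW⟩, rfl⟩

theorem isStrictlyPerfect_cone {E F : CochainComplex X.Modules ℤ} (φ : E ⟶ F)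
    (hE : DCoh.IsStrictlyPerfect E) (hF : DCoh.IsStrictlyPerfect F) :
    DCoh.IsStrictlyPerfect (mappingCone φ) := by
  obtain ⟨⟨a₁, b₁, h₁⟩, hE'⟩ := hE
  obtain ⟨⟨a₂, b₂, h₂⟩, hF'⟩ := hF
  refine ⟨⟨min (a₁ - 1) a₂, max (b₁ - 1) b₂, fun i hi => ?_⟩, fun i => ?_⟩
  · exact ((biprod_isZero_iff _ _).mpr ⟨h₁ (i + 1) (by omega), h₂ i (by omega)⟩).of_iso
      (HomologicalComplex.homotopyCofiber.XIsoBiprod φ i (i + 1) rfl)
  · exact Groth.L29.LocFree.of_iso (HomologicalComplex.homotopyCofiber.XIsoBiprod φ i (i + 1) rfl).symm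
      (Groth.L29.LocFree.biprod (hE' (i + 1)) (hF' i))

section Trunc

variable (E : CochainComplex X.Modules ℤ) (n : ℤ)

/-- zero in degrees `≥ n`, identity below -/
noncomputable def cutHom (i : ℤ) : E.X i ⟶ E.X i := if n ≤ i then 0 else 𝟙 _

/-- the subcomplex of degrees `≥ n` -/
noncomputable def brutal : CochainComplex X.Modules ℤ where
  X i := kernel (cutHom E n i)
  d i j := kernel.lift _ (kernel.ι _ ≫ E.d i j) (by
    by_cases h : n ≤ j
    · rw [show cutHom E n j = 0 from if_pos h, comp_zero]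
    · rw [show cutHom E n j = 𝟙 _ from if_neg h, Category.comp_id]
      by_cases hij : (ComplexShape.up ℤ).Rel i j
      · have hi : ¬ n ≤ i := by simp at hij; omega
        have h1 : cutHom E n i = 𝟙 _ := if_neg hi
        rw [show kernel.ι (cutHom E n i) = 0 from (cancel_mono (𝟙 (E.X i))).1 (by
          rw [← h1, kernel.condition, zero_comp]), zero_comp]
      · rw [E.shape i j hij, comp_zero])
  shape i j h := by
    rw [← cancel_mono (kernel.ι _), kernel.lift_ι, E.shape i j h, comp_zero, zero_comp]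
  d_comp_d' i j k _ _ := by
    rw [← cancel_mono (kernel.ι _), Category.assoc, kernel.lift_ι, kernel.lift_ι_assoc, Category.assoc,
      E.d_comp_d, comp_zero, zero_comp]

/-- its inclusion -/
noncomputable def brutalι : brutal E n ⟶ E where
  f i := kernel.ι _
  comm' i j _ := (kernel.lift_ι _ _ _).symm

theorem isIso_brutalι {i : ℤ} (h : n ≤ i) : IsIso ((brutalι E n).f i) :=
  show IsIso (kernel.ι (cutHom E n i)) from by
    rw [show cutHom E n i = 0 from if_pos h]; infer_instance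

theorem isZero_brutal_X {i : ℤ} (h : i < n) : IsZero ((brutal E n).X i) := by
  refine (IsZero.iff_id_eq_zero _).2 ((cancel_mono (kernel.ι (cutHom E n i))).1 ?_)
  have h0 := kernel.condition (cutHom E n i)
  have h1 : cutHom E n i = 𝟙 _ := if_neg (not_le.2 h)
  simp only [h1, Category.comp_id] at h0
  rw [h0, comp_zero, comp_zero]

theorem approx_brutalι : Approx (DerivedCategory.Q.map (brutalι E n)) n := by
  let φ := fun i => (HomologicalComplex.shortComplexFunctor X.Modules (ComplexShape.up ℤ) i).map (brutalι E n)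
  have hiso : ∀ i, n < i → IsIso (HomologicalComplex.homologyMap (brutalι E n) i) := fun i hi => by
    haveI : IsIso (φ i).τ₁ := isIso_brutalι E n (by simp; omega)
    haveI : IsIso (φ i).τ₂ := isIso_brutalι E n (by omega)
    haveI : IsIso (φ i).τ₃ := isIso_brutalι E n (by simp; omega)
    haveI := ShortComplex.isIso_of_isIso (φ i)
    change IsIso (ShortComplex.homologyMap (φ i))
    infer_instance
  refine ⟨fun i hi => ?_, ?_⟩
  · haveI := hiso i hi
    exact (NatIso.isIso_map_iff (DerivedCategory.homologyFunctorFactors X.Modules i) (brutalι E n)).2 this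
  · have he : Epi (HomologicalComplex.homologyMap (brutalι E n) n) := by
      haveI : IsIso (φ n).τ₂ := isIso_brutalι E n le_rfl
      haveI : IsIso (φ n).τ₃ := isIso_brutalι E n (by simp)
      change Epi (ShortComplex.homologyMap (φ n))
      infer_instance
    exact ((MorphismProperty.epimorphisms X.Modules).arrow_iso_iff
      (((Functor.mapArrowFunctor _ _).mapIso
        (DerivedCategory.homologyFunctorFactors X.Modules n)).app (Arrow.mk (brutalι E n)))).2 he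

end Trunc

/-- a witness may be chosen to vanish below `m` -/
theorem Wit.exists_ge {m : ℤ} {K : DCoh.D X} (h : Wit m K) :
    ∃ (E : CochainComplex X.Modules ℤ) (α : DerivedCategory.Q.obj E ⟶ K), DCoh.IsStrictlyPerfect E ∧
      (∀ i, i < m → IsZero (E.X i)) ∧ Approx α m := by
  obtain ⟨E, α, hE, hα⟩ := h
  obtain ⟨⟨a, b, hv⟩, hf⟩ := hE
  refine ⟨brutal E m, DerivedCategory.Q.map (brutalι E m) ≫ α, ⟨⟨a, b, fun i hi => ?_⟩, fun i => ?_⟩,
    fun i hi => isZero_brutal_X E m hi, (approx_brutalι E m).comp hα⟩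
  · haveI : Mono ((brutalι E m).f i) := inferInstanceAs (Mono (kernel.ι _))
    exact (hv i hi).of_mono ((brutalι E m).f i)
  · rcases lt_or_ge i m with h | h
    · exact Groth.L29.LocFree.of_isZero (isZero_brutal_X E m h)
    · haveI := isIso_brutalι E m h
      exact Groth.L29.LocFree.of_iso (asIso ((brutalι E m).f i)).symm (hf i)

/-- pseudo-coherence in a triangle, third place, with global witnesses -/
theorem wit_third {T : Triangle (DCoh.D X)} (hT : T ∈ distTriang _) {m : ℤ} (h₁ : Wit (m + 1) T.obj₁)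
    (h₂ : Wit m T.obj₂) (x : X) :
    ∃ (U : Scheme.{u}) (j : U ⟶ X) (_ : IsOpenImmersion j), x ∈ j.opensRange ∧
      Wit m ((DCoh.restrictD j).obj T.obj₃) := by
  obtain ⟨E₁, α₁, hE₁, hge, a₁⟩ := h₁.exists_ge
  obtain ⟨E₂, α₂, hE₂, a₂⟩ := h₂
  obtain ⟨C₂, p, q, hS⟩ := distinguished_cocone_triangle α₂
  haveI : C₂.IsLE (m + 1 - 1) := by
    haveI : C₂.IsLE (m - 1) := (approx_iff_triangle _ hS m).1 a₂
    exact DerivedCategory.TStructure.t.isLE_of_le C₂ (m - 1) (m + 1 - 1) (by omega)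
  obtain ⟨V, hxV, hz⟩ := exists_local_zero hE₁ (m + 1) hge (α₁ ≫ T.mor₁ ≫ p) x
  let F := resD V
  let η := fun E => resQIso V E
  obtain ⟨g, hg⟩ := Triangle.coyoneda_exact₂ _ (F.map_distinguished _ hS) (F.map (α₁ ≫ T.mor₁))
    (by change F.map (α₁ ≫ T.mor₁) ≫ F.map p = 0; rw [← Functor.map_comp, Category.assoc, hz])
  change F.map (α₁ ≫ T.mor₁) = g ≫ F.map α₂ at hg
  obtain ⟨W, β, hxW, hβ⟩ := exists_local_chainMap (isStrictlyPerfect_restrict V.ι hE₁)
    ((η E₁).inv ≫ g ≫ (η E₂).hom) (⟨x, hxV⟩ : (V : Scheme.{u}))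
  refine ⟨W, W.ι ≫ V.ι, inferInstance, mem_opensRange_comp hxV hxW,
    wit_iso ((resTransD V.ι W.ι (W.ι ≫ V.ι) rfl).app T.obj₃) ?_⟩
  let G := resD W
  let ζ := fun E => resQIso W E
  have hT' := G.map_distinguished _ (F.map_distinguished _ hT)
  let u₁ := (ζ _).inv ≫ G.map ((η E₁).inv ≫ F.map α₁)
  let u₂ := (ζ _).inv ≫ G.map ((η E₂).inv ≫ F.map α₂)
  have hsq : DerivedCategory.Q.map β ≫ u₂ = u₁ ≫ G.map (F.map T.mor₁) := by
    rw [← cancel_epi (ζ ((DCoh.restrictCx V).obj E₁)).hom]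
    simp only [u₁, u₂, Iso.hom_inv_id_assoc, Category.assoc]
    rw [← reassoc_of% hβ]
    change G.map ((η E₁).inv ≫ g ≫ (η E₂).hom) ≫ _ = _
    rw [← Functor.map_comp, ← Functor.map_comp, Category.assoc, Category.assoc, Category.assoc,
      Iso.hom_inv_id_assoc, ← Functor.map_comp, hg]
  have hcone : DerivedCategory.Q.mapTriangle.obj (mappingCone.triangle β) ∈ distTriang _ :=
    (DerivedCategory.mem_distTriang_iff _).mpr ⟨_, _, β, ⟨Iso.refl _⟩⟩
  obtain ⟨c, hc₁, hc₂⟩ := complete_distinguished_triangle_morphism _ _ hcone hT' u₁ u₂ hsq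
  have hu₁ : Approx u₁ (m + 1) := (Approx.of_isIso _ _).comp
    (((Approx.of_isIso _ _).comp (a₁.map_exact (Scheme.Modules.restrictFunctor V.ι))).map_exact
      (Scheme.Modules.restrictFunctor W.ι))
  have hu₂ : Approx u₂ m := (Approx.of_isIso _ _).comp
    (((Approx.of_isIso _ _).comp (a₂.map_exact (Scheme.Modules.restrictFunctor V.ι))).map_exact
      (Scheme.Modules.restrictFunctor W.ι))
  exact ⟨mappingCone β, c,
    isStrictlyPerfect_cone β (isStrictlyPerfect_restrict W.ι (isStrictlyPerfect_restrict V.ι hE₁))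
      (isStrictlyPerfect_restrict W.ι (isStrictlyPerfect_restrict V.ι hE₂)),
    Approx.hom₃ hcone hT' (Triangle.homMk _ _ u₁ u₂ c hsq hc₁ hc₂) m hu₁ hu₂⟩

/-- shifting a strictly perfect complex -/
theorem isStrictlyPerfect_shift {E : CochainComplex X.Modules ℤ} (hE : DCoh.IsStrictlyPerfect E) (a : ℤ) :
    DCoh.IsStrictlyPerfect (E⟦a⟧) := by
  obtain ⟨⟨a', b', h⟩, hf⟩ := hE
  exact ⟨⟨a' - a, b' - a, fun i hi => h (i + a) (by omega)⟩, fun i => hf (i + a)⟩

theorem Wit.shift {m : ℤ} {K : DCoh.D X} (h : Wit m K) (a n : ℤ) (hn : a + n = m) : Wit n (K⟦a⟧) := by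
  obtain ⟨E, α, hE, hα⟩ := h
  exact ⟨E⟦a⟧, ((DerivedCategory.Q.commShiftIso a).app E).hom ≫ α⟦a⟧', isStrictlyPerfect_shift hE a,
    (Approx.of_isIso _ n).comp (hα.shift hn)⟩

theorem PWit.shift {K : DCoh.D X} (h : PWit K) (a : ℤ) : PWit (K⟦a⟧) := by
  obtain ⟨E, hE, ⟨e⟩⟩ := h
  exact ⟨E⟦a⟧, isStrictlyPerfect_shift hE a, ⟨(CategoryTheory.shiftFunctor _ a).mapIso e ≪≫
    ((DerivedCategory.Q.commShiftIso a).app E).symm⟩⟩

theorem pc_shift {m : ℤ} {K : DCoh.D X} (h : DCoh.IsPseudoCoherentD m K) (a n : ℤ) (hn : a + n = m) :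
    DCoh.IsPseudoCoherentD n (K⟦a⟧) := by
  rw [isPC_iff_wit] at h ⊢
  intro x
  obtain ⟨V, hx, hV⟩ := h x
  exact ⟨V, hx, wit_iso (((resD V).commShiftIso a).app K).symm (hV.shift a n hn)⟩

theorem perfect_shift {K : DCoh.D X} (h : DCoh.IsPerfect K) (a : ℤ) : DCoh.IsPerfect (K⟦a⟧) := by
  rw [isPerfect_iff_wit] at h ⊢
  intro x
  obtain ⟨V, hx, hV⟩ := h x
  exact ⟨V, hx, (hV.shift a).of_iso (((resD V).commShiftIso a).app K).symm⟩

/-- third place, pseudo-coherence -/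
theorem pc_third {T : Triangle (DCoh.D X)} (hT : T ∈ distTriang _) {m : ℤ}
    (h₁ : DCoh.IsPseudoCoherentD (m + 1) T.obj₁) (h₂ : DCoh.IsPseudoCoherentD m T.obj₂) :
    DCoh.IsPseudoCoherentD m T.obj₃ := by
  rw [isPC_iff_wit] at h₁ h₂
  refine pc_of_on fun x => ?_
  obtain ⟨V₁, hx₁, w₁⟩ := h₁ x
  obtain ⟨V₂, hx₂, w₂⟩ := h₂ x
  let W := V₁ ⊓ V₂
  have w₁' := res_le (fun {Z} => Wit (m + 1)) (fun k _ _ h => h.restrict k) (fun e h => wit_iso e h)
    (inf_le_left : W ≤ V₁) w₁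
  have w₂' := res_le (fun {Z} => Wit m) (fun k _ _ h => h.restrict k) (fun e h => wit_iso e h)
    (inf_le_right : W ≤ V₂) w₂
  obtain ⟨U, j, _, ⟨u, hu⟩, hj⟩ := wit_third ((resD W).map_distinguished _ hT) w₁' w₂'
    (⟨x, hx₁, hx₂⟩ : (W : Scheme.{u}))
  exact ⟨U, j ≫ W.ι, inferInstance, ⟨u, congrArg W.ι.base hu⟩,
    wit_iso ((resTransD W.ι j (j ≫ W.ι) rfl).app T.obj₃) hj⟩

theorem pwit_third {T : Triangle (DCoh.D X)} (hT : T ∈ distTriang _) (h₁ : PWit T.obj₁)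
    (h₂ : PWit T.obj₂) (x : X) :
    ∃ (U : Scheme.{u}) (j : U ⟶ X) (_ : IsOpenImmersion j), x ∈ j.opensRange ∧
      PWit ((DCoh.restrictD j).obj T.obj₃) := by
  obtain ⟨E₁, hE₁, ⟨e₁⟩⟩ := h₁
  obtain ⟨E₂, hE₂, ⟨e₂⟩⟩ := h₂
  obtain ⟨V, β, hxV, hβ⟩ := exists_local_chainMap hE₁ (e₁.inv ≫ T.mor₁ ≫ e₂.hom) x
  refine ⟨V, V.ι, inferInstance, by simpa using hxV, mappingCone β, isStrictlyPerfect_cone β
    (isStrictlyPerfect_restrict V.ι hE₁) (isStrictlyPerfect_restrict V.ι hE₂), ⟨?_⟩⟩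
  have hcone : DerivedCategory.Q.mapTriangle.obj (mappingCone.triangle β) ∈ distTriang _ :=
    (DerivedCategory.mem_distTriang_iff _).mpr ⟨_, _, β, ⟨Iso.refl _⟩⟩
  refine (Triangle.π₃.mapIso (isoTriangleOfIso₁₂ _ _ hcone ((resD V).map_distinguished _ hT)
    ((resQIso V E₁).symm ≪≫ (resD V).mapIso e₁.symm) ((resQIso V E₂).symm ≪≫ (resD V).mapIso e₂.symm) ?_)).symm
  change DerivedCategory.Q.map β ≫ (resQIso V E₂).inv ≫ (resD V).map e₂.inv =
    ((resQIso V E₁).inv ≫ (resD V).map e₁.inv) ≫ (resD V).map T.mor₁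
  rw [← cancel_epi (resQIso V E₁).hom, ← reassoc_of% hβ, Category.assoc, Iso.hom_inv_id_assoc,
    ← Functor.map_comp, ← Functor.map_comp]
  simp

/-- third place, perfectness -/
theorem perfect_third {T : Triangle (DCoh.D X)} (hT : T ∈ distTriang _)
    (h₁ : DCoh.IsPerfect T.obj₁) (h₂ : DCoh.IsPerfect T.obj₂) : DCoh.IsPerfect T.obj₃ := by
  rw [isPerfect_iff_wit] at h₁ h₂
  refine perfect_of_on fun x => ?_
  obtain ⟨V₁, hx₁, w₁⟩ := h₁ x
  obtain ⟨V₂, hx₂, w₂⟩ := h₂ x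
  let W := V₁ ⊓ V₂
  have w₁' := res_le (fun {Z} => PWit) (fun k _ _ h => h.restrict k) (fun e h => h.of_iso e)
    (inf_le_left : W ≤ V₁) w₁
  have w₂' := res_le (fun {Z} => PWit) (fun k _ _ h => h.restrict k) (fun e h => h.of_iso e)
    (inf_le_right : W ≤ V₂) w₂
  obtain ⟨U, j, _, ⟨u, hu⟩, hj⟩ := pwit_third ((resD W).map_distinguished _ hT) w₁' w₂'
    (⟨x, hx₁, hx₂⟩ : (W : Scheme.{u}))
  exact ⟨U, j ≫ W.ι, inferInstance, ⟨u, congrArg W.ι.base hu⟩,
    hj.of_iso ((resTransD W.ι j (j ≫ W.ι) rfl).app T.obj₃)⟩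

theorem pc_two_out_of_three {T : Triangle (DCoh.D X)} (hT : T ∈ distTriang _) (m : ℤ) :
    (DCoh.IsPseudoCoherentD (m + 1) T.obj₁ → DCoh.IsPseudoCoherentD m T.obj₂ →
      DCoh.IsPseudoCoherentD m T.obj₃) ∧
    (DCoh.IsPseudoCoherentD m T.obj₁ → DCoh.IsPseudoCoherentD m T.obj₃ →
      DCoh.IsPseudoCoherentD m T.obj₂) ∧
    (DCoh.IsPseudoCoherentD (m + 1) T.obj₂ → DCoh.IsPseudoCoherentD m T.obj₃ →
      DCoh.IsPseudoCoherentD (m + 1) T.obj₁) :=
  ⟨pc_third hT, fun h₁ h₃ => pc_third (inv_rot_of_distTriang _ hT) (pc_shift h₃ (-1) (m + 1) (by omega)) h₁,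
    fun h₂ h₃ => isPseudoCoherentD_of_iso ((shiftFunctorCompIsoId _ (1 : ℤ) (-1) (by omega)).app T.obj₁)
      (pc_shift (pc_third (rot_of_distTriang _ hT) h₂ h₃) (-1) (m + 1) (by omega))⟩

theorem perfect_two_out_of_three {T : Triangle (DCoh.D X)} (hT : T ∈ distTriang _) :
    (DCoh.IsPerfect T.obj₁ → DCoh.IsPerfect T.obj₂ → DCoh.IsPerfect T.obj₃) ∧
    (DCoh.IsPerfect T.obj₁ → DCoh.IsPerfect T.obj₃ → DCoh.IsPerfect T.obj₂) ∧
    (DCoh.IsPerfect T.obj₂ → DCoh.IsPerfect T.obj₃ → DCoh.IsPerfect T.obj₁) :=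
  ⟨perfect_third hT, fun h₁ h₃ => perfect_third (inv_rot_of_distTriang _ hT) (perfect_shift h₃ (-1)) h₁,
    fun h₂ h₃ => isPerfect_of_iso ((shiftFunctorCompIsoId _ (1 : ℤ) (-1) (by omega)).app T.obj₁)
      (perfect_shift (perfect_third (rot_of_distTriang _ hT) h₂ h₃) (-1))⟩

theorem pc_of_perfect {K : DCoh.D X} (h : DCoh.IsPerfect K) (m : ℤ) : DCoh.IsPseudoCoherentD m K := by
  rw [isPerfect_iff_wit] at h
  rw [isPC_iff_wit]
  intro x
  obtain ⟨V, hx, E, hE, ⟨e⟩⟩ := h x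
  exact ⟨V, hx, E, e.inv, hE, Approx.of_isIso _ m⟩

end Groth.L29.DC
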