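import Groth.Agent.L29.DCoh.Amplitude
import Groth.Agent.L29.DCoh.Triangle
import Groth.Agent.L29.DCoh.QCohOps
import Groth.Agent.L29.DCoh.RHomBound
import Groth.Agent.L18.LocFreeFP

/-!
Cohomology sheaves of pseudo-coherent and perfect objects are quasi-coherent.
-/

set_option autoImplicit false
set_option backward.isDefEq.respectTransparency false
set_option backward.isDefEq.respectTransparency.types false

universe u

open CategoryTheory CategoryTheory.Limits AlgebraicGeometry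

attribute [local instance] HasDerivedCategory.standard

noncomputable section

namespace Groth.L29.DC.PCQCoh

variable {X : Scheme.{u}}

theorem isQCoh_of_isFinLocFree {M : X.Modules} (h : FlatMod.IsFinLocFree M) : Coh.IsQCoh M := by
  obtain ⟨d, -⟩ := (Groth.L18.LFP.isFP_of_isFinLocFree M h).exists_quasicoherentData
  exact d.isQuasicoherent

theorem isQCoh_cycles {E : CochainComplex X.Modules ℤ} (h : ∀ i, Coh.IsQCoh (E.X i)) (i : ℤ) :
    Coh.IsQCoh (E.cycles i) :=
  isQCoh_of_iso' (IsLimit.conePointUniqueUpToIso (kernelIsKernel (E.d i (i + 1))) (E.cyclesIsKernel i (i + 1) (by simp)))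
    (isQCoh_kernel' _ (h i) (h (i + 1)))

theorem isQCoh_homology {E : CochainComplex X.Modules ℤ} (h : ∀ i, Coh.IsQCoh (E.X i)) (i : ℤ) :
    Coh.IsQCoh (E.homology i) :=
  isQCoh_of_iso' (IsColimit.coconePointUniqueUpToIso (cokernelIsCokernel (E.toCycles (i - 1) i))
    (E.homologyIsCokernel (i - 1) i (by simp))) (isQCoh_cokernel' _ (h (i - 1)) (isQCoh_cycles h i))

theorem isQCoh_HD {m i : ℤ} (hi : m < i) {K : DCoh.D X} (h : DCoh.IsPseudoCoherentD m K) :
    Coh.IsQCoh (DCoh.HD K i) := by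
  refine RHom.isQCoh_of_cover fun x => ?_
  obtain ⟨V, hx, E, α, ⟨-, hf⟩, hα⟩ := (isPC_iff_wit m K).1 h x
  haveI := hα.1 i hi
  exact ⟨V, hx, isQCoh_of_iso' (((DerivedCategory.homologyFunctorFactors _ i).app E).symm ≪≫
    asIso ((DerivedCategory.homologyFunctor _ i).map α) ≪≫ HDResIso V.ι K i)
    (isQCoh_homology (fun j => isQCoh_of_isFinLocFree (hf j)) i)⟩

theorem exists_cover {m : ℤ} {K : DCoh.D X} (h : DCoh.IsPseudoCoherentD m K) (x : X) :
    ∃ (V : X.Opens) (Q : (V : Scheme.{u}).Modules)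
      (π : Q ⟶ (Scheme.Modules.restrictFunctor V.ι).obj (DCoh.HD K m)), x ∈ V ∧ Coh.IsQCoh Q ∧ Epi π := by
  obtain ⟨V, hx, E, α, ⟨-, hf⟩, hα⟩ := (isPC_iff_wit m K).1 h x
  haveI := hα.2
  exact ⟨V, E.cycles m, E.homologyπ m ≫ ((DerivedCategory.homologyFunctorFactors _ m).app E).inv ≫
    (DerivedCategory.homologyFunctor _ m).map α ≫ (HDResIso V.ι K m).hom, hx,
    isQCoh_cycles (fun j => isQCoh_of_isFinLocFree (hf j)) m, inferInstance⟩

theorem isQCohD_of_pc {K : DCoh.D X} (h : ∀ m, DCoh.IsPseudoCoherentD m K) : DCoh.IsQCohD K :=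
  fun i => isQCoh_HD (m := i - 1) (by omega) (h _)

theorem isQCohD_of_perfect {K : DCoh.D X} (h : DCoh.IsPerfect K) : DCoh.IsQCohD K :=
  isQCohD_of_pc (pc_of_perfect h)

end Groth.L29.DC.PCQCoh
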