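import Groth.Agent.L29.DCoh.FibreRank
import Groth.Agent.L21.Mod.Locality

/-!
Matrices of morphisms of free modules; isomorphisms and direct summands detected at a point.
-/

set_option autoImplicit false
set_option backward.isDefEq.respectTransparency false
set_option backward.isDefEq.respectTransparency.types false

universe u

open CategoryTheory CategoryTheory.Limits AlgebraicGeometry Opposite TensorProduct

attribute [local instance] preservesBinaryBiproducts_of_preservesBinaryCoproducts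

namespace Groth.L29.DC.Fib

variable {X : Scheme.{u}}

/-- multiplication by a global function -/
noncomputable def scal (a : Γ(X, ⊤)) : Coh.structureModule X ⟶ Coh.structureModule X :=
  (SheafOfModules.unitHomEquiv _).symm (PresheafOfModules.sectionsMk
    (fun U => X.presheaf.map (homOfLE (le_top : U.unop ≤ ⊤)).op a)
    (fun U V f => by
      change (X.presheaf.map _ ≫ X.presheaf.map f) a = _
      rw [← Functor.map_comp]
      rfl))

theorem scal_app (a : Γ(X, ⊤)) : (scal a).app ⊤ (1 : Γ(X, ⊤)) = a := by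
  change ((SheafOfModules.unitHomEquiv _) (scal a)).val (op ⊤) = a
  rw [scal, Equiv.apply_symm_apply]
  change X.presheaf.map _ a = a
  rw [Subsingleton.elim (homOfLE (le_top : (⊤ : X.Opens) ≤ ⊤)) (𝟙 _), op_id, CategoryTheory.Functor.map_id]
  rfl

theorem val_add (f g : Coh.structureModule X ⟶ Coh.structureModule X) :
    (f + g).app ⊤ (1 : Γ(X, ⊤)) = f.app ⊤ (1 : Γ(X, ⊤)) + g.app ⊤ (1 : Γ(X, ⊤)) := by
  rw [Scheme.Modules.Hom.add_app]; rfl

/-- the morphism of free modules with a given matrix -/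
noncomputable def ofMat {n m : ℕ} (A : Matrix (Fin m) (Fin n) Γ(X, ⊤)) :
    FlatMod.freeMod X n ⟶ FlatMod.freeMod X m :=
  Sigma.desc fun j => ∑ i, scal (A i j) ≫ incl m i

theorem mat_ofMat {n m : ℕ} (A : Matrix (Fin m) (Fin n) Γ(X, ⊤)) : mat (ofMat A) = A := by
  funext i j
  unfold mat ofMat
  rw [Sigma.ι_desc_assoc, Preadditive.sum_comp, Finset.sum_eq_single i]
  · rw [Category.assoc, incl_proj_self, Category.comp_id, scal_app]
  · intro k _ h
    rw [Category.assoc, incl_proj_ne m h, comp_zero]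
  · exact fun h => absurd (Finset.mem_univ i) h

/-- invertible matrices at all stalks of `W` give isomorphisms over `W` -/
theorem isIso_restrict_of_det {n : ℕ} {M N : X.Modules} (e : M ≅ FlatMod.freeMod X n)
    (e' : N ≅ FlatMod.freeMod X n) (φ : M ⟶ N) :
    IsIso ((Scheme.Modules.restrictFunctor (X.basicOpen (mat (e.inv ≫ φ ≫ e'.hom)).det).ι).map φ) := by
  rw [Groth.L21.Mod.isIso_iff_stalk_bijective]
  intro y
  rw [Groth.L21.Mod.restrict_stalk_map]
  set x := (X.basicOpen (mat (e.inv ≫ φ ≫ e'.hom)).det).ι y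
  suffices h : Function.Bijective ((Groth.L00.Stk.F X x).map φ).hom by
    haveI : IsIso ((Groth.L21.Mod.stalkF X x).map φ) := (ConcreteCategory.isIso_iff_bijective _).2 h
    exact ConcreteCategory.bijective_of_isIso _
  let ρ : X.presheaf.stalk x →+* X.presheaf.stalk x := RingHom.id _
  have hx : x ∈ X.basicOpen (mat (e.inv ≫ φ ≫ e'.hom)).det := y.2
  have hdet : IsUnit ((mat (e.inv ≫ φ ≫ e'.hom)).map (ev ρ)) := by
    rw [Matrix.isUnit_iff_isUnit_det, ← RingHom.mapMatrix_apply, ← RingHom.map_det]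
    exact (Scheme.mem_basicOpen_top _ _ _).1 hx
  have hψ : Function.Bijective ((Φ ρ).map (e.inv ≫ φ ≫ e'.hom)).hom := by
    have hb : Function.Bijective ((mat (e.inv ≫ φ ≫ e'.hom)).map (ev ρ)).mulVecLin :=
      ⟨Matrix.mulVec_injective_of_isUnit hdet, fun b => ⟨((mat (e.inv ≫ φ ≫ e'.hom)).map (ev ρ))⁻¹.mulVec b, by
        rw [Matrix.mulVecLin_apply, Matrix.mulVec_mulVec, Matrix.mul_nonsing_inv _ ((Matrix.isUnit_iff_isUnit_det _).1 hdet),
          Matrix.one_mulVec]⟩⟩
    rw [← coord_map] at hb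
    have hb' : Function.Bijective ((coord ρ n) ∘ (((Φ ρ).map (e.inv ≫ φ ≫ e'.hom)).hom ∘ (coord ρ n).symm)) := hb
    exact (Function.Bijective.of_comp_iff _ (coord ρ n).symm.bijective).1
      (((coord ρ n).bijective.of_comp_iff' _).1 hb')
  have hΦ : Function.Bijective ((Φ ρ).map φ).hom := by
    haveI : IsIso ((Φ ρ).map (e.inv ≫ φ ≫ e'.hom)) := (ConcreteCategory.isIso_iff_bijective _).2 hψ
    have h2 : φ = e.hom ≫ (e.inv ≫ φ ≫ e'.hom) ≫ e'.inv := by simp
    rw [h2, Functor.map_comp, Functor.map_comp]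
    exact ConcreteCategory.bijective_of_isIso _
  letI := ρ.toAlgebra
  let f := ((Groth.L00.Stk.F X x).map φ).hom
  have key : ∀ v : (Groth.L00.Stk.F X x).obj M, ((Φ ρ).map φ).hom ((1 : X.presheaf.stalk x) ⊗ₜ v) =
      (1 : X.presheaf.stalk x) ⊗ₜ[X.presheaf.stalk x] f v := fun v => rfl
  refine ⟨fun a b hab => ?_, fun w => ?_⟩
  · have := hΦ.1 ((key a).trans ((congrArg _ hab).trans (key b).symm))
    simpa using congrArg (TensorProduct.lid (X.presheaf.stalk x) _) this
  · obtain ⟨v, hv⟩ := hΦ.2 ((1 : X.presheaf.stalk x) ⊗ₜ w)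
    obtain ⟨v', rfl⟩ := (TensorProduct.lid (X.presheaf.stalk x) _).symm.surjective v
    rw [TensorProduct.lid_symm_apply, key] at hv
    exact ⟨v', by simpa using congrArg (TensorProduct.lid (X.presheaf.stalk x) _) hv⟩

variable {x : X} {K : Type u} [Field K] (ρ : X.presheaf.stalk x →+* K)

/-- isomorphisms of free modules spread out from a point -/
theorem exists_isIso_nhd [IsLocalHom ρ] {n : ℕ} {M N : X.Modules} (e : M ≅ FlatMod.freeMod X n)
    (e' : N ≅ FlatMod.freeMod X n) (φ : M ⟶ N) (h : Function.Injective ((Φ ρ).map φ).hom) :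
    ∃ W : X.Opens, x ∈ W ∧ IsIso ((Scheme.Modules.restrictFunctor W.ι).map φ) := by
  refine ⟨_, (ev_ne_zero_iff ρ _).1 ?_, isIso_restrict_of_det e e' φ⟩
  have h1 : Function.Injective ((mat (e.inv ≫ φ ≫ e'.hom)).map (ev ρ)).mulVec := by
    have : Function.Injective ((mat (e.inv ≫ φ ≫ e'.hom)).map (ev ρ)).mulVecLin := by
      rw [← coord_map]
      change Function.Injective ((coord ρ n) ∘ (((Φ ρ).map (e.inv ≫ φ ≫ e'.hom)).hom ∘ (coord ρ n).symm))
      refine (coord ρ n).injective.comp (Function.Injective.comp ?_ (coord ρ n).symm.injective)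
      rw [Functor.map_comp, Functor.map_comp]
      exact (ConcreteCategory.bijective_of_isIso ((Φ ρ).map e'.hom)).1.comp
        (h.comp (ConcreteCategory.bijective_of_isIso ((Φ ρ).map e.inv)).1)
    exact this
  rw [RingHom.map_det, RingHom.mapMatrix_apply]
  exact ((Matrix.isUnit_iff_isUnit_det _).1 (Matrix.mulVec_injective_iff_isUnit.1 h1)).ne_zero

theorem exists_basis_map {M : X.Modules} {n : ℕ} (p : FlatMod.freeMod X n ⟶ M)
    (hp : Function.Surjective ((Φ ρ).map p).hom) :
    ∃ (r : ℕ) (a : FlatMod.freeMod X r ⟶ M), Function.Bijective ((Φ ρ).map a).hom := by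
  let v : Fin n → (Φ ρ).obj M := fun k => ((Φ ρ).map (incl n k ≫ p)).hom (unitEquiv ρ 1)
  haveI : Module.Finite K (Submodule.span K (Set.range v)) := Module.Finite.span_of_finite K (Set.finite_range v)
  obtain ⟨f, hf, hsp, hli⟩ := Submodule.exists_fun_fin_finrank_span_eq K (Set.range v)
  choose t ht using hf
  refine ⟨_, Sigma.desc fun k => incl n (t k) ≫ p, ?_⟩
  let r := Module.finrank K (Submodule.span K (Set.range v))
  let a : FlatMod.freeMod X r ⟶ M := Sigma.desc fun k => incl n (t k) ≫ p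
  have hb : ∀ w, ((Φ ρ).map a).hom ((coord ρ r).symm w) = ∑ k, w k • f k := by
    intro w
    change ((Φ ρ).map a).hom (∑ k, ((Φ ρ).map (incl r k)).hom (unitEquiv ρ (w k))) = _
    rw [map_sum]
    refine Finset.sum_congr rfl fun k _ => ?_
    rw [← map_comp_apply, show incl r k ≫ a = incl n (t k) ≫ p from Sigma.ι_desc _ _,
      show unitEquiv ρ (w k) = w k • unitEquiv ρ 1 by rw [← map_smul, smul_eq_mul, mul_one], map_smul]
    exact congrArg (w k • ·) (ht k)
  have hspan : Submodule.span K (Set.range v) = ⊤ := by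
    rw [eq_top_iff]
    intro z _
    obtain ⟨y, rfl⟩ := hp z
    obtain ⟨w, rfl⟩ := (coord ρ n).symm.surjective y
    change ((Φ ρ).map p).hom (∑ k, ((Φ ρ).map (incl n k)).hom (unitEquiv ρ (w k))) ∈ _
    rw [map_sum]
    refine Submodule.sum_mem _ fun k _ => ?_
    rw [← map_comp_apply, show unitEquiv ρ (w k) = w k • unitEquiv ρ 1 by rw [← map_smul, smul_eq_mul, mul_one],
      map_smul]
    exact Submodule.smul_mem _ _ (Submodule.subset_span ⟨k, rfl⟩)
  suffices h : Function.Bijective fun w => ((Φ ρ).map a).hom ((coord ρ r).symm w) by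
    exact (Function.Bijective.of_comp_iff _ (coord ρ r).symm.bijective).1 h
  refine ⟨fun w w' h => ?_, fun z => ?_⟩
  · simp only [hb] at h
    funext k
    have := Fintype.linearIndependent_iff.1 hli (w - w') (by
      simp only [Pi.sub_apply, sub_smul, Finset.sum_sub_distrib, sub_eq_zero]; exact h) k
    simpa [sub_eq_zero] using this
  · have hz : z ∈ Submodule.span K (Set.range f) := by rw [hsp, hspan]; trivial
    obtain ⟨w, hw⟩ := (Submodule.mem_span_range_iff_exists_fun K).1 hz
    exact ⟨w, (hb w).trans hw⟩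

theorem exists_free_of_biprod [IsLocalHom ρ] {M M' : X.Modules} {n : ℕ} (i : M ⊞ M' ≅ FlatMod.freeMod X n) :
    ∃ (W : X.Opens) (r : ℕ), x ∈ W ∧ Nonempty (M.restrict W.ι ≅ FlatMod.freeMod (↑W) r) := by
  have hsurj : ∀ {A : X.Modules} (q : M ⊞ M' ⟶ A) (s : A ⟶ M ⊞ M'), s ≫ q = 𝟙 A →
      Function.Surjective ((Φ ρ).map (i.inv ≫ q)).hom := fun q s hs z =>
    ⟨((Φ ρ).map (s ≫ i.hom)).hom z, by
      rw [← map_comp_apply, Category.assoc, Iso.hom_inv_id_assoc, hs, CategoryTheory.Functor.map_id]; rfl⟩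
  obtain ⟨r, a, ha⟩ := exists_basis_map ρ (i.inv ≫ biprod.fst) (hsurj _ biprod.inl biprod.inl_fst)
  obtain ⟨r', a', ha'⟩ := exists_basis_map ρ (i.inv ≫ biprod.snd) (hsurj _ biprod.inr biprod.inr_snd)
  have hm : Function.Bijective ((Φ ρ).map (biprod.map a a')).hom := by
    refine ⟨fun v v' h => ?_, fun z => ?_⟩
    · have h1 := congrArg ((Φ ρ).map biprod.fst).hom h
      have h2 := congrArg ((Φ ρ).map (biprod.snd : M ⊞ M' ⟶ M')).hom h
      rw [← map_comp_apply, ← map_comp_apply, biprod.map_fst, map_comp_apply, map_comp_apply] at h1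
      rw [← map_comp_apply, ← map_comp_apply, biprod.map_snd, map_comp_apply, map_comp_apply] at h2
      let A := FlatMod.freeMod X r
      let A' := FlatMod.freeMod X r'
      have e : ∀ u, u = ((Φ ρ).map (biprod.inl : A ⟶ A ⊞ A')).hom (((Φ ρ).map (biprod.fst : A ⊞ A' ⟶ A)).hom u) +
          ((Φ ρ).map (biprod.inr : A' ⟶ A ⊞ A')).hom (((Φ ρ).map (biprod.snd : A ⊞ A' ⟶ A')).hom u) := fun u => by
        erw [← map_comp_apply, ← map_comp_apply]; rw [← LinearMap.add_apply, ← ModuleCat.hom_add, ← Functor.map_add,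
          biprod.total, CategoryTheory.Functor.map_id]; rfl
      rw [e v, e v', ha.1 h1, ha'.1 h2]
    · obtain ⟨v, hv⟩ := ha.2 (((Φ ρ).map biprod.fst).hom z)
      obtain ⟨v', hv'⟩ := ha'.2 (((Φ ρ).map biprod.snd).hom z)
      refine ⟨((Φ ρ).map biprod.inl).hom v + ((Φ ρ).map biprod.inr).hom v', ?_⟩
      rw [map_add, ← map_comp_apply, ← map_comp_apply, biprod.inl_map, biprod.inr_map, map_comp_apply,
        map_comp_apply, hv, hv', ← map_comp_apply, ← map_comp_apply, ← LinearMap.add_apply,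
        ← ModuleCat.hom_add, ← Functor.map_add, biprod.total, CategoryTheory.Functor.map_id]
      rfl
  let c := (Groth.L29.LocFree.freeBiprodIso X r r').inv ≫ biprod.map a a' ≫ i.hom
  have hc : Function.Bijective ((Φ ρ).map c).hom := by
    haveI : IsIso ((Φ ρ).map (biprod.map a a')) := (ConcreteCategory.isIso_iff_bijective _).2 hm
    simp only [c, Functor.map_comp]
    exact ConcreteCategory.bijective_of_isIso _
  have hn : r + r' = n :=
    ((finrank_Φ_of_iso ρ (Iso.refl (FlatMod.freeMod X (r + r')))).symm.trans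
      (LinearEquiv.ofBijective _ hc).finrank_eq).trans (finrank_Φ_of_iso ρ (Iso.refl _))
  obtain ⟨W, hxW, hW⟩ := exists_isIso_nhd ρ (Iso.refl _) (eqToIso (by rw [hn])) c hc.1
  let R := Scheme.Modules.restrictFunctor W.ι
  haveI := hW
  haveI : IsIso (R.map (biprod.map a a')) := by
    have : R.map (biprod.map a a') = R.map (Groth.L29.LocFree.freeBiprodIso X r r').hom ≫ R.map c ≫ R.map i.inv := by
      rw [← Functor.map_comp, ← Functor.map_comp]; simp [c]
    rw [this]
    infer_instance
  haveI : IsIso (R.map a) := by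
    refine ⟨R.map biprod.inl ≫ inv (R.map (biprod.map a a')) ≫ R.map biprod.fst, ?_, ?_⟩
    · rw [← Functor.map_comp_assoc, ← biprod.inl_map a a', Functor.map_comp_assoc, IsIso.hom_inv_id_assoc,
        ← Functor.map_comp, biprod.inl_fst, CategoryTheory.Functor.map_id]
    · simp only [Category.assoc]
      rw [← Functor.map_comp, ← biprod.map_fst a a', Functor.map_comp, IsIso.inv_hom_id_assoc,
        ← Functor.map_comp, biprod.inl_fst, CategoryTheory.Functor.map_id]
  exact ⟨W, r, hxW, ⟨(asIso (R.map a)).symm ≪≫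
    (Scheme.Modules.restrictFunctorIsoPullback W.ι).app _ ≪≫ Groth.L29.LocFree.pullbackFreeIso _ r⟩⟩

/-- direct summands of free modules are locally free -/
theorem isFinLocFree_of_biprod {M M' : X.Modules} {n : ℕ} (i : M ⊞ M' ≅ FlatMod.freeMod X n) :
    FlatMod.IsFinLocFree M := fun x => by
  haveI : IsLocalHom (X.residue x).hom := inferInstanceAs (IsLocalHom (IsLocalRing.residue (X.presheaf.stalk x)))
  obtain ⟨W, r, hW, h⟩ := exists_free_of_biprod (x := x) (X.residue x).hom i
  exact ⟨W, r, hW, h⟩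

end Groth.L29.DC.Fib
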