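import Groth.Agent.L29.DCoh.PerfDescent
import Groth.Prelude.Def_DCoh3

/-!
Relative tor dimension: flat `O_X`-modules are flat over the base for flat morphisms; perfect ⇒ relatively perfect.
-/

set_option autoImplicit false
set_option backward.isDefEq.respectTransparency false
set_option backward.isDefEq.respectTransparency.types false

universe u

open CategoryTheory CategoryTheory.Limits CategoryTheory.Pretriangulated AlgebraicGeometry

attribute [local instance] HasDerivedCategory.standard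

noncomputable section

namespace Groth.L29.DC.RelTor

variable {X S : Scheme.{u}}

theorem isFlatOver_of_isFlat (f : X ⟶ S) [Flat f] {M : X.Modules} (h : FlatMod.IsFlat M) :
    FlatMod.IsFlatOver f M := fun x => by
  letI := FlatMod.moduleStalkOver f M x
  letI := (f.stalkMap x).hom.toAlgebra
  haveI : IsScalarTower (S.presheaf.stalk (f.base x)) (X.presheaf.stalk x) (M.presheaf.stalk x) :=
    ⟨fun r a m => by
      show ((f.stalkMap x).hom r * a) • m = (f.stalkMap x).hom r • (a • m)
      rw [mul_smul]⟩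
  haveI : Module.Flat (S.presheaf.stalk (f.base x)) (X.presheaf.stalk x) := Flat.stalkMap f x
  haveI : Module.Flat (X.presheaf.stalk x) (M.presheaf.stalk x) := h x
  exact Module.Flat.trans (S.presheaf.stalk (f.base x)) (X.presheaf.stalk x) (M.presheaf.stalk x)

theorem perfect_relPerfect (f : X ⟶ S) [Flat f] {E : DCoh.D X} (hE : DCoh.IsPerfect E) :
    DCoh.LocHasFiniteRelTorDim f E := fun x => by
  obtain ⟨V, hxV, hV⟩ := hE x
  obtain ⟨F, ⟨e⟩⟩ : ∃ F : CochainComplex X.Modules ℤ, Nonempty (DCoh.toD X F ≅ E) :=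
    ⟨_, ⟨DerivedCategory.Q.objObjPreimageIso E⟩⟩
  obtain ⟨P, ⟨⟨a, b, hab⟩, hP⟩, ⟨eP⟩⟩ := hV F ⟨e⟩
  refine ⟨V, a, b, hxV, fun F' ⟨e'⟩ => ?_⟩
  refine ⟨P, hab, fun i => isFlatOver_of_isFlat _ (Groth.L29.DC.isFlat_of_isFinLocFree (hP i)), ⟨eP.symm ≪≫ ?_⟩⟩
  exact ((Scheme.Modules.restrictFunctor V.ι).mapDerivedCategoryFactors.app F).symm ≪≫
    (DCoh.restrictD V.ι).mapIso (e ≪≫ e'.symm) ≪≫
    (Scheme.Modules.restrictFunctor V.ι).mapDerivedCategoryFactors.app F'

end Groth.L29.DC.RelTor
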