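import Groth.Agent.L29.DCoh.RHomBound
import Groth.Agent.L17.CohClass
import Groth.Agent.L16.Devissage

/-!
Internal Hom keeps coherent cohomology: out of perfect complexes, and out of pseudo-coherent complexes into bounded below ones.
-/

set_option autoImplicit false
set_option backward.isDefEq.respectTransparency false
set_option backward.isDefEq.respectTransparency.types false

universe u

open CategoryTheory CategoryTheory.Limits MonoidalCategory AlgebraicGeometry CochainComplex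
open scoped ZeroObject

attribute [local instance] HasDerivedCategory.standard

namespace Groth.L29.DC.RHomC

open Groth.L00
open Groth.L29.DC.RHom

variable {X : Scheme.{u}}

theorem isCoh_restrict {U : Scheme.{u}} (j : U ⟶ X) [IsOpenImmersion j] {M : X.Modules} (h : Coh.IsCoh M) :
    Coh.IsCoh (M.restrict j) :=
  haveI : M.IsQuasicoherent := h.1
  ⟨Scheme.Modules.isQuasicoherent_restrictFunctor j M, Groth.L16.CohKernel.isFT_restrict j M h.2⟩

theorem isCoh_of_cover {M : X.Modules}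
    (h : ∀ x : X, ∃ (V : X.Opens), x ∈ V ∧ Coh.IsCoh (M.restrict V.ι)) : Coh.IsCoh M := by
  refine Groth.L16.CohKernel.isCoh_of_tilde_charts _ fun x => ?_
  obtain ⟨V, hx, hV⟩ := h x
  haveI : Coh.IsQCoh (M.restrict V.ι) := hV.1
  obtain ⟨_, ⟨W, hW, rfl⟩, hxW, -⟩ := (V : Scheme.{u}).isBasis_affineOpens.exists_subset_of_mem_open
    (Set.mem_univ (⟨x, hx⟩ : (V : Scheme.{u}))) isOpen_univ
  obtain ⟨N, ⟨e⟩⟩ := Groth.L00.Local.exists_tilde_iso_restrict hW.fromSpec (M.restrict V.ι)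
  let j := hW.fromSpec ≫ V.ι
  obtain ⟨y, hy⟩ := hW.opensRange_fromSpec.ge hxW
  have hxj : x ∈ j.opensRange := ⟨y, by
    change V.ι.base (hW.fromSpec.base y) = x
    rw [hy]; rfl⟩
  exact ⟨_, j, inferInstance, N, hxj, Groth.L16.CohKernel.finite_of_tilde_iso _ hV.2 hW.fromSpec N e,
    ⟨((resTrans V.ι hW.fromSpec j rfl).app M).symm ≪≫ e⟩⟩

theorem isCoh_of_isZero {M : X.Modules} (h : IsZero M) : Coh.IsCoh M := by
  refine Groth.L16.CohKernel.isCoh_of_tilde_charts _ fun x => ?_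
  obtain ⟨_, ⟨U, hU, rfl⟩, hxU, -⟩ :=
    X.isBasis_affineOpens.exists_subset_of_mem_open (Set.mem_univ x) isOpen_univ
  exact ⟨_, hU.fromSpec, inferInstance, ModuleCat.of Γ(X, U) PUnit, hU.opensRange_fromSpec.ge hxU, inferInstance,
    ⟨((Scheme.Modules.restrictFunctor hU.fromSpec).map_isZero h).iso
      ((tilde.functor Γ(X, U)).map_isZero (ModuleCat.isZero_of_subsingleton _))⟩⟩

variable [IsLocallyNoetherian X]

theorem cohD_of_iso {K L : DCoh.D X} (e : K ≅ L) (h : DCoh.IsCohD K) : DCoh.IsCohD L :=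
  fun i => Groth.L16.CohSupport.isCoh_of_iso ((DerivedCategory.homologyFunctor _ i).mapIso e) (h i)

theorem cohD_of_isZero {K : DCoh.D X} (h : IsZero K) : DCoh.IsCohD K :=
  fun i => isCoh_of_isZero ((DerivedCategory.homologyFunctor _ i).map_isZero h)

theorem cohD_restrictD (V : X.Opens) {K : DCoh.D X} (h : DCoh.IsCohD K) :
    DCoh.IsCohD ((DCoh.restrictD V.ι).obj K) := fun i =>
  Groth.L16.CohSupport.isCoh_of_iso (HDResIso V.ι K i).symm (isCoh_restrict V.ι (h i))

theorem cohD_of_cover {K : DCoh.D X}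
    (h : ∀ x : X, ∃ (V : X.Opens), x ∈ V ∧ DCoh.IsCohD ((DCoh.restrictD V.ι).obj K)) : DCoh.IsCohD K :=
  fun i => isCoh_of_cover fun x => by
    obtain ⟨V, hx, hV⟩ := h x
    exact ⟨V, hx, Groth.L16.CohSupport.isCoh_of_iso (HDResIso V.ι K i) (hV i)⟩

/-- internal Hom out of `E` keeps coherent cohomology -/
structure RPres (E : CochainComplex X.Modules ℤ) : Prop where
  pres : ∀ [DCoh.HasLTensorCx E] [DCoh.HasRSheafHom E] (L : DCoh.D X),
    DCoh.IsCohD L → DCoh.IsCohD ((DCoh.RSheafHom E).obj L)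

/-- invariance under quasi-isomorphisms -/
theorem rPres_iff_qis {E E' : CochainComplex X.Modules ℤ} (g : E' ⟶ E) [QuasiIso g] : RPres E' ↔ RPres E := by
  haveI := KFlat.hasLTensorCx E
  haveI := KFlat.hasLTensorCx E'
  haveI := hasRSheafHom E
  haveI := hasRSheafHom E'
  haveI := isIso_ltMap g
  let i : DCoh.RSheafHom E ≅ DCoh.RSheafHom E' :=
    ((DCoh.RSheafHomAdj E).ofNatIsoLeft (asIso (ltMap g)).symm).rightAdjointUniq (DCoh.RSheafHomAdj E')
  exact ⟨fun h => ⟨fun L hL => cohD_of_iso (i.app L).symm (h.pres L hL)⟩,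
    fun h => ⟨fun L hL => cohD_of_iso (i.app L) (h.pres L hL)⟩⟩

/-- invariance under isomorphisms in the derived category -/
theorem rPres_of_toD_iso {E E' : CochainComplex X.Modules ℤ} (e : DCoh.toD X E ≅ DCoh.toD X E') (h : RPres E) :
    RPres E' := by
  obtain ⟨R, s, hs, g, hg⟩ := DerivedCategory.right_fac e.hom
  haveI : IsIso (DerivedCategory.Q.map g) := by
    rw [show DerivedCategory.Q.map g = DerivedCategory.Q.map s ≫ e.hom by rw [hg, IsIso.hom_inv_id_assoc]]
    infer_instance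
  haveI : QuasiIso s := (DerivedCategory.isIso_Q_map_iff_quasiIso _ s).1 inferInstance
  haveI : QuasiIso g := (DerivedCategory.isIso_Q_map_iff_quasiIso _ g).1 inferInstance
  exact (rPres_iff_qis g).1 ((rPres_iff_qis s).2 h)

theorem rPres_of_acyclic {E : CochainComplex X.Modules ℤ} (hE : E.Acyclic) : RPres E :=
  ⟨fun L _ => cohD_of_isZero (isZero_RSheafHom hE L)⟩

section Split

variable (S : ShortComplex (CochainComplex X.Modules ℤ))
variable (σ : ∀ n, (S.map (HomologicalComplex.eval X.Modules (ComplexShape.up ℤ) n)).Splitting)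

include σ

/-- two out of three, first term -/
theorem rPres_first (h₂ : RPres S.X₂) (h₃ : RPres S.X₃) : RPres S.X₁ := by
  refine ⟨fun {_} {_} L hL => ?_⟩
  haveI := KFlat.hasLTensorCx S.X₂
  haveI := KFlat.hasLTensorCx S.X₃
  haveI := hasRSheafHom S.X₂
  haveI := hasRSheafHom S.X₃
  haveI := QRlim.enoughKInj X
  exact FiveRight.first_of (fun N : X.Modules => Coh.IsCoh N) (fun e h => Groth.L16.CohSupport.isCoh_of_iso e h)
    (fun φ a b => (Groth.L16.CohKernel.isCoh_kernel_cokernel a b φ).1) (fun φ a b => (Groth.L16.CohKernel.isCoh_kernel_cokernel a b φ).2)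
    (fun T hT a b => Groth.L17.CohClass.isCoh_of_shortExact T hT a b)
    ((DCoh.tensorCx (X := X)).flip.map S.f) ((DCoh.tensorCx (X := X)).flip.map S.g)
    (flip_comp_zero S) (flip_shortExact S σ)
    (DCoh.RSheafHomAdj S.X₁) (DCoh.RSheafHomAdj S.X₂) (DCoh.RSheafHomAdj S.X₃)
    ((DCoh.tensorCxQ S.X₁).totalLeftDerivedCounit DerivedCategory.Q _)
    ((DCoh.tensorCxQ S.X₂).totalLeftDerivedCounit DerivedCategory.Q _)
    ((DCoh.tensorCxQ S.X₃).totalLeftDerivedCounit DerivedCategory.Q _)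
    DCoh.IsKFlat (fun P hP => Assoc.isIso_counit _ P hP) (fun P hP => Assoc.isIso_counit _ P hP)
    (fun P hP => Assoc.isIso_counit _ P hP) (exists_good S σ) (ltMap S.f) (ltMap S.g)
    (fun P => ltMap_fac S.f P) (fun P => ltMap_fac S.g P) h₂.pres h₃.pres L hL

/-- outer terms around an acyclic complex -/
theorem rPres_outer (hz : S.X₂.Acyclic) : RPres S.X₁ ↔ RPres S.X₃ := by
  haveI := KFlat.hasLTensorCx S.X₁
  haveI := KFlat.hasLTensorCx S.X₂
  haveI := KFlat.hasLTensorCx S.X₃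
  haveI := hasRSheafHom S.X₁
  haveI := hasRSheafHom S.X₂
  haveI := hasRSheafHom S.X₃
  haveI := QRlim.enoughKInj X
  have key := FiveRight.iso_of_zero ((DCoh.tensorCx (X := X)).flip.map S.f) ((DCoh.tensorCx (X := X)).flip.map S.g)
    (flip_comp_zero S) (flip_shortExact S σ)
    (DCoh.RSheafHomAdj S.X₁) (DCoh.RSheafHomAdj S.X₂) (DCoh.RSheafHomAdj S.X₃)
    ((DCoh.tensorCxQ S.X₁).totalLeftDerivedCounit DerivedCategory.Q _)
    ((DCoh.tensorCxQ S.X₂).totalLeftDerivedCounit DerivedCategory.Q _)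
    ((DCoh.tensorCxQ S.X₃).totalLeftDerivedCounit DerivedCategory.Q _)
    DCoh.IsKFlat (fun P hP => Assoc.isIso_counit _ P hP) (fun P hP => Assoc.isIso_counit _ P hP)
    (fun P hP => Assoc.isIso_counit _ P hP) (exists_good S σ) (ltMap S.f) (ltMap S.g)
    (fun P => ltMap_fac S.f P) (fun P => ltMap_fac S.g P) (fun L => isZero_RSheafHom hz L)
  have hsh : ∀ {L : DCoh.D X}, DCoh.IsCohD L → ∀ n : ℤ, DCoh.IsCohD (L⟦n⟧) := fun h n =>
    FiveRight.PD_shift (fun N : X.Modules => Coh.IsCoh N) (fun e h => Groth.L16.CohSupport.isCoh_of_iso e h) h n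
  refine ⟨fun h => ⟨fun L hL => ?_⟩, fun h => ⟨fun L hL => ?_⟩⟩
  · obtain ⟨i⟩ := key (L⟦(-1 : ℤ)⟧)
    exact cohD_of_iso (i ≪≫ (DCoh.RSheafHom S.X₃).mapIso
      ((shiftEquiv' (DCoh.D X) (-1 : ℤ) 1 (by omega)).unitIso.app L).symm) (h.pres _ (hsh hL (-1)))
  · obtain ⟨i⟩ := key L
    exact cohD_of_iso i.symm (h.pres _ (hsh hL 1))

end Split

/-- shifting by one -/
theorem rPres_shift_one (E : CochainComplex X.Modules ℤ) : RPres E ↔ RPres (E⟦(1 : ℤ)⟧) :=
  rPres_outer (mappingCone.triangleRotateShortComplex (𝟙 E)) (mappingCone.triangleRotateShortComplexSplitting (𝟙 E))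
    (fun i => (HomologicalComplex.exactAt_iff_isZero_homology _ _).2 (ConeTransfer.acyclic_cone (𝟙 E) i))

theorem rPres_of_iso {E E' : CochainComplex X.Modules ℤ} (e : E ≅ E') (h : RPres E) : RPres E' :=
  (rPres_iff_qis e.hom).1 h

/-- shifting -/
theorem rPres_shift (E : CochainComplex X.Modules ℤ) (n : ℤ) : RPres (E⟦n⟧) ↔ RPres E := by
  have step : ∀ m : ℤ, RPres (E⟦m⟧) ↔ RPres (E⟦m + 1⟧) := fun m => (rPres_shift_one _).trans
    ⟨rPres_of_iso ((shiftFunctorAdd _ m 1).app E).symm, rPres_of_iso ((shiftFunctorAdd _ m 1).app E)⟩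
  induction n using Int.induction_on with
  | zero => exact ⟨rPres_of_iso ((shiftFunctorZero _ ℤ).app E), rPres_of_iso ((shiftFunctorZero _ ℤ).app E).symm⟩
  | succ m ih => exact (step m).symm.trans ih
  | pred m ih => exact (by have := step (-(m : ℤ) - 1); rwa [sub_add_cancel] at this : RPres _ ↔ RPres _).trans ih

/-- two out of three, middle term -/
theorem rPres_middle (S : ShortComplex (CochainComplex X.Modules ℤ))
    (σ : ∀ n, (S.map (HomologicalComplex.eval X.Modules (ComplexShape.up ℤ) n)).Splitting)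
    (h₁ : RPres S.X₁) (h₃ : RPres S.X₃) : RPres S.X₂ := by
  have hS : S.ShortExact := HomologicalComplex.shortExact_of_degreewise_shortExact _ fun n => (σ n).shortExact
  haveI := mappingCone.quasiIso_descShortComplex hS
  exact rPres_first (mappingCone.triangleRotateShortComplex S.f)
    (mappingCone.triangleRotateShortComplexSplitting S.f)
    ((rPres_iff_qis (mappingCone.descShortComplex S)).2 h₃) ((rPres_shift _ 1).2 h₁)

theorem rPres_O0 : RPres (O0 X) := by
  refine ⟨fun {_} {_} L hL => ?_⟩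
  obtain ⟨i⟩ := nonempty_RSheafHom_O0 (X := X)
  exact cohD_of_iso (i.app L).symm hL

/-- `RPres` for a module in degree zero -/
abbrev RPres₀ (M : X.Modules) : Prop :=
  RPres ((HomologicalComplex.single X.Modules (ComplexShape.up ℤ) 0).obj M)

theorem rPres_single_iff (M : X.Modules) (n : ℤ) :
    RPres ((HomologicalComplex.single X.Modules (ComplexShape.up ℤ) n).obj M) ↔ RPres₀ M := by
  let e := ((CochainComplex.singleFunctors X.Modules).shiftIso (-n) n 0 (by omega)).app M
  exact ⟨fun h => (rPres_shift _ (-n)).1 (rPres_of_iso e.symm h),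
    fun h => rPres_of_iso e ((rPres_shift _ (-n)).2 h)⟩

theorem rPres₀_biprod {M N : X.Modules} (hM : RPres₀ M) (hN : RPres₀ N) : RPres₀ (M ⊞ N) :=
  let s := HomologicalComplex.single X.Modules (ComplexShape.up ℤ) 0
  rPres_middle ((ShortComplex.mk (biprod.inl : M ⟶ M ⊞ N) biprod.snd (by simp)).map s)
    (fun n => ((ShortComplex.Splitting.ofHasBinaryBiproduct M N).map
      (s ⋙ HomologicalComplex.eval X.Modules (ComplexShape.up ℤ) n))) hM hN

theorem rPres₀_coprod : ∀ (n : ℕ) (M : Fin n → X.Modules), (∀ i, RPres₀ (M i)) → RPres₀ (∐ M) := by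
  intro n
  induction n with
  | zero =>
    intro M _
    refine rPres_of_acyclic fun i => ?_
    exact ShortComplex.exact_of_isZero_X₂ _ ((HomologicalComplex.eval X.Modules _ i).map_isZero
      ((HomologicalComplex.single X.Modules (ComplexShape.up ℤ) 0).map_isZero
        ((IsZero.iff_id_eq_zero _).2 (Sigma.hom_ext _ _ fun i => i.elim0))))
  | succ n ih =>
    intro M h
    exact rPres_of_iso ((HomologicalComplex.single X.Modules (ComplexShape.up ℤ) 0).mapIso (coprodFinSuccIso M).symm)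
      (rPres₀_biprod (h 0) (ih _ fun i => h i.succ))

theorem rPres₀_freeMod (n : ℕ) : RPres₀ (FlatMod.freeMod X n) :=
  rPres₀_coprod n _ fun _ => rPres_O0

/-- locality -/
theorem rPres_of_local {E : CochainComplex X.Modules ℤ}
    (h : ∀ x : X, ∃ V : X.Opens, x ∈ V ∧ RPres ((DCoh.restrictCx V).obj E)) : RPres E := by
  refine ⟨fun {_} {_} L hL => cohD_of_cover fun x => ?_⟩
  obtain ⟨V, hx, hV⟩ := h x
  haveI := KFlat.hasLTensorCx ((ExtZero.rCx V.ι).obj E)
  haveI := hasRSheafHom ((ExtZero.rCx V.ι).obj E)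
  obtain ⟨i⟩ := ExtZero.nonempty_res_RSheafHom V.ι E
  exact ⟨V, hx, cohD_of_iso (i.app L).symm (hV.pres _ (cohD_restrictD V hL))⟩

/-- locally free modules -/
theorem rPres₀_of_isFinLocFree {M : X.Modules} (hM : FlatMod.IsFinLocFree M) : RPres₀ M :=
  rPres_of_local fun x => by
    obtain ⟨V, n, hx, ⟨i⟩⟩ := hM x
    exact ⟨V, hx, rPres_of_iso
      ((HomologicalComplex.singleMapHomologicalComplex (Scheme.Modules.restrictFunctor V.ι)
        (ComplexShape.up ℤ) 0).app M ≪≫ (HomologicalComplex.single _ (ComplexShape.up ℤ) 0).mapIso i).symm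
      (rPres₀_freeMod n)⟩

theorem rPres_of_bounded : ∀ (k : ℕ) (E : CochainComplex X.Modules ℤ) (a b : ℤ), b - a < k →
    DCoh.VanishesOutside E a b → (∀ i, FlatMod.IsFinLocFree (E.X i)) → RPres E := by
  intro k
  induction k with
  | zero =>
    intro E a b hab hv _
    exact rPres_of_acyclic fun i => ShortComplex.exact_of_isZero_X₂ _ (hv i (by omega))
  | succ k ih =>
    intro E a b hab hv hf
    refine rPres_middle (brutalSC E (a + 1)) (brutalSplit E (a + 1)) (ih _ (a + 1) b (by omega) ?_ ?_) ?_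
    · intro i hi
      rcases lt_or_ge i (a + 1) with h | h
      · exact isZero_brutal_X E _ h
      · haveI : Mono ((brutalι E (a + 1)).f i) := inferInstanceAs (Mono (kernel.ι _))
        exact (hv i (by omega)).of_mono ((brutalι E (a + 1)).f i)
    · intro i
      rcases lt_or_ge i (a + 1) with h | h
      · exact Groth.L29.LocFree.of_isZero (isZero_brutal_X E _ h)
      · haveI := isIso_brutalι E (a + 1) h
        exact Groth.L29.LocFree.of_iso (asIso ((brutalι E (a + 1)).f i)).symm (hf i)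
    · obtain ⟨M, hM, ⟨e⟩⟩ := brutal_quotient E a b hv hf
      exact rPres_of_iso e.symm ((rPres_single_iff M a).2 (rPres₀_of_isFinLocFree hM))

theorem rPres_of_isStrictlyPerfect {E : CochainComplex X.Modules ℤ} (hE : DCoh.IsStrictlyPerfect E) : RPres E := by
  obtain ⟨⟨a, b, hv⟩, hf⟩ := hE
  exact rPres_of_bounded ((b - a).toNat + 1) E a b (by omega) hv hf


/-- one degree, with a global approximation -/
theorem isCoh_HD_of_wit (K : CochainComplex X.Modules ℤ) [DCoh.HasLTensorCx K] [DCoh.HasRSheafHom K]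
    (m : ℤ) {E : CochainComplex X.Modules ℤ} (hE : DCoh.IsStrictlyPerfect E)
    (α : DCoh.toD X E ⟶ DCoh.toD X K) (hα : Approx α m)
    (L : DCoh.D X) (hL : DCoh.IsCohD L) (r : ℤ) (hLr : L.IsGE r) (j : ℤ) (hj : j < r - m) :
    Coh.IsCoh (DCoh.HD ((DCoh.RSheafHom K).obj L) j) := by
  obtain ⟨R, s, hs, g, hg⟩ := DerivedCategory.right_fac α
  haveI : QuasiIso s := (DerivedCategory.isIso_Q_map_iff_quasiIso _ s).1 hs
  haveI := hs
  have hgA : Approx (DerivedCategory.Q.map g) m := by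
    rw [show DerivedCategory.Q.map g = DerivedCategory.Q.map s ≫ α by rw [hg, IsIso.hom_inv_id_assoc]]
    exact (Approx.of_isIso _ m).comp hα
  let S := mappingCone.triangleRotateShortComplex g
  haveI := KFlat.hasLTensorCx S.X₂
  haveI := KFlat.hasLTensorCx S.X₃
  haveI := hasRSheafHom S.X₂
  haveI := hasRSheafHom S.X₃
  haveI := QRlim.enoughKInj X
  haveI : DCoh.HasLTensorCx S.X₁ := inferInstanceAs (DCoh.HasLTensorCx K)
  haveI : DCoh.HasRSheafHom S.X₁ := inferInstanceAs (DCoh.HasRSheafHom K)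
  have hC : (DCoh.toD X S.X₂).IsLE (m - 1) := (approx_Q_map_iff g m).1 hgA
  have h₃ : RPres S.X₃ :=
    (rPres_shift R 1).2 ((rPres_iff_qis s).2 (rPres_of_isStrictlyPerfect hE))
  have hz : ∀ (L' : DCoh.D X) (r' : ℤ), L'.IsGE r' → j < r' - (m - 1) →
      Coh.IsCoh (DCoh.HD ((DCoh.RSheafHom S.X₂).obj L') j) := fun L' r' h' hj' =>
    haveI := isGE_RSheafHom S.X₂ (m - 1) hC L' r' h'
    isCoh_of_isZero (DerivedCategory.isZero_of_isGE _ (r' - (m - 1)) j hj')
  have hL1 : DCoh.IsCohD (L⟦(1 : ℤ)⟧) :=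
    FiveRight.PD_shift (fun N : X.Modules => Coh.IsCoh N) (fun e h => Groth.L16.CohSupport.isCoh_of_iso e h) hL 1
  exact FiveRight.first_of_at (fun N : X.Modules => Coh.IsCoh N)
    (fun φ a b => (Groth.L16.CohKernel.isCoh_kernel_cokernel a b φ).1) (fun φ a b => (Groth.L16.CohKernel.isCoh_kernel_cokernel a b φ).2)
    (fun T hT a b => Groth.L17.CohClass.isCoh_of_shortExact T hT a b)
    ((DCoh.tensorCx (X := X)).flip.map S.f) ((DCoh.tensorCx (X := X)).flip.map S.g)
    (flip_comp_zero S) (flip_shortExact S (mappingCone.triangleRotateShortComplexSplitting g))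
    (DCoh.RSheafHomAdj S.X₁) (DCoh.RSheafHomAdj S.X₂) (DCoh.RSheafHomAdj S.X₃)
    ((DCoh.tensorCxQ S.X₁).totalLeftDerivedCounit DerivedCategory.Q _)
    ((DCoh.tensorCxQ S.X₂).totalLeftDerivedCounit DerivedCategory.Q _)
    ((DCoh.tensorCxQ S.X₃).totalLeftDerivedCounit DerivedCategory.Q _)
    DCoh.IsKFlat (fun P hP => Assoc.isIso_counit _ P hP) (fun P hP => Assoc.isIso_counit _ P hP)
    (fun P hP => Assoc.isIso_counit _ P hP) (exists_good S (mappingCone.triangleRotateShortComplexSplitting g))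
    (ltMap S.f) (ltMap S.g) (fun P => ltMap_fac S.f P) (fun P => ltMap_fac S.g P) L j
    (hz L r hLr (by omega)) (hz _ (r - 1) (isGE_shift hLr 1) (by omega))
    (h₃.pres L hL j) (h₃.pres _ hL1 j)

/-- pseudo-coherent into bounded below, one degree -/
theorem isCoh_HD_of_pseudoCoherent (K : CochainComplex X.Modules ℤ) (m : ℤ)
    (hK : DCoh.IsPseudoCoherentD m (DCoh.toD X K)) [DCoh.HasLTensorCx K] [DCoh.HasRSheafHom K]
    (L : DCoh.D X) (hL : DCoh.IsCohD L) (r : ℤ) (hLr : L.IsGE r) (j : ℤ) (hj : j < r - m) :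
    Coh.IsCoh (DCoh.HD ((DCoh.RSheafHom K).obj L) j) := by
  refine isCoh_of_cover fun x => ?_
  obtain ⟨V, hx, hV⟩ := hK x
  obtain ⟨E, α, hE, h1, h2⟩ := hV K ⟨Iso.refl _⟩
  let K' := (ExtZero.rCx V.ι).obj K
  haveI := KFlat.hasLTensorCx K'
  haveI := hasRSheafHom K'
  obtain ⟨i⟩ := ExtZero.nonempty_res_RSheafHom V.ι K
  refine ⟨V, hx, Groth.L16.CohSupport.isCoh_of_iso ((DerivedCategory.homologyFunctor _ j).mapIso (i.app L).symm ≪≫ HDResIso V.ι _ j)
    (isCoh_HD_of_wit K' m hE α ⟨h1, h2⟩ _ (cohD_restrictD V hL) r ?_ j hj)⟩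
  exact ((DCoh.restrictD V.ι).obj L).isGE_iff r |>.2 fun k hk =>
    ((Scheme.Modules.restrictFunctor V.ι).map_isZero (DerivedCategory.isZero_of_isGE L r k hk)).of_iso
      (HDResIso V.ι L k)

end Groth.L29.DC.RHomC
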