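import Groth.Agent.L29.DCoh.Triangle

/-!
Pseudo-coherence of direct summands.
-/

set_option autoImplicit false
set_option backward.isDefEq.respectTransparency false
set_option backward.isDefEq.respectTransparency.types false

universe u

open CategoryTheory CategoryTheory.Limits AlgebraicGeometry CochainComplex Pretriangulated

attribute [local instance] HasDerivedCategory.standard

namespace Groth.L29.DC

attribute [local instance] preservesBinaryBiproducts_of_preservesBiproducts Functor.preservesFiniteBiproductsOfAdditive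

variable {X : Scheme.{u}}

/-- monotonicity in `m` -/
theorem pc_mono {m n : ℤ} (h : m ≤ n) {K : DCoh.D X} (hK : DCoh.IsPseudoCoherentD m K) :
    DCoh.IsPseudoCoherentD n K := by
  rcases h.eq_or_lt with rfl | h
  · exact hK
  rw [isPC_iff_wit] at hK ⊢
  intro x
  obtain ⟨V, hx, E, α, hE, h1, -⟩ := hK x
  exact ⟨V, hx, E, α, hE, fun i hi => h1 i (by omega), haveI := h1 n h; inferInstance⟩

theorem isStrictlyPerfect_of_isZero {E : CochainComplex X.Modules ℤ} (h : ∀ i, IsZero (E.X i)) :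
    DCoh.IsStrictlyPerfect E :=
  ⟨⟨0, 0, fun i _ => h i⟩, fun i => Groth.L29.LocFree.of_isZero (h i)⟩

/-- objects vanishing in high degrees are pseudo-coherent there -/
theorem wit_of_isZero {n : ℤ} {K : DCoh.D X} (h : ∀ i, n ≤ i → IsZero (DCoh.HD K i)) : Wit n K :=
  ⟨HomologicalComplex.zero, 0,
    isStrictlyPerfect_of_isZero fun i =>
      (HomologicalComplex.eval X.Modules (ComplexShape.up ℤ) i).map_isZero HomologicalComplex.isZero_zero,
    fun i hi => isIso_of_source_target_iso_zero _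
      ((DerivedCategory.homologyFunctor X.Modules i).map_isZero
        (DerivedCategory.Q.map_isZero HomologicalComplex.isZero_zero)).isoZero (h i hi.le).isoZero,
    (h n le_rfl).epi _⟩

theorem pc_of_isZero {n : ℤ} {K : DCoh.D X} (h : ∀ i, n ≤ i → IsZero (DCoh.HD K i)) :
    DCoh.IsPseudoCoherentD n K := pc_of_on fun x =>
  ⟨_, (⊤ : X.Opens).ι, inferInstance, by simp, (wit_of_isZero h).restrict _⟩

/-- pseudo-coherent objects vanish in high degrees when witnessed -/
theorem Wit.exists_isZero {m : ℤ} {K : DCoh.D X} (h : Wit m K) :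
    ∃ N : ℤ, m ≤ N ∧ ∀ i, N ≤ i → IsZero (DCoh.HD K i) := by
  obtain ⟨E, α, ⟨⟨a, b, hv⟩, -⟩, hα⟩ := h
  refine ⟨max (m + 1) (b + 1), by omega, fun i hi => ?_⟩
  haveI := hα.1 i (by omega)
  refine IsZero.of_iso ?_ (asIso ((DerivedCategory.homologyFunctor X.Modules i).map α)).symm
  exact (ShortComplex.isZero_homology_of_isZero_X₂ _ (hv i (Or.inr (by omega)))).of_iso
    ((DerivedCategory.homologyFunctorFactors X.Modules i).app E)

theorem pc_of_biprod_aux (m : ℤ) (K L : DCoh.D X) (N : ℤ) (hN : m ≤ N)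
    (hK : ∀ i, N ≤ i → IsZero (DCoh.HD K i)) (hL : ∀ i, N ≤ i → IsZero (DCoh.HD L i))
    (h : DCoh.IsPseudoCoherentD m (K ⊞ L)) :
    DCoh.IsPseudoCoherentD m K ∧ DCoh.IsPseudoCoherentD m L := by
  suffices ∀ k : ℕ, m ≤ N - k → DCoh.IsPseudoCoherentD (N - k) K ∧ DCoh.IsPseudoCoherentD (N - k) L by
    obtain ⟨k, hk⟩ := Int.eq_ofNat_of_zero_le (show 0 ≤ N - m by omega)
    have := this k (by omega)
    rwa [show N - (k : ℤ) = m by omega] at this
  intro k
  induction k with
  | zero => intro _; simpa using ⟨pc_of_isZero hK, pc_of_isZero hL⟩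
  | succ k ih =>
    intro hk
    obtain ⟨iK, iL⟩ := ih (by omega)
    rw [show N - (k : ℤ) = N - ((k + 1 : ℕ) : ℤ) + 1 by push_cast; ring] at iK iL
    have hs := pc_mono hk h
    exact ⟨(pc_third (binaryBiproductTriangle_distinguished L K) iL
        (isPseudoCoherentD_of_iso (biprod.braiding K L) hs) :),
      (pc_third (binaryBiproductTriangle_distinguished K L) iK hs :)⟩

/-- direct summands of pseudo-coherent objects are pseudo-coherent -/
theorem pc_of_biprod {m : ℤ} (K L : DCoh.D X) (h : DCoh.IsPseudoCoherentD m (K ⊞ L)) :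
    DCoh.IsPseudoCoherentD m K ∧ DCoh.IsPseudoCoherentD m L := by
  rw [isPC_iff_wit] at h
  have key : ∀ x : X, ∃ V : X.Opens, x ∈ V ∧ DCoh.IsPseudoCoherentD m ((resD V).obj K) ∧
      DCoh.IsPseudoCoherentD m ((resD V).obj L) := by
    intro x
    obtain ⟨V, hx, hV⟩ := h x
    have hw : Wit m ((resD V).obj K ⊞ (resD V).obj L) := wit_iso ((resD V).mapBiprod K L) hV
    obtain ⟨N, hmN, hz⟩ := hw.exists_isZero
    have hz' : ∀ i, N ≤ i → IsZero (DCoh.HD ((resD V).obj K) i) ∧ IsZero (DCoh.HD ((resD V).obj L) i) :=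
      fun i hi => (biprod_isZero_iff _ _).1
        ((hz i hi).of_iso ((DerivedCategory.homologyFunctor _ i).mapBiprod _ _).symm)
    exact ⟨V, hx, pc_of_biprod_aux m _ _ N hmN (fun i hi => (hz' i hi).1) (fun i hi => (hz' i hi).2)
      (pc_of_on fun y => ⟨_, (⊤ : (V : Scheme.{u}).Opens).ι, inferInstance, by simp, hw.restrict _⟩)⟩
  constructor
  · refine pc_of_on fun x => ?_
    obtain ⟨V, hx, hK, -⟩ := key x
    obtain ⟨W, hW, w⟩ := (isPC_iff_wit m _).1 hK ⟨x, hx⟩
    exact ⟨_, W.ι ≫ V.ι, inferInstance, mem_opensRange_comp hx hW,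
      wit_iso ((resTransD V.ι W.ι (W.ι ≫ V.ι) rfl).app K) w⟩
  · refine pc_of_on fun x => ?_
    obtain ⟨V, hx, -, hL⟩ := key x
    obtain ⟨W, hW, w⟩ := (isPC_iff_wit m _).1 hL ⟨x, hx⟩
    exact ⟨_, W.ι ≫ V.ι, inferInstance, mem_opensRange_comp hx hW,
      wit_iso ((resTransD V.ι W.ι (W.ι ≫ V.ι) rfl).app L) w⟩

end Groth.L29.DC
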