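import Groth.Agent.L29.DCoh.CokerLocFree
import Groth.Agent.L29.DCoh.Summand
import Groth.Agent.L00.TorFlat
import Groth.Agent.L07.Syzygy
import Mathlib.Algebra.Homology.Embedding.CochainComplex

/-!
Pseudo-coherent objects of finite tor amplitude are perfect.
-/

set_option autoImplicit false
set_option backward.isDefEq.respectTransparency false
set_option backward.isDefEq.respectTransparency.types false

universe u

open CategoryTheory CategoryTheory.Limits AlgebraicGeometry Opposite CochainComplex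

attribute [local instance] HasDerivedCategory.standard

namespace Groth.L29.DC

variable {X : Scheme.{u}}

/-- in an exact bounded above complex of flat modules the cocycles are flat -/
theorem flat_ker_of_exact {A : Type u} [CommRing A] (C : CochainComplex (ModuleCat.{u} A) ℤ) (c B : ℤ)
    (hflat : ∀ n, Module.Flat A (C.X n)) (hB : ∀ n, B < n → IsZero (C.X n))
    (hex : ∀ n, c ≤ n → C.ExactAt n) :
    ∀ n, c ≤ n + 0 → Module.Flat A (LinearMap.ker (C.d n (n + 1)).hom) := by
  suffices ∀ k : ℕ, ∀ n, c ≤ n → B < n + k → Module.Flat A (LinearMap.ker (C.d n (n + 1)).hom) by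
    intro n hn
    exact this (B - n + 1).toNat n (by omega) (by omega)
  intro k
  induction k with
  | zero =>
    intro n _ hn
    haveI := ModuleCat.subsingleton_of_isZero (hB n (by omega))
    haveI : Subsingleton (LinearMap.ker (C.d n (n + 1)).hom) := inferInstance
    exact inferInstance
  | succ k ih =>
    intro n hn hn'
    have h1 := ih (n + 1) (by omega) (by omega)
    have he : LinearMap.range (C.d n (n + 1)).hom = LinearMap.ker (C.d (n + 1) (n + 1 + 1)).hom := by
      have := ((C.exactAt_iff' n (n + 1) (n + 1 + 1) (CochainComplex.prev ℤ _ ▸ by simp) (CochainComplex.next ℤ _)).1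
        (hex (n + 1) (by omega)))
      exact (ShortComplex.moduleCat_exact_iff_range_eq_ker _).1 this
    haveI := hflat n
    haveI : Module.Flat A (LinearMap.range (C.d n (n + 1)).hom) := he ▸ h1
    have := Groth.L07.FlatDescent.flat_ker (C.d n (n + 1)).hom.rangeRestrict (LinearMap.surjective_rangeRestrict _)
    rwa [LinearMap.ker_rangeRestrict] at this

/-- exactness above makes the cokernel flat -/
theorem isFlat_cokernel_of_exact (M : CochainComplex X.Modules ℤ) (hflat : ∀ n, FlatMod.IsFlat (M.X n))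
    (B c : ℤ) (hB : ∀ n, B < n → IsZero (M.X n)) (hex : ∀ n, c ≤ n → M.ExactAt n) :
    FlatMod.IsFlat (cokernel (M.d (c - 1) c)) := fun x => by
  let F := Groth.L00.Stk.F X x
  let C := (F.mapHomologicalComplex (ComplexShape.up ℤ)).obj M
  have hexC : ∀ n, c ≤ n → C.ExactAt n := fun n hn => (hex n hn).map F
  haveI := flat_ker_of_exact C c B (fun n => hflat n x) (fun n hn => F.map_isZero (hB n hn)) hexC (c + 1) (by omega)
  have e1 := (C.exactAt_iff' (c - 1) c (c + 1) (CochainComplex.prev ℤ c) (CochainComplex.next ℤ c)).1 (hexC c le_rfl)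
  have e2 := (C.exactAt_iff' c (c + 1) (c + 1 + 1) (CochainComplex.prev ℤ _ ▸ by simp) (CochainComplex.next ℤ _)).1
    (hexC (c + 1) (by omega))
  rw [ShortComplex.moduleCat_exact_iff_range_eq_ker] at e1 e2
  have e : (C.X c ⧸ LinearMap.range (C.d (c - 1) c).hom) ≃ₗ[X.presheaf.stalk x]
      LinearMap.ker (C.d (c + 1) (c + 1 + 1)).hom :=
    (Submodule.quotEquivOfEq _ _ e1).trans
      ((C.d c (c + 1)).hom.quotKerEquivRange.trans (LinearEquiv.ofEq _ _ e2))
  exact Module.Flat.of_linearEquiv
    ((PreservesCokernel.iso F (M.d (c - 1) c) ≪≫ ModuleCat.cokernelIsoRangeQuotient _).toLinearEquiv.trans e)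

theorem isIso_homologyMap_of_Q {C : Type*} [Category C] [Abelian C] [HasDerivedCategory C]
    {K L : CochainComplex C ℤ} (β : K ⟶ L) (i : ℤ)
    (h : IsIso ((DerivedCategory.homologyFunctor C i).map (DerivedCategory.Q.map β))) :
    IsIso (HomologicalComplex.homologyMap β i) :=
  (NatIso.isIso_map_iff (DerivedCategory.homologyFunctorFactors C i) β).1 h

attribute [local instance] preservesBinaryBiproducts_of_preservesBinaryCoproducts

/-- approximations of complexes of tor amplitude `≥ a` to order `a - 1` truncate to strictly perfect models -/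
theorem isStrictlyPerfect_truncGE {P F : CochainComplex X.Modules ℤ} (β : P ⟶ F) (a b : ℤ)
    (hP : DCoh.IsStrictlyPerfect P) (hF : DCoh.VanishesOutside F a b) (hFf : ∀ i, FlatMod.IsFlat (F.X i))
    (hβ : Approx (DerivedCategory.Q.map β) (a - 1)) :
    DCoh.IsStrictlyPerfect (P.truncGE a) ∧
      Nonempty (DerivedCategory.Q.obj F ≅ DerivedCategory.Q.obj (P.truncGE a)) := by
  obtain ⟨⟨a', b', hv⟩, hPf⟩ := hP
  have hLE : DerivedCategory.IsLE (DerivedCategory.Q.obj (mappingCone β)) (a - 1 - 1) :=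
    (approx_Q_map_iff β (a - 1)).1 hβ
  have hzP : ∀ n, b' < n → IsZero (P.X n) := fun n hn => hv n (Or.inr hn)
  have hMiso : ∀ n, Nonempty ((mappingCone β).X n ≅ P.X (n + 1) ⊞ F.X n) := fun n =>
    ⟨HomologicalComplex.homotopyCofiber.XIsoBiprod β n (n + 1) rfl⟩
  have hMflat : ∀ n, FlatMod.IsFlat ((mappingCone β).X n) := fun n x => by
    obtain ⟨e⟩ := hMiso n
    haveI : Module.Flat (X.presheaf.stalk x) ((Groth.L00.Stk.F X x).obj (P.X (n + 1))) :=
      isFlat_of_isFinLocFree (hPf _) x
    haveI : Module.Flat (X.presheaf.stalk x) ((Groth.L00.Stk.F X x).obj (F.X n)) := hFf n x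
    haveI := Groth.L00.KFlat.flat_prod (A := X.presheaf.stalk x) ((Groth.L00.Stk.F X x).obj (P.X (n + 1)))
      ((Groth.L00.Stk.F X x).obj (F.X n))
    haveI : Module.Flat (X.presheaf.stalk x) (ModuleCat.of (X.presheaf.stalk x)
      (((Groth.L00.Stk.F X x).obj (P.X (n + 1))) × ((Groth.L00.Stk.F X x).obj (F.X n)))) := this
    exact Module.Flat.of_linearEquiv (((Groth.L00.Stk.F X x).mapIso e) ≪≫
      (Groth.L00.Stk.F X x).mapBiprod _ _ ≪≫ ModuleCat.biprodIsoProd _ _).toLinearEquiv
  have hMzero : ∀ n, max b b' < n → IsZero ((mappingCone β).X n) := fun n hn => by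
    obtain ⟨e⟩ := hMiso n
    exact ((biprod_isZero_iff _ _).2 ⟨hzP _ (by omega), hF n (Or.inr (by omega))⟩).of_iso e
  have hMex : ∀ n, a - 1 ≤ n → (mappingCone β).ExactAt n := fun n hn => by
    rw [HomologicalComplex.exactAt_iff_isZero_homology]
    exact (((DerivedCategory.isLE_iff _ _).1 hLE) n (by omega)).of_iso
      ((DerivedCategory.homologyFunctorFactors X.Modules n).app _).symm
  have hcok := isFlat_cokernel_of_exact (mappingCone β) hMflat (max b b') (a - 1) hMzero hMex
  -- the cokernel of the cone is the cokernel of `P`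
  have hfst : ∀ p q (hpq : p + 1 = q), p < a → IsIso ((mappingCone.fst β).1.v p q hpq) := fun p q hpq hp => by
    refine ⟨(mappingCone.inl β).v q p (by omega), ?_, mappingCone.inl_v_fst_v β q p hpq⟩
    have h := mappingCone.id_X β p q hpq
    rwa [(hF p (Or.inl hp)).eq_of_tgt ((mappingCone.snd β).v p p (add_zero p)) 0, zero_comp, add_zero] at h
  haveI := hfst (a - 1 - 1) (a - 1) (by omega) (by omega)
  haveI := hfst (a - 1) a (by omega) (by omega)
  let ec : cokernel ((mappingCone β).d (a - 1 - 1) (a - 1)) ≅ cokernel (P.d (a - 1) a) :=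
    cokernel.mapIso _ _
      (asIso ((mappingCone.fst β).1.v (a - 1 - 1) (a - 1) _) ≪≫
        { hom := -𝟙 (P.X (a - 1)), inv := -𝟙 (P.X (a - 1)) })
      (asIso ((mappingCone.fst β).1.v (a - 1) a _)) (by
        simp only [asIso_hom, mappingCone.d_fst_v β (a - 1 - 1) (a - 1) a (by omega) (by omega)]
        simp)
  have hlf : FlatMod.IsFinLocFree (cokernel (P.d (a - 1) a)) :=
    Fib.isFinLocFree_cokernel (hPf _) (hPf _) _ (Groth.L00.KFlat.isFlat_of_iso ec hcok)
  refine ⟨⟨⟨a, max a b', fun n hn => ?_⟩, fun n => ?_⟩, ?_⟩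
  · rcases lt_or_ge n a with hn' | hn'
    · exact CochainComplex.isZero_of_isStrictlyGE (P.truncGE a) a n hn'
    · exact (hzP n (by omega)).of_iso (P.truncGEXIso a n (by omega))
  · rcases lt_trichotomy n a with hn | rfl | hn
    · exact Groth.L29.LocFree.of_isZero (CochainComplex.isZero_of_isStrictlyGE (P.truncGE a) a n hn)
    · refine Groth.L29.LocFree.of_iso ?_ hlf
      exact (cokernel.mapIso _ _ (Iso.refl _) (Iso.refl _) (by simp)) ≪≫
        ((P.sc' (n - 1) n (n + 1)).opcyclesIsoCokernel).symm ≪≫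
        (ShortComplex.opcyclesMapIso (P.isoSc' (n - 1) n (n + 1) (CochainComplex.prev ℤ n) (CochainComplex.next ℤ n))).symm ≪≫
        (P.truncGEXIsoOpcycles n).symm
    · exact Groth.L29.LocFree.of_iso (P.truncGEXIso a n hn).symm (hPf n)
  · haveI : F.IsStrictlyGE a := (CochainComplex.isStrictlyGE_iff F a).2 fun n hn => hF n (Or.inl hn)
    haveI := (CochainComplex.isIso_πTruncGE_iff F a).2 inferInstance
    haveI : QuasiIso (CochainComplex.truncGEMap β a) := by
      rw [CochainComplex.quasiIso_truncGEMap_iff]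
      intro i hi
      rw [quasiIsoAt_iff_isIso_homologyMap]
      exact isIso_homologyMap_of_Q β i (hβ.1 i (by omega))
    haveI : IsIso (DerivedCategory.Q.map (CochainComplex.truncGEMap β a)) :=
      (DerivedCategory.isIso_Q_map_iff_quasiIso _ _).2 inferInstance
    exact ⟨DerivedCategory.Q.mapIso (asIso (F.πTruncGE a)) ≪≫
      (asIso (DerivedCategory.Q.map (CochainComplex.truncGEMap β a))).symm⟩

/-- flat amplitude and pseudo-coherence give perfectness -/
theorem isPerfect_of_flatAmp_of_pc (E : DCoh.D X) (a b : ℤ) (h1 : DCoh.HasFlatAmplitudeIn a b E)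
    (h2 : DCoh.IsPseudoCoherentD (a - 1) E) : DCoh.IsPerfect E := by
  obtain ⟨F, hv, hf, ⟨eF⟩⟩ := h1
  rw [isPC_iff_wit] at h2
  refine perfect_of_on fun x => ?_
  obtain ⟨V, hx, P, α, hP, hα⟩ := h2 x
  let α' : DCoh.toD (↑V) P ⟶ DCoh.toD (↑V) ((DCoh.restrictCx V).obj F) :=
    α ≫ (resD V).map eF.inv ≫ (resQIso V F).hom
  have hα' : Approx α' (a - 1) := hα.comp (Approx.of_isIso _ _)
  obtain ⟨W, β, hxW, hβ⟩ := exists_local_chainMap hP α' ⟨x, hx⟩
  let F' := (DCoh.restrictCx W).obj ((DCoh.restrictCx V).obj F)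
  have hA : Approx (DerivedCategory.Q.map β) (a - 1) := by
    have := (Approx.map_exact (Scheme.Modules.restrictFunctor W.ι) hα')
    refine approx_congr (resQIso W P) (resQIso W ((DCoh.restrictCx V).obj F)) ?_ this
    change (resD W).map α' ≫ _ = _
    rw [hβ]
    simp [Category.assoc]
  have hF' : DCoh.VanishesOutside F' a b := fun i hi =>
    (Scheme.Modules.restrictFunctor W.ι).map_isZero ((Scheme.Modules.restrictFunctor V.ι).map_isZero (hv i hi))
  have hFf : ∀ i, FlatMod.IsFlat (F'.X i) := fun i =>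
    Groth.L00.KFlat.isFlat_of_iso ((Scheme.Modules.restrictFunctorIsoPullback W.ι).app _).symm
      (Groth.L00.TorAmp.isFlat_pullback W.ι (Groth.L00.KFlat.isFlat_of_iso
        ((Scheme.Modules.restrictFunctorIsoPullback V.ι).app _).symm (Groth.L00.TorAmp.isFlat_pullback V.ι (hf i))))
  obtain ⟨hT, ⟨e⟩⟩ := isStrictlyPerfect_truncGE β a b (isStrictlyPerfect_restrict W.ι hP) hF' hFf hA
  exact ⟨_, W.ι ≫ V.ι, inferInstance, mem_opensRange_comp hx hxW, _, hT,
    ⟨((resTransD V.ι W.ι (W.ι ≫ V.ι) rfl).app E).symm ≪≫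
      (DCoh.restrictD W.ι).mapIso ((resD V).mapIso eF.symm ≪≫ resQIso V F) ≪≫ resQIso W _ ≪≫ e⟩⟩

end Groth.L29.DC
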