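import Groth.Agent.L29.DCoh.RelBCAlg
import Groth.Agent.L29.DCoh.RelTor
import Groth.Agent.L20.ModPullback
import Groth.Agent.L10.DRing.TorTest

/-!
Base change of modules flat over the base along a cartesian square: flatness, and acyclicity of pullback.
-/

set_option autoImplicit false
set_option backward.isDefEq.respectTransparency false
set_option backward.isDefEq.respectTransparency.types false

universe u

open CategoryTheory CategoryTheory.Limits AlgebraicGeometry HomologicalComplex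

attribute [local instance] HasDerivedCategory.standard

noncomputable section

namespace Groth.L29.DC.RelBC

open TensorProduct

variable {X S X' S' : Scheme.{u}} {f : X ⟶ S} {f' : X' ⟶ S'} {g' : X' ⟶ X} {g : S' ⟶ S}

theorem stalk_bc (hc : IsPullback g' f' f g) (x' : X') :
    (∀ (C : CochainComplex X.Modules ℤ) (b : ℤ), (∀ i, b < i → IsZero (C.X i)) →
      (∀ i, FlatMod.IsFlatOver f (C.X i)) → (∀ i, IsZero (C.homology i)) → ∀ i,
      IsZero ((((ModuleCat.extendScalars (Groth.L00.PullStalk.φ g' x')).mapHomologicalComplex (ComplexShape.up ℤ)).obj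
        ((Groth.L00.Stk.S X (g' x')).obj C)).homology i)) ∧
    (∀ M : X.Modules, FlatMod.IsFlatOver f M → FlatMod.IsFlatOverAt f' ((Scheme.Modules.pullback g').obj M) x') := by
  obtain ⟨W, V, W', U, eV, eW, eU, eU', hW, hV, hW', hU, hxU, hpo⟩ := Groth.L20.ModStalk.exists_affine_square hc x'
  algebraize [(f.appLE W V eV).hom, (g.appLE W W' eW).hom, (g'.appLE V U eU).hom, (f'.appLE W' U eU').hom,
    ((g'.appLE V U eU).hom.comp (f.appLE W V eV).hom)]
  haveI : IsScalarTower Γ(S, W) Γ(S', W') Γ(X', U) := IsScalarTower.of_algebraMap_eq' (congrArg CommRingCat.Hom.hom hpo.w)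
  haveI : Algebra.IsPushout Γ(S, W) Γ(X, V) Γ(S', W') Γ(X', U) := CommRingCat.isPushout_iff_isPushout.mp hpo
  haveI : Algebra.IsPushout Γ(S, W) Γ(S', W') Γ(X, V) Γ(X', U) := Algebra.IsPushout.symm ‹_›
  have hxV : g' x' ∈ V := eU hxU
  letI := X.presheaf.algebra_section_stalk ⟨g' x', hxV⟩
  haveI hlocV := hV.isLocalization_stalk ⟨g' x', hxV⟩
  letI := X'.presheaf.algebra_section_stalk ⟨x', hxU⟩
  haveI := hU.isLocalization_stalk ⟨x', hxU⟩
  haveI : Module.Flat Γ(X', U) (X'.presheaf.stalk x') :=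
    IsLocalization.flat _ (hU.primeIdealOf ⟨x', hxU⟩).asIdeal.primeCompl
  letI : Algebra (X.presheaf.stalk (g' x')) (X'.presheaf.stalk x') := (Groth.L00.PullStalk.φ g' x').toAlgebra
  letI : Algebra Γ(X, V) (X'.presheaf.stalk x') :=
    ((algebraMap Γ(X', U) (X'.presheaf.stalk x')).comp (algebraMap Γ(X, V) Γ(X', U))).toAlgebra
  haveI : IsScalarTower Γ(X, V) Γ(X', U) (X'.presheaf.stalk x') := IsScalarTower.of_algebraMap_eq fun _ => rfl
  haveI : IsScalarTower Γ(X, V) (X.presheaf.stalk (g' x')) (X'.presheaf.stalk x') :=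
    IsScalarTower.of_algebraMap_eq fun r => (Groth.L20.ModStalk.stalkMap_germ eU hxU (eU hxU) r).symm
  let χ : Γ(S, W) →+* X.presheaf.stalk (g' x') :=
    (X.presheaf.germ V (g' x') hxV).hom.comp (f.appLE W V eV).hom
  let Sm := (hV.primeIdealOf ⟨g' x', hxV⟩).asIdeal.primeCompl
  refine ⟨fun C b hb hfl hz i => ?_, fun M hM => ?_⟩
  · let D := (Groth.L00.Stk.S X (g' x')).obj C
    let P : DRing.Cx Γ(S, W) := (DRing.restrictCx χ).obj D
    have hDz : ∀ j, IsZero (D.homology j) := fun j => (Groth.L00.Stk.acyclic_iff C j).1 (hz j) (g' x')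
    have hPz : ∀ j, IsZero (P.homology j) := fun j => by
      rw [Groth.L10.DR.isZero_homology_iff_exact P (j - 1) j (j + 1) (by omega) rfl]
      exact (Groth.L10.DR.isZero_homology_iff_exact D (j - 1) j (j + 1) (by omega) rfl).1 (hDz j)
    have hPb : DRing.VanishesAbove P b := fun j hj =>
      (ModuleCat.restrictScalars χ).map_isZero ((Groth.L00.Stk.F X (g' x')).map_isZero (hb j hj))
    have hPf : DRing.TermwiseFlat P := fun j =>
      (Groth.L20.ModStalk.isFlatOverAt_iff_sections f (C.X j) hW eV hxV).1 (hfl j (g' x'))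
    have h := Groth.L10.DR.tz_of_exact P b hPb hPf hPz i (ModuleCat.of Γ(S, W) Γ(S', W'))
    rw [Groth.L10.DR.tensor_exact_iff P _ (i - 1) i (i + 1) (by omega) rfl] at h
    rw [Groth.L10.DR.isZero_homology_iff_exact _ (i - 1) i (i + 1) (by omega) rfl]
    letI := fun j => Module.compHom (D.X j) χ
    letI := fun j => Module.compHom (D.X j) (algebraMap Γ(X, V) (X.presheaf.stalk (g' x')))
    haveI : ∀ j, IsScalarTower Γ(X, V) (X.presheaf.stalk (g' x')) (D.X j) := fun j =>
      IsScalarTower.of_algebraMap_smul fun _ _ => rfl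
    haveI : ∀ j, IsScalarTower Γ(S, W) Γ(X, V) (D.X j) := fun j =>
      IsScalarTower.of_algebraMap_smul fun _ _ => rfl
    let d₁ : D.X (i - 1) →ₗ[Γ(S, W)] D.X i := (P.d (i - 1) i).hom
    let d₂ : D.X i →ₗ[Γ(S, W)] D.X (i + 1) := (P.d i (i + 1)).hom
    have h' : Function.Exact (d₁.lTensor Γ(S', W')) (d₂.lTensor Γ(S', W')) :=
      (Function.Exact.iff_of_ladder_linearEquiv
        (e₁ := TensorProduct.comm Γ(S, W) (D.X (i - 1)) Γ(S', W'))
        (e₂ := TensorProduct.comm Γ(S, W) (D.X i) Γ(S', W'))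
        (e₃ := TensorProduct.comm Γ(S, W) (D.X (i + 1)) Γ(S', W'))
        (f₁₂ := d₁.rTensor Γ(S', W')) (f₂₃ := d₂.rTensor Γ(S', W'))
        (g₁₂ := d₁.lTensor Γ(S', W')) (g₂₃ := d₂.lTensor Γ(S', W'))
        (TensorProduct.ext' fun _ _ => rfl) (TensorProduct.ext' fun _ _ => rfl)).2 h
    exact exact_lTensor_of_pushout Γ(S, W) Γ(S', W') Γ(X, V) Γ(X', U) Sm (X.presheaf.stalk (g' x'))
      (X'.presheaf.stalk x') (D.d (i - 1) i).hom (D.d i (i + 1)).hom d₁ d₂ (fun _ => rfl) (fun _ => rfl) h'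
  · let N := (Groth.L00.Stk.F X (g' x')).obj M
    letI := Module.compHom N χ
    letI := Module.compHom N (algebraMap Γ(X, V) (X.presheaf.stalk (g' x')))
    haveI : IsScalarTower Γ(X, V) (X.presheaf.stalk (g' x')) N := IsScalarTower.of_algebraMap_smul fun _ _ => rfl
    haveI : IsScalarTower Γ(S, W) Γ(X, V) N := IsScalarTower.of_algebraMap_smul fun _ _ => rfl
    haveI : Module.Flat Γ(S, W) N :=
      (Groth.L20.ModStalk.isFlatOverAt_iff_sections f M hW eV hxV).1 (hM (g' x'))
    letI : Algebra Γ(S', W') (X'.presheaf.stalk x') :=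
      ((algebraMap Γ(X', U) (X'.presheaf.stalk x')).comp (algebraMap Γ(S', W') Γ(X', U))).toAlgebra
    haveI : IsScalarTower Γ(S', W') Γ(X', U) (X'.presheaf.stalk x') := IsScalarTower.of_algebraMap_eq fun _ => rfl
    rw [Groth.L20.ModStalk.isFlatOverAt_iff_sections f' _ hW' eU' hxU]
    have h := flat_tensor_of_pushout Γ(S, W) Γ(S', W') Γ(X, V) Γ(X', U) Sm (X.presheaf.stalk (g' x'))
      (X'.presheaf.stalk x') (M := N)
    let e : ((Scheme.Modules.pullback g').obj M).presheaf.stalk x' ≃ₗ[X'.presheaf.stalk x']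
        X'.presheaf.stalk x' ⊗[X.presheaf.stalk (g' x')] N :=
      ((Groth.L00.PullStalk.stalkIso g' x').app M).toLinearEquiv
    letI : Module Γ(S', W') (((Scheme.Modules.pullback g').obj M).presheaf.stalk x') :=
      Module.compHom _ ((X'.presheaf.germ U x' hxU).hom.comp (f'.appLE W' U eU').hom)
    exact Module.Flat.of_linearEquiv (AddEquiv.toLinearEquiv e.toAddEquiv fun a z =>
      (e.map_smul (algebraMap Γ(S', W') (X'.presheaf.stalk x') a) z).trans (algebraMap_smul _ a _))

theorem isFlatOver_pullback (hc : IsPullback g' f' f g) {M : X.Modules} (h : FlatMod.IsFlatOver f M) :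
    FlatMod.IsFlatOver f' ((Scheme.Modules.pullback g').obj M) := fun x' => (stalk_bc hc x').2 M h

theorem isFlatOver_of_iso (f : X ⟶ S) {M N : X.Modules} (e : M ≅ N) (h : FlatMod.IsFlatOver f M) :
    FlatMod.IsFlatOver f N := fun x => by
  let T := Groth.L00.Stk.F X x ⋙ ModuleCat.restrictScalars (f.stalkMap x).hom
  haveI : Module.Flat (S.presheaf.stalk (f x)) (T.obj M) := h x
  exact (Module.Flat.of_linearEquiv (T.mapIso e).symm.toLinearEquiv : Module.Flat (S.presheaf.stalk (f x)) (T.obj N))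

theorem isFlatOver_zero (f : X ⟶ S) {M : X.Modules} (h : IsZero M) : FlatMod.IsFlatOver f M := fun x => by
  let T := Groth.L00.Stk.F X x ⋙ ModuleCat.restrictScalars (f.stalkMap x).hom
  haveI : Subsingleton (T.obj M) :=
    ModuleCat.subsingleton_of_isZero ((ModuleCat.restrictScalars _).map_isZero ((Groth.L00.Stk.F X x).map_isZero h))
  exact (inferInstance : Module.Flat (S.presheaf.stalk (f x)) (T.obj M))

theorem isFlatOver_biprod (f : X ⟶ S) {M N : X.Modules} (h : FlatMod.IsFlatOver f M)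
    (h' : FlatMod.IsFlatOver f N) : FlatMod.IsFlatOver f (M ⊞ N) := fun x => by
  let R := ModuleCat.restrictScalars.{u} (f.stalkMap x).hom
  haveI : PreservesBinaryBiproduct M N (Groth.L00.Stk.F X x) := preservesBinaryBiproduct_of_preservesBinaryProduct _
  haveI : PreservesBinaryBiproduct ((Groth.L00.Stk.F X x).obj M) ((Groth.L00.Stk.F X x).obj N) R :=
    preservesBinaryBiproduct_of_preservesBinaryProduct _
  haveI : Module.Flat (S.presheaf.stalk (f x)) (R.obj ((Groth.L00.Stk.F X x).obj M)) := h x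
  haveI : Module.Flat (S.presheaf.stalk (f x)) (R.obj ((Groth.L00.Stk.F X x).obj N)) := h' x
  haveI := Groth.L00.KFlat.flat_prod (A := S.presheaf.stalk (f x)) (R.obj ((Groth.L00.Stk.F X x).obj M))
    (R.obj ((Groth.L00.Stk.F X x).obj N))
  exact (Module.Flat.of_linearEquiv (R.mapIso ((Groth.L00.Stk.F X x).mapBiprod M N) ≪≫
    R.mapBiprod _ _ ≪≫ ModuleCat.biprodIsoProd _ _).toLinearEquiv :
      Module.Flat (S.presheaf.stalk (f x)) (R.obj ((Groth.L00.Stk.F X x).obj (M ⊞ N))))

theorem isZero_pullback (hc : IsPullback g' f' f g) {C : CochainComplex X.Modules ℤ} {b : ℤ}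
    (hb : ∀ i, b < i → IsZero (C.X i)) (hfl : ∀ i, FlatMod.IsFlatOver f (C.X i))
    (hz : ∀ i, IsZero (C.homology i)) (i : ℤ) :
    IsZero ((((Scheme.Modules.pullback g').mapHomologicalComplex (ComplexShape.up ℤ)).obj C).homology i) :=
  (Groth.L00.Stk.acyclic_iff _ i).2 fun x' =>
    ((stalk_bc hc x').1 C b hb hfl hz i).of_iso
      ((homologyFunctor _ _ i).mapIso (PerfDesc.pullSIso g' C x'))

/-- pullback preserves quasi-isomorphisms between bounded above complexes of modules flat over the base -/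
theorem quasiIso_pullback (hc : IsPullback g' f' f g) {P E : CochainComplex X.Modules ℤ} (q : P ⟶ E) [QuasiIso q]
    {b : ℤ} (hP : ∀ i, b < i → IsZero (P.X i)) (hE : ∀ i, b < i → IsZero (E.X i))
    (hPf : ∀ i, FlatMod.IsFlatOver f (P.X i)) (hEf : ∀ i, FlatMod.IsFlatOver f (E.X i)) :
    QuasiIso (((Scheme.Modules.pullback g').mapHomologicalComplex (ComplexShape.up ℤ)).map q) := by
  have hcone : ∀ {E' : CochainComplex X.Modules ℤ} (α : P ⟶ E'), (∀ i, b < i → IsZero (E'.X i)) →
      (∀ i, FlatMod.IsFlatOver f (E'.X i)) → ∀ [QuasiIso α] (i : ℤ),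
      IsZero ((((Scheme.Modules.pullback g').mapHomologicalComplex (ComplexShape.up ℤ)).obj
        (CochainComplex.mappingCone α)).homology i) := by
    intro E' α hb hf' _ i
    refine isZero_pullback hc (b := b) (fun j hj => ?_) (fun j => ?_) (Groth.L00.ConeTransfer.acyclic_cone α) i
    · exact (biprod_isZero_iff _ _).2 ⟨hP _ (by omega), hb j hj⟩ |>.of_iso
        (HomologicalComplex.homotopyCofiber.XIsoBiprod α j (j + 1) rfl)
    · exact isFlatOver_of_iso f (HomologicalComplex.homotopyCofiber.XIsoBiprod α j (j + 1) rfl).symm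
        (isFlatOver_biprod f (hPf _) (hf' j))
  exact Groth.L00.ConeTransfer.quasiIso_map _
    (fun S σ => HomologicalComplex.shortExact_of_degreewise_shortExact _
      fun q => ((σ q).map (Scheme.Modules.pullback g')).shortExact) q
    (fun i => hcone (𝟙 P) hP hPf i) (fun i => hcone q hE hEf i)

/-- derived pullback of a bounded above complex of modules flat over the base is computed termwise -/
theorem nonempty_Lpull_iso (hc : IsPullback g' f' f g) [Flat f] [DCoh.HasLpull g'] {E : CochainComplex X.Modules ℤ}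
    {b : ℤ} (hE : ∀ i, b < i → IsZero (E.X i)) (hEf : ∀ i, FlatMod.IsFlatOver f (E.X i)) :
    Nonempty ((DCoh.Lpull g').obj (DCoh.toD X E) ≅
      DCoh.toD X' (((Scheme.Modules.pullback g').mapHomologicalComplex (ComplexShape.up ℤ)).obj E)) := by
  haveI : E.IsStrictlyLE b := (CochainComplex.isStrictlyLE_iff E b).2 hE
  obtain ⟨P, q, hP, hk, hf, hq⟩ := exists_flat_resolution_le E b
  haveI := hq
  haveI := hP
  haveI := quasiIso_pullback hc q (fun i hi => P.isZero_of_isStrictlyLE b i hi) hE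
    (fun i => RelTor.isFlatOver_of_isFlat f (hf i)) hEf
  haveI : IsIso (DerivedCategory.Q.map q) := (DerivedCategory.isIso_Q_map_iff_quasiIso _ q).2 inferInstance
  haveI : IsIso (DerivedCategory.Q.map
      (((Scheme.Modules.pullback g').mapHomologicalComplex (ComplexShape.up ℤ)).map q)) :=
    (DerivedCategory.isIso_Q_map_iff_quasiIso _ _).2 inferInstance
  exact ⟨(DCoh.Lpull g').mapIso (asIso (DerivedCategory.Q.map q)).symm ≪≫
    Groth.L00.DerivedApi.objIso (Groth.L00.DerivedApi.acyclicKFlat_pullback g') P hk ≪≫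
    asIso (DerivedCategory.Q.map (((Scheme.Modules.pullback g').mapHomologicalComplex (ComplexShape.up ℤ)).map q))⟩

/-- finite relative tor dimension is stable under base change -/
theorem locHasFiniteRelTorDim_Lpull (hc : IsPullback g' f' f g) [Flat f] [DCoh.HasLpull g'] {K : DCoh.D X}
    (hK : DCoh.LocHasFiniteRelTorDim f K) : DCoh.LocHasFiniteRelTorDim f' ((DCoh.Lpull g').obj K) := fun x' => by
  obtain ⟨V, a, b, hxV, hV⟩ := hK (g' x')
  obtain ⟨E, hEv, hEf, ⟨eE⟩⟩ := hV _ ⟨DerivedCategory.Q.objObjPreimageIso K⟩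
  let h := g' ∣_ V
  haveI := Groth.L00.KFlat.hasLpull h
  obtain ⟨e'⟩ := nonempty_restrict_Lpull g' V K
  have hc' : IsPullback h ((g' ⁻¹ᵁ V).ι ≫ f') (V.ι ≫ f) g := (isPullback_morphismRestrict g' V).paste_vert hc
  obtain ⟨e''⟩ := nonempty_Lpull_iso hc' (b := b) (fun i hi => hEv i (Or.inr hi)) hEf
  refine ⟨g' ⁻¹ᵁ V, a, b, hxV, fun F' ⟨eF'⟩ => ?_⟩
  refine ⟨((Scheme.Modules.pullback h).mapHomologicalComplex (ComplexShape.up ℤ)).obj E,
    fun i hi => (Scheme.Modules.pullback h).map_isZero (hEv i hi),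
    fun i => isFlatOver_pullback hc' (hEf i), ⟨e''.symm ≪≫ ?_⟩⟩
  exact (DCoh.Lpull h).mapIso (eE ≪≫ (resQIso V _).symm ≪≫ (resD V).mapIso (DerivedCategory.Q.objObjPreimageIso K)) ≪≫
    e'.symm ≪≫ (resD (g' ⁻¹ᵁ V)).mapIso eF'.symm ≪≫ resQIso _ F'

end Groth.L29.DC.RelBC
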