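import Groth.Agent.L00.TorFlat
import Groth.Agent.L00.TensorRestrict
import Groth.Agent.L00.LocalData
import Groth.Agent.L16.QcqsPush
import Groth.Agent.L18.TildeFunctor
import Groth.Agent.L29.DCoh.TensorPerfect
import Mathlib.RingTheory.Localization.BaseChange

/-!
Tor amplitude can be tested on quasi-coherent modules.
-/

set_option autoImplicit false
set_option backward.isDefEq.respectTransparency false
set_option backward.isDefEq.respectTransparency.types false

universe u

open CategoryTheory CategoryTheory.Limits AlgebraicGeometry MonoidalCategory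

attribute [local instance] HasDerivedCategory.standard

namespace Groth.L29.DC.TorTest

open Groth.L00 Groth.L00.Tensor Groth.L00.DerivedApi Groth.L00.TorAmp

variable {X : Scheme.{u}} {R : CommRingCat.{u}}

theorem isLocalization_toStalk (x : Spec R) :
    letI := (KFlat.toStalk R x).toAlgebra
    IsLocalization.AtPrime ((Spec R).presheaf.stalk x) x.asIdeal := by
  letI a : Algebra R ((Spec R).presheaf.stalk x) := StructureSheaf.stalkAlgebra R x
  have h : (KFlat.toStalk R x).toAlgebra = a := Algebra.algebra_ext _ _ fun r => rfl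
  rw [h]
  exact StructureSheaf.IsLocalization.to_stalk R x

/-- every module over a local ring of an affine scheme is a stalk of a tilde -/
noncomputable def stalkTildeEquiv (x : Spec R) (M : ModuleCat.{u} ((Spec R).presheaf.stalk x)) :
    (Stk.F (Spec R) x).obj ((tilde.functor R).obj ((ModuleCat.restrictScalars (KFlat.toStalk R x)).obj M)) ≃ₗ[(Spec R).presheaf.stalk x] M :=
  letI := (KFlat.toStalk R x).toAlgebra
  letI : Module R M := Module.compHom M (KFlat.toStalk R x)
  haveI : IsScalarTower R ((Spec R).presheaf.stalk x) M := IsScalarTower.of_compHom _ _ _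
  haveI := isLocalization_toStalk x
  ((KFlat.tildeStalkIso R x).app _).toLinearEquiv.trans
    (IsLocalization.moduleLid x.asIdeal.primeCompl ((Spec R).presheaf.stalk x) M)

theorem isZero_HG_of_iso {Y : Scheme.{u}} {G G' : Y.Modules ⥤ X.Modules} [G.Additive] [G'.Additive] (e : G ≅ G')
    (K : CochainComplex Y.Modules ℤ) (i : ℤ) (h : IsZero (HG G K i)) : IsZero (HG G' K i) :=
  h.of_iso ((HomologicalComplex.homologyFunctor _ _ i).mapIso
    ((NatIso.mapHomologicalComplex e (ComplexShape.up ℤ)).app K).symm)

/-- restriction commutes with tensoring by a module -/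
noncomputable def tensorRightRestrictIso {U : Scheme.{u}} (j : U ⟶ X) [IsOpenImmersion j] (M : X.Modules) :
    Scheme.Modules.restrictFunctor j ⋙ DCoh.tensorRightMod (M.restrict j) ≅
      DCoh.tensorRightMod M ⋙ Scheme.Modules.restrictFunctor j :=
  NatIso.ofComponents (fun N => tensorRestrict j N M) (fun {N N'} f => by
    have e : ∀ {Z : Scheme.{u}} (B : Z.Modules) {A A' : Z.Modules} (φ : A ⟶ A'),
        (DCoh.tensorRightMod B).map φ = tensorMap φ (𝟙 B) := fun B _ _ φ => by
      refine congrArg (shf _).map ?_
      rw [CategoryTheory.Functor.map_id]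
      exact (MonoidalCategory.tensorHom_id _ _).symm
    simp only [Functor.comp_map]
    rw [e, e]
    change tensorMap ((Scheme.Modules.restrictFunctor j).map f) (𝟙 ((Scheme.Modules.restrictFunctor j).obj M)) ≫ _ = _
    rw [← CategoryTheory.Functor.map_id (Scheme.Modules.restrictFunctor j) M]
    exact tensorRestrict_natural j f (𝟙 M))

/-- termwise cohomology of a tensor commutes with restriction -/
noncomputable def HGRestrictIso {U : Scheme.{u}} (j : U ⟶ X) [IsOpenImmersion j] (M : X.Modules)
    (P : CochainComplex X.Modules ℤ) (i : ℤ) :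
    HG (DCoh.tensorRightMod (M.restrict j))
        (((Scheme.Modules.restrictFunctor j).mapHomologicalComplex (ComplexShape.up ℤ)).obj P) i ≅
      (HG (DCoh.tensorRightMod M) P i).restrict j :=
  let T := ((DCoh.tensorRightMod M).mapHomologicalComplex (ComplexShape.up ℤ)).obj P
  (HomologicalComplex.homologyFunctor _ _ i).mapIso
      (show ((DCoh.tensorRightMod (M.restrict j)).mapHomologicalComplex (ComplexShape.up ℤ)).obj
          (((Scheme.Modules.restrictFunctor j).mapHomologicalComplex (ComplexShape.up ℤ)).obj P) ≅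
          ((Scheme.Modules.restrictFunctor j).mapHomologicalComplex (ComplexShape.up ℤ)).obj T from
        HomologicalComplex.Hom.isoOfComponents (fun n => (tensorRightRestrictIso j M).app (P.X n))
          (fun a b _ => ((tensorRightRestrictIso j M).hom.naturality (P.d a b)).symm)) ≪≫
    (T.sc i).mapHomologyIso (Scheme.Modules.restrictFunctor j)

/-- on an affine scheme vanishing for tildes implies vanishing for all modules -/
theorem isZero_HG_affine (P : CochainComplex (Spec R).Modules ℤ) (i : ℤ)
    (h : ∀ W : ModuleCat.{u} R, IsZero (HG (DCoh.tensorRightMod ((tilde.functor R).obj W)) P i))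
    (F : (Spec R).Modules) : IsZero (HG (DCoh.tensorRightMod F) P i) := by
  refine (Stk.acyclic_iff _ i).2 fun x => ?_
  have hW := exact_rTensor P _ x (i - 1) i (i + 1) (by omega) rfl
    (h ((ModuleCat.restrictScalars (KFlat.toStalk R x)).obj ((Stk.F (Spec R) x).obj F)))
  have hF := exact_rTensor_congr (stalkTildeEquiv x ((Stk.F (Spec R) x).obj F)) _ _ hW
  let Φ := stalkTensorIso F x
  rw [← HomologicalComplex.exactAt_iff_isZero_homology,
    HomologicalComplex.exactAt_iff' _ (i - 1) i (i + 1) (by simp) (by simp)]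
  have e : ((((DCoh.tensorRightMod F).mapHomologicalComplex (ComplexShape.up ℤ)).obj P).sc' (i - 1) i (i + 1)).map
      (Stk.F (Spec R) x) ≅ (P.sc' (i - 1) i (i + 1)).map
        (Stk.F (Spec R) x ⋙ tensorRight ((Stk.F (Spec R) x).obj F)) :=
    ShortComplex.isoMk (Φ.app _) (Φ.app _) (Φ.app _)
      (Φ.hom.naturality (P.d (i - 1) i)).symm (Φ.hom.naturality (P.d i (i + 1))).symm
  exact (ShortComplex.exact_iff_of_iso e).2
    ((ShortComplex.ShortExact.moduleCat_exact_iff_function_exact _).2 hF)

/-- vanishing for quasi-coherent modules implies vanishing for all modules -/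
theorem isZero_HG_of_qcoh [QuasiSeparatedSpace X] (P : CochainComplex X.Modules ℤ) (i : ℤ)
    (h : ∀ G : X.Modules, Coh.IsQCoh G → IsZero (HG (DCoh.tensorRightMod G) P i)) (F : X.Modules) :
    IsZero (HG (DCoh.tensorRightMod F) P i) := by
  have hV : ∀ x : X, ∃ V : X.Opens, IsAffineOpen V ∧ x ∈ V := fun x => by
    obtain ⟨_, ⟨V, hV, rfl⟩, hxV, -⟩ := X.isBasis_affineOpens.exists_subset_of_mem_open
      (Set.mem_univ x) isOpen_univ
    exact ⟨V, hV, hxV⟩
  choose V hV hx using hV
  refine Groth.L21.Mod.isZero_of_restrict (fun x => (hV x).fromSpec)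
    (fun x => by
      obtain ⟨y, hy⟩ : x ∈ Set.range (hV x).fromSpec := by rw [(hV x).range_fromSpec]; exact hx x
      exact ⟨x, y, hy⟩) _ fun x => ?_
  let j := (hV x).fromSpec
  refine (isZero_HG_affine _ i (fun W => ?_) (F.restrict j)).of_iso (HGRestrictIso j F P i).symm
  haveI : QuasiCompact j := inferInstance
  haveI : Coh.IsQCoh ((tilde.functor _).obj W) := Groth.L18.TildeF.isQCoh_tilde W
  let G := (Scheme.Modules.pushforward j).obj ((tilde.functor _).obj W)
  have hz : IsZero ((HG (DCoh.tensorRightMod G) P i).restrict j) :=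
    (Scheme.Modules.restrictFunctor j).map_isZero (h G (Groth.L16.QcqsPush.isQCoh_push _ j))
  exact isZero_HG_of_iso (NatIso.ofComponents
      (fun N => tensorIso (Iso.refl N) ((Scheme.Modules.restrictFunctorAdjCounitIso j).app _))
      (fun {N N'} f => by
        refine ((shf _).map_comp _ _).symm.trans ((congrArg (shf _).map ?_).trans ((shf _).map_comp _ _))
        simp [MonoidalCategory.tensorHom_comp_tensorHom, ← MonoidalCategory.tensorHom_id]
        erw [Category.comp_id]))
    _ i (hz.of_iso (HGRestrictIso j G P i))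

theorem torAmp_iff_qcoh [QuasiSeparatedSpace X] (E : DCoh.D X) (a b : ℤ) :
    DCoh.HasTorAmplitudeIn a b E ↔
      ∀ (F : X.Modules), Coh.IsQCoh F → ∀ [DCoh.HasLTensorMod F] (i : ℤ), (i < a ∨ b < i) →
        IsZero (DCoh.HD ((DCoh.LTensorMod F).obj E) i) := by
  refine ⟨fun h F _ _ i hi => h F i hi, fun h F _ i hi => ?_⟩
  obtain ⟨P, q, hP, -, hq, -⟩ := KFlat.exists_resolution (DerivedCategory.Q.objPreimage E)
  haveI := (DerivedCategory.isIso_Q_map_iff_quasiIso _ q).2 hq
  let eE : DCoh.toD X P ≅ E := asIso (DerivedCategory.Q.map q) ≪≫ DerivedCategory.Q.objObjPreimageIso E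
  refine (isZero_HD_iff (acyclicKFlat_tensorMod F) hP eE i).2 (isZero_HG_of_qcoh P i (fun G hG => ?_) F)
  haveI := hasLTensorMod G
  exact (isZero_HD_iff (acyclicKFlat_tensorMod G) hP eE i).1 (h G hG i hi)

end Groth.L29.DC.TorTest
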