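import Groth.Agent.L29.DCoh.Restrict
import Groth.Agent.L16.ProjSpace.Twist
import Mathlib.Algebra.Homology.Homotopy

/-!
Finite locally free modules are locally projective; maps out of strictly perfect complexes are locally null homotopic.
-/

set_option autoImplicit false
set_option backward.isDefEq.respectTransparency false
set_option backward.isDefEq.respectTransparency.types false

universe u

open CategoryTheory CategoryTheory.Limits AlgebraicGeometry CochainComplex TopologicalSpace Opposite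

namespace Groth.L29.DC

section Transport

variable {X U W : Scheme.{u}} (j : U ⟶ X) [IsOpenImmersion j] (k : W ⟶ U) [IsOpenImmersion k]
  (j' : W ⟶ X) [IsOpenImmersion j'] (h : k ≫ j = j')

/-- restriction is transitive -/
noncomputable def resTrans : Scheme.Modules.restrictFunctor j ⋙ Scheme.Modules.restrictFunctor k ≅
    Scheme.Modules.restrictFunctor j' :=
  (Scheme.Modules.restrictFunctorComp k j).symm ≪≫ Scheme.Modules.restrictFunctorCongr h

/-- restriction of complexes is transitive -/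
noncomputable def resTransCx :
    (Scheme.Modules.restrictFunctor j).mapHomologicalComplex (ComplexShape.up ℤ) ⋙
      (Scheme.Modules.restrictFunctor k).mapHomologicalComplex (ComplexShape.up ℤ) ≅
    (Scheme.Modules.restrictFunctor j').mapHomologicalComplex (ComplexShape.up ℤ) :=
  Groth.L00.DerivedApi.mapCxCompIso (Scheme.Modules.restrictFunctor j) (Scheme.Modules.restrictFunctor k) ≪≫
    NatIso.mapHomologicalComplex (resTrans j k j' h) _

end Transport

section Lift

variable {X : Scheme.{u}}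

/-- `φ` lifts along `p` on the open immersion `j` -/
def LiftOn {G H M : X.Modules} (p : G ⟶ H) (φ : M ⟶ H) {U : Scheme.{u}} (j : U ⟶ X)
    [IsOpenImmersion j] : Prop :=
  ∃ ψ : M.restrict j ⟶ G.restrict j,
    ψ ≫ (Scheme.Modules.restrictFunctor j).map p = (Scheme.Modules.restrictFunctor j).map φ

theorem LiftOn.comp {G H M : X.Modules} {p : G ⟶ H} {φ : M ⟶ H} {U W : Scheme.{u}} {j : U ⟶ X}
    [IsOpenImmersion j] (h : LiftOn p φ j) (k : W ⟶ U) [IsOpenImmersion k] (j' : W ⟶ X)
    [IsOpenImmersion j'] (hk : k ≫ j = j') : LiftOn p φ j' := by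
  obtain ⟨ψ, hψ⟩ := h
  let e := resTrans j k j' hk
  refine ⟨e.inv.app M ≫ (Scheme.Modules.restrictFunctor k).map ψ ≫ e.hom.app G, ?_⟩
  have hn := e.hom.naturality p
  simp only [Functor.comp_map] at hn
  rw [Category.assoc, Category.assoc, ← hn, ← Functor.map_comp_assoc, hψ]
  exact NatIso.naturality_1 e φ

/-- liftable near `x` -/
def LiftAt {G H M : X.Modules} (p : G ⟶ H) (φ : M ⟶ H) (x : X) : Prop :=
  ∃ V : X.Opens, x ∈ V ∧ LiftOn p φ V.ι

theorem LiftAt.of_on {G H M : X.Modules} {p : G ⟶ H} {φ : M ⟶ H} {x : X} {U : Scheme.{u}} {j : U ⟶ X}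
    [IsOpenImmersion j] (hx : x ∈ j.opensRange) (h : LiftOn p φ j) : LiftAt p φ x :=
  ⟨j.opensRange, hx, h.comp j.isoOpensRange.inv _ j.isoOpensRange_inv_comp⟩

theorem unit_hom_ext {M : X.Modules} (f g : Coh.structureModule X ⟶ M)
    (h : f.app ⊤ (1 : Γ(X, ⊤)) = g.app ⊤ (1 : Γ(X, ⊤))) : f = g := by
  apply M.unitHomEquiv.injective
  refine PresheafOfModules.sections_ext _ _ fun O => ?_
  have e1 := (M.unitHomEquiv f).2 (homOfLE (le_top : O.unop ≤ ⊤)).op
  have e2 := (M.unitHomEquiv g).2 (homOfLE (le_top : O.unop ≤ ⊤)).op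
  exact (e1.symm.trans (congrArg (M.presheaf.map (homOfLE (le_top : O.unop ≤ ⊤)).op) h)).trans e2

/-- sections lift locally along epimorphisms -/
theorem liftAt_structureModule {G H : X.Modules} (p : G ⟶ H) [Epi p] (φ : Coh.structureModule X ⟶ H)
    (x : X) : LiftAt p φ x := by
  let s : Γ(H, ⊤) := φ.app ⊤ (1 : Γ(X, ⊤))
  obtain ⟨t', ht'⟩ := (Groth.L21.Mod.epi_iff_stalk_surjective p).1 inferInstance x
    (H.presheaf.germ ⊤ x trivial s)
  obtain ⟨V, hxV, t, rfl⟩ := TopCat.Presheaf.exists_germ_eq _ t'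
  have hg : H.presheaf.germ V x hxV (p.app V t) = H.presheaf.germ ⊤ x trivial s := by
    rw [← ht']
    exact (Groth.L21.Mod.stalkF_map_germ p V x hxV t).symm
  obtain ⟨W', hxW, iV, iT, hW⟩ := H.presheaf.germ_eq x hxV (show x ∈ (⊤ : X.Opens) from trivial) _ _ hg
  let W : X.Opens := W'
  have hWV : W ≤ V := iV.le
  have htop : W.ι ''ᵁ (⊤ : (W : Scheme.{u}).Opens) ≤ V := by
    rw [W.ι.image_top_eq_opensRange, Scheme.Opens.opensRange_ι]; exact hWV
  let g : Γ(G.restrict W.ι, ⊤) := G.presheaf.map (homOfLE htop).op t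
  refine ⟨W, hxW, (Scheme.Modules.restrictUnitIso W.ι).hom ≫
    Groth.L16.homOfSection (G.restrict W.ι) g, ?_⟩
  rw [← cancel_epi (Scheme.Modules.restrictUnitIso W.ι).inv, Category.assoc, Iso.inv_hom_id_assoc]
  apply unit_hom_ext
  have e0 : (Groth.L16.homOfSection (G.restrict W.ι) g).app ⊤ (1 : Γ((W : Scheme.{u}), ⊤)) = g := by
    rw [Groth.L16.homOfSection_app, one_smul]
    exact congr($((G.restrict W.ι).presheaf.map_id (op ⊤)) g)
  have e1 : (Groth.L16.homOfSection (G.restrict W.ι) g ≫ (Scheme.Modules.restrictFunctor W.ι).map p).app ⊤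
      (1 : Γ((W : Scheme.{u}), ⊤)) = ((Scheme.Modules.restrictFunctor W.ι).map p).app ⊤ g := by
    rw [Scheme.Modules.Hom.comp_app, ConcreteCategory.comp_apply, e0]
  rw [e1]
  change p.app (W.ι ''ᵁ ⊤) g =
    φ.app (W.ι ''ᵁ ⊤) ((W.ι.appIso ⊤).inv (1 : Γ((W : Scheme.{u}), ⊤)))
  rw [map_one]
  have e2 : φ.app (W.ι ''ᵁ ⊤) (1 : Γ(X, W.ι ''ᵁ ⊤)) =
      H.presheaf.map (homOfLE (le_top : W.ι ''ᵁ ⊤ ≤ ⊤)).op s := by
    refine Eq.trans ?_ (congr($(φ.mapPresheaf.naturality (homOfLE (le_top : W.ι ''ᵁ ⊤ ≤ ⊤)).op)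
      (1 : Γ(X, ⊤))))
    exact congrArg _ (map_one (X.presheaf.map (homOfLE (le_top : W.ι ''ᵁ ⊤ ≤ ⊤)).op).hom).symm
  have hle : W.ι ''ᵁ (⊤ : (W : Scheme.{u}).Opens) ≤ W := by
    rw [W.ι.image_top_eq_opensRange, Scheme.Opens.opensRange_ι]
  have hW' : H.presheaf.map (homOfLE hWV).op (p.app V t) =
      H.presheaf.map (homOfLE (le_top : W ≤ ⊤)).op s := hW
  rw [e2, show (homOfLE (le_top : W.ι ''ᵁ ⊤ ≤ ⊤)).op =
    (homOfLE (le_top : W ≤ ⊤)).op ≫ (homOfLE hle).op from rfl, Functor.map_comp,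
    ConcreteCategory.comp_apply, ← hW']
  refine Eq.trans (congr($(p.mapPresheaf.naturality (homOfLE htop).op) t)) ?_
  exact congr($(H.presheaf.map_comp (homOfLE hWV).op (homOfLE hle).op) (p.app V t))

/-- maps from finite free modules lift locally -/
theorem liftAt_freeMod {G H : X.Modules} (p : G ⟶ H) [Epi p] {n : ℕ} (φ : FlatMod.freeMod X n ⟶ H)
    (x : X) : LiftAt p φ x := by
  have h := fun i : Fin n => liftAt_structureModule p (Sigma.ι (fun _ : Fin n => Coh.structureModule X) i ≫ φ) x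
  choose V hx hV using h
  let W : X.Opens := ⟨⋂ i, (V i : Set X), isOpen_iInter_of_finite fun i => (V i).isOpen⟩
  have hW : ∀ i, W ≤ V i := fun i => fun y hy => Set.mem_iInter.1 hy i
  have hi := fun i => (hV i).comp (X.homOfLE (hW i)) W.ι (X.homOfLE_ι (hW i))
  choose ψ hψ using hi
  let F := Scheme.Modules.restrictFunctor W.ι
  haveI : PreservesColimit (Discrete.functor fun _ : Fin n => Coh.structureModule X) F := inferInstance
  refine ⟨W, Set.mem_iInter.2 hx, (PreservesCoproduct.iso F fun _ : Fin n => Coh.structureModule X).hom ≫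
    Sigma.desc ψ, ?_⟩
  rw [← cancel_epi (PreservesCoproduct.iso F fun _ : Fin n => Coh.structureModule X).inv, Category.assoc,
    Iso.inv_hom_id_assoc]
  refine Sigma.hom_ext _ _ fun i => ?_
  rw [Sigma.ι_desc_assoc, hψ i, PreservesCoproduct.inv_hom, ι_comp_sigmaComparison_assoc, ← Functor.map_comp]

/-- finite locally free modules are locally projective -/
theorem liftAt_of_isFinLocFree {G H M : X.Modules} (p : G ⟶ H) [Epi p] (hM : FlatMod.IsFinLocFree M)
    (φ : M ⟶ H) (x : X) : LiftAt p φ x := by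
  obtain ⟨U, n, hx, ⟨i⟩⟩ := hM x
  let F := Scheme.Modules.restrictFunctor U.ι
  haveI : Epi (F.map p) := inferInstance
  obtain ⟨V, hxV, ψ, hψ⟩ := liftAt_freeMod (F.map p) (i.inv ≫ F.map φ) (⟨x, hx⟩ : (U : Scheme.{u}))
  let R := Scheme.Modules.restrictFunctor V.ι
  let e := resTrans U.ι V.ι (V.ι ≫ U.ι) rfl
  refine LiftAt.of_on (j := V.ι ≫ U.ι) (by exact ⟨⟨⟨x, hx⟩, hxV⟩, rfl⟩)
    ⟨e.inv.app M ≫ R.map i.hom ≫ ψ ≫ e.hom.app G, ?_⟩
  have hn := e.hom.naturality p
  simp only [Functor.comp_map] at hn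
  rw [Category.assoc, Category.assoc, Category.assoc, ← hn, reassoc_of% hψ, ← Functor.map_comp_assoc,
    Iso.hom_inv_id_assoc]
  exact NatIso.naturality_1 e φ

end Lift

section Homotopy

/-- `α` is null homotopic near `x` -/
def NullAt {X : Scheme.{u}} {E F : CochainComplex X.Modules ℤ} (α : E ⟶ F) (x : X) : Prop :=
  ∃ V : X.Opens, x ∈ V ∧ Nonempty (Homotopy ((DCoh.restrictCx V).map α) 0)

/-- null homotopies pass to composites of immersions -/
noncomputable def homotopyTrans {X U W : Scheme.{u}} (j : U ⟶ X) [IsOpenImmersion j] (k : W ⟶ U)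
    [IsOpenImmersion k] (j' : W ⟶ X) [IsOpenImmersion j'] (h : k ≫ j = j')
    {E F : CochainComplex X.Modules ℤ} (α : E ⟶ F)
    (H : Homotopy (((Scheme.Modules.restrictFunctor k).mapHomologicalComplex (ComplexShape.up ℤ)).map
      (((Scheme.Modules.restrictFunctor j).mapHomologicalComplex (ComplexShape.up ℤ)).map α)) 0) :
    Homotopy (((Scheme.Modules.restrictFunctor j').mapHomologicalComplex (ComplexShape.up ℤ)).map α) 0 :=
  (Homotopy.ofEq (NatIso.naturality_1 (resTransCx j k j' h) α).symm).trans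
    ((((H.compRight _).compLeft _)).trans (Homotopy.ofEq (by simp)))

theorem NullAt.of_on {X U W : Scheme.{u}} {j : U ⟶ X} [IsOpenImmersion j] {k : W ⟶ U} [IsOpenImmersion k]
    {E F : CochainComplex X.Modules ℤ} {α : E ⟶ F} {x : X} (hx : x ∈ (k ≫ j).opensRange)
    (H : Homotopy (((Scheme.Modules.restrictFunctor k).mapHomologicalComplex (ComplexShape.up ℤ)).map
      (((Scheme.Modules.restrictFunctor j).mapHomologicalComplex (ComplexShape.up ℤ)).map α)) 0) :
    NullAt α x := by
  refine ⟨(k ≫ j).opensRange, hx, ⟨homotopyTrans (k ≫ j) (k ≫ j).isoOpensRange.inv _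
    (k ≫ j).isoOpensRange_inv_comp α ?_⟩⟩
  exact ((Scheme.Modules.restrictFunctor (k ≫ j).isoOpensRange.inv).mapHomotopy
    (homotopyTrans j k (k ≫ j) rfl α H)).trans (Homotopy.ofEq (by simp))

theorem nullAt_aux : ∀ (n : ℕ) {X : Scheme.{u}} {E F : CochainComplex X.Modules ℤ} (α : E ⟶ F) (a : ℤ),
    (∀ i, FlatMod.IsFinLocFree (E.X i)) → (∀ i, i < a → IsZero (E.X i)) →
    (∀ i, a ≤ i → IsZero (F.homology i)) → (∀ i, a + n ≤ i → α.f i = 0) → ∀ x : X, NullAt α x := by
  intro n
  induction n with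
  | zero =>
    intro X E F α a _ hEa _ hα x
    obtain rfl : α = 0 := by
      ext i : 1
      rcases lt_or_ge i a with h | h
      · exact (hEa i h).eq_of_src _ _
      · exact hα i (by simpa using h)
    exact ⟨⊤, trivial, ⟨Homotopy.ofEq (by simp)⟩⟩
  | succ n ih =>
    intro X E F α a hE hEa hF hα x
    let b : ℤ := a + n
    have hb : α.f b ≫ F.d b (b + 1) = 0 := by
      rw [α.comm b (b + 1), hα (b + 1) (by simp only [b]; push_cast; omega), comp_zero]
    haveI hp : Epi (F.toCycles (b - 1) b) := Preadditive.epi_of_cancel_zero _ fun g hg => by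
      obtain ⟨l, hl⟩ := CokernelCofork.IsColimit.desc' (F.homologyIsCokernel (b - 1) b (by simp)) g hg
      rw [← hl, (hF b (by simp [b])).eq_of_src l 0, comp_zero]
    obtain ⟨U, hxU, ψ, hψ⟩ := liftAt_of_isFinLocFree (F.toCycles (b - 1) b) (hE b)
      (F.liftCycles (α.f b) (b + 1) (by simp) hb) x
    let R := Scheme.Modules.restrictFunctor U.ι
    let E' := ((R.mapHomologicalComplex (ComplexShape.up ℤ)).obj E)
    let F' := ((R.mapHomologicalComplex (ComplexShape.up ℤ)).obj F)
    let α' : E' ⟶ F' := (R.mapHomologicalComplex (ComplexShape.up ℤ)).map α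
    let h : ∀ i j, (ComplexShape.up ℤ).Rel j i → (E'.X i ⟶ F'.X j) := fun i j hij =>
      if hi : i = b then (E'.XIsoOfEq hi).hom ≫ ψ ≫
        (F'.XIsoOfEq (show b - 1 = j by simp at hij; omega)).hom
      else 0
    have hψ' : ψ ≫ R.map (F.d (b - 1) b) = R.map (α.f b) := by
      have := congrArg (fun t => t ≫ R.map (F.iCycles b)) hψ
      simpa [R, ← Functor.map_comp] using this
    have hnull : ∀ i, (α' - Homotopy.nullHomotopicMap' h).f i =
        α'.f i - (E'.d i (i + 1) ≫ h (i + 1) i (by simp) + h i (i - 1) (by simp) ≫ F'.d (i - 1) i) := fun i => by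
      rw [HomologicalComplex.sub_f_apply,
        Homotopy.nullHomotopicMap'_f (show (ComplexShape.up ℤ).Rel (i - 1) i by simp)
          (show (ComplexShape.up ℤ).Rel i (i + 1) by simp)]
    have key : ∀ i, a + (n : ℤ) ≤ i → (α' - Homotopy.nullHomotopicMap' h).f i = 0 := by
      intro i hi
      rw [hnull, show h (i + 1) i (by simp) = 0 from dif_neg (by omega), comp_zero, zero_add]
      by_cases hib : i = b
      · subst hib
        rw [show h b (b - 1) (by simp) = ψ by simp [h]; exact Category.comp_id _, sub_eq_zero]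
        exact hψ'.symm
      · rw [show h i (i - 1) (by simp) = 0 from dif_neg hib, zero_comp, sub_zero]
        simp only [α', Functor.mapHomologicalComplex_map_f]
        rw [hα i (by simp only [b] at hib; push_cast; omega), Functor.map_zero]
    obtain ⟨W, hxW, ⟨H⟩⟩ := ih (α' - Homotopy.nullHomotopicMap' h) a
      (fun i => Groth.L29.LocFree.of_iso ((Scheme.Modules.restrictFunctorIsoPullback U.ι).app _).symm
        (Groth.L29.LocFree.pullback U.ι (hE i)))
      (fun i hi => R.map_isZero (hEa i hi))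
      (fun i hi => (R.map_isZero (hF i hi)).of_iso
        ((F.sc i).mapHomologyIso R))
      key (⟨x, hxU⟩ : (U : Scheme.{u}))
    refine NullAt.of_on (j := U.ι) (k := W.ι) ⟨⟨⟨x, hxU⟩, hxW⟩, rfl⟩ ?_
    have H' := H.add ((Scheme.Modules.restrictFunctor W.ι).mapHomotopy (Homotopy.nullHomotopy' h))
    exact (Homotopy.ofEq (by rw [← Functor.map_add, sub_add_cancel])).trans
      (H'.trans (Homotopy.ofEq (by simp)))

/-- maps out of strictly perfect complexes into complexes acyclic in high degrees are locally null homotopic -/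
theorem nullAt_of_isStrictlyPerfect {X : Scheme.{u}} {E F : CochainComplex X.Modules ℤ} (α : E ⟶ F)
    (hE : DCoh.IsStrictlyPerfect E) (a : ℤ) (hEa : ∀ i, i < a → IsZero (E.X i))
    (hF : ∀ i, a ≤ i → IsZero (F.homology i)) (x : X) : NullAt α x := by
  obtain ⟨⟨a', b', hv⟩, hf⟩ := hE
  exact nullAt_aux (b' + 1 - a).toNat α a hf hEa hF
    (fun i hi => (hv i (Or.inr (by omega))).eq_of_src _ _) x

end Homotopy

end Groth.L29.DC
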