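import Groth.Agent.L29.DCoh.ModRes
import Groth.Prelude.Def_DDual2
import Groth.Prelude.Def_DCoh2

/-!
Derived base change computed on resolutions with K-flat tilde; tilde intertwines it with derived pullback.
-/

set_option autoImplicit false
set_option backward.isDefEq.respectTransparency false
set_option backward.isDefEq.respectTransparency.types false

universe u

open CategoryTheory CategoryTheory.Limits AlgebraicGeometry CochainComplex

attribute [local instance] HasDerivedCategory.standard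

namespace Groth.L29.DC.LBC


open Groth.L00 Groth.L29.DC

variable {R S : CommRingCat.{u}} (φ : R ⟶ S)

/-- localization functor -/
noncomputable abbrev qQh (R : CommRingCat.{u}) :
    CochainComplex (ModuleCat.{u} R) ℤ ⥤ Dual.D R :=
  HomotopyCategory.quotient (ModuleCat.{u} R) (ComplexShape.up ℤ) ⋙ DerivedCategory.Qh

instance isLocalization_qQh :
    (qQh R).IsLocalization (HomologicalComplex.quasiIso (ModuleCat.{u} R) (ComplexShape.up ℤ)) :=
  Functor.IsLocalization.of_iso _ (DerivedCategory.quotientCompQhIso (ModuleCat.{u} R)).symm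

/-- base change of complexes, localized -/
noncomputable abbrev Cxq : CochainComplex (ModuleCat.{u} R) ℤ ⥤ Dual.D S :=
  HomotopyCategory.quotient (ModuleCat.{u} R) (ComplexShape.up ℤ) ⋙ DRing.baseChangeKh φ.hom

/-- comparison with the termwise functor -/
noncomputable def cxqIso :
    Cxq φ ≅ ModRes.eCx φ ⋙ DerivedCategory.Q :=
  (Functor.associator _ _ _).symm ≪≫
    Functor.isoWhiskerRight ((ModuleCat.extendScalars.{u, u, u} φ.hom).mapHomotopyCategoryFactors (ComplexShape.up ℤ)) _ ≪≫
    Functor.associator _ _ _ ≪≫ Functor.isoWhiskerLeft _ (DerivedCategory.quotientCompQhIso (ModuleCat.{u} S))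

theorem isIso_cxq_map {P Q : CochainComplex (ModuleCat.{u} R) ℤ} (α : P ⟶ Q) [QuasiIso α]
    (hP : ModRes.IsKFlat (R := R) P) (hQ : ModRes.IsKFlat (R := R) Q) : IsIso ((Cxq φ).map α) := by
  haveI := ModRes.quasiIso_extend φ α hP hQ
  haveI : IsIso ((ModRes.eCx φ ⋙ DerivedCategory.Q).map α) :=
    Localization.inverts DerivedCategory.Q (HomologicalComplex.quasiIso (ModuleCat.{u} S) (ComplexShape.up ℤ))
      _ ((HomologicalComplex.mem_quasiIso_iff _).2 inferInstance)
  exact (NatIso.isIso_map_iff (cxqIso φ) α).2 inferInstance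

theorem inverts : (HomologicalComplex.quasiIso (ModuleCat.{u} R) (ComplexShape.up ℤ)).IsInvertedBy
    (ModRes.RF R ⋙ Cxq φ) :=
  fun P Q α hα => by
    haveI := (HomologicalComplex.mem_quasiIso_iff α).1 hα
    haveI := ModRes.quasiIso_RF_map (R := R) α
    exact isIso_cxq_map φ _ (ModRes.isKFlat_RF P) (ModRes.isKFlat_RF Q)

/-- the derived functor built from the resolution -/
noncomputable abbrev LF : Dual.D R ⥤ Dual.D S :=
  LeftDeriv.LF (Cxq φ) (HomologicalComplex.quasiIso (ModuleCat.{u} R) (ComplexShape.up ℤ))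
    (qQh R) (ModRes.RF R) (inverts φ)

/-- its counit -/
noncomputable abbrev α : qQh R ⋙ LF φ ⟶ Cxq φ :=
  LeftDeriv.α (Cxq φ) (HomologicalComplex.quasiIso (ModuleCat.{u} R) (ComplexShape.up ℤ))
    (qQh R) (ModRes.RF R) (ModRes.rF R) (inverts φ)

theorem isRightKanExtension : (LF φ).IsRightKanExtension (α φ) :=
  LeftDeriv.isRightKanExtension (Cxq φ) (HomologicalComplex.quasiIso (ModuleCat.{u} R) (ComplexShape.up ℤ))
    (qQh R) (ModRes.RF R) (ModRes.rF R)
    (fun K => (HomologicalComplex.mem_quasiIso_iff _).2 (ModRes.quasiIso_rF (R := R) K)) (inverts φ)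
    (fun K => haveI := ModRes.quasiIso_rF (R := R) ((ModRes.RF R).obj K)
      isIso_cxq_map φ _ (ModRes.isKFlat_RF _) (ModRes.isKFlat_RF _))

theorem hasLBaseChange : DRing.HasLBaseChange φ.hom :=
  haveI := isRightKanExtension φ
  LeftDeriv.hasLeftDerivedFunctor_of_quotient (HomotopyCategory.quotient (ModuleCat.{u} R) (ComplexShape.up ℤ))
    (fun Z => Z.as) (fun Z => rfl) (HomotopyCategory.quasiIso (ModuleCat.{u} R) (ComplexShape.up ℤ))
    DerivedCategory.Qh (DRing.baseChangeKh φ.hom) (LF φ) (α φ)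

variable [DRing.HasLBaseChange φ.hom]

/-- the counit on complexes -/
noncomputable def counit : qQh R ⋙ DRing.LBaseChange φ.hom ⟶ Cxq φ :=
  (Functor.associator _ _ _).hom ≫ Functor.whiskerLeft _
    ((DRing.baseChangeKh φ.hom).totalLeftDerivedCounit DerivedCategory.Qh
      (HomotopyCategory.quasiIso (ModuleCat.{u} R) (ComplexShape.up ℤ)))

theorem isIso_counit (P : CochainComplex (ModuleCat.{u} R) ℤ) (hP : ModRes.IsKFlat (R := R) P) :
    IsIso ((counit φ).app P) := by
  haveI := isRightKanExtension φ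
  have h : IsIso ((α φ).app P) := by
    rw [LeftDeriv.α_app]
    haveI := ModRes.quasiIso_rF (R := R) P
    haveI : IsIso ((Cxq φ).map ((ModRes.rF R).app P)) := isIso_cxq_map φ _ (ModRes.isKFlat_RF P) hP
    infer_instance
  haveI := LeftDeriv.isIso_totalCounit_of_quotient (HomotopyCategory.quotient (ModuleCat.{u} R) (ComplexShape.up ℤ))
    (fun Z => Z.as) (fun Z => rfl) (HomotopyCategory.quasiIso (ModuleCat.{u} R) (ComplexShape.up ℤ))
    DerivedCategory.Qh (DRing.baseChangeKh φ.hom) (LF φ) (α φ) P h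
  simp only [counit, NatTrans.comp_app, Functor.associator_hom_app, Functor.whiskerLeft_app]
  exact IsIso.comp_isIso

/-- derived base change is base change of the resolution, naturally -/
noncomputable def resIso : ModRes.RF R ⋙ Cxq φ ≅ qQh R ⋙ DRing.LBaseChange φ.hom :=
  haveI : ∀ P, IsIso ((Functor.whiskerLeft (ModRes.RF R) (counit φ)).app P) := fun P =>
    isIso_counit φ _ (ModRes.isKFlat_RF P)
  haveI : ∀ P : CochainComplex (ModuleCat.{u} R) ℤ, IsIso ((Functor.whiskerRight (ModRes.rF R)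
      (qQh R ⋙ DRing.LBaseChange φ.hom)).app P) := fun P => by
    haveI : IsIso ((qQh R).map ((ModRes.rF R).app P)) :=
      Localization.inverts _ (HomologicalComplex.quasiIso (ModuleCat.{u} R) (ComplexShape.up ℤ)) _
        ((HomologicalComplex.mem_quasiIso_iff _).2 (ModRes.quasiIso_rF (R := R) P))
    change IsIso ((DRing.LBaseChange φ.hom).map _)
    infer_instance
  haveI := NatIso.isIso_of_isIso_app (Functor.whiskerLeft (ModRes.RF R) (counit φ))
  haveI := NatIso.isIso_of_isIso_app (Functor.whiskerRight (ModRes.rF R)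
      (qQh R ⋙ DRing.LBaseChange φ.hom))
  (asIso (Functor.whiskerLeft (ModRes.RF R) (counit φ))).symm ≪≫
    asIso (Functor.whiskerRight (ModRes.rF R) (qQh R ⋙ DRing.LBaseChange φ.hom)) ≪≫
    Functor.leftUnitor _

variable [PreservesFiniteLimits (tilde.functor (R))]
  [PreservesFiniteLimits (tilde.functor (S))]
  [DCoh.HasLpull (Spec.map φ)]

local notation "G" => Scheme.Modules.pullback (Spec.map φ)

/-- tilde intertwines derived base change and derived pullback -/
noncomputable def tildeDIso :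
    DRing.LBaseChange φ.hom ⋙ DCoh.tildeD (S) ≅
      DCoh.tildeD (R) ⋙ DerivedApi.LG G :=
  let qS := HomotopyCategory.quotient (Spec R).Modules (ComplexShape.up ℤ) ⋙ DerivedCategory.Qh
  let TA := ModRes.tCx R
  let TB := ModRes.tCx (S)
  let dA := DCoh.tildeD (R)
  let dB := DCoh.tildeD (S)
  haveI : ∀ P, IsIso ((Functor.whiskerLeft (ModRes.RF R ⋙ TA) (DerivedApi.counit G)).app P) := fun P =>
    DerivedApi.isIso_counit (DerivedApi.acyclicKFlat_pullback _) _ (ModRes.isKFlat_RF P)
  haveI := NatIso.isIso_of_isIso_app (Functor.whiskerLeft (ModRes.RF R ⋙ TA) (DerivedApi.counit G))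
  haveI : ∀ P : CochainComplex (ModuleCat.{u} R) ℤ, IsIso ((Functor.whiskerRight (ModRes.rF R)
      (qQh R ⋙ dA ⋙ DerivedApi.LG G)).app P) := fun P => by
    haveI : IsIso ((qQh R).map ((ModRes.rF R).app P)) :=
      Localization.inverts _ (HomologicalComplex.quasiIso (ModuleCat.{u} R) (ComplexShape.up ℤ)) _
        ((HomologicalComplex.mem_quasiIso_iff _).2 (ModRes.quasiIso_rF (R := R) P))
    change IsIso ((DerivedApi.LG G).map (dA.map _))
    infer_instance
  haveI := NatIso.isIso_of_isIso_app (Functor.whiskerRight (ModRes.rF R) (qQh R ⋙ dA ⋙ DerivedApi.LG G))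
  let eA : qQh R ⋙ dA ≅ TA ⋙ qS :=
    Functor.isoWhiskerRight (DerivedCategory.quotientCompQhIso (ModuleCat.{u} R)) _ ≪≫
      (tilde.functor R).mapDerivedCategoryFactors ≪≫
      Functor.isoWhiskerLeft TA (DerivedCategory.quotientCompQhIso (Spec R).Modules).symm
  let e : qQh R ⋙ (DRing.LBaseChange φ.hom ⋙ dB) ≅ qQh R ⋙ (dA ⋙ DerivedApi.LG G) :=
    (Functor.associator _ _ _).symm ≪≫ Functor.isoWhiskerRight (resIso φ).symm _ ≪≫
      Functor.isoWhiskerRight (Functor.isoWhiskerLeft (ModRes.RF R) (cxqIso φ)) dB ≪≫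
      Functor.isoWhiskerLeft (ModRes.RF R ⋙ ModRes.eCx φ)
        (tilde.functor (S)).mapDerivedCategoryFactors ≪≫
      Functor.isoWhiskerLeft (ModRes.RF R)
        (Functor.isoWhiskerRight (ModRes.pullTildeCx φ).symm DerivedCategory.Q ≪≫
          Functor.isoWhiskerLeft TA (DerivedApi.cxqIso G).symm) ≪≫
      (asIso (Functor.whiskerLeft (ModRes.RF R ⋙ TA) (DerivedApi.counit G))).symm ≪≫
      Functor.isoWhiskerLeft (ModRes.RF R) (Functor.isoWhiskerRight eA.symm (DerivedApi.LG G)) ≪≫
      asIso (Functor.whiskerRight (ModRes.rF R) (qQh R ⋙ dA ⋙ DerivedApi.LG G)) ≪≫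
      Functor.leftUnitor _
  Localization.liftNatIso (qQh R) (HomologicalComplex.quasiIso (ModuleCat.{u} R) (ComplexShape.up ℤ))
    _ _ _ _ e

theorem nonempty_tildeDIso :
    Nonempty (DRing.LBaseChange φ.hom ⋙ DCoh.tildeD (S) ≅
      DCoh.tildeD (R) ⋙ DCoh.Lpull (Spec.map φ)) :=
  ⟨tildeDIso φ⟩

end Groth.L29.DC.LBC
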