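import Groth.Agent.L29.DCoh.Approx
import Groth.Agent.L00.LComp
import Groth.Agent.L21.Modules
import Groth.Prelude.Def_CxOX
import Groth.Prelude.Def_DCoh3

/-!
Perfect and pseudo-coherent objects of `D(O_X)` through the restriction functors, and derived pullback.
-/

set_option autoImplicit false
set_option backward.isDefEq.respectTransparency false
set_option backward.isDefEq.respectTransparency.types false

universe u

open CategoryTheory CategoryTheory.Limits AlgebraicGeometry CochainComplex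

attribute [local instance] HasDerivedCategory.standard

namespace Groth.L29.DC

variable {X Y : Scheme.{u}}

/-- restriction to an open subscheme -/
noncomputable abbrev resD (V : X.Opens) : DCoh.D X ⥤ DCoh.D (V : Scheme.{u}) := DCoh.restrictD V.ι

/-- it is termwise restriction on complexes -/
noncomputable def resQIso (V : X.Opens) (F : CochainComplex X.Modules ℤ) :
    (resD V).obj (DCoh.toD X F) ≅ DerivedCategory.Q.obj ((DCoh.restrictCx V).obj F) :=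
  (Scheme.Modules.restrictFunctor V.ι).mapDerivedCategoryFactors.app F

theorem isPerfect_iff (K : DCoh.D X) : DCoh.IsPerfect K ↔ ∀ x : X, ∃ (V : X.Opens), x ∈ V ∧
    ∃ E : CochainComplex (V : Scheme.{u}).Modules ℤ, DCoh.IsStrictlyPerfect E ∧
      Nonempty ((resD V).obj K ≅ DerivedCategory.Q.obj E) := by
  refine forall_congr' fun x => exists_congr fun V => and_congr_right fun _ => ⟨fun h => ?_, ?_⟩
  · obtain ⟨E, hE, ⟨e⟩⟩ := h _ ⟨DerivedCategory.Q.objObjPreimageIso K⟩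
    exact ⟨E, hE, ⟨(resD V).mapIso (DerivedCategory.Q.objObjPreimageIso K).symm ≪≫ resQIso V _ ≪≫ e⟩⟩
  · rintro ⟨E, hE, ⟨e⟩⟩ F ⟨eF⟩
    exact ⟨E, hE, ⟨(resQIso V F).symm ≪≫ (resD V).mapIso eF ≪≫ e⟩⟩

theorem isPseudoCoherentD_iff (m : ℤ) (K : DCoh.D X) : DCoh.IsPseudoCoherentD m K ↔
    ∀ x : X, ∃ (V : X.Opens), x ∈ V ∧ ∃ (E : CochainComplex (V : Scheme.{u}).Modules ℤ)
      (α : DerivedCategory.Q.obj E ⟶ (resD V).obj K), DCoh.IsStrictlyPerfect E ∧ Approx α m := by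
  refine forall_congr' fun x => exists_congr fun V => and_congr_right fun _ => ⟨fun h => ?_, ?_⟩
  · obtain ⟨E, α, hE, h1, h2⟩ := h _ ⟨DerivedCategory.Q.objObjPreimageIso K⟩
    exact ⟨E, α ≫ ((resQIso V _).symm ≪≫ (resD V).mapIso (DerivedCategory.Q.objObjPreimageIso K)).hom, hE,
      Approx.comp ⟨h1, h2⟩ (Approx.of_isIso _ m)⟩
  · rintro ⟨E, α, hE, h⟩ F ⟨eF⟩
    have h' := h.comp (Approx.of_isIso ((resD V).map eF.inv ≫ (resQIso V F).hom) m)
    exact ⟨E, α ≫ ((resD V).map eF.inv ≫ (resQIso V F).hom), hE, h'.1, h'.2⟩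

theorem isPerfect_of_iso {K L : DCoh.D X} (e : K ≅ L) (h : DCoh.IsPerfect K) : DCoh.IsPerfect L :=
  fun x => by
    obtain ⟨V, hx, hV⟩ := h x
    exact ⟨V, hx, fun F ⟨eF⟩ => hV F ⟨eF ≪≫ e.symm⟩⟩

theorem isPseudoCoherentD_of_iso {m : ℤ} {K L : DCoh.D X} (e : K ≅ L) (h : DCoh.IsPseudoCoherentD m K) :
    DCoh.IsPseudoCoherentD m L :=
  fun x => by
    obtain ⟨V, hx, hV⟩ := h x
    exact ⟨V, hx, fun F ⟨eF⟩ => hV F ⟨eF ≪≫ e.symm⟩⟩

open Groth.L00 Groth.L00.DerivedApi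

/-- on an open immersion the derived pullback is restriction -/
theorem nonempty_Lpull_iso_restrictD {U : Scheme.{u}} (j : U ⟶ X) [IsOpenImmersion j] [DCoh.HasLpull j]
    (K : DCoh.D X) : Nonempty ((DCoh.Lpull j).obj K ≅ (DCoh.restrictD j).obj K) := by
  obtain ⟨P, q, hP, -, hq, -⟩ := KFlat.exists_resolution (DerivedCategory.Q.objPreimage K)
  haveI : IsIso (DerivedCategory.Q.map q) :=
    Localization.inverts DerivedCategory.Q (HomologicalComplex.quasiIso X.Modules (ComplexShape.up ℤ)) _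
      ((HomologicalComplex.mem_quasiIso_iff _).2 hq)
  let e : DCoh.toD X P ≅ K := asIso (DerivedCategory.Q.map q) ≪≫ DerivedCategory.Q.objObjPreimageIso K
  exact ⟨(DCoh.Lpull j).mapIso e.symm ≪≫ objIso (acyclicKFlat_pullback j) P hP ≪≫
    DerivedCategory.Q.mapIso
      ((NatIso.mapHomologicalComplex (Scheme.Modules.restrictFunctorIsoPullback j).symm _).app P) ≪≫
    ((Scheme.Modules.restrictFunctor j).mapDerivedCategoryFactors.app P).symm ≪≫
    (DCoh.restrictD j).mapIso e⟩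

/-- derived pullback commutes with restriction to opens -/
theorem nonempty_restrict_Lpull (f : X ⟶ Y) [DCoh.HasLpull f] (V : Y.Opens) [DCoh.HasLpull (f ∣_ V)]
    (K : DCoh.D Y) :
    Nonempty ((resD (f ⁻¹ᵁ V)).obj ((DCoh.Lpull f).obj K) ≅
      (DCoh.Lpull (f ∣_ V)).obj ((resD V).obj K)) := by
  haveI := KFlat.hasLpull (f ⁻¹ᵁ V).ι
  haveI := KFlat.hasLpull V.ι
  haveI := KFlat.hasLpull ((f ∣_ V) ≫ V.ι)
  haveI := KFlat.hasLpull ((f ⁻¹ᵁ V).ι ≫ f)
  obtain ⟨e1⟩ := nonempty_Lpull_iso_restrictD (f ⁻¹ᵁ V).ι ((DCoh.Lpull f).obj K)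
  obtain ⟨e2⟩ := lpull_comp (f ⁻¹ᵁ V).ι f
  obtain ⟨e3⟩ := lpull_comp (f ∣_ V) V.ι
  obtain ⟨e4⟩ := nonempty_Lpull_iso_restrictD V.ι K
  exact ⟨e1.symm ≪≫ e2.app K ≪≫ eqToIso (by congr 2; exact (morphismRestrict_ι f V).symm) ≪≫
    (e3.app K).symm ≪≫ (DCoh.Lpull (f ∣_ V)).mapIso e4⟩

theorem isStrictlyPerfect_pullback (f : X ⟶ Y) {E : CochainComplex Y.Modules ℤ}
    (hE : DCoh.IsStrictlyPerfect E) :
    DCoh.IsStrictlyPerfect (((Scheme.Modules.pullback f).mapHomologicalComplex (ComplexShape.up ℤ)).obj E) := by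
  obtain ⟨⟨a, b, h⟩, h'⟩ := hE
  exact ⟨⟨a, b, fun i hi => (Scheme.Modules.pullback f).map_isZero (h i hi)⟩,
    fun i => Groth.L29.LocFree.pullback f (h' i)⟩

theorem isPerfect_Lpull (f : X ⟶ Y) [DCoh.HasLpull f] {K : DCoh.D Y} (hK : DCoh.IsPerfect K) :
    DCoh.IsPerfect ((DCoh.Lpull f).obj K) := by
  rw [isPerfect_iff] at hK ⊢
  intro x
  obtain ⟨V, hx, E, hE, ⟨e⟩⟩ := hK (f.base x)
  haveI := KFlat.hasLpull (f ∣_ V)
  obtain ⟨e'⟩ := nonempty_restrict_Lpull f V K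
  exact ⟨f ⁻¹ᵁ V, hx, _, isStrictlyPerfect_pullback (f ∣_ V) hE, ⟨e' ≪≫
    (DCoh.Lpull (f ∣_ V)).mapIso e ≪≫
    objIso (acyclicKFlat_pullback _) E (isKFlat_of_isStrictlyPerfect hE)⟩⟩

theorem isPseudoCoherentD_Lpull (f : X ⟶ Y) [DCoh.HasLpull f] {m : ℤ} {K : DCoh.D Y}
    (hK : DCoh.IsPseudoCoherentD m K) : DCoh.IsPseudoCoherentD m ((DCoh.Lpull f).obj K) := by
  rw [isPseudoCoherentD_iff] at hK ⊢
  intro x
  obtain ⟨V, hx, E, α, hE, hα⟩ := hK (f.base x)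
  haveI := KFlat.hasLpull (f ∣_ V)
  obtain ⟨e'⟩ := nonempty_restrict_Lpull f V K
  exact ⟨f ⁻¹ᵁ V, hx, _, (objIso (acyclicKFlat_pullback (f ∣_ V)) E
      (isKFlat_of_isStrictlyPerfect hE)).inv ≫ (DCoh.Lpull (f ∣_ V)).map α ≫ e'.inv,
    isStrictlyPerfect_pullback (f ∣_ V) hE,
    (Approx.of_isIso _ m).comp ((Approx.map_LG (acyclicKFlat_pullback (f ∣_ V)) hα).comp
      (Approx.of_isIso _ m))⟩

end Groth.L29.DC
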