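import Groth.Agent.L10.LocalDetect
import Groth.Agent.L10.KInj
import Mathlib.Algebra.Homology.DerivedCategory.ExactFunctor
import Mathlib.Algebra.Homology.HomotopyCategory.KInjective

/-!
The derived functor of an exact fully faithful left adjoint is fully faithful, with the expected essential
image, when the counit is a quasi-isomorphism on the relevant K-injective complexes.
-/

set_option autoImplicit false
set_option backward.defeqAttrib.useBackward true
set_option backward.isDefEq.respectTransparency false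
set_option backward.isDefEq.respectTransparency.types false

universe w w' v v' u u'

open CategoryTheory CategoryTheory.Limits DerivedCategory

namespace Groth.L29.DC.DerAdj

open Groth.L10

section Rep

variable {C : Type u} [Category.{v} C] [Abelian C] [HasDerivedCategory.{w} C]

theorem exists_Q_map {K I : CochainComplex C ℤ} [CochainComplex.IsKInjective I] (ξ : Q.obj K ⟶ Q.obj I) :
    ∃ φ : K ⟶ I, Q.map φ = ξ := by
  obtain ⟨g, hg⟩ := (KInjDerived.qh_bijective ((HomotopyCategory.quotient C (ComplexShape.up ℤ)).obj K)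
    ⟨(HomotopyCategory.quotient C (ComplexShape.up ℤ)).obj I, (inferInstance : CochainComplex.IsKInjective I)⟩).surjective
    ((quotientCompQhIso C).hom.app K ≫ ξ ≫ (quotientCompQhIso C).inv.app I)
  obtain ⟨φ, rfl⟩ := (HomotopyCategory.quotient C (ComplexShape.up ℤ)).map_surjective g
  refine ⟨φ, ?_⟩
  have hn := (quotientCompQhIso C).hom.naturality φ
  have h1 : Q.map φ = (quotientCompQhIso C).inv.app _ ≫
      Qh.map ((HomotopyCategory.quotient C (ComplexShape.up ℤ)).map φ) ≫ (quotientCompQhIso C).hom.app I := by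
    erw [hn, Iso.inv_hom_id_app_assoc]
  rw [h1, hg]
  simp only [Category.assoc, Iso.inv_hom_id_app_assoc]
  simp

theorem homotopic_of_Q_map_eq {K I : CochainComplex C ℤ} [CochainComplex.IsKInjective I] {φ φ' : K ⟶ I}
    (h : Q.map φ = Q.map φ') : Nonempty (Homotopy φ φ') := by
  refine ⟨HomotopyCategory.homotopyOfEq _ _ ((KInjDerived.qh_bijective _
    ⟨(HomotopyCategory.quotient C (ComplexShape.up ℤ)).obj I, (inferInstance : CochainComplex.IsKInjective I)⟩).injective ?_)⟩
  have hn := (quotientCompQhIso C).hom.naturality φ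
  have hn' := (quotientCompQhIso C).hom.naturality φ'
  rw [← cancel_mono ((quotientCompQhIso C).hom.app I)]
  exact hn.trans ((congrArg ((quotientCompQhIso C).hom.app K ≫ ·) h).trans hn'.symm)

end Rep

section Counit

variable {B : Type u'} [Category.{v'} B] [Abelian B] {C : Type u} [Category.{v} C] [Abelian C]
  {F : B ⥤ C} {G : C ⥤ B} (adj : F ⊣ G) [F.Additive] [G.Additive]

/-- counit on complexes -/
@[simps]
noncomputable def εI (I : CochainComplex C ℤ) :
    (F.mapHomologicalComplex (ComplexShape.up ℤ)).obj ((G.mapHomologicalComplex (ComplexShape.up ℤ)).obj I) ⟶ I where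
  f i := adj.counit.app (I.X i)
  comm' i j _ := (adj.counit.naturality (I.d i j)).symm

/-- unit on complexes -/
@[simps]
noncomputable def ηI (K : CochainComplex B ℤ) :
    K ⟶ (G.mapHomologicalComplex (ComplexShape.up ℤ)).obj ((F.mapHomologicalComplex (ComplexShape.up ℤ)).obj K) where
  f i := adj.unit.app (K.X i)
  comm' i j _ := (adj.unit.naturality (K.d i j)).symm

theorem map_η_ε {K : CochainComplex B ℤ} {I : CochainComplex C ℤ}
    (g : (F.mapHomologicalComplex (ComplexShape.up ℤ)).obj K ⟶ I) :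
    (F.mapHomologicalComplex (ComplexShape.up ℤ)).map (ηI adj K ≫ (G.mapHomologicalComplex (ComplexShape.up ℤ)).map g) ≫
      εI adj I = g := by
  ext i
  simp

theorem η_map_ε {K : CochainComplex B ℤ} {I : CochainComplex C ℤ}
    (u : K ⟶ (G.mapHomologicalComplex (ComplexShape.up ℤ)).obj I) :
    ηI adj K ≫ (G.mapHomologicalComplex (ComplexShape.up ℤ)).map
      ((F.mapHomologicalComplex (ComplexShape.up ℤ)).map u ≫ εI adj I) = u := by
  ext i
  simp

/-- cohomology in degree zero of sections is sections of cohomology -/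
def H0Sections (T : C) (I : CochainComplex C ℤ) : Prop :=
  (∀ y : T ⟶ I.homology 0, ∃ (z : T ⟶ I.X 0) (hz : z ≫ I.d 0 1 = 0),
    I.liftCycles z 1 (by simp) hz ≫ I.homologyπ 0 = y) ∧
  ∀ (z : T ⟶ I.X 0) (hz : z ≫ I.d 0 1 = 0),
    I.liftCycles z 1 (by simp) hz ≫ I.homologyπ 0 = 0 → ∃ b : T ⟶ I.X (-1), b ≫ I.d (-1) 0 = z

theorem h0Sections_of_bijective_cls [HasDerivedCategory.{w} C] (T : C) (I : CochainComplex C ℤ)
    [CochainComplex.IsKInjective I]
    (h : Function.Bijective (LocalDetect.cls : ((singleFunctor C 0).obj T ⟶ Q.obj I) → _)) : H0Sections T I := by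
  let mk : ∀ (z : T ⟶ I.X 0), z ≫ I.d 0 1 = 0 → ((CochainComplex.singleFunctor C 0).obj T ⟶ I) :=
    fun z hz => HomologicalComplex.mkHomFromSingle (c := ComplexShape.up ℤ) z (fun j hj => by
      obtain rfl : (0 : ℤ) + 1 = j := hj
      exact hz)
  refine ⟨fun y => ?_, fun z hz h0 => ?_⟩
  · obtain ⟨ξ, hξ⟩ := h.surjective (y ≫ (homologyFunctorFactors C 0).inv.app I)
    obtain ⟨φ, rfl⟩ := exists_Q_map (K := (CochainComplex.singleFunctor C 0).obj T) ξ
    let z : T ⟶ I.X 0 := (HomologicalComplex.singleObjXSelf (ComplexShape.up ℤ) 0 T).inv ≫ φ.f 0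
    have hz : z ≫ I.d 0 1 = 0 := by
      simp [z, φ.comm, CochainComplex.singleFunctor, CochainComplex.singleFunctors]
    have hφ : φ = mk z hz := HomologicalComplex.from_single_hom_ext (by simp [mk, z])
    refine ⟨z, hz, (cancel_mono ((homologyFunctorFactors C 0).inv.app I)).1 ?_⟩
    rw [Category.assoc]
    exact (LocalDetect.cls_Q z hz).symm.trans ((congrArg (fun t => LocalDetect.cls (Q.map t)) hφ).symm.trans hξ)
  · have hq : LocalDetect.cls (Q.map (mk z hz)) = 0 := by
      rw [LocalDetect.cls_Q z hz, ← Category.assoc, h0, zero_comp]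
    have hQ : Q.map (mk z hz) = Q.map (0 : (CochainComplex.singleFunctor C 0).obj T ⟶ I) := by
      rw [Functor.map_zero]
      exact h.injective (hq.trans LocalDetect.cls_zero.symm)
    obtain ⟨H⟩ := homotopic_of_Q_map_eq hQ
    have hc := H.comm 0
    rw [dNext_eq _ (show (ComplexShape.up ℤ).Rel 0 1 by simp), prevD_eq _ (show (ComplexShape.up ℤ).Rel (-1) 0 by simp)] at hc
    refine ⟨(HomologicalComplex.singleObjXSelf (ComplexShape.up ℤ) 0 T).inv ≫ H.hom 0 (-1), ?_⟩
    have := congrArg ((HomologicalComplex.singleObjXSelf (ComplexShape.up ℤ) 0 T).inv ≫ ·) hc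
    simp [mk, CochainComplex.singleFunctor, CochainComplex.singleFunctors] at this ⊢
    exact this.symm

variable [PreservesFiniteLimits F] [PreservesFiniteColimits F] [F.Full] [F.Faithful] (P : B) [Projective P]

theorem lift_of_epi {U V : C} (p : U ⟶ V) [Epi p] (hU : F.essImage U) (hV : F.essImage V) (w : F.obj P ⟶ V) :
    ∃ z : F.obj P ⟶ U, z ≫ p = w := by
  obtain ⟨U', ⟨eU⟩⟩ := hU
  obtain ⟨V', ⟨eV⟩⟩ := hV
  obtain ⟨p', hp'⟩ := F.map_surjective (eU.hom ≫ p ≫ eV.inv)
  haveI : Epi (F.map p') := by rw [hp']; infer_instance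
  haveI : Epi p' := F.epi_of_epi_map inferInstance
  obtain ⟨w', hw'⟩ := F.map_surjective (w ≫ eV.inv)
  refine ⟨F.map (Projective.factorThru w' p') ≫ eU.hom, ?_⟩
  rw [← cancel_mono eV.inv, ← hw', Category.assoc, Category.assoc, ← hp', ← F.map_comp, Projective.factorThru_comp]

omit [PreservesFiniteLimits F] [PreservesFiniteColimits F] [Projective P] in
theorem bijective_comp_counit (N : C) :
    Function.Bijective (fun x : F.obj P ⟶ F.obj (G.obj N) => x ≫ adj.counit.app N) := by
  have h : (fun x : F.obj P ⟶ F.obj (G.obj N) => x ≫ adj.counit.app N) ∘ (fun a : P ⟶ G.obj N => F.map a) =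
      (adj.homEquiv P N).symm := funext fun a => (adj.homEquiv_counit P N a).symm
  exact (Function.Bijective.of_comp_iff _ ⟨F.map_injective, F.map_surjective⟩).1 (h ▸ (adj.homEquiv P N).symm.bijective)

variable (hsep : ∀ ⦃M N : B⦄ (φ : M ⟶ N), Function.Bijective (fun x : P ⟶ M => x ≫ φ) → IsIso φ)

include hsep in
theorem quasiIsoAt_zero (I : CochainComplex C ℤ) (hN : F.essImage (I.homology 0))
    (hI : H0Sections (F.obj P) I) : QuasiIsoAt (εI adj I) 0 := by
  let K := (G.mapHomologicalComplex (ComplexShape.up ℤ)).obj I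
  let L := (F.mapHomologicalComplex (ComplexShape.up ℤ)).obj K
  have hc : F.essImage (L.cycles 0) := ⟨_, ⟨((K.sc 0).mapCyclesIso F).symm⟩⟩
  have hh : F.essImage (L.homology 0) := ⟨_, ⟨((K.sc 0).mapHomologyIso F).symm⟩⟩
  have hinj : ∀ (i : ℤ) (x : F.obj P ⟶ L.X i), x ≫ (εI adj I).f i = 0 → x = 0 := fun i x hx =>
    (bijective_comp_counit adj P (I.X i)).injective (hx.trans zero_comp.symm)
  have hb : Function.Bijective (fun x : F.obj P ⟶ L.homology 0 => x ≫ HomologicalComplex.homologyMap (εI adj I) 0) := by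
    refine ⟨fun x x' e => sub_eq_zero.1 ?_, fun y => ?_⟩
    · obtain ⟨c, hc'⟩ := lift_of_epi P (L.homologyπ 0) hc hh (x - x')
      let z : F.obj P ⟶ L.X 0 := c ≫ L.iCycles 0
      have hz : (z ≫ (εI adj I).f 0) ≫ I.d 0 1 = 0 := by
        simp only [z, L, K, Category.assoc, HomologicalComplex.Hom.comm, HomologicalComplex.iCycles_d_assoc, zero_comp, comp_zero]
      have h0 : I.liftCycles (z ≫ (εI adj I).f 0) 1 (by simp) hz ≫ I.homologyπ 0 = 0 := by
        have h1 : I.liftCycles (z ≫ (εI adj I).f 0) 1 (by simp) hz = c ≫ HomologicalComplex.cyclesMap (εI adj I) 0 := by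
          rw [← cancel_mono (I.iCycles 0)]
          simp [z, L, K]
        rw [h1, Category.assoc, ← HomologicalComplex.homologyπ_naturality, ← Category.assoc, hc',
          Preadditive.sub_comp]
        exact sub_eq_zero.2 e
      obtain ⟨b, hb⟩ := hI.2 _ hz h0
      obtain ⟨b', hb'⟩ := (bijective_comp_counit adj P (I.X (-1))).surjective b
      have hd : b' ≫ L.d (-1) 0 = z := sub_eq_zero.1 (hinj 0 _ (by
        rw [Preadditive.sub_comp, sub_eq_zero, Category.assoc, ← HomologicalComplex.Hom.comm, ← Category.assoc]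
        exact (congrArg (fun t => t ≫ I.d (-1) 0) hb').trans hb))
      have hc0 : c = b' ≫ L.toCycles (-1) 0 := by
        rw [← cancel_mono (L.iCycles 0), Category.assoc, HomologicalComplex.toCycles_i, hd]
      rw [← hc', hc0, Category.assoc, HomologicalComplex.toCycles_comp_homologyπ, comp_zero]
    · obtain ⟨z, hz, rfl⟩ := hI.1 y
      obtain ⟨z', hz'⟩ := (bijective_comp_counit adj P (I.X 0)).surjective z
      have hd : z' ≫ L.d 0 1 = 0 := hinj 1 _ (by
        rw [Category.assoc, ← HomologicalComplex.Hom.comm, ← Category.assoc]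
        exact (congrArg (fun t => t ≫ I.d 0 1) hz').trans hz)
      refine ⟨L.liftCycles z' 1 (by simp) hd ≫ L.homologyπ 0, ?_⟩
      simp only [Category.assoc, HomologicalComplex.homologyπ_naturality]
      rw [← Category.assoc]
      refine congrArg (fun t => t ≫ I.homologyπ 0) ?_
      rw [← cancel_mono (I.iCycles 0)]
      simpa using hz'
  rw [quasiIsoAt_iff_isIso_homologyMap]
  obtain ⟨M, ⟨eM⟩⟩ := hh
  obtain ⟨N, ⟨eN⟩⟩ := hN
  obtain ⟨φ, hφ⟩ := F.map_surjective (eM.hom ≫ HomologicalComplex.homologyMap (εI adj I) 0 ≫ eN.inv)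
  haveI : IsIso φ := hsep φ ⟨fun a b e => F.map_injective ((cancel_mono eM.hom).1 (hb.injective (by
      refine (cancel_mono eN.inv).1 ?_
      simp only [Category.assoc, ← hφ, ← F.map_comp]
      exact congrArg F.map e))), fun b => by
    obtain ⟨x, hx⟩ := hb.surjective (F.map b ≫ eN.hom)
    obtain ⟨a, ha⟩ := F.map_surjective (x ≫ eM.inv)
    refine ⟨a, F.map_injective ?_⟩
    simp only [F.map_comp, ha, hφ, Category.assoc, Iso.inv_hom_id_assoc]
    simp only [← Category.assoc]
    rw [show x ≫ HomologicalComplex.homologyMap (εI adj I) 0 = F.map b ≫ eN.hom from hx]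
    simp⟩
  have : HomologicalComplex.homologyMap (εI adj I) 0 = eM.inv ≫ F.map φ ≫ eN.hom := by simp [hφ]
  exact this ▸ (inferInstanceAs (IsIso (eM.inv ≫ F.map φ ≫ eN.hom)))

omit [PreservesFiniteLimits F] [PreservesFiniteColimits F] [F.Full] [F.Faithful] in
/-- the counit commutes with shifts -/
noncomputable def shiftCompIso (I : CochainComplex C ℤ) (j : ℤ) :
    (F.mapHomologicalComplex (ComplexShape.up ℤ)).obj ((G.mapHomologicalComplex (ComplexShape.up ℤ)).obj (I⟦j⟧)) ≅
      ((F.mapHomologicalComplex (ComplexShape.up ℤ)).obj ((G.mapHomologicalComplex (ComplexShape.up ℤ)).obj I))⟦j⟧ :=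
  HomologicalComplex.Hom.isoOfComponents (fun i => Iso.refl _) (fun i k _ => by
    simp [Functor.map_units_smul])

include hsep in
theorem quasiIso_εI (I : CochainComplex C ℤ) (hN : ∀ i, F.essImage (I.homology i))
    (hI : ∀ j : ℤ, H0Sections (F.obj P) (I⟦j⟧)) : QuasiIso (εI adj I) where
  quasiIsoAt j := by
    have h := quasiIsoAt_zero adj P hsep (I⟦j⟧)
      (Functor.essImage.ofIso (((CochainComplex.ShiftSequence.shiftIso C j 0 j (by omega)).app I).symm) (hN j)) (hI j)
    have he : εI adj (I⟦j⟧) = (shiftCompIso (F := F) (G := G) I j).hom ≫ (εI adj I)⟦j⟧' := by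
      ext i
      simp [shiftCompIso]
    rw [quasiIsoAt_iff_isIso_homologyMap] at h ⊢
    rw [he, HomologicalComplex.homologyMap_comp] at h
    haveI := IsIso.of_isIso_comp_left (HomologicalComplex.homologyMap (shiftCompIso (F := F) (G := G) I j).hom 0)
      (HomologicalComplex.homologyMap ((εI adj I)⟦j⟧') 0)
    exact (NatIso.isIso_map_iff (CochainComplex.ShiftSequence.shiftIso C j 0 j (by omega)) (εI adj I)).1
      (by simpa using this)

end Counit

section Derived

variable {B : Type u'} [Category.{v'} B] [Abelian B] [HasDerivedCategory.{w'} B]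
  {C : Type u} [Category.{v} C] [Abelian C] [HasDerivedCategory.{w} C] [KInjDerived.EnoughKInjectives C]
  {F : B ⥤ C} {G : C ⥤ B} (adj : F ⊣ G) [F.Additive] [G.Additive]
  [PreservesFiniteLimits F] [PreservesFiniteColimits F]

include adj in
theorem isKInjective_map (I : CochainComplex C ℤ) [CochainComplex.IsKInjective I] :
    CochainComplex.IsKInjective ((G.mapHomologicalComplex (ComplexShape.up ℤ)).obj I) :=
  Groth.L10.s0481 G F adj I inferInstance

omit [KInjDerived.EnoughKInjectives C] [G.Additive] in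
theorem map_Q {K L : CochainComplex B ℤ} (h : K ⟶ L) :
    F.mapDerivedCategory.map (Q.map h) = F.mapDerivedCategoryFactors.hom.app K ≫
      Q.map ((F.mapHomologicalComplex (ComplexShape.up ℤ)).map h) ≫ F.mapDerivedCategoryFactors.inv.app L := by
  rw [← Functor.mapDerivedCategoryFactors_hom_naturality_assoc, Iso.hom_inv_id_app]
  exact (Category.comp_id _).symm

variable (hε : ∀ I : CochainComplex C ℤ, CochainComplex.IsKInjective I →
  (∀ i, F.essImage (I.homology i)) → QuasiIso (εI adj I))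

variable [F.Full] [F.Faithful]

include hε in
theorem exists_good_res (N : CochainComplex B ℤ) : ∃ (I : CochainComplex C ℤ)
    (f : (F.mapHomologicalComplex (ComplexShape.up ℤ)).obj N ⟶ I), CochainComplex.IsKInjective I ∧ QuasiIso f ∧
      QuasiIso (ηI adj N ≫ (G.mapHomologicalComplex (ComplexShape.up ℤ)).map f) := by
  obtain ⟨I, f, hI, hf⟩ := KInjDerived.EnoughKInjectives.exists_res ((F.mapHomologicalComplex (ComplexShape.up ℤ)).obj N)
  refine ⟨I, f, hI, hf, ?_⟩
  haveI := hε I hI fun i => ⟨_, ⟨((N.sc i).mapHomologyIso F).symm ≪≫ isoOfQuasiIsoAt f i⟩⟩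
  let u := ηI adj N ≫ (G.mapHomologicalComplex (ComplexShape.up ℤ)).map f
  haveI : QuasiIso ((F.mapHomologicalComplex (ComplexShape.up ℤ)).map u ≫ εI adj I) := by
    rw [map_η_ε]; exact hf
  haveI := quasiIso_of_comp_right ((F.mapHomologicalComplex (ComplexShape.up ℤ)).map u) (εI adj I)
  exact (HomologicalComplex.quasiIso_map_iff_of_preservesHomology u F).1 inferInstance

include hε in
theorem faithful_Q (M N : CochainComplex B ℤ) (ψ ψ' : Q.obj M ⟶ Q.obj N)
    (h : F.mapDerivedCategory.map ψ = F.mapDerivedCategory.map ψ') : ψ = ψ' := by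
  obtain ⟨I, f, hI, hf, hη⟩ := exists_good_res adj hε N
  haveI := isKInjective_map adj I
  let η := ηI adj N ≫ (G.mapHomologicalComplex (ComplexShape.up ℤ)).map f
  haveI : IsIso (Q.map η) := (isIso_Q_map_iff_quasiIso _ _).2 hη
  obtain ⟨u, hu⟩ := exists_Q_map (ψ ≫ Q.map η)
  obtain ⟨u', hu'⟩ := exists_Q_map (ψ' ≫ Q.map η)
  have e : F.mapDerivedCategory.map (Q.map u) = F.mapDerivedCategory.map (Q.map u') := by
    rw [hu, hu']
    simp only [Functor.map_comp, h]
  rw [map_Q, map_Q, cancel_epi, cancel_mono] at e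
  have e2 := congrArg (· ≫ Q.map (εI adj I)) e
  simp only [← Functor.map_comp] at e2
  obtain ⟨H⟩ := homotopic_of_Q_map_eq e2
  have H' := ((G.mapHomotopy H).compLeft (ηI adj M))
  rw [η_map_ε, η_map_ε] at H'
  rw [← cancel_mono (Q.map η), ← hu, ← hu']
  exact (HomologicalComplexUpToQuasiIso.Q_map_eq_of_homotopy H')

include hε in
theorem full_Q (M N : CochainComplex B ℤ) (φ : F.mapDerivedCategory.obj (Q.obj M) ⟶ F.mapDerivedCategory.obj (Q.obj N)) :
    ∃ ψ : Q.obj M ⟶ Q.obj N, F.mapDerivedCategory.map ψ = φ := by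
  obtain ⟨I, f, hI, hf, hη⟩ := exists_good_res adj hε N
  let η := ηI adj N ≫ (G.mapHomologicalComplex (ComplexShape.up ℤ)).map f
  haveI : IsIso (Q.map η) := (isIso_Q_map_iff_quasiIso _ _).2 hη
  haveI : IsIso (Q.map f) := (isIso_Q_map_iff_quasiIso _ _).2 hf
  obtain ⟨g, hg⟩ := exists_Q_map (F.mapDerivedCategoryFactors.inv.app M ≫ φ ≫
    F.mapDerivedCategoryFactors.hom.app N ≫ Q.map f)
  refine ⟨Q.map (ηI adj M ≫ (G.mapHomologicalComplex (ComplexShape.up ℤ)).map g) ≫ inv (Q.map η), ?_⟩
  rw [← cancel_mono (F.mapDerivedCategory.map (Q.map η)), ← Functor.map_comp, Category.assoc,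
    IsIso.inv_hom_id, Category.comp_id, map_Q, map_Q]
  haveI := hε I hI fun i => ⟨_, ⟨((N.sc i).mapHomologyIso F).symm ≪≫ isoOfQuasiIsoAt f i⟩⟩
  haveI : IsIso (Q.map (εI adj I)) := (isIso_Q_map_iff_quasiIso _ _).2 inferInstance
  rw [← cancel_mono (F.mapDerivedCategoryFactors.hom.app ((G.mapHomologicalComplex (ComplexShape.up ℤ)).obj I)),
    ← cancel_mono (Q.map (εI adj I))]
  simp only [Category.assoc, Iso.inv_hom_id_app_assoc]
  rw [← Functor.map_comp, ← Functor.map_comp, map_η_ε, map_η_ε, hg]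
  exact Iso.hom_inv_id_app_assoc _ _ _

include hε in
theorem fullyFaithful : F.mapDerivedCategory.Full ∧ F.mapDerivedCategory.Faithful := by
  refine ⟨⟨fun {X Y} φ => ?_⟩, ⟨fun {X Y} ψ ψ' h => ?_⟩⟩
  · let eX := Q.objObjPreimageIso X
    let eY := Q.objObjPreimageIso Y
    obtain ⟨ψ, hψ⟩ := full_Q adj hε _ _ (F.mapDerivedCategory.map eX.hom ≫ φ ≫ F.mapDerivedCategory.map eY.inv)
    refine ⟨eX.inv ≫ ψ ≫ eY.hom, ?_⟩
    rw [Functor.map_comp, Functor.map_comp, hψ]
    simp
  · let eX := Q.objObjPreimageIso X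
    let eY := Q.objObjPreimageIso Y
    have := faithful_Q adj hε _ _ (eX.hom ≫ ψ ≫ eY.inv) (eX.hom ≫ ψ' ≫ eY.inv) (by simp [h])
    simpa using this

include hε in
theorem mem_essImage_iff [F.essImage.IsClosedUnderIsomorphisms] (K : DerivedCategory C) :
    (∀ i, F.essImage ((homologyFunctor C i).obj K)) ↔ ∃ M, Nonempty (F.mapDerivedCategory.obj M ≅ K) := by
  constructor
  · intro h
    obtain ⟨I, hI, ⟨e⟩⟩ := LocalDetect.exists_rep K
    haveI := hε I hI fun i => Functor.essImage.ofIso
      ((homologyFunctor C i).mapIso e.symm ≪≫ (homologyFunctorFactors C i).app I) (h i)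
    haveI : IsIso (Q.map (εI adj I)) := (isIso_Q_map_iff_quasiIso _ _).2 inferInstance
    exact ⟨Q.obj ((G.mapHomologicalComplex (ComplexShape.up ℤ)).obj I),
      ⟨F.mapDerivedCategoryFactors.app _ ≪≫ asIso (Q.map (εI adj I)) ≪≫ e⟩⟩
  · rintro ⟨M, ⟨e⟩⟩ i
    let eM := Q.objObjPreimageIso M
    exact ⟨_, ⟨(((Q.objPreimage M).sc i).mapHomologyIso F).symm ≪≫
      ((homologyFunctorFactors C i).app ((F.mapHomologicalComplex (ComplexShape.up ℤ)).obj (Q.objPreimage M))).symm ≪≫ (homologyFunctor C i).mapIso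
        ((F.mapDerivedCategoryFactors.app _).symm ≪≫ F.mapDerivedCategory.mapIso eM ≪≫ e)⟩⟩

end Derived

end Groth.L29.DC.DerAdj
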