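import Groth.Agent.L29.DCoh.QRlim
import Groth.Agent.L29.DCoh.DerAdj
import Groth.Agent.L18.TildeFunctor
import Groth.Agent.L10.HomotopyProd
import Mathlib.Algebra.Category.ModuleCat.Projective

/-!
`D(A) ⥤ D(O_{Spec A})` is fully faithful with essential image `D_QCoh`.
-/

set_option autoImplicit false
set_option backward.isDefEq.respectTransparency false
set_option backward.isDefEq.respectTransparency.types false

universe u

open CategoryTheory CategoryTheory.Limits AlgebraicGeometry Opposite DerivedCategory

attribute [local instance] HasDerivedCategory.standard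

namespace Groth.L29.DC.TildeD

variable {R : CommRingCat.{u}}

theorem isQCoh_iff_essImage (M : (Spec R).Modules) : Coh.IsQCoh M ↔ (tilde.functor R).essImage M :=
  ⟨fun h => haveI : M.IsQuasicoherent := h; ⟨_, ⟨Groth.L18.TildeF.counitIso M⟩⟩,
    fun ⟨N, ⟨e⟩⟩ => Groth.L18.TildeF.isQCoh_of_iso e (Groth.L18.TildeF.isQCoh_tilde N)⟩

/-- `A` as a module over itself -/
abbrev free₁ (R : CommRingCat.{u}) : ModuleCat.{u} R := ModuleCat.of R R

theorem hsep ⦃M N : ModuleCat.{u} R⦄ (φ : M ⟶ N)
    (h : Function.Bijective (fun x : free₁ R ⟶ M => x ≫ φ)) : IsIso φ := by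
  rw [ConcreteCategory.isIso_iff_bijective]
  refine ⟨fun a b e => ?_, fun n => ?_⟩
  · have := h.injective (a₁ := ModuleCat.ofHom (LinearMap.toSpanSingleton R M a))
      (a₂ := ModuleCat.ofHom (LinearMap.toSpanSingleton R M b)) (ModuleCat.hom_ext (LinearMap.ext_ring (by
        change φ ((1 : R) • a) = φ ((1 : R) • b)
        rw [one_smul, one_smul, e])))
    have h1 := congrArg (fun t : free₁ R ⟶ M => t (1 : R)) this
    change (1 : R) • a = (1 : R) • b at h1
    rwa [one_smul, one_smul] at h1
  · obtain ⟨x, hx⟩ := h.surjective (ModuleCat.ofHom (LinearMap.toSpanSingleton R N n))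
    exact ⟨x (1 : R), (congrArg (fun t : free₁ R ⟶ N => t (1 : R)) hx).trans (one_smul R n)⟩

instance additive_Γ : (moduleSpecΓFunctor (R := R)).Additive := tilde.adjunction.right_adjoint_additive

/-- the section of a morphism out of the free module -/
noncomputable def secEl {M : (Spec R).Modules} (a : QRlim.free (Spec R) ⊤ ⟶ M) : moduleSpecΓFunctor.obj M :=
  Groth.L10.SiteCover.sec (Spec R).sheaf (⊤ : (Spec R).Opens) M a

/-- morphisms out of the free module on the whole space are global sections -/
noncomputable def secTop (M : (Spec R).Modules) : (QRlim.free (Spec R) ⊤ ⟶ M) ≃ (free₁ R ⟶ moduleSpecΓFunctor.obj M) :=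
  (Groth.L10.SiteCover.sec (Spec R).sheaf (⊤ : (Spec R).Opens) M).trans
    ((LinearMap.ringLmapEquivSelf R R (moduleSpecΓFunctor.obj M : Type u)).symm.toEquiv.trans
      { toFun := ModuleCat.ofHom, invFun := fun g => g.hom, left_inv := fun _ => rfl, right_inv := fun _ => rfl })

theorem secTop_comp {M N : (Spec R).Modules} (a : QRlim.free (Spec R) ⊤ ⟶ M) (φ : M ⟶ N) :
    secTop N (a ≫ φ) = secTop M a ≫ moduleSpecΓFunctor.map φ := by
  refine ModuleCat.hom_ext (LinearMap.ext_ring ?_)
  change (1 : R) • secEl (a ≫ φ) = (moduleSpecΓFunctor.map φ) ((1 : R) • secEl a)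
  rw [one_smul, one_smul]
  exact Groth.L10.SiteCover.sec_comp (Spec R).sheaf (⊤ : (Spec R).Opens) a φ

/-- morphisms out of the free module on the whole space, via tilde -/
noncomputable def freeEquiv (M : (Spec R).Modules) :
    ((tilde.functor R).obj (free₁ R) ⟶ M) ≃ (QRlim.free (Spec R) ⊤ ⟶ M) :=
  (tilde.adjunction.homEquiv _ _).trans (secTop M).symm

theorem freeEquiv_comp {M N : (Spec R).Modules} (a : (tilde.functor R).obj (free₁ R) ⟶ M) (φ : M ⟶ N) :
    freeEquiv N (a ≫ φ) = freeEquiv M a ≫ φ := by
  apply (secTop N).injective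
  rw [secTop_comp, freeEquiv, freeEquiv, Equiv.trans_apply, Equiv.trans_apply, Equiv.apply_symm_apply,
    Equiv.apply_symm_apply, Adjunction.homEquiv_naturality_right]

/-- the free module on the whole space is tilde of `A` -/
noncomputable def freeIso : QRlim.free (Spec R) ⊤ ≅ (tilde.functor R).obj (free₁ R) where
  hom := freeEquiv _ (𝟙 _)
  inv := (freeEquiv _).symm (𝟙 _)
  hom_inv_id := by
    have h := freeEquiv_comp (𝟙 ((tilde.functor R).obj (free₁ R)))
      ((freeEquiv (QRlim.free (Spec R) ⊤)).symm (𝟙 _))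
    rw [Category.id_comp, Equiv.apply_symm_apply] at h
    exact h.symm
  inv_hom_id := by
    apply (freeEquiv _).injective
    rw [freeEquiv_comp, Equiv.apply_symm_apply, Category.id_comp]

theorem small_tilde_free₁ {M : (Spec R).Modules} (hM : Coh.IsQCoh M) :
    Groth.L10.TowerStab.Small 0 ((tilde.functor R).obj (free₁ R)) M := fun m hm g =>
  (cancel_epi ((singleFunctor (Spec R).Modules 0).mapIso freeIso).hom).1
    ((QRlim.small_free hM (isAffineOpen_top _) m hm _).trans comp_zero.symm)

theorem hasProducts (X : Scheme.{u}) (K : ℕ → DCoh.D X) : HasProduct K := by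
  haveI := QRlim.enoughKInj X
  haveI : HasProductsOfShape ℕ (CochainComplex X.Modules ℤ) := inferInstance
  haveI := Groth.L10.DerivedProd.hasProductsOfShape (A := X.Modules) (ι := ℕ)
  infer_instance

theorem bijective_cls {K : DCoh.D (Spec R)} (hK : DCoh.IsQCohD K) :
    Function.Bijective (Groth.L10.LocalDetect.cls :
      ((singleFunctor (Spec R).Modules 0).obj ((tilde.functor R).obj (free₁ R)) ⟶ K) → _) := by
  haveI := QRlim.enoughKInj (Spec R)
  haveI := hasProducts (Spec R) fun n : ℕ =>
    ((TStructure.t : Triangulated.TStructure (DCoh.D (Spec R))).truncGE (-(n : ℤ))).obj K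
  exact QRlim.bijective_cls (QRlim.isRlimVia hK) _ fun i => small_tilde_free₁ (hK i)

instance projective_free₁ : Projective (free₁ R) :=
  inferInstance

theorem quasiIso_ε (I : CochainComplex (Spec R).Modules ℤ) (hI : I.IsKInjective)
    (h : ∀ i, (tilde.functor R).essImage (I.homology i)) : QuasiIso (DerAdj.εI tilde.adjunction I) := by
  haveI := Groth.L18.TildeF.tilde_preservesFiniteLimits (R := R)
  refine DerAdj.quasiIso_εI tilde.adjunction (free₁ R) hsep I h fun j => ?_
  haveI : CochainComplex.IsKInjective (I⟦j⟧) := inferInstance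
  refine DerAdj.h0Sections_of_bijective_cls _ _ (bijective_cls fun i => ?_)
  exact (isQCoh_iff_essImage _).2 (Functor.essImage.ofIso
    (((homologyFunctorFactors (Spec R).Modules i).app (I⟦j⟧)) ≪≫
      (CochainComplex.ShiftSequence.shiftIso (Spec R).Modules j i (j + i) rfl).app I).symm (h (j + i)))

theorem fullyFaithful [PreservesFiniteLimits (tilde.functor R)] :
    (DCoh.tildeD R).Full ∧ (DCoh.tildeD R).Faithful := by
  haveI := QRlim.enoughKInj (Spec R)
  exact DerAdj.fullyFaithful tilde.adjunction (fun I hI h => quasiIso_ε I hI h)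

set_option maxHeartbeats 1000000 in
theorem isQCohD_iff [PreservesFiniteLimits (tilde.functor R)] (K : DCoh.D (Spec R)) :
    DCoh.IsQCohD K ↔ ∃ M, Nonempty ((DCoh.tildeD R).obj M ≅ K) := by
  haveI := QRlim.enoughKInj (Spec R)
  have h := DerAdj.mem_essImage_iff (F := tilde.functor R) tilde.adjunction
    (fun I hI h => quasiIso_ε I hI h) K
  exact (forall_congr' fun i => isQCoh_iff_essImage (DCoh.HD K i)).trans h

end Groth.L29.DC.TildeD
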