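import Groth.Agent.L29.DCoh.Amplitude
import Groth.Agent.L29.DCoh.Restrict
import Groth.Agent.L29.DCoh.TildeD
import Groth.Agent.L29.DCoh.LBC
import Groth.Agent.L00.LocalData

/-!
Quasi-coherence of cohomology sheaves is local; derived pullback keeps it.
-/

set_option autoImplicit false
set_option backward.isDefEq.respectTransparency false
set_option backward.isDefEq.respectTransparency.types false

universe u

open CategoryTheory CategoryTheory.Limits AlgebraicGeometry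

attribute [local instance] HasDerivedCategory.standard

namespace Groth.L29.DC

variable {X Y U : Scheme.{u}}

theorem isQCoh_of_iso' {M N : X.Modules} (e : M ≅ N) (h : Coh.IsQCoh M) : Coh.IsQCoh N :=
  (SheafOfModules.isQuasicoherent X.ringCatSheaf).prop_of_iso e h

theorem isQCohD_of_iso {K L : DCoh.D X} (e : K ≅ L) (h : DCoh.IsQCohD K) : DCoh.IsQCohD L :=
  fun i => isQCoh_of_iso' ((DerivedCategory.homologyFunctor _ i).mapIso e) (h i)

theorem isQCohD_restrictD (j : U ⟶ X) [IsOpenImmersion j] {K : DCoh.D X} (h : DCoh.IsQCohD K) :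
    DCoh.IsQCohD ((DCoh.restrictD j).obj K) := fun i =>
  haveI : (DCoh.HD K i).IsQuasicoherent := h i
  isQCoh_of_iso' (HDResIso j K i).symm
    (Scheme.Modules.isQuasicoherent_restrictFunctor j (DCoh.HD K i))

theorem isQCohD_of_charts {K : DCoh.D X}
    (h : ∀ x : X, ∃ (R : CommRingCat.{u}) (j : Spec R ⟶ X) (_ : IsOpenImmersion j),
      x ∈ j.opensRange ∧ DCoh.IsQCohD ((DCoh.restrictD j).obj K)) : DCoh.IsQCohD K := fun i => by
  refine Groth.L00.Local.isQCoh_of_tilde_charts _ fun x => ?_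
  obtain ⟨R, j, hj, hx, hq⟩ := h x
  haveI : (DCoh.HD ((DCoh.restrictD j).obj K) i).IsQuasicoherent := hq i
  exact ⟨R, j, hj, _, hx, ⟨(HDResIso j K i).symm ≪≫
    (asIso (DCoh.HD ((DCoh.restrictD j).obj K) i).fromTildeΓ).symm⟩⟩

/-- tilde objects have quasi-coherent cohomology -/
theorem isQCohD_tildeD {R : CommRingCat.{u}} [PreservesFiniteLimits (tilde.functor R)]
    (M : DerivedCategory (ModuleCat.{u} R)) : DCoh.IsQCohD ((DCoh.tildeD R).obj M) :=
  (TildeD.isQCohD_iff _).2 ((DCoh.tildeD R).obj_mem_essImage M)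

theorem isQCohD_Lpull_Spec {R S : CommRingCat.{u}} (φ : R ⟶ S) [DCoh.HasLpull (Spec.map φ)]
    {K : DCoh.D (Spec R)} (hK : DCoh.IsQCohD K) : DCoh.IsQCohD ((DCoh.Lpull (Spec.map φ)).obj K) := by
  haveI := Groth.L18.TildeF.tilde_preservesFiniteLimits (R := R)
  haveI := Groth.L18.TildeF.tilde_preservesFiniteLimits (R := S)
  haveI := LBC.hasLBaseChange φ
  obtain ⟨M, ⟨e⟩⟩ := (TildeD.isQCohD_iff K).1 hK
  exact isQCohD_of_iso ((LBC.tildeDIso φ).app M ≪≫ (DCoh.Lpull (Spec.map φ)).mapIso e)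
    (isQCohD_tildeD ((DRing.LBaseChange φ.hom).obj M))

/-- derived pullback keeps quasi-coherent cohomology -/
theorem isQCohD_Lpull (f : Y ⟶ X) [DCoh.HasLpull f] {K : DCoh.D X} (hK : DCoh.IsQCohD K) :
    DCoh.IsQCohD ((DCoh.Lpull f).obj K) := by
  refine isQCohD_of_charts fun y => ?_
  obtain ⟨_, ⟨V, hV, rfl⟩, hyV, -⟩ := X.isBasis_affineOpens.exists_subset_of_mem_open
    (Set.mem_univ (f.base y)) isOpen_univ
  obtain ⟨_, ⟨W, hW, rfl⟩, hyW, hWV⟩ := Y.isBasis_affineOpens.exists_subset_of_mem_open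
    (show y ∈ ((f ⁻¹ᵁ V : Y.Opens) : Set Y) from hyV) (f ⁻¹ᵁ V).isOpen
  refine ⟨_, hW.fromSpec, inferInstance, by rwa [hW.opensRange_fromSpec], ?_⟩
  let i := hW.fromSpec
  let j := hV.fromSpec
  let φ : Γ(X, V) ⟶ Γ(Y, W) := f.appLE V W hWV
  have hc : Spec.map φ ≫ j = i ≫ f := IsAffineOpen.SpecMap_appLE_fromSpec f hV hW hWV
  haveI := Groth.L00.KFlat.hasLpull i
  haveI := Groth.L00.KFlat.hasLpull j
  haveI := Groth.L00.KFlat.hasLpull (Spec.map φ)
  haveI := Groth.L00.KFlat.hasLpull (i ≫ f)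
  haveI := Groth.L00.KFlat.hasLpull (Spec.map φ ≫ j)
  obtain ⟨e₁⟩ := nonempty_Lpull_iso_restrictD i ((DCoh.Lpull f).obj K)
  obtain ⟨e₂⟩ := Groth.L00.DerivedApi.lpull_comp i f
  obtain ⟨e₃⟩ := Groth.L00.DerivedApi.lpull_comp (Spec.map φ) j
  obtain ⟨e₄⟩ := nonempty_Lpull_iso_restrictD j K
  refine isQCohD_of_iso ((DCoh.Lpull (Spec.map φ)).mapIso e₄.symm ≪≫ e₃.app K ≪≫
    eqToIso (by congr 2) ≪≫ (e₂.app K).symm ≪≫ e₁) ?_
  exact isQCohD_Lpull_Spec φ (isQCohD_restrictD j hK)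

end Groth.L29.DC
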