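import Groth.Agent.L29.DCoh.PerfectIff
import Groth.Prelude.Def_KSix

/-!
Locality of tor amplitude; perfect amplitude versus pseudo-coherence and tor amplitude.
-/

set_option autoImplicit false
set_option backward.isDefEq.respectTransparency false
set_option backward.isDefEq.respectTransparency.types false

universe u

open CategoryTheory CategoryTheory.Limits AlgebraicGeometry Opposite CochainComplex

attribute [local instance] HasDerivedCategory.standard preservesBinaryBiproducts_of_preservesBinaryCoproducts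

namespace Groth.L29.DC

variable {X : Scheme.{u}}

/-- cohomology sheaves commute with restriction -/
noncomputable def HDResIso {U : Scheme.{u}} (j : U ⟶ X) [IsOpenImmersion j] (K : DCoh.D X) (i : ℤ) :
    DCoh.HD ((DCoh.restrictD j).obj K) i ≅ (DCoh.HD K i).restrict j :=
  let F := DerivedCategory.Q.objPreimage K
  let R := Scheme.Modules.restrictFunctor j
  let e := DerivedCategory.Q.objObjPreimageIso K
  (DerivedCategory.homologyFunctor _ i).mapIso ((DCoh.restrictD j).mapIso e.symm ≪≫ R.mapDerivedCategoryFactors.app F) ≪≫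
    (DerivedCategory.homologyFunctorFactors U.Modules i).app ((R.mapHomologicalComplex (ComplexShape.up ℤ)).obj F) ≪≫
    (F.sc i).mapHomologyIso R ≪≫
    R.mapIso (((DerivedCategory.homologyFunctorFactors X.Modules i).app F).symm ≪≫
      (DerivedCategory.homologyFunctor _ i).mapIso e)

theorem isZero_HD_of_local (K : DCoh.D X) (i : ℤ)
    (h : ∀ x : X, ∃ V : X.Opens, x ∈ V ∧ IsZero (DCoh.HD ((resD V).obj K) i)) : IsZero (DCoh.HD K i) := by
  choose V hV hz using h
  exact Groth.L21.Mod.isZero_of_restrict (fun x => (V x).ι) (fun x => ⟨x, ⟨x, hV x⟩, rfl⟩) _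
    fun x => (hz x).of_iso (HDResIso (V x).ι K i).symm

theorem isZero_HD_of_flatAmp {K : DCoh.D X} {a b i : ℤ} (h : DCoh.HasFlatAmplitudeIn a b K)
    (hi : i < a ∨ b < i) : IsZero (DCoh.HD K i) := by
  obtain ⟨F, hv, -, ⟨e⟩⟩ := h
  exact (ShortComplex.isZero_homology_of_isZero_X₂ (F.sc i) (hv i hi)).of_iso
    ((DerivedCategory.homologyFunctor X.Modules i).mapIso e.symm ≪≫
      (DerivedCategory.homologyFunctorFactors X.Modules i).app F)

theorem exists_flat_representative_le (K : DCoh.D X) (b : ℤ) (hz : ∀ i, b < i → IsZero (DCoh.HD K i)) :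
    ∃ P : CochainComplex X.Modules ℤ, P.IsStrictlyLE b ∧ DCoh.IsKFlat P ∧ (∀ n, FlatMod.IsFlat (P.X n)) ∧
      Nonempty (DCoh.toD X P ≅ K) := by
  haveI : K.IsLE b := (K.isLE_iff b).2 hz
  obtain ⟨G, hG, ⟨eG⟩⟩ := DerivedCategory.exists_iso_Q_obj_of_isLE K b
  haveI := hG
  obtain ⟨P, q, hP, hk, hf, hq⟩ := exists_flat_resolution_le G b
  haveI := (DerivedCategory.isIso_Q_map_iff_quasiIso _ q).2 hq
  exact ⟨P, hP, hk, hf, ⟨asIso (DerivedCategory.Q.map q) ≪≫ eG.symm⟩⟩

/-- tor amplitude in representative form is local -/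
theorem flatAmp_of_local {a b : ℤ} (hab : a ≤ b) (K : DCoh.D X)
    (h : ∀ x : X, ∃ V : X.Opens, x ∈ V ∧ DCoh.HasFlatAmplitudeIn a b ((resD V).obj K)) :
    DCoh.HasFlatAmplitudeIn a b K := by
  have hz : ∀ i, i < a ∨ b < i → IsZero (DCoh.HD K i) := fun i hi => isZero_HD_of_local K i fun x => by
    obtain ⟨V, hx, hV⟩ := h x
    exact ⟨V, hx, isZero_HD_of_flatAmp hV hi⟩
  obtain ⟨P, hP, hk, hf, ⟨eP⟩⟩ := exists_flat_representative_le K b fun i hi => hz i (Or.inr hi)
  haveI := hP
  haveI : P.IsGE a := (CochainComplex.isGE_iff P a).2 fun i hi =>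
    (HomologicalComplex.exactAt_iff_isZero_homology _ _).2 ((hz i (Or.inl hi)).of_iso
      (((DerivedCategory.homologyFunctorFactors X.Modules i).app P).symm ≪≫
        (DerivedCategory.homologyFunctor X.Modules i).mapIso eP))
  haveI : IsIso (DerivedCategory.Q.map (P.πTruncGE a)) :=
    (DerivedCategory.isIso_Q_map_iff_quasiIso _ _).2 inferInstance
  refine ⟨P.truncGE a, fun i hi => ?_, fun i => ?_, ⟨(asIso (DerivedCategory.Q.map (P.πTruncGE a))).symm ≪≫ eP⟩⟩
  · rcases hi with hi | hi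
    · exact CochainComplex.isZero_of_isStrictlyGE (P.truncGE a) a i hi
    · exact (CochainComplex.isZero_of_isStrictlyLE P b i hi).of_iso (P.truncGEXIso a i (by omega))
  · rcases lt_trichotomy i a with hi | rfl | hi
    · exact Groth.L00.KFlat.isFlat_zero (CochainComplex.isZero_of_isStrictlyGE (P.truncGE a) a i hi)
    · refine Groth.L00.KFlat.isFlat_of_iso ((P.truncGEXIsoOpcycles i) ≪≫ (IsColimit.coconePointUniqueUpToIso
        (P.opcyclesIsCokernel (i - 1) i (by simp)) (cokernelIsCokernel (P.d (i - 1) i)))).symm (fun x => ?_)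
      obtain ⟨V, hx, hV⟩ := h x
      let R := Scheme.Modules.restrictFunctor V.ι
      let PV := (R.mapHomologicalComplex (ComplexShape.up ℤ)).obj P
      obtain ⟨F, hvF, hfF, ⟨eF⟩⟩ := hV
      have hflatV : ∀ n, FlatMod.IsFlat (PV.X n) := fun n =>
        Groth.L00.KFlat.isFlat_of_iso ((Scheme.Modules.restrictFunctorIsoPullback V.ι).app _).symm
          (Groth.L00.TorAmp.isFlat_pullback V.ι (hf n))
      have hfl := Groth.L00.TorAmp.isFlat_cokernel_of_torAmp PV (isKFlat_restrict V.ι hk) hflatV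
        ((resQIso V P).symm ≪≫ (resD V).mapIso eP) (fun G => Groth.L00.DerivedApi.hasLTensorMod G) i
        (fun G _ => Groth.L00.TorAmp.torAmp_of_flatAmp hvF hfF eF G (i - 1) (Or.inl (by omega)))
      let eC : cokernel (PV.d (i - 1) i) ≅ (Scheme.Modules.pullback V.ι).obj (cokernel (P.d (i - 1) i)) :=
        (PreservesCokernel.iso R (P.d (i - 1) i)).symm ≪≫ (Scheme.Modules.restrictFunctorIsoPullback V.ι).app _
      exact flat_of_extendScalars_bijective (Groth.L00.PullStalk.φ V.ι ⟨x, hx⟩)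
        (ConcreteCategory.bijective_of_isIso (V.ι.stalkMap ⟨x, hx⟩)) _
        (Groth.L00.TorAmp.flat_of_iso ((Groth.L00.PullStalk.stalkIso V.ι ⟨x, hx⟩).app _).symm
          (Groth.L00.KFlat.isFlat_of_iso eC hfl ⟨x, hx⟩))
    · exact Groth.L00.KFlat.isFlat_of_iso (P.truncGEXIso a i hi).symm (hf i)

/-- the kernel of an epimorphism of finite locally free modules -/
theorem isFinLocFree_kernel_of_epi {A B : X.Modules} (p : A ⟶ B) [Epi p] (hA : FlatMod.IsFinLocFree A)
    (hB : FlatMod.IsFinLocFree B) : FlatMod.IsFinLocFree (kernel p) := by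
  refine isFinLocFree_of_local fun x => ?_
  obtain ⟨V, hxV, σ, hσ⟩ := liftAt_of_isFinLocFree p hB (𝟙 B) x
  obtain ⟨U, n, hxU, ⟨i⟩⟩ := hA x
  obtain ⟨i'⟩ := Groth.L29.LocFree.restrict_le (inf_le_left : U ⊓ V ≤ U) i
  obtain ⟨σ', hσ'⟩ := (show LiftOn p (𝟙 B) V.ι from ⟨σ, hσ⟩).comp (X.homOfLE (inf_le_right : U ⊓ V ≤ V))
    (U ⊓ V).ι (X.homOfLE_ι _)
  let R := Scheme.Modules.restrictFunctor (U ⊓ V).ι
  rw [CategoryTheory.Functor.map_id] at hσ'
  let S : ShortComplex _ := ShortComplex.mk (kernel.ι (R.map p)) (R.map p) (kernel.condition _)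
  have hS : S.ShortExact :=
    { exact := S.exact_of_f_is_kernel (kernelIsKernel (R.map p)), mono_f := inferInstance, epi_g := inferInstance }
  let sp : S.Splitting := ShortComplex.Splitting.ofExactOfSection _ hS.exact σ' hσ' hS.mono_f
  exact ⟨U ⊓ V, ⟨hxU, hxV⟩, Groth.L29.LocFree.of_iso (PreservesKernel.iso R p).symm
    (Fib.isFinLocFree_of_biprod (sp.isoBinaryBiproduct.symm ≪≫ i'))⟩

/-- a strictly perfect complex without cohomology above `n` is quasi-isomorphic to one below `n` -/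
theorem isStrictlyPerfect_truncLE {T : CochainComplex X.Modules ℤ} (a b n : ℤ)
    (hv : DCoh.VanishesOutside T a b) (hf : ∀ i, FlatMod.IsFinLocFree (T.X i))
    (hex : ∀ i, n < i → T.ExactAt i) :
    DCoh.VanishesOutside (T.truncLE n) a n ∧ (∀ i, FlatMod.IsFinLocFree ((T.truncLE n).X i)) ∧
      Nonempty (DerivedCategory.Q.obj (T.truncLE n) ≅ DerivedCategory.Q.obj T) := by
  have hcyc : ∀ k : ℕ, ∀ i, n ≤ i → b < i + k → FlatMod.IsFinLocFree (T.cycles i) := by
    intro k
    induction k with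
    | zero =>
      intro i _ hi
      exact Groth.L29.LocFree.of_isZero (IsZero.of_mono (T.iCycles i) (hv i (Or.inr (by omega))))
    | succ k ih =>
      intro i hi hi'
      have hZ := ih (i + 1) (by omega) (by omega)
      have he : Epi (T.toCycles i (i + 1)) := Preadditive.epi_of_cancel_zero _ fun {Z} g hg => by
        obtain ⟨l, hl⟩ := CokernelCofork.IsColimit.desc' (T.homologyIsCokernel i (i + 1) (by simp)) g hg
        have hz : IsZero (T.homology (i + 1)) :=
          (HomologicalComplex.exactAt_iff_isZero_homology _ _).1 (hex (i + 1) (by omega))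
        rw [← hl]
        exact (congrArg (fun q => _ ≫ q) (hz.eq_of_src l 0)).trans comp_zero
      refine Groth.L29.LocFree.of_iso ?_ (isFinLocFree_kernel_of_epi (T.toCycles i (i + 1)) (hf i) hZ)
      exact (kernelCompMono (T.toCycles i (i + 1)) (T.iCycles (i + 1))).symm ≪≫
        kernelIsoOfEq (T.toCycles_i i (i + 1)) ≪≫
        IsLimit.conePointUniqueUpToIso (kernelIsKernel (T.d i (i + 1))) (T.cyclesIsKernel i (i + 1) (by simp))
  have hq : IsIso (DerivedCategory.Q.map (T.ιTruncLE n)) := by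
    rw [DerivedCategory.isIso_Q_map_iff_quasiIso, CochainComplex.quasiIso_ιTruncLE_iff, CochainComplex.isLE_iff]
    exact hex
  refine ⟨fun i hi => ?_, fun i => ?_, ⟨@asIso _ _ _ _ _ hq⟩⟩
  · rcases lt_trichotomy i n with hin | rfl | hin
    · exact (hv i (by omega)).of_iso (T.truncLEXIso n i hin)
    · exact (IsZero.of_mono (T.iCycles i) (hv i (by omega))).of_iso (T.truncLEXIsoCycles i)
    · exact CochainComplex.isZero_of_isStrictlyLE (T.truncLE n) n i hin
  · rcases lt_trichotomy i n with hin | rfl | hin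
    · exact Groth.L29.LocFree.of_iso (T.truncLEXIso n i hin).symm (hf i)
    · exact Groth.L29.LocFree.of_iso (T.truncLEXIsoCycles i).symm (hcyc (b - i + 1).toNat i le_rfl (by omega))
    · exact Groth.L29.LocFree.of_isZero (CochainComplex.isZero_of_isStrictlyLE (T.truncLE n) n i hin)

theorem hasPerfectAmplitudeIn_iff_local (K : DCoh.D X) (m n : ℤ) :
    KSix.HasPerfectAmplitudeIn m n K ↔ ∀ x : X, ∃ V : X.Opens, x ∈ V ∧
      ∃ E : CochainComplex (V : Scheme.{u}).Modules ℤ, DCoh.VanishesOutside E m n ∧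
        (∀ i, FlatMod.IsFinLocFree (E.X i)) ∧ Nonempty ((resD V).obj K ≅ DerivedCategory.Q.obj E) := by
  refine forall_congr' fun x => exists_congr fun V => and_congr_right fun _ => ⟨fun h => ?_, ?_⟩
  · obtain ⟨E, h1, h2, ⟨e⟩⟩ := h _ ⟨DerivedCategory.Q.objObjPreimageIso K⟩
    exact ⟨E, h1, h2, ⟨(resD V).mapIso (DerivedCategory.Q.objObjPreimageIso K).symm ≪≫ resQIso V _ ≪≫ e⟩⟩
  · rintro ⟨E, h1, h2, ⟨e⟩⟩ F ⟨eF⟩
    exact ⟨E, h1, h2, ⟨(resQIso V F).symm ≪≫ (resD V).mapIso eF ≪≫ e⟩⟩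

theorem hasPerfectAmplitudeIn_iff (E : DCoh.D X) (m n : ℤ) (hmn : m ≤ n) :
    KSix.HasPerfectAmplitudeIn m n E ↔
      DCoh.IsPseudoCoherentD (m - 1) E ∧ DCoh.HasFlatAmplitudeIn m n E := by
  rw [hasPerfectAmplitudeIn_iff_local]
  constructor
  · intro h
    refine ⟨pc_of_perfect ((isPerfect_iff E).2 fun x => ?_) _, flatAmp_of_local hmn E fun x => ?_⟩
    · obtain ⟨V, hx, T, hv, hf, e⟩ := h x
      exact ⟨V, hx, T, ⟨⟨m, n, hv⟩, hf⟩, e⟩
    · obtain ⟨V, hx, T, hv, hf, ⟨e⟩⟩ := h x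
      exact ⟨V, hx, T, hv, fun i => isFlat_of_isFinLocFree (hf i), ⟨e.symm⟩⟩
  · rintro ⟨hpc, F, hv, hf, ⟨eF⟩⟩ x
    rw [isPC_iff_wit] at hpc
    obtain ⟨U, hxU, P, α, hP, hα⟩ := hpc x
    let α' : DCoh.toD (↑U) P ⟶ DCoh.toD (↑U) ((DCoh.restrictCx U).obj F) :=
      α ≫ (resD U).map eF.inv ≫ (resQIso U F).hom
    have hα' : Approx α' (m - 1) := hα.comp (Approx.of_isIso _ _)
    obtain ⟨W, β, hxW, hβ⟩ := exists_local_chainMap hP α' ⟨x, hxU⟩
    let F' := (DCoh.restrictCx W).obj ((DCoh.restrictCx U).obj F)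
    have hA : Approx (DerivedCategory.Q.map β) (m - 1) := by
      refine approx_congr (resQIso W P) (resQIso W ((DCoh.restrictCx U).obj F)) ?_
        (Approx.map_exact (Scheme.Modules.restrictFunctor W.ι) hα')
      change (resD W).map α' ≫ _ = _
      rw [hβ]
      simp [Category.assoc]
    have hF' : DCoh.VanishesOutside F' m n := fun i hi =>
      (Scheme.Modules.restrictFunctor W.ι).map_isZero ((Scheme.Modules.restrictFunctor U.ι).map_isZero (hv i hi))
    have hFf : ∀ i, FlatMod.IsFlat (F'.X i) := fun i =>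
      Groth.L00.KFlat.isFlat_of_iso ((Scheme.Modules.restrictFunctorIsoPullback W.ι).app _).symm
        (Groth.L00.TorAmp.isFlat_pullback W.ι (Groth.L00.KFlat.isFlat_of_iso
          ((Scheme.Modules.restrictFunctorIsoPullback U.ι).app _).symm (Groth.L00.TorAmp.isFlat_pullback U.ι (hf i))))
    obtain ⟨⟨⟨a', b', hvT⟩, hfT⟩, ⟨e⟩⟩ := isStrictlyPerfect_truncGE β m n (isStrictlyPerfect_restrict W.ι hP) hF' hFf hA
    let T := CochainComplex.truncGE ((DCoh.restrictCx W).obj P) m
    have hvT' : DCoh.VanishesOutside T m b' := fun i hi => by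
      rcases hi with hi | hi
      · exact CochainComplex.isZero_of_isStrictlyGE T m i hi
      · exact hvT i (Or.inr hi)
    have hex : ∀ i, n < i → T.ExactAt i := fun i hi => (HomologicalComplex.exactAt_iff_isZero_homology _ _).2
      ((ShortComplex.isZero_homology_of_isZero_X₂ (F'.sc i) (hF' i (Or.inr hi))).of_iso
        (((DerivedCategory.homologyFunctorFactors _ i).app T).symm ≪≫
          (DerivedCategory.homologyFunctor _ i).mapIso e.symm ≪≫
          (DerivedCategory.homologyFunctorFactors _ i).app F'))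
    obtain ⟨hv2, hf2, ⟨e2⟩⟩ := isStrictlyPerfect_truncLE m b' n hvT' hfT hex
    let e3 := ((resTransD U.ι W.ι (W.ι ≫ U.ι) rfl).app E).symm ≪≫
      (DCoh.restrictD W.ι).mapIso ((resD U).mapIso eF.symm ≪≫ resQIso U F) ≪≫ resQIso W _ ≪≫ e ≪≫ e2.symm
    let k := (W.ι ≫ U.ι).isoOpensRange.inv
    refine ⟨(W.ι ≫ U.ι).opensRange, mem_opensRange_comp hxU hxW,
      ((Scheme.Modules.restrictFunctor k).mapHomologicalComplex (ComplexShape.up ℤ)).obj (T.truncLE n),
      fun i hi => (Scheme.Modules.restrictFunctor k).map_isZero (hv2 i hi),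
      fun i => Groth.L29.LocFree.of_iso ((Scheme.Modules.restrictFunctorIsoPullback k).app _).symm
        (Groth.L29.LocFree.pullback k (hf2 i)), ⟨?_⟩⟩
    exact ((resTransD (W.ι ≫ U.ι) k _ (W.ι ≫ U.ι).isoOpensRange_inv_comp).app E).symm ≪≫
      (DCoh.restrictD k).mapIso e3 ≪≫ (Scheme.Modules.restrictFunctor k).mapDerivedCategoryFactors.app _

end Groth.L29.DC
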