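import Groth.Agent.L29.DCoh.RpushAcyclic
import Groth.Agent.L17.AffinePush
import Groth.Agent.L18.TildeFunctor

/-!
`Rf_*` for affine `f` on quasi-coherent cohomology: acyclicity and conservativity.
-/

set_option autoImplicit false
set_option backward.defeqAttrib.useBackward true
set_option backward.isDefEq.respectTransparency false
set_option backward.isDefEq.respectTransparency.types false

universe u

open CategoryTheory CategoryTheory.Limits CategoryTheory.Pretriangulated AlgebraicGeometry DerivedCategory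

attribute [local instance] HasDerivedCategory.standard

namespace Groth.L29.DC.RpushQC

open Groth.L10

variable {X S : Scheme.{u}}

local notation "tt" => DerivedCategory.TStructure.t

theorem isZero_Rpush_affine (f : X ⟶ S) [IsAffineHom f] [HasInjectiveResolutions X.Modules] (M : X.Modules)
    (hM : Coh.IsQCoh M) (p : ℕ) (hp : 0 < p) : IsZero ((Coh.Rpush f p).obj M) := by
  obtain ⟨q, rfl⟩ : ∃ q, p = q + 1 := ⟨p - 1, by omega⟩
  haveI := hM
  obtain ⟨e⟩ := Groth.L17.nonempty_toAb_Rpush_iso f M (q + 1)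
  exact Groth.L17.PushQCoh.isZero_of_toAb ((Groth.L17.isZero_RpushAb_of_isAffineHom f M q).of_iso e)

/-- `f_*` detects zero quasi-coherent modules -/
theorem isZero_of_isZero_push (f : X ⟶ S) [IsAffineHom f] (M : X.Modules) (hM : Coh.IsQCoh M)
    (h : IsZero ((Scheme.Modules.pushforward f).obj M)) : IsZero M := by
  haveI := hM
  refine Groth.L21.Mod.isZero_of_restrict (fun V : S.affineOpens => (V.2.preimage f).fromSpec) (fun x => ?_) _
    fun V => ?_
  · obtain ⟨_, ⟨(V : S.Opens), hV, rfl⟩, hxV, -⟩ :=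
      S.isBasis_affineOpens.exists_subset_of_mem_open (Set.mem_univ (f.base x)) isOpen_univ
    exact ⟨⟨V, hV⟩, (IsAffineOpen.opensRange_fromSpec (U := f ⁻¹ᵁ V) (hV.preimage f)).ge hxV⟩
  · let U := f ⁻¹ᵁ V.1
    haveI : Coh.IsQCoh (M.restrict (V.2.preimage f).fromSpec) := Scheme.Modules.isQuasicoherent_restrictFunctor _ _
    refine (((tilde.functor _).map_isZero ?_).of_iso (Groth.L18.TildeF.counitIso _).symm)
    refine @ModuleCat.isZero_of_subsingleton _ _ _ ?_
    have key : ∀ W : X.Opens, W = U → Subsingleton Γ(M, W) := by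
      rintro W rfl
      refine subsingleton_of_forall_eq 0 fun y => ?_
      have h0 := congrArg (fun φ : (Scheme.Modules.pushforward f).obj M ⟶ (Scheme.Modules.pushforward f).obj M =>
        φ.app V.1 y) ((IsZero.iff_id_eq_zero _).1 h)
      simpa using h0
    exact key _ (by rw [Scheme.Hom.image_top_eq_opensRange, IsAffineOpen.opensRange_fromSpec])

/-- `Rf_*` detects zero objects of `D_QCoh` for affine `f` -/
theorem isZero_of_isZero_Rpush (f : X ⟶ S) [IsAffineHom f] [DCoh.HasRpush f] (C : DCoh.D X)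
    (hC : DCoh.IsQCohD C) (h : IsZero ((DCoh.Rpush f).obj C)) : IsZero C := by
  haveI := Groth.L17.PushQCoh.hasInjectiveResolutions X
  haveI := QRlim.enoughKInj X
  haveI := Groth.L17.PushQCoh.additive_push f
  haveI : EnoughInjectives X.Modules := (ModRDer.insts X.sheaf).1
  let α := (DCoh.pushKh f).totalRightDerivedUnit DerivedCategory.Qh
    (HomotopyCategory.quasiIso X.Modules (ComplexShape.up ℤ))
  suffices H : ∀ k : ℤ, IsZero ((homologyFunctor X.Modules k).obj C) by
    rw [IsZero.iff_id_eq_zero]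
    haveI : IsIso (0 : C ⟶ C) := by
      rw [DerivedCategory.isIso_iff]
      exact fun k => ⟨0, (H k).eq_of_src _ _, (H k).eq_of_src _ _⟩
    exact (IsIso.inv_hom_id (0 : C ⟶ C)).symm.trans comp_zero
  intro k
  let E := C⟦k⟧
  have hzE : IsZero ((DCoh.Rpush f).obj E) :=
    ((shiftFunctor _ k).map_isZero h).of_iso (RDerTri.nonempty_obj_shift (F := Scheme.Modules.pushforward f) α C k).some
  have hE : DCoh.IsQCohD E := fun i => isQCoh_of_iso' (hShiftIso C k i (k + i) rfl).symm (hC (k + i))
  have hvan : ∀ (M : X.Modules), Coh.IsQCoh M → ∀ p : ℕ, (0 : ℤ) < (p : ℤ) → IsZero ((Coh.Rpush f p).obj M) :=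
    fun M hM p hp => isZero_Rpush_affine f M hM p (by omega)
  haveI := isIso_H_π f 0 hvan E hE 0 0 (by simp)
  let a : ℤ := -((0 : ℕ) : ℤ)
  let Y := ((tt).truncGE a).obj E
  have hY0 : IsZero ((homologyFunctor S.Modules 0).obj ((DCoh.Rpush f).obj Y)) :=
    ((homologyFunctor S.Modules 0).map_isZero hzE).of_iso
      (asIso ((homologyFunctor S.Modules 0).map ((DCoh.Rpush f).map (((tt).truncGEπ a).app E)))).symm
  haveI : DerivedCategory.IsGE Y 0 := by
    rw [DerivedCategory.isGE_iff]
    exact fun i hi => isZero_H_GE a i (by simp only [a]; omega) E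
  let L := ((tt).truncLT 1).obj Y
  let R := ((tt).truncGE 1).obj Y
  haveI : DerivedCategory.IsLE L 0 := (tt).isLE_truncLT_obj _ _ _ (by omega)
  haveI : DerivedCategory.IsGE L 0 := by
    rw [DerivedCategory.isGE_iff]
    intro i hi
    have := isIso_H_ι 1 i (by omega) Y
    exact (DerivedCategory.isZero_of_isGE Y 0 i hi).of_iso
      (asIso ((homologyFunctor X.Modules i).map (((tt).truncLTι 1).app Y)))
  haveI : DerivedCategory.IsGE R 1 := inferInstance
  obtain ⟨δ, hT⟩ := RDerTri.exists_triangle (F := Scheme.Modules.pushforward f) α _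
    ((tt).triangleLTGE_distinguished 1 Y)
  have hRge := isGE_Rpush f R 1
  haveI : IsIso ((homologyFunctor S.Modules 0).map ((DCoh.Rpush f).map (((tt).truncLTι 1).app Y))) :=
    isIso_H_mor₁ _ hT 0 (DerivedCategory.isZero_of_isGE ((DCoh.Rpush f).obj R) 1 (0 - 1) (by omega))
      (DerivedCategory.isZero_of_isGE ((DCoh.Rpush f).obj R) 1 0 (by omega))
  obtain ⟨e⟩ := exists_iso_single_H L 0
  let M := (homologyFunctor X.Modules 0).obj L
  haveI := isIso_H_ι 1 0 (by omega) Y
  haveI := L10.isIso_H_π a 0 (by simp [a]) E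
  let eC : M ≅ (homologyFunctor X.Modules k).obj C :=
    asIso ((homologyFunctor X.Modules 0).map (((tt).truncLTι 1).app Y)) ≪≫
      (asIso ((homologyFunctor X.Modules 0).map (((tt).truncGEπ a).app E))).symm ≪≫ hShiftIso C k 0 k (by omega)
  refine IsZero.of_iso ?_ eC.symm
  obtain ⟨-, -, h3⟩ := RDerBound.single_H (F := Scheme.Modules.pushforward f) α 0 M 0
    (fun p hp => isZero_Rpush_affine f M (isQCoh_of_iso' eC.symm (hC k)) p hp)
  refine isZero_of_isZero_push f M (isQCoh_of_iso' eC.symm (hC k)) ?_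
  refine IsZero.of_iso ?_ (((Scheme.Modules.pushforward f).rightDerivedZeroIsoSelf.app M).symm ≪≫ (h3 0).some.symm)
  refine IsZero.of_iso ?_ ((homologyFunctor S.Modules _).mapIso ((DCoh.Rpush f).mapIso e.symm))
  exact hY0.of_iso (asIso ((homologyFunctor S.Modules 0).map ((DCoh.Rpush f).map (((tt).truncLTι 1).app Y))))

end Groth.L29.DC.RpushQC

namespace Groth.L29.DC.RpushQC

open Groth.L10

variable {X S : Scheme.{u}}

/-- `Rf_*` reflects isomorphisms of `D_QCoh` for affine `f` -/
theorem isIso_of_isIso_Rpush (f : X ⟶ S) [IsAffineHom f] [DCoh.HasRpush f] {E F : DCoh.D X}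
    (hE : DCoh.IsQCohD E) (hF : DCoh.IsQCohD F) (φ : E ⟶ F) (hφ : IsIso ((DCoh.Rpush f).map φ)) : IsIso φ := by
  haveI := Groth.L17.PushQCoh.hasInjectiveResolutions X
  haveI := QRlim.enoughKInj X
  haveI := Groth.L17.PushQCoh.additive_push f
  obtain ⟨Z, g, h, hT⟩ := Pretriangulated.distinguished_cocone_triangle φ
  haveI := (WSerreLib.cohIn_isTriangulated (QC X)).1
  haveI : (WSerre.cohIn (QC X)).IsClosedUnderIsomorphisms := ⟨fun e h => isQCohD_of_iso e h⟩
  have hZ : DCoh.IsQCohD Z := (WSerre.cohIn (QC X)).ext_of_isTriangulatedClosed₃ _ hT hE hF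
  obtain ⟨δ, hT'⟩ := RDerTri.exists_triangle (F := Scheme.Modules.pushforward f)
    ((DCoh.pushKh f).totalRightDerivedUnit DerivedCategory.Qh (HomotopyCategory.quasiIso X.Modules (ComplexShape.up ℤ))) _ hT
  exact (Triangle.isZero₃_iff_isIso₁ _ hT).1 (isZero_of_isZero_Rpush f Z hZ
    ((Triangle.isZero₃_iff_isIso₁ _ hT').2 hφ))

end Groth.L29.DC.RpushQC
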