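import Groth.Agent.L29.DCoh.Amplitude
import Groth.Agent.L29.DCoh.Summand
import Groth.Agent.L00.LocalData
import Groth.Agent.L18.LocFreeFP

/-!
The top cohomology sheaf of a pseudo-coherent object.
-/

set_option autoImplicit false
set_option backward.isDefEq.respectTransparency false
set_option backward.isDefEq.respectTransparency.types false

universe u

open CategoryTheory CategoryTheory.Limits AlgebraicGeometry

attribute [local instance] HasDerivedCategory.standard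

noncomputable section

namespace Groth.L29.DC.TopCoh

theorem isColimit_of_iso {C : Type*} [Category C] [HasZeroMorphisms C] {A B M A' B' M' : C} {d : A ⟶ B}
    {π : B ⟶ M} {w : d ≫ π = 0} (hc : IsColimit (CokernelCofork.ofπ π w)) (a : A ≅ A') (b : B ≅ B')
    (c : M ≅ M') {d' : A' ⟶ B'} {π' : B' ⟶ M'} (w' : d' ≫ π' = 0) (hd : a.hom ≫ d' = d ≫ b.hom)
    (hπ : b.hom ≫ π' = π ≫ c.hom) : Nonempty (IsColimit (CokernelCofork.ofπ π' w')) := by
  have key : ∀ {Z : C} (g : B' ⟶ Z), d' ≫ g = 0 → { l : M ⟶ Z // π ≫ l = b.hom ≫ g } := fun g hg =>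
    CokernelCofork.IsColimit.desc' hc (b.hom ≫ g) (by rw [← reassoc_of% hd, hg, comp_zero])
  refine ⟨CokernelCofork.IsColimit.ofπ π' w' (fun g hg => c.inv ≫ (key g hg).1) (fun g hg => ?_)
    (fun g hg l hl => ?_)⟩
  · rw [← cancel_epi b.hom, reassoc_of% hπ, Iso.hom_inv_id_assoc]; exact (key g hg).2
  · rw [Iso.eq_inv_comp]
    refine Cofork.IsColimit.hom_ext hc ?_
    show π ≫ c.hom ≫ l = π ≫ (key g hg).1
    rw [(key g hg).2, ← reassoc_of% hπ, hl]

variable {X : Scheme.{u}}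

/-- a witness can be cut above the top cohomology degree -/
theorem exists_le {m n : ℤ} (hmn : m ≤ n) {K : DCoh.D X} (h : Wit m K)
    (hz : ∀ i, n < i → IsZero (DCoh.HD K i)) :
    ∃ (E : CochainComplex X.Modules ℤ) (α : DerivedCategory.Q.obj E ⟶ K),
      DCoh.IsStrictlyPerfect E ∧ Approx α m ∧ ∀ i, n < i → IsZero (E.X i) := by
  obtain ⟨T, β, ⟨⟨a, b, hv⟩, hf⟩, hβ⟩ := h
  have hex : ∀ i, n < i → T.ExactAt i := fun i hi => by
    haveI := hβ.1 i (by omega)
    rw [HomologicalComplex.exactAt_iff_isZero_homology]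
    exact ((hz i hi).of_iso (asIso ((DerivedCategory.homologyFunctor X.Modules i).map β))).of_iso
      ((DerivedCategory.homologyFunctorFactors X.Modules i).app T).symm
  obtain ⟨hv', hf', ⟨e⟩⟩ := isStrictlyPerfect_truncLE a b n hv hf hex
  exact ⟨T.truncLE n, e.hom ≫ β, ⟨⟨a, n, hv'⟩, hf'⟩, (Approx.of_isIso e.hom m).comp hβ,
    fun i hi => hv' i (Or.inr hi)⟩

/-- the map onto the top cohomology sheaf -/
theorem exists_top {m n : ℤ} (hmn : m ≤ n) {K : DCoh.D X} (h : Wit m K)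
    (hz : ∀ i, n < i → IsZero (DCoh.HD K i)) :
    ∃ (A B : X.Modules) (d : A ⟶ B) (p : B ⟶ DCoh.HD K n) (w : d ≫ p = 0),
      FlatMod.IsFinLocFree A ∧ FlatMod.IsFinLocFree B ∧ Epi p ∧
        (m < n → Nonempty (IsColimit (CokernelCofork.ofπ p w))) := by
  obtain ⟨E, α, ⟨-, hf⟩, hα, hE⟩ := exists_le hmn h hz
  have hd : E.d n (n + 1) = 0 := (hE (n + 1) (by omega)).eq_of_tgt _ _
  haveI : IsIso (E.iCycles n) := E.isIso_iCycles n (n + 1) (by simp) hd
  let g : E.homology n ⟶ DCoh.HD K n :=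
    ((DerivedCategory.homologyFunctorFactors X.Modules n).app E).inv ≫
      (DerivedCategory.homologyFunctor X.Modules n).map α
  let π : E.X n ⟶ E.homology n := inv (E.iCycles n) ≫ E.homologyπ n
  have w0 : E.d (n - 1) n ≫ π = 0 := by
    have : E.d (n - 1) n ≫ inv (E.iCycles n) = E.toCycles (n - 1) n := by
      rw [IsIso.comp_inv_eq]; exact (E.toCycles_i (n - 1) n).symm
    show E.d (n - 1) n ≫ inv (E.iCycles n) ≫ E.homologyπ n = 0
    rw [reassoc_of% this]; exact E.toCycles_comp_homologyπ (n - 1) n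
  have hg : Epi g := by
    rcases eq_or_lt_of_le hmn with rfl | hlt
    · haveI := hα.2; exact epi_comp _ _
    · haveI := hα.1 n hlt; exact epi_comp _ _
  refine ⟨E.X (n - 1), E.X n, E.d (n - 1) n, π ≫ g, by rw [reassoc_of% w0, zero_comp], hf _, hf _,
    (haveI : Epi π := epi_comp _ _; epi_comp π g), fun hlt => ⟨?_⟩⟩
  haveI := hα.1 n hlt
  haveI : IsIso g := IsIso.comp_isIso' inferInstance inferInstance
  exact (isColimit_of_iso (E.homologyIsCokernel (n - 1) n (by simp)) (Iso.refl (E.X (n - 1)))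
    (asIso (E.iCycles n)) (asIso g) _ (by simp [E.toCycles_i]) (by simp [π])).some

/-- restricting a free module -/
def freeRes {U : Scheme.{u}} (j : U ⟶ X) [IsOpenImmersion j] (q : ℕ) :
    (FlatMod.freeMod X q).restrict j ≅ FlatMod.freeMod U q :=
  (Scheme.Modules.restrictFunctorIsoPullback j).app _ ≪≫ Groth.L29.LocFree.pullbackFreeIso j q

/-- around a point the top cohomology sheaf is a quotient (cokernel) of finite free modules -/
theorem exists_free_top {m n : ℤ} (hmn : m ≤ n) {K : DCoh.D X} (h : DCoh.IsPseudoCoherentD m K)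
    (hz : ∀ i, n < i → IsZero (DCoh.HD K i)) (x : X) :
    ∃ (U : X.Opens) (p q : ℕ) (d : FlatMod.freeMod U p ⟶ FlatMod.freeMod U q)
      (π : FlatMod.freeMod U q ⟶ (DCoh.HD K n).restrict U.ι) (w : d ≫ π = 0),
      x ∈ U ∧ Epi π ∧ (m < n → Nonempty (IsColimit (CokernelCofork.ofπ π w))) := by
  obtain ⟨V, hxV, hV⟩ := (isPC_iff_wit m K).1 h x
  obtain ⟨A, B, d, π, w, hA, hB, hπ, hcok⟩ := exists_top hmn hV fun i hi =>
    (Functor.map_isZero (Scheme.Modules.restrictFunctor V.ι) (hz i hi)).of_iso (HDResIso V.ι K i)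
  obtain ⟨U₁, p, hx₁, ⟨a⟩⟩ := hA (⟨x, hxV⟩ : (V : Scheme.{u}))
  obtain ⟨U₂, q, hx₂, ⟨b⟩⟩ := hB (⟨x, hxV⟩ : (V : Scheme.{u}))
  obtain ⟨a'⟩ := Groth.L29.LocFree.restrict_le (inf_le_left : U₁ ⊓ U₂ ≤ U₁) a
  obtain ⟨b'⟩ := Groth.L29.LocFree.restrict_le (inf_le_right : U₁ ⊓ U₂ ≤ U₂) b
  let W := U₁ ⊓ U₂
  let j := W.ι ≫ V.ι
  let k := j.isoOpensRange.inv
  let R : (V : Scheme.{u}).Modules ⥤ (j.opensRange : Scheme.{u}).Modules :=
    Scheme.Modules.restrictFunctor W.ι ⋙ Scheme.Modules.restrictFunctor k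
  let eA : R.obj A ≅ FlatMod.freeMod j.opensRange p :=
    (Scheme.Modules.restrictFunctor k).mapIso a' ≪≫ freeRes k p
  let eB : R.obj B ≅ FlatMod.freeMod j.opensRange q :=
    (Scheme.Modules.restrictFunctor k).mapIso b' ≪≫ freeRes k q
  let eC : R.obj (DCoh.HD ((resD V).obj K) n) ≅ (DCoh.HD K n).restrict j.opensRange.ι :=
    R.mapIso (HDResIso V.ι K n) ≪≫
      (Scheme.Modules.restrictFunctor k).mapIso
        ((Scheme.Modules.restrictFunctorComp W.ι V.ι).symm.app (DCoh.HD K n)) ≪≫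
      (Scheme.Modules.restrictFunctorComp k j).symm.app (DCoh.HD K n) ≪≫
      (Scheme.Modules.restrictFunctorCongr j.isoOpensRange_inv_comp).app (DCoh.HD K n)
  refine ⟨j.opensRange, p, q, eA.inv ≫ R.map d ≫ eB.hom, eB.inv ≫ R.map π ≫ eC.hom, ?_,
    mem_opensRange_comp hxV ⟨hx₁, hx₂⟩, ?_, fun hlt => ?_⟩
  · simp only [Category.assoc, Iso.hom_inv_id_assoc]
    rw [← Functor.map_comp_assoc, w, R.map_zero, zero_comp, comp_zero]
  · haveI : Epi (R.map π) := R.map_epi π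
    exact epi_comp _ _
  · obtain ⟨hc⟩ := hcok hlt
    have w2 : R.map d ≫ R.map π = 0 := by rw [← R.map_comp, w, R.map_zero]
    have hR : IsColimit (CokernelCofork.ofπ (R.map π) w2) := CokernelCofork.mapIsColimit _ hc R
    exact isColimit_of_iso hR eA eB eC _ (by simp) (by simp)

theorem isFT_top {m n : ℤ} (hmn : m ≤ n) {K : DCoh.D X} (h : DCoh.IsPseudoCoherentD m K)
    (hz : ∀ i, n < i → IsZero (DCoh.HD K i)) : CohB1.IsFT (DCoh.HD K n) := by
  refine Groth.L00.Local.isFT_of_generators _ fun x => ?_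
  obtain ⟨U, p, q, d, π, w, hx, hπ, -⟩ := exists_free_top hmn h hz x
  let f : SheafOfModules.free (R := (U : Scheme.{u}).ringCatSheaf) (ULift.{u} (Fin q)) ⟶
      (DCoh.HD K n).restrict U.ι := (Groth.L18.LFP.uliftIso U q).hom ≫ π
  haveI : Epi f := epi_comp _ _
  exact ⟨U, ⟨ULift.{u} (Fin q), SheafOfModules.freeHomEquiv _ f, by
    rw [Equiv.symm_apply_apply]; infer_instance⟩, hx, (inferInstance : Finite (ULift.{u} (Fin q)))⟩

theorem isFP_top {m n : ℤ} (hmn : m < n) {K : DCoh.D X} (h : DCoh.IsPseudoCoherentD m K)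
    (hz : ∀ i, n < i → IsZero (DCoh.HD K i)) : CohB1.IsFP (DCoh.HD K n) := by
  refine Groth.L18.LFP.isFP_of_presentation _ fun x => ?_
  obtain ⟨U, p, q, d, π, w, hx, -, hc⟩ := exists_free_top hmn.le h hz x
  obtain ⟨hc⟩ := hc hmn
  let ep := Groth.L18.LFP.uliftIso U p
  let eq' := Groth.L18.LFP.uliftIso U q
  refine ⟨U, SheafOfModules.presentationOfIsCokernelFree (M := (DCoh.HD K n).restrict U.ι)
    (ep.hom ≫ d ≫ eq'.inv) (eq'.hom ≫ π) (by simp [w]) ?_, hx,
    (inferInstance : Finite (ULift.{u} (Fin q))), (inferInstance : Finite (ULift.{u} (Fin p)))⟩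
  exact (isColimit_of_iso hc ep.symm eq'.symm (Iso.refl _) _ (by simp) (by simp)).some

end Groth.L29.DC.TopCoh
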