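import Groth.Agent.L29.DCoh.AmpDescent
import Groth.Agent.L29.DCoh.TopCoh
import Groth.Agent.L16.CohSupport
import Groth.Agent.L18.LocFreeTilde
import Groth.Agent.L00.FlatCover
import Mathlib.Algebra.Category.ModuleCat.Descent
import Mathlib.RingTheory.Finiteness.Descent

/-!
Stalks of cohomology sheaves of pseudo-coherent objects: behaviour under flat pullback, openness of
the vanishing locus, local generators.
-/

set_option autoImplicit false
set_option backward.isDefEq.respectTransparency false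
set_option backward.isDefEq.respectTransparency.types false

universe u

open CategoryTheory CategoryTheory.Limits AlgebraicGeometry HomologicalComplex TopologicalSpace

attribute [local instance] HasDerivedCategory.standard

noncomputable section

namespace Groth.L29.DC.PCStalk

section Extend

variable {A B : Type u} [CommRing A] [CommRing B] (g : A →+* B)

theorem isZero_extend_iff (hg : g.FaithfullyFlat) (M : ModuleCat.{u} A) :
    IsZero ((ModuleCat.extendScalars g).obj M) ↔ IsZero M := by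
  letI := g.toAlgebra
  haveI : Module.FaithfullyFlat A B := hg
  rw [ModuleCat.isZero_iff_subsingleton, ModuleCat.isZero_iff_subsingleton]
  exact Module.FaithfullyFlat.subsingleton_tensorProduct_iff_right A B (N := M)

theorem finite_of_extend (hg : g.FaithfullyFlat) (M : ModuleCat.{u} A)
    (h : Module.Finite B ((ModuleCat.extendScalars g).obj M)) : Module.Finite A M := by
  letI := g.toAlgebra
  haveI : Module.FaithfullyFlat A B := hg
  haveI : Module.Finite B (TensorProduct A B M) := h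
  exact Module.Finite.of_finite_tensorProduct_of_faithfullyFlat B

end Extend

variable {X Y : Scheme.{u}}

/-- stalk of the cohomology sheaf -/
abbrev stk (K : DCoh.D X) (i : ℤ) (x : X) : ModuleCat.{u} (X.presheaf.stalk x) :=
  (Groth.L00.Stk.F X x).obj (DCoh.HD K i)

/-- vanishing is checked on stalks -/
theorem isZero_HD_iff_stk (K : DCoh.D X) (i : ℤ) : IsZero (DCoh.HD K i) ↔ ∀ x, IsZero (stk K i x) :=
  Groth.L00.Stk.isZero_iff _

/-- stalks of cohomology of a flat pullback -/
def hdPullStk (f : X ⟶ Y) [Flat f] [DCoh.HasLpull f] (K : DCoh.D Y) (i : ℤ) (x : X) :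
    stk ((DCoh.Lpull f).obj K) i x ≅
      (ModuleCat.extendScalars (Groth.L00.PullStalk.φ f x)).obj (stk K i (f x)) :=
  let F := DerivedCategory.Q.objPreimage K
  let P := (Groth.L00.KFlat.RF Y).obj F
  haveI := Groth.L00.TorAmp.isIso_Q_rF F
  let eP : DCoh.toD Y P ≅ K := asIso (DerivedCategory.Q.map ((Groth.L00.KFlat.rF Y).app F)) ≪≫
    DerivedCategory.Q.objObjPreimageIso K
  haveI : PreservesFiniteLimits (ModuleCat.extendScalars.{u, u, u} (Groth.L00.PullStalk.φ f x)) :=
    ModuleCat.preservesFiniteLimits_extendScalars_of_flat (AlgebraicGeometry.Flat.stalkMap f x)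
  haveI : PreservesFiniteColimits (ModuleCat.extendScalars.{u, u, u} (Groth.L00.PullStalk.φ f x)) :=
    haveI : PreservesColimitsOfSize.{0, 0} (ModuleCat.extendScalars.{u, u, u} (Groth.L00.PullStalk.φ f x)) :=
      (ModuleCat.extendRestrictScalarsAdj (Groth.L00.PullStalk.φ f x)).leftAdjoint_preservesColimits
    PreservesColimitsOfSize.preservesFiniteColimits.{0, 0} _
  let P' := ((Scheme.Modules.pullback f).mapHomologicalComplex (ComplexShape.up ℤ)).obj P
  let C := (Groth.L00.Stk.S Y (f x)).obj P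
  (Groth.L00.Stk.F X x).mapIso ((DerivedCategory.homologyFunctor X.Modules i).mapIso
      ((DCoh.Lpull f).mapIso eP.symm ≪≫
        Groth.L00.DerivedApi.objIso (Groth.L00.DerivedApi.acyclicKFlat_pullback f) P (Groth.L00.KFlat.isKFlat_RF F)) ≪≫
      (DerivedCategory.homologyFunctorFactors X.Modules i).app P') ≪≫
    ((P'.sc i).mapHomologyIso (Groth.L00.Stk.F X x)).symm ≪≫
    (homologyFunctor _ _ i).mapIso
      (Hom.isoOfComponents (fun j => (Groth.L00.PullStalk.stalkIso f x).app (P.X j))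
        (fun j k _ => ((Groth.L00.PullStalk.stalkIso f x).hom.naturality (P.d j k)).symm) :
        (Groth.L00.Stk.S X x).obj P' ≅
          ((ModuleCat.extendScalars (Groth.L00.PullStalk.φ f x)).mapHomologicalComplex (ComplexShape.up ℤ)).obj C) ≪≫
    (C.sc i).mapHomologyIso (ModuleCat.extendScalars (Groth.L00.PullStalk.φ f x)) ≪≫
    (ModuleCat.extendScalars (Groth.L00.PullStalk.φ f x)).mapIso
      ((P.sc i).mapHomologyIso (Groth.L00.Stk.F Y (f x)) ≪≫
        (Groth.L00.Stk.F Y (f x)).mapIso (((DerivedCategory.homologyFunctorFactors Y.Modules i).app P).symm ≪≫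
          (DerivedCategory.homologyFunctor Y.Modules i).mapIso eP))

theorem isZero_pull_iff (f : X ⟶ Y) [Flat f] [DCoh.HasLpull f] (K : DCoh.D Y) (i : ℤ) (x : X) :
    IsZero (stk ((DCoh.Lpull f).obj K) i x) ↔ IsZero (stk K i (f x)) :=
  (hdPullStk f K i x).isZero_iff.trans (isZero_extend_iff _ (AmpDesc.faithfullyFlat f x) _)

theorem finite_of_pull (f : X ⟶ Y) [Flat f] [DCoh.HasLpull f] (K : DCoh.D Y) (i : ℤ) (x : X)
    (h : Module.Finite (X.presheaf.stalk x) (stk ((DCoh.Lpull f).obj K) i x)) :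
    Module.Finite (Y.presheaf.stalk (f x)) (stk K i (f x)) :=
  finite_of_extend _ (AmpDesc.faithfullyFlat f x) _
    (haveI := h; Module.Finite.equiv (hdPullStk f K i x).toLinearEquiv)

/-- stalks of cohomology of a restriction -/
def hdResStk (j : X ⟶ Y) [IsOpenImmersion j] (K : DCoh.D Y) (i : ℤ) (x : X) :
    stk ((DCoh.restrictD j).obj K) i x ≅
      (ModuleCat.extendScalars (Groth.L00.PullStalk.φ j x)).obj (stk K i (j x)) :=
  (Groth.L00.Stk.F X x).mapIso (HDResIso j K i ≪≫ (Scheme.Modules.restrictFunctorIsoPullback j).app _) ≪≫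
    (Groth.L00.PullStalk.stalkIso j x).app _

theorem isZero_res_iff (j : X ⟶ Y) [IsOpenImmersion j] (K : DCoh.D Y) (i : ℤ) (x : X) :
    IsZero (stk ((DCoh.restrictD j).obj K) i x) ↔ IsZero (stk K i (j x)) :=
  (hdResStk j K i x).isZero_iff.trans (isZero_extend_iff _ (AmpDesc.faithfullyFlat j x) _)

/-- pseudo-coherence restricts -/
theorem pc_res (j : X ⟶ Y) [IsOpenImmersion j] {m : ℤ} {K : DCoh.D Y} (h : DCoh.IsPseudoCoherentD m K) :
    DCoh.IsPseudoCoherentD m ((DCoh.restrictD j).obj K) := by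
  haveI : DCoh.HasLpull j := Groth.L00.KFlat.hasLpull j
  exact isPseudoCoherentD_of_iso (nonempty_Lpull_iso_restrictD j K).some (isPseudoCoherentD_Lpull j h)

/-- where the cohomology above `N` vanishes -/
def van (K : DCoh.D X) (N : ℤ) : Set X := {x | ∀ i, N ≤ i → IsZero (stk K i x)}

theorem isZero_of_subset_van {K : DCoh.D X} {N i : ℤ} (V : X.Opens) (hV : (V : Set X) ⊆ van K N)
    (hi : N ≤ i) : IsZero (DCoh.HD ((resD V).obj K) i) :=
  (isZero_HD_iff_stk _ _).2 fun x => (isZero_res_iff V.ι K i x).2 (hV x.2 i hi)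

theorem isOpen_van {m N : ℤ} {K : DCoh.D X} (h : DCoh.IsPseudoCoherentD m K) (hN : m ≤ N) :
    IsOpen (van K N) := by
  rw [isOpen_iff_forall_mem_open]
  intro x hx
  obtain ⟨V, hxV, hV⟩ := (isPC_iff_wit m K).1 h x
  obtain ⟨b, -, hb⟩ := hV.exists_isZero
  suffices key : ∀ (k : ℕ) (W : X.Opens), x ∈ W → (W : Set X) ⊆ van K (N + k) →
      ∃ W' : X.Opens, x ∈ W' ∧ (W' : Set X) ⊆ van K N by
    obtain ⟨W', hx', hW'⟩ := key (b - N).toNat V hxV fun y hy i hi =>
      (isZero_res_iff V.ι K i ⟨y, hy⟩).1 ((isZero_HD_iff_stk _ _).1 (hb i (by omega)) _)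
    exact ⟨W', hW', W'.isOpen, hx'⟩
  intro k
  induction k with
  | zero => intro W hxW hW; exact ⟨W, hxW, by simpa using hW⟩
  | succ k ih =>
    intro W hxW hW
    have hft : CohB1.IsFT (DCoh.HD ((resD W).obj K) (N + k)) :=
      TopCoh.isFT_top (by omega) (pc_res W.ι h)
        fun i hi => isZero_of_subset_van W hW (by push_cast; omega)
    let S : Set (W : Scheme.{u}) := (CohB1.support (DCoh.HD ((resD W).obj K) (N + k)))ᶜ
    let O : (W : Scheme.{u}).Opens := ⟨S, (Groth.L16.CohSupport.isClosed_support _ hft).isOpen_compl⟩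
    have hO : ∀ y : (W : Scheme.{u}), y ∈ O ↔ IsZero (stk ((resD W).obj K) (N + k) y) := fun y => by
      rw [ModuleCat.isZero_iff_subsingleton]
      exact not_not
    refine ih (W.ι ''ᵁ O) ⟨⟨x, hxW⟩, (hO _).2 ((isZero_res_iff W.ι K _ _).2 (hx _ (by omega))), rfl⟩ ?_
    rintro _ ⟨y, hy, rfl⟩ i hi
    rcases eq_or_lt_of_le hi with rfl | hi'
    · exact (isZero_res_iff W.ι K _ y).1 ((hO y).1 hy)
    · exact hW y.2 i (by push_cast; omega)

/-- the top cohomology sheaf has finite stalks -/
theorem finite_stk_top {m n : ℤ} (hmn : m ≤ n) {K : DCoh.D X} (h : DCoh.IsPseudoCoherentD m K)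
    (hz : ∀ i, n < i → IsZero (DCoh.HD K i)) (x : X) : Module.Finite (X.presheaf.stalk x) (stk K n x) := by
  obtain ⟨U, p, q, d, π, w, hx, hπ, -⟩ := TopCoh.exists_free_top hmn h hz x
  let x' : (U : Scheme.{u}) := ⟨x, hx⟩
  haveI : Epi ((Groth.L00.Stk.F _ x').map π) := inferInstance
  have hfree : FlatMod.IsFinLocFree (FlatMod.freeMod (U : Scheme.{u}) q) :=
    Groth.L29.LocFree.of_iso (TopCoh.freeRes (𝟙 _) q)
      (Groth.L29.LocFree.of_iso ((Scheme.Modules.restrictFunctorId).symm.app _)
        (fun y => ⟨⊤, q, trivial, ⟨TopCoh.freeRes (⊤ : (U : Scheme.{u}).Opens).ι q⟩⟩))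
  haveI : Module.Finite ((U : Scheme.{u}).presheaf.stalk x')
      ((Groth.L00.Stk.F (U : Scheme.{u}) x').obj (FlatMod.freeMod (U : Scheme.{u}) q)) :=
    Groth.L18.LFP.finite_stalk _ (Groth.L18.LFP.isFP_of_isFinLocFree _ hfree) x'
  haveI : Module.Finite ((U : Scheme.{u}).presheaf.stalk x') ((Groth.L00.Stk.F _ x').obj ((DCoh.HD K n).restrict U.ι)) :=
    Module.Finite.of_surjective ((Groth.L00.Stk.F _ x').map π).hom ((ModuleCat.epi_iff_surjective _).1 inferInstance)
  exact finite_of_extend _ (AmpDesc.faithfullyFlat U.ι x') _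
    (Module.Finite.equiv ((Groth.L00.Stk.F _ x').mapIso ((Scheme.Modules.restrictFunctorIsoPullback U.ι).app _) ≪≫
      (Groth.L00.PullStalk.stalkIso U.ι x').app _).toLinearEquiv)

section Gen

open Groth.L00.FlatCover Groth.L00.Tensor Groth.L00.StalkTensor Opposite

theorem genMap_germ {M : X.Modules} {U : X.Opens} (s : (pre M).obj (op U)) (x : X) (hx : x ∈ U) :
    (Groth.L00.Stk.F X x).map (genMap s) (ηx x (fy U) (g₀ x hx)) = germ (pre M) x hx s := by
  rw [show ηx x (fy U) (g₀ x hx) =
    germ (pre (G U)) x hx ((Groth.L00.Tensor.unit (fy U)).app _ (gen U (𝟙 U))) from ηx_germ x (fy U) hx _]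
  refine (DerSch.stalkFunctor_map_germ x (genMap s) U hx _).trans ?_
  refine congrArg (germ (pre M) x hx) ?_
  have h2 : Groth.L00.Tensor.unit (fy U) ≫ (preF X).map (genMap s) =
      PresheafOfModules.freeYonedaEquiv (R := RX X).symm s :=
    ((genMap.shfAdj' X).homEquiv_unit _ _ _).symm.trans (Equiv.apply_symm_apply _ _)
  refine (congrArg (fun k : fy U ⟶ pre M => k.app (op U) (gen U (𝟙 U))) h2).trans ?_
  exact PresheafOfModules.freeYonedaEquiv_symm_app _ U s

/-- `j_! O_U` restricted inside `U` is the structure sheaf -/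
theorem nonempty_G_res (U W : X.Opens) (h : W ≤ U) :
    Nonempty ((G U).restrict W.ι ≅ Coh.structureModule (W : Scheme.{u})) := by
  let ψ : G U ⟶ Coh.structureModule X := genMap (M := Coh.structureModule X) (1 : X.presheaf.obj (op U))
  have hb : ∀ x ∈ U, IsIso ((Groth.L00.Stk.F X x).map ψ) := fun x hx => by
    rw [ConcreteCategory.isIso_iff_bijective]
    let g := ηx x (fy U) (g₀ x hx)
    let ev : X.presheaf.stalk x →ₗ[X.presheaf.stalk x] (Groth.L00.Stk.F X x).obj (G U) :=
      (ηx x (fy U)).comp (toSt x hx)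
    have hev : Function.Bijective ev := (ηx_bijective x (fy U)).comp (toSt_bijective x hx)
    have h1 : Function.Bijective (((Groth.L00.Stk.F X x).map ψ).hom.comp ev) := by
      have hc : ∀ r, ((Groth.L00.Stk.F X x).map ψ).hom.comp ev r =
          r • germ (pre (Coh.structureModule X)) x hx (1 : X.presheaf.obj (op U)) := fun r => by
        rw [← genMap_germ (M := Coh.structureModule X) (1 : X.presheaf.obj (op U)) x hx]
        exact ((((Groth.L00.Stk.F X x).map ψ).hom).comp (ηx x (fy U))).map_smul r (g₀ x hx)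
      exact bijective_smul_germ_one hx hc
    exact (Function.Bijective.of_comp_iff (f := (Groth.L00.Stk.F X x).map ψ) (g := ev) hev).1 h1
  haveI : IsIso ((Scheme.Modules.restrictFunctor W.ι).map ψ) := by
    rw [Groth.L21.Mod.isIso_iff_stalk]
    intro w
    rw [Groth.L21.Mod.restrict_stalk_map]
    haveI : IsIso ((Groth.L21.Mod.stalkF X (W.ι w)).map ψ) := by
      haveI : IsIso ((Groth.L00.Stk.F X (W.ι w)).map ψ) := hb (W.ι w) (h w.2)
      exact (NatIso.isIso_map_iff (Groth.L00.Stk.forgetIso (W.ι w)) ψ).1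
        (Functor.map_isIso (forget₂ (ModuleCat.{u} _) AddCommGrpCat.{u}) _)
    infer_instance
  exact ⟨asIso ((Scheme.Modules.restrictFunctor W.ι).map ψ) ≪≫ Scheme.Modules.restrictUnitIso W.ι⟩
where
  bijective_smul_germ_one {x : X} {U : X.Opens} (hx : x ∈ U)
      {l : X.presheaf.stalk x → (Groth.L00.Stk.F X x).obj (Coh.structureModule X)}
      (hc : ∀ r, l r = r • germ (pre (Coh.structureModule X)) x hx (1 : X.presheaf.obj (op U))) :
      Function.Bijective l := by
    have he : ∀ (V : X.Opens) (hV : x ∈ V) (a : X.presheaf.obj (op V)),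
        (X.presheaf.germ V x hV a : X.presheaf.stalk x) • germ (pre (Coh.structureModule X)) x hx
          (1 : X.presheaf.obj (op U)) = germ (pre (Coh.structureModule X)) x hV a := fun V hV a => by
      rw [← TopCat.Presheaf.germ_res_apply X.presheaf (homOfLE inf_le_left : V ⊓ U ⟶ V) x ⟨hV, hx⟩ a,
        ← germ_rs (pre (Coh.structureModule X)) x (homOfLE inf_le_right : V ⊓ U ⟶ U) ⟨hV, hx⟩,
        ← germ_smul', ← germ_rs (pre (Coh.structureModule X)) x (homOfLE inf_le_left : V ⊓ U ⟶ V) ⟨hV, hx⟩ a]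
      refine congrArg _ ?_
      show X.presheaf.map _ a * X.presheaf.map _ 1 = X.presheaf.map _ a
      rw [map_one, mul_one]
    constructor
    · intro r r' hrr
      rw [hc, hc] at hrr
      obtain ⟨V, hV, a, rfl⟩ := TopCat.Presheaf.exists_germ_eq (F := X.presheaf) (x := x) r
      obtain ⟨V', hV', a', rfl⟩ := TopCat.Presheaf.exists_germ_eq (F := X.presheaf) (x := x) r'
      rw [he, he] at hrr
      obtain ⟨W', hW', i, j, hij⟩ := germ_eq (pre (Coh.structureModule X)) x hV hV' hrr
      rw [← TopCat.Presheaf.germ_res_apply X.presheaf i x hW' a, ← TopCat.Presheaf.germ_res_apply X.presheaf j x hW' a']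
      exact congrArg _ hij
    · intro p
      obtain ⟨V, hV, a, rfl⟩ := exists_germ (pre (Coh.structureModule X)) x p
      exact ⟨X.presheaf.germ V x hV a, (hc _).trans (he V hV a)⟩

/-- local generators through an epimorphism -/
theorem exists_gen {M H : X.Modules} (p : M ⟶ H) [Epi p] (y : X)
    (hf : Module.Finite (X.presheaf.stalk y) ((Groth.L00.Stk.F X y).obj H)) :
    ∃ (Φ : X.Modules) (W : X.Opens) (φ : Φ ⟶ M), y ∈ W ∧ FlatMod.IsFinLocFree (Φ.restrict W.ι) ∧
      Epi ((Groth.L00.Stk.F X y).map (φ ≫ p)) := by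
  classical
  obtain ⟨q, s, hs⟩ := Module.Finite.exists_fin (R := X.presheaf.stalk y) (M := (Groth.L00.Stk.F X y).obj H)
  have hp := (ModuleCat.epi_iff_surjective ((Groth.L00.Stk.F X y).map p)).1 inferInstance
  choose t ht using fun i => hp (s i)
  have hg := fun i => exists_germ (pre M) y (t i)
  choose V hV σ hσ using hg
  let W : X.Opens := ⟨⋂ i, (V i : Set X), isOpen_iInter_of_finite fun i => (V i).isOpen⟩
  let Φ : X.Modules := ∐ fun i : Fin q => G (V i)
  let φ : Φ ⟶ M := Sigma.desc fun i => genMap (σ i)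
  refine ⟨Φ, W, φ, Set.mem_iInter.2 hV, ?_, ?_⟩
  · refine fun w => ⟨⊤, q, trivial, ⟨(Scheme.Modules.restrictFunctor _).mapIso
      (PreservesCoproduct.iso (Scheme.Modules.restrictFunctor W.ι) _ ≪≫
        Sigma.mapIso fun i => (nonempty_G_res (V i) W fun z hz => Set.mem_iInter.1 hz i).some) ≪≫
      TopCoh.freeRes _ q⟩⟩
  · rw [ModuleCat.epi_iff_surjective]
    refine LinearMap.range_eq_top.1 (top_unique ?_)
    rw [← hs, Submodule.span_le]
    rintro _ ⟨i, rfl⟩
    refine ⟨(Groth.L00.Stk.F X y).map (Sigma.ι (fun i : Fin q => G (V i)) i) (ηx y (fy (V i)) (g₀ y (hV i))), ?_⟩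
    rw [← ModuleCat.comp_apply, ← Functor.map_comp, Sigma.ι_desc_assoc, Functor.map_comp, ModuleCat.comp_apply,
      genMap_germ, hσ i, ht i]

end Gen

end Groth.L29.DC.PCStalk
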