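import Groth.Agent.L29.DCoh.RpushQCoh
import Groth.Agent.L29.DCoh.PCQCoh
import Groth.Agent.L17.AcyclicMap
import Groth.Agent.L10.UnitIso
import Groth.Agent.L21.Mod.Locality
import Mathlib.Algebra.Homology.Factorizations.CM5a

/-!
Complexes of acyclic quasi-coherent modules compute the unbounded direct image; isomorphisms in high degrees.
-/

set_option autoImplicit false
set_option backward.defeqAttrib.useBackward true
set_option backward.isDefEq.respectTransparency false
set_option backward.isDefEq.respectTransparency.types false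

universe u

open CategoryTheory CategoryTheory.Limits AlgebraicGeometry DerivedCategory

attribute [local instance] HasDerivedCategory.standard

namespace Groth.L29.DC.RpushQC

open Groth.L10

variable {X S : Scheme.{u}}

local notation "tt" => DerivedCategory.TStructure.t

/-- an isomorphism in degrees `≥ a` gives one after `Rf_*` in degrees `≥ N + a` -/
theorem isIso_H_map_of_bound (f : X ⟶ S) [QuasiCompact f] [QuasiSeparated f] [DCoh.HasRpush f]
    [HasInjectiveResolutions X.Modules] (N : ℕ)
    (hN : ∀ (M : X.Modules), Coh.IsQCoh M → ∀ p : ℕ, N ≤ p → IsZero ((Coh.Rpush f p).obj M))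
    {K L : DCoh.D X} (hK : DCoh.IsQCohD K) (hL : DCoh.IsQCohD L) (φ : K ⟶ L) (m : ℕ)
    (h : ∀ i : ℤ, -(m : ℤ) ≤ i → IsIso ((homologyFunctor X.Modules i).map φ)) (j : ℤ)
    (hj : (N : ℤ) - (m : ℤ) ≤ j) : IsIso ((homologyFunctor S.Modules j).map ((DCoh.Rpush f).map φ)) := by
  have hK' := isIso_H_π f N (fun M hM p hp => hN M hM p (by omega)) K hK m j hj
  have hL' := isIso_H_π f N (fun M hM p hp => hN M hM p (by omega)) L hL m j hj
  haveI : IsIso (((tt).truncGE (-(m : ℤ))).map φ) := by
    rw [DerivedCategory.isIso_iff]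
    intro i
    by_cases hi : -(m : ℤ) ≤ i
    · have := h i hi
      have := L10.isIso_H_π (-(m : ℤ)) i hi K
      have := L10.isIso_H_π (-(m : ℤ)) i hi L
      refine IsIso.of_isIso_fac_left (f := (homologyFunctor X.Modules i).map (((tt).truncGEπ (-(m : ℤ))).app K))
        (h := (homologyFunctor X.Modules i).map φ ≫ (homologyFunctor X.Modules i).map (((tt).truncGEπ (-(m : ℤ))).app L)) ?_
      rw [← Functor.map_comp, ← Functor.map_comp]
      exact congrArg _ (((tt).truncGEπ (-(m : ℤ))).naturality φ).symm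
    · exact ⟨0, (isZero_H_GE (-(m : ℤ)) i (by omega) K).eq_of_src _ _,
        (isZero_H_GE (-(m : ℤ)) i (by omega) L).eq_of_src _ _⟩
  refine IsIso.of_isIso_fac_right
    (h := (homologyFunctor S.Modules j).map ((DCoh.Rpush f).map (((tt).truncGEπ (-(m : ℤ))).app K)) ≫
      (homologyFunctor S.Modules j).map ((DCoh.Rpush f).map (((tt).truncGE (-(m : ℤ))).map φ)))
    (f := (homologyFunctor S.Modules j).map ((DCoh.Rpush f).map (((tt).truncGEπ (-(m : ℤ))).app L))) ?_
  simp only [← Functor.map_comp]
  exact congrArg _ (congrArg _ (((tt).truncGEπ (-(m : ℤ))).naturality φ))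

/-- the homotopy class of a quasi-isomorphism computes the same -/
theorem isIso_unit_bddBelow (f : X ⟶ S) [DCoh.HasRpush f] [HasInjectiveResolutions X.Modules]
    (F : CochainComplex X.Modules ℤ) (a : ℤ) [F.IsStrictlyGE a]
    (hac : ∀ n, Groth.L17.GrothSS.RAcyclic (Scheme.Modules.pushforward f) (F.X n)) :
    IsIso (((DCoh.pushKh f).totalRightDerivedUnit DerivedCategory.Qh (HomotopyCategory.quasiIso X.Modules (ComplexShape.up ℤ))).app
      ((HomotopyCategory.quotient X.Modules (ComplexShape.up ℤ)).obj F)) := by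
  haveI := QRlim.enoughKInj X
  haveI : EnoughInjectives X.Modules := (ModRDer.insts X.sheaf).1
  haveI : (Scheme.Modules.pushforward f).IsRightAdjoint :=
    (Scheme.Modules.pullbackPushforwardAdjunction f).isRightAdjoint
  haveI : PreservesFiniteLimits (Scheme.Modules.pushforward f) := inferInstance
  let η := (DCoh.pushKh f).totalRightDerivedUnit DerivedCategory.Qh (HomotopyCategory.quasiIso X.Modules (ComplexShape.up ℤ))
  obtain ⟨I, i, hi, hI, hge⟩ := CochainComplex.Plus.modelCategoryQuillen.exists_quasiIso_injective F a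
  have : ∀ m, Injective (I.X m) := hI
  haveI := CochainComplex.isKInjective_of_injective I a
  haveI := KInjDerived.isIso_app_quotient (RF := DCoh.Rpush f) η I
  haveI : QuasiIso (((Scheme.Modules.pushforward f).mapHomologicalComplex (ComplexShape.up ℤ)).map i) :=
    Groth.L17.GrothSS.quasiIso_map (Scheme.Modules.pushforward f) i a a hac fun n q hq => by
      obtain ⟨k, rfl⟩ : ∃ k, q = k + 1 := ⟨q - 1, by omega⟩
      exact (Scheme.Modules.pushforward f).isZero_rightDerived_obj_injective_succ k _
  let w := (HomotopyCategory.quotient X.Modules (ComplexShape.up ℤ)).map i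
  haveI : IsIso ((DCoh.pushKh f).map w) := by
    change IsIso (DerivedCategory.Qh.map ((HomotopyCategory.quotient S.Modules (ComplexShape.up ℤ)).map
      (((Scheme.Modules.pushforward f).mapHomologicalComplex (ComplexShape.up ℤ)).map i)))
    exact Localization.inverts DerivedCategory.Qh (HomotopyCategory.quasiIso S.Modules (ComplexShape.up ℤ)) _
      ((HomotopyCategory.quotient_map_mem_quasiIso_iff _).2 ((HomologicalComplex.mem_quasiIso_iff _).2 inferInstance))
  haveI : IsIso ((DerivedCategory.Qh ⋙ DCoh.Rpush f).map w) :=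
    haveI := Localization.inverts DerivedCategory.Qh (HomotopyCategory.quasiIso X.Modules (ComplexShape.up ℤ)) w
      ((HomotopyCategory.quotient_map_mem_quasiIso_iff _).2 ((HomologicalComplex.mem_quasiIso_iff _).2 inferInstance))
    inferInstanceAs (IsIso ((DCoh.Rpush f).map (DerivedCategory.Qh.map w)))
  haveI : IsIso (η.app _ ≫ (DerivedCategory.Qh ⋙ DCoh.Rpush f).map w) := by
    rw [← η.naturality w]; exact IsIso.comp_isIso
  exact IsIso.of_isIso_comp_right (η.app _) ((DerivedCategory.Qh ⋙ DCoh.Rpush f).map w)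

theorem isQCohD_toD {F : CochainComplex X.Modules ℤ} (hq : ∀ n, Coh.IsQCoh (F.X n)) :
    DCoh.IsQCohD (DCoh.toD X F) := fun i =>
  isQCoh_of_iso' ((homologyFunctorFactors X.Modules i).app F).symm (PCQCoh.isQCoh_homology hq i)

/-- acyclic quasi-coherent terms compute `Rf_*` -/
theorem isIso_unit_of_acyclic (f : X ⟶ S) [QuasiCompact f] [QuasiSeparated f] [DCoh.HasRpush f]
    [HasInjectiveResolutions X.Modules]
    (F : CochainComplex X.Modules ℤ) (hq : ∀ n, Coh.IsQCoh (F.X n))
    (hac : ∀ (n : ℤ) (i : ℕ), 0 < i → IsZero ((Coh.Rpush f i).obj (F.X n))) :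
    IsIso (((DCoh.pushKh f).totalRightDerivedUnit DerivedCategory.Qh (HomotopyCategory.quasiIso X.Modules (ComplexShape.up ℤ))).app
      ((HomotopyCategory.quotient X.Modules (ComplexShape.up ℤ)).obj F)) := by
  haveI := Groth.L17.PushQCoh.additive_push f
  let c := ComplexShape.up ℤ
  let η := (DCoh.pushKh f).totalRightDerivedUnit DerivedCategory.Qh (HomotopyCategory.quasiIso X.Modules c)
  rw [DerivedCategory.isIso_iff]
  intro j
  refine Groth.L21.Mod.isIso_of_restrict_opens (fun V : S.affineOpens => V.1)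
    (iSup_affineOpens_eq_top S) _ fun V => ?_
  haveI : IsAffine (V.1 : Scheme.{u}) := V.2
  haveI := hasRpush (f ∣_ V.1)
  haveI := Groth.L17.PushQCoh.hasInjectiveResolutions (f ⁻¹ᵁ V.1 : Scheme.{u})
  obtain ⟨N, hN⟩ := exists_bound (f ∣_ V.1)
  obtain ⟨e⟩ := RpushRes.nonempty_iso f V.1.ι (f ⁻¹ᵁ V.1).ι (f ∣_ V.1)
    (by rw [Scheme.Opens.opensRange_ι, Scheme.Opens.opensRange_ι]) (morphismRestrict_ι f V.1)
  obtain ⟨m, hm⟩ : ∃ m : ℕ, (N : ℤ) - (m : ℤ) ≤ j := ⟨((N : ℤ) - j).toNat, by omega⟩
  obtain ⟨n, hn⟩ : ∃ n : ℕ, (m : ℤ) < n ∧ -(n : ℤ) < j := ⟨(m + 1) + (1 - j).toNat, by omega, by omega⟩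
  let b := brutal F (-(n : ℤ))
  let φ := brutalι F (-(n : ℤ))
  haveI : b.IsStrictlyGE (-(n : ℤ)) :=
    (CochainComplex.isStrictlyGE_iff _ _).2 fun i hi => isZero_brutal_X F _ hi
  have hbX : ∀ i, IsZero (b.X i) ∨ Nonempty (b.X i ≅ F.X i) := fun i => by
    by_cases hi : i < -(n : ℤ)
    · exact Or.inl (isZero_brutal_X F _ hi)
    · haveI := isIso_brutalι F (-(n : ℤ)) (i := i) (by omega)
      exact Or.inr ⟨asIso (φ.f i)⟩
  have hbq : ∀ i, Coh.IsQCoh (b.X i) := fun i =>
    (hbX i).elim isQCoh_of_isZero fun ⟨e⟩ => isQCoh_of_iso' e.symm (hq i)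
  have hbac : ∀ i, Groth.L17.GrothSS.RAcyclic (Scheme.Modules.pushforward f) (b.X i) := fun i q hq' =>
    (hbX i).elim (fun hz => Groth.L17.GrothSS.rAcyclic_of_isZero _ hz q hq') fun ⟨e⟩ =>
      (hac i q hq').of_iso (((Scheme.Modules.pushforward f).rightDerived q).mapIso e)
  haveI := isIso_unit_bddBelow f b (-(n : ℤ)) hbac
  let res := Scheme.Modules.restrictFunctor V.1.ι
  let Hj := fun {A B : DCoh.D S} (g : A ⟶ B) => res.map ((homologyFunctor S.Modules j).map g)
  let w := (HomotopyCategory.quotient X.Modules c).map φ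
  have hφ : ∀ i : ℤ, -(m : ℤ) ≤ i → IsIso ((homologyFunctor X.Modules i).map (DerivedCategory.Qh.map w)) :=
    fun i hi => by
      have := (approx_brutalι F (-(n : ℤ))).1 i (by omega)
      exact (NatIso.isIso_map_iff (Functor.isoWhiskerRight (quotientCompQhIso X.Modules) (homologyFunctor X.Modules i)) φ).2 this
  have h2 : IsIso (res.map ((homologyFunctor S.Modules j).map ((DCoh.Rpush f).map (DerivedCategory.Qh.map w)))) := by
    have hq1 : DCoh.IsQCohD ((DCoh.restrictD (f ⁻¹ᵁ V.1).ι).obj (DerivedCategory.Qh.obj ((HomotopyCategory.quotient X.Modules c).obj b))) :=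
      isQCohD_restrictD _ (isQCohD_of_iso ((quotientCompQhIso X.Modules).app b).symm (isQCohD_toD hbq))
    have hq2 : DCoh.IsQCohD ((DCoh.restrictD (f ⁻¹ᵁ V.1).ι).obj (DerivedCategory.Qh.obj ((HomotopyCategory.quotient X.Modules c).obj F))) :=
      isQCohD_restrictD _ (isQCohD_of_iso ((quotientCompQhIso X.Modules).app F).symm (isQCohD_toD hq))
    haveI h3 := isIso_H_map_of_bound (f ∣_ V.1) N hN hq1 hq2
      ((DCoh.restrictD (f ⁻¹ᵁ V.1).ι).map (DerivedCategory.Qh.map w)) m (fun i hi => by
        haveI := hφ i hi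
        exact UnitIso.isIso_H_map (Scheme.Modules.restrictFunctor (f ⁻¹ᵁ V.1).ι) _ i) j hm
    have h4 : IsIso ((homologyFunctor (V.1 : Scheme.{u}).Modules j).map
        ((DCoh.restrictD V.1.ι).map ((DCoh.Rpush f).map (DerivedCategory.Qh.map w)))) :=
      (NatIso.isIso_map_iff (Functor.isoWhiskerRight e (homologyFunctor (V.1 : Scheme.{u}).Modules j)) _).2 h3
    exact isIso_res_of_H res _ j h4
  have h1 : IsIso (res.map ((homologyFunctor S.Modules j).map ((DCoh.pushKh f).map w))) := by
    haveI : IsIso ((homologyFunctor S.Modules j).map ((DCoh.pushKh f).map w)) := by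
      let φ' := ((Scheme.Modules.pushforward f).mapHomologicalComplex c).map φ
      let σ := (HomologicalComplex.shortComplexFunctor S.Modules c j).map φ'
      have hiso : ∀ i, -(n : ℤ) ≤ i → IsIso (φ'.f i) := fun i hi => by
        haveI := isIso_brutalι F (-(n : ℤ)) (i := i) hi
        exact inferInstanceAs (IsIso ((Scheme.Modules.pushforward f).map (φ.f i)))
      haveI : IsIso σ.τ₁ := hiso _ (by simp [c]; omega)
      haveI : IsIso σ.τ₂ := hiso _ (by omega)
      haveI : IsIso σ.τ₃ := hiso _ (by simp [c]; omega)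
      haveI := ShortComplex.isIso_of_isIso σ
      have h' : IsIso (HomologicalComplex.homologyMap φ' j) := inferInstanceAs (IsIso (ShortComplex.homologyMap σ))
      exact (NatIso.isIso_map_iff (Functor.isoWhiskerRight (quotientCompQhIso S.Modules) (homologyFunctor S.Modules j)) φ').2
        ((NatIso.isIso_map_iff (homologyFunctorFactors S.Modules j) φ').2 h')
    infer_instance
  refine IsIso.of_isIso_fac_left (f := res.map ((homologyFunctor S.Modules j).map ((DCoh.pushKh f).map w)))
    (h := res.map ((homologyFunctor S.Modules j).map (η.app ((HomotopyCategory.quotient X.Modules c).obj b))) ≫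
      res.map ((homologyFunctor S.Modules j).map ((DCoh.Rpush f).map (DerivedCategory.Qh.map w)))) ?_
  exact ((res.map_comp _ _).symm.trans (congrArg res.map (((homologyFunctor S.Modules j).map_comp _ _).symm.trans
    ((congrArg (homologyFunctor S.Modules j).map (η.naturality w)).trans
      ((homologyFunctor S.Modules j).map_comp _ _))))).trans (res.map_comp _ _)
where
  isIso_res_of_H {T U : Scheme.{u}} (res : T.Modules ⥤ U.Modules) [res.Additive] [PreservesFiniteLimits res]
      [PreservesFiniteColimits res] {A B : DCoh.D T} (g : A ⟶ B) (j : ℤ)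
      (h : IsIso ((homologyFunctor U.Modules j).map (res.mapDerivedCategory.map g))) :
      IsIso (res.map ((homologyFunctor T.Modules j).map g)) :=
    ((MorphismProperty.isomorphisms U.Modules).arrow_mk_iso_iff
      (Arrow.isoMk ((UnitIso.homologyNatIso res j).app A) ((UnitIso.homologyNatIso res j).app B)
        ((UnitIso.homologyNatIso res j).hom.naturality g).symm)).1 h

end Groth.L29.DC.RpushQC
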