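import Mathlib.Algebra.Homology.DerivedCategory.ShortExact
import Mathlib.CategoryTheory.Functor.Derived.LeftDerived

/-!
Left derived functors of functors of complexes fitting into natural short exact sequences: the exact sequences on
morphisms out of them.
-/

set_option autoImplicit false
set_option backward.defeqAttrib.useBackward true
set_option backward.isDefEq.respectTransparency false
set_option backward.isDefEq.respectTransparency.types false

universe w v u

open CategoryTheory CategoryTheory.Limits DerivedCategory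

namespace Groth.L29.DC.SESLift

variable {C : Type u} [Category.{v} C] [Abelian C] [HasDerivedCategory.{w} C]

variable (C) in
/-- shift by `-1` -/
noncomputable abbrev sN : DerivedCategory C ⥤ DerivedCategory C :=
  CategoryTheory.shiftFunctor (DerivedCategory C) (-1 : ℤ)

variable (C) in
/-- unit of the shift equivalence -/
noncomputable abbrev sU := (shiftEquiv' (DerivedCategory C) (1 : ℤ) (-1) (by omega)).unitIso

variable (C) in
/-- quasi-isomorphisms -/
abbrev qis := HomologicalComplex.quasiIso C (ComplexShape.up ℤ)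

variable {T₁ T₂ T₃ : CochainComplex C ℤ ⥤ CochainComplex C ℤ} (f : T₁ ⟶ T₂) (g : T₂ ⟶ T₃) (w : ∀ P, f.app P ≫ g.app P = 0)
  (hS : ∀ P, (ShortComplex.mk (f.app P) (g.app P) (w P)).ShortExact)
  {L₁ L₂ L₃ : (DerivedCategory C) ⥤ (DerivedCategory C)} (c₁ : Q ⋙ L₁ ⟶ T₁ ⋙ Q) (c₂ : Q ⋙ L₂ ⟶ T₂ ⋙ Q) (c₃ : Q ⋙ L₃ ⟶ T₃ ⋙ Q)

/-- the connecting map, naturally -/
noncomputable def δnat : T₃ ⋙ Q ⟶ T₁ ⋙ Q ⋙ CategoryTheory.shiftFunctor (DerivedCategory C) (1 : ℤ) where
  app P := triangleOfSESδ (hS P)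
  naturality {P P'} a := by
    let φ : ShortComplex.mk (f.app P) (g.app P) (w P) ⟶ ShortComplex.mk (f.app P') (g.app P') (w P') :=
      { τ₁ := T₁.map a, τ₂ := T₂.map a, τ₃ := T₃.map a
        comm₁₂ := f.naturality a, comm₂₃ := g.naturality a }
    exact (triangleOfSESδ_naturality (hS P) (hS P') φ).symm

/-- the map inducing the connecting map of derived functors -/
noncomputable def β : Q ⋙ L₃ ⋙ (sN C) ⟶ T₁ ⋙ Q where
  app P := (c₃.app P ≫ (δnat f g w hS).app P)⟦(-1 : ℤ)⟧' ≫ (sU C).inv.app _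
  naturality P P' a := by
    have h1 := c₃.naturality a
    have h2 := (δnat f g w hS).naturality a
    simp only [Functor.comp_map] at h1 h2 ⊢
    rw [← Functor.map_comp_assoc, ← Category.assoc (f := L₃.map _), h1, Category.assoc, h2,
      ← Category.assoc, Functor.map_comp, Category.assoc, Category.assoc]
    refine congrArg (_ ≫ ·) ?_
    exact (sU C).inv.naturality _

/-- the connecting map of derived functors -/
noncomputable def θ [L₁.IsLeftDerivedFunctor c₁ (qis C)] : L₃ ⋙ (sN C) ⟶ L₁ :=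
  L₁.leftDerivedLift c₁ (qis C) _ (β f g w hS c₃)

theorem θ_fac [L₁.IsLeftDerivedFunctor c₁ (qis C)] (P : CochainComplex C ℤ) :
    (θ f g w hS c₁ c₃).app (Q.obj P) ≫ c₁.app P =
      (c₃.app P ≫ (δnat f g w hS).app P)⟦(-1 : ℤ)⟧' ≫ (sU C).inv.app _ :=
  Functor.leftDerived_fac_app L₁ c₁ (qis C) _ (β f g w hS c₃) P

variable (good : CochainComplex C ℤ → Prop) (h₁ : ∀ P, good P → IsIso (c₁.app P)) (h₂ : ∀ P, good P → IsIso (c₂.app P))
  (h₃ : ∀ P, good P → IsIso (c₃.app P)) (hres : ∀ M : (DerivedCategory C), ∃ P, good P ∧ Nonempty (Q.obj P ≅ M))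
  (F : L₁ ⟶ L₂) (G : L₂ ⟶ L₃) (hF : ∀ P, F.app (Q.obj P) ≫ c₂.app P = c₁.app P ≫ Q.map (f.app P))
  (hG : ∀ P, G.app (Q.obj P) ≫ c₃.app P = c₂.app P ≫ Q.map (g.app P))

include hres in
/-- reduction to good representatives -/
theorem of_rep {F₁ F₂ F₃ : (DerivedCategory C) ⥤ (DerivedCategory C)} (τ : F₁ ⟶ F₂) (ρ : F₂ ⟶ F₃) {L : (DerivedCategory C)}
    (h : ∀ P, good P → ∀ x : F₂.obj (Q.obj P) ⟶ L, τ.app _ ≫ x = 0 → ∃ k, ρ.app _ ≫ k = x)
    (M : (DerivedCategory C)) (x : F₂.obj M ⟶ L) (hx : τ.app M ≫ x = 0) : ∃ k, ρ.app M ≫ k = x := by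
  obtain ⟨P, hP, ⟨e⟩⟩ := hres M
  obtain ⟨k, hk⟩ := h P hP (F₂.map e.hom ≫ x) (by rw [← τ.naturality_assoc, hx, comp_zero])
  refine ⟨F₃.map e.inv ≫ k, ?_⟩
  rw [← ρ.naturality_assoc, hk, ← Category.assoc, ← Functor.map_comp, Iso.inv_hom_id,
    CategoryTheory.Functor.map_id, Category.id_comp]

include hS hF hG h₁ h₂ hres in
theorem exactA (M L : (DerivedCategory C)) (x : L₂.obj M ⟶ L) (hx : F.app M ≫ x = 0) : ∃ k, G.app M ≫ k = x := by
  refine of_rep good hres _ _ (fun P hP x hx => ?_) M x hx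
  have := h₁ P hP
  have := h₂ P hP
  obtain ⟨k, hk⟩ := Pretriangulated.Triangle.yoneda_exact₂ _ (triangleOfSES_distinguished (hS P))
    (inv (c₂.app P) ≫ x) (by
      change Q.map (f.app P) ≫ _ = 0
      rw [← cancel_epi (c₁.app P), comp_zero, ← Category.assoc]
      erw [← hF P]
      rw [Category.assoc, IsIso.hom_inv_id_assoc, hx])
  refine ⟨c₃.app P ≫ k, ?_⟩
  rw [← Category.assoc]
  erw [hG P]
  rw [Category.assoc]
  exact (congrArg (c₂.app P ≫ ·) hk.symm).trans (IsIso.hom_inv_id_assoc _ _)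

include hS hF h₁ h₃ hres in
theorem exactB [L₁.IsLeftDerivedFunctor c₁ (qis C)] (M L : (DerivedCategory C)) (x : L₁.obj M ⟶ L)
    (hx : (θ f g w hS c₁ c₃).app M ≫ x = 0) : ∃ k, F.app M ≫ k = x := by
  refine of_rep good hres _ _ (fun P hP x hx => ?_) M x hx
  have := h₁ P hP
  have := h₃ P hP
  obtain ⟨k, hk⟩ := Pretriangulated.Triangle.yoneda_exact₂ _
    (Pretriangulated.inv_rot_of_distTriang _ (triangleOfSES_distinguished (hS P)))
    (inv (c₁.app P) ≫ x) (by
      have h0 : (c₃.app P ≫ (δnat f g w hS).app P)⟦(-1 : ℤ)⟧' ≫ (sU C).inv.app _ ≫ inv (c₁.app P) ≫ x = 0 := by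
        rw [← Category.assoc, ← θ_fac f g w hS c₁ c₃ P, Category.assoc, IsIso.hom_inv_id_assoc, hx]
      rw [Functor.map_comp, Category.assoc] at h0
      erw [← cancel_epi ((c₃.app P)⟦(-1 : ℤ)⟧')]
      refine Eq.trans ?_ comp_zero.symm
      change (c₃.app P)⟦(-1 : ℤ)⟧' ≫ ((-((triangleOfSESδ (hS P))⟦(-1 : ℤ)⟧') ≫ (sU C).inv.app _) ≫ _) = 0
      simp only [Preadditive.neg_comp, Preadditive.comp_neg, neg_eq_zero]
      erw [Category.assoc]
      exact h0)
  refine ⟨c₂.app P ≫ k, ?_⟩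
  rw [← Category.assoc]
  erw [hF P]
  rw [Category.assoc]
  exact (congrArg (c₁.app P ≫ ·) hk.symm).trans (IsIso.hom_inv_id_assoc _ _)

include hS hG h₁ h₂ h₃ hres in
theorem exactC [L₁.IsLeftDerivedFunctor c₁ (qis C)] (M L : (DerivedCategory C)) (x : (L₃.obj M)⟦(-1 : ℤ)⟧ ⟶ L)
    (hx : (G.app M)⟦(-1 : ℤ)⟧' ≫ x = 0) : ∃ k, (θ f g w hS c₁ c₃).app M ≫ k = x := by
  refine of_rep good hres (Functor.whiskerRight G (sN C)) (θ f g w hS c₁ c₃) (fun P hP x hx => ?_) M x hx
  have := h₁ P hP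
  have := h₂ P hP
  have := h₃ P hP
  obtain ⟨k, hk⟩ := Pretriangulated.Triangle.yoneda_exact₃ _ (triangleOfSES_distinguished (hS P))
    (((sN C)).preimage ((inv (c₃.app P))⟦(-1 : ℤ)⟧' ≫ x ≫ (sU C).hom.app L)) (by
      apply ((sN C)).map_injective
      rw [Functor.map_zero, Functor.map_comp]
      erw [Functor.map_preimage]
      rw [← cancel_epi (((sN C)).map (c₂.app P)), comp_zero, ← Category.assoc, ← Functor.map_comp]
      erw [← hG P]
      erw [← (sN C).map_comp_assoc, Category.assoc, IsIso.hom_inv_id, Category.comp_id, ← Category.assoc]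
      exact (congrArg (· ≫ (sU C).hom.app L) hx).trans zero_comp)
  obtain ⟨k₀, rfl⟩ := (CategoryTheory.shiftFunctor (DerivedCategory C) (1 : ℤ)).map_surjective k
  refine ⟨c₁.app P ≫ k₀, ?_⟩
  have hn := (sU C).inv.naturality k₀
  have hk' := congrArg ((sN C)).map hk
  erw [Functor.map_preimage] at hk'
  rw [Functor.map_comp] at hk'
  rw [← Category.assoc, θ_fac, Category.assoc, ← cancel_mono ((sU C).hom.app L)]
  erw [← hn]
  simp only [Category.assoc, Functor.comp_map, Functor.map_comp]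
  erw [Iso.inv_hom_id_app, Category.comp_id]
  refine (congrArg ((c₃.app P)⟦(-1 : ℤ)⟧' ≫ ·) hk'.symm).trans ?_
  exact (Category.assoc _ _ _).symm.trans ((congrArg (· ≫ _) ((((sN C)).map_comp _ _).symm.trans
    ((congrArg ((sN C)).map (IsIso.hom_inv_id _)).trans (((sN C)).map_id _)))).trans (Category.id_comp _))

/-- exactness is stable under shifting -/
theorem exact_shift {F₁ F₂ F₃ : (DerivedCategory C) ⥤ (DerivedCategory C)} (τ : F₁ ⟶ F₂) (ρ : F₂ ⟶ F₃)
    (h : ∀ M L (x : F₂.obj M ⟶ L), τ.app M ≫ x = 0 → ∃ k, ρ.app M ≫ k = x)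
    (M L : (DerivedCategory C)) (x : (F₂.obj M)⟦(-1 : ℤ)⟧ ⟶ L) (hx : (τ.app M)⟦(-1 : ℤ)⟧' ≫ x = 0) :
    ∃ k, (ρ.app M)⟦(-1 : ℤ)⟧' ≫ k = x := by
  obtain ⟨k, hk⟩ := h M (L⟦(1 : ℤ)⟧) (((sN C)).preimage (x ≫ (sU C).hom.app L)) (((sN C)).map_injective (by
    rw [Functor.map_comp]
    erw [Functor.map_preimage]
    rw [← Category.assoc, Functor.map_zero]
    exact (congrArg (· ≫ (sU C).hom.app L) hx).trans zero_comp))
  refine ⟨((sN C)).map k ≫ (sU C).inv.app L, ?_⟩
  rw [← Category.assoc, ← Functor.map_comp, hk]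
  erw [Functor.map_preimage]
  rw [Category.assoc, Iso.hom_inv_id_app]
  exact Category.comp_id _

include hS hG hF h₁ h₂ h₃ hres in
/-- consecutive maps compose to zero -/
theorem comp_eq_zero [L₁.IsLeftDerivedFunctor c₁ (qis C)] (M : (DerivedCategory C)) :
    F.app M ≫ G.app M = 0 ∧ (θ f g w hS c₁ c₃).app M ≫ F.app M = 0 ∧
      (G.app M)⟦(-1 : ℤ)⟧' ≫ (θ f g w hS c₁ c₃).app M = 0 := by
  obtain ⟨P, hP, ⟨e⟩⟩ := hres M
  have := h₁ P hP
  have := h₂ P hP
  have := h₃ P hP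
  have hT := triangleOfSES_distinguished (hS P)
  have z₁ : F.app (Q.obj P) ≫ G.app (Q.obj P) = 0 := by
    rw [← cancel_mono (c₃.app P), zero_comp, Category.assoc]
    erw [hG P]
    rw [← Category.assoc]
    erw [hF P]
    rw [Category.assoc, ← Q.map_comp, w P]
    simp
  have z₂ : (θ f g w hS c₁ c₃).app (Q.obj P) ≫ F.app (Q.obj P) = 0 := by
    rw [← cancel_mono (c₂.app P), zero_comp, Category.assoc]
    erw [hF P]
    rw [← Category.assoc, θ_fac, Category.assoc, Functor.map_comp, Category.assoc]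
    have h31 : (δnat f g w hS).app P ≫ (Q.map (f.app P))⟦(1 : ℤ)⟧' = 0 :=
      Pretriangulated.comp_distTriang_mor_zero₃₁ _ hT
    have hn := (sU C).inv.naturality (Q.map (f.app P))
    erw [← hn]
    simp only [Functor.comp_map]
    have h' : ((sN C).map (c₃.app P) ≫ (sN C).map ((δnat f g w hS).app P)) ≫
        (sN C).map ((Q.map (f.app P))⟦(1 : ℤ)⟧') = 0 := by
      rw [← Functor.map_comp, ← Functor.map_comp]
      erw [Category.assoc, h31]
      simp
    exact (Category.assoc _ _ _).symm.trans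
      ((Category.assoc _ _ _).symm.trans ((congrArg (· ≫ _) h').trans zero_comp))
  have z₃ : (G.app (Q.obj P))⟦(-1 : ℤ)⟧' ≫ (θ f g w hS c₁ c₃).app (Q.obj P) = 0 := by
    rw [← cancel_mono (c₁.app P), zero_comp, Category.assoc, θ_fac, ← Category.assoc, ← Functor.map_comp]
    rw [← Category.assoc]
    erw [hG P]
    rw [Category.assoc]
    have h23 : Q.map (g.app P) ≫ (δnat f g w hS).app P = 0 :=
      Pretriangulated.comp_distTriang_mor_zero₂₃ _ hT
    erw [h23]
    simp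
  refine ⟨?_, ?_, ?_⟩
  · rw [← cancel_epi (L₁.map e.hom), F.naturality_assoc, G.naturality, ← Category.assoc, z₁, zero_comp, comp_zero]
  · rw [← cancel_epi ((L₃ ⋙ (sN C)).map e.hom), (θ f g w hS c₁ c₃).naturality_assoc, F.naturality, ← Category.assoc,
      z₂, zero_comp, comp_zero]
  · have hn := (Functor.whiskerRight G (sN C)).naturality e.hom
    rw [← cancel_epi ((L₂ ⋙ (sN C)).map e.hom), comp_zero]
    erw [reassoc_of% hn]
    erw [(θ f g w hS c₁ c₃).naturality e.hom]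
    rw [← Category.assoc]
    exact (congrArg (· ≫ L₁.map e.hom) z₃).trans zero_comp

end Groth.L29.DC.SESLift
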