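import Groth.Agent.L29.DCoh.RHomExact
import Groth.Agent.L29.DCoh.SESLift

/-!
A Serre-type property of cohomology objects passes between right adjoints in a triangle.
-/

set_option autoImplicit false
set_option backward.defeqAttrib.useBackward true
set_option backward.isDefEq.respectTransparency false
set_option backward.isDefEq.respectTransparency.types false

universe w v u

open CategoryTheory CategoryTheory.Limits DerivedCategory

namespace Groth.L29.DC.FiveRight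

variable {C : Type u} [Category.{v} C] [Abelian C] [HasDerivedCategory.{w} C]
  [Groth.L10.KInjDerived.EnoughKInjectives C]

variable (P : C → Prop) (hiso : ∀ {A B : C}, (A ≅ B) → P A → P B)
  (hk : ∀ {A B : C} (φ : A ⟶ B), P A → P B → P (kernel φ))
  (hc : ∀ {A B : C} (φ : A ⟶ B), P A → P B → P (cokernel φ))
  (he : ∀ S : ShortComplex C, S.ShortExact → P S.X₁ → P S.X₃ → P S.X₂)

/-- all cohomology objects satisfy `P` -/
def PD (K : DerivedCategory C) : Prop := ∀ i : ℤ, P ((homologyFunctor C i).obj K)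

include hiso in
theorem PD_of_iso {K L : DerivedCategory C} (e : K ≅ L) (h : PD P K) : PD P L :=
  fun i => hiso ((homologyFunctor C i).mapIso e) (h i)

include hiso in
theorem PD_shift {K : DerivedCategory C} (h : PD P K) (n : ℤ) : PD P (K⟦n⟧) :=
  fun i => hiso (((homologyFunctor C 0).shiftIso n i (n + i) rfl).app K).symm (h (n + i))

/-- the adjunction for a shifted functor -/
noncomputable def shiftAdj {L R : DerivedCategory C ⥤ DerivedCategory C} (a : L ⊣ R) :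
    L ⋙ SESLift.sN C ⊣ CategoryTheory.shiftFunctor (DerivedCategory C) (1 : ℤ) ⋙ R :=
  a.comp (shiftEquiv' (DerivedCategory C) (-1 : ℤ) 1 (by omega)).toAdjunction

theorem additive_left {D : Type u} [Category.{v} D] [Preadditive D] [HasFiniteBiproducts D]
    [HasBinaryBiproducts D] {L R : D ⥤ D} (a : L ⊣ R) : L.Additive :=
  haveI := a.leftAdjoint_preservesColimits
  haveI : PreservesFiniteCoproducts L := ⟨fun n => inferInstance⟩
  haveI := preservesBinaryBiproducts_of_preservesBinaryCoproducts L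
  Functor.additive_of_preservesBinaryBiproducts L

variable {T₁ T₂ T₃ : CochainComplex C ℤ ⥤ CochainComplex C ℤ} (f : T₁ ⟶ T₂) (g : T₂ ⟶ T₃)
  (w : ∀ K, f.app K ≫ g.app K = 0)
  (hS : ∀ K, (ShortComplex.mk (f.app K) (g.app K) (w K)).ShortExact)
  {L₁ L₂ L₃ R₁ R₂ R₃ : DerivedCategory C ⥤ DerivedCategory C} (a₁ : L₁ ⊣ R₁) (a₂ : L₂ ⊣ R₂) (a₃ : L₃ ⊣ R₃)
  (c₁ : Q ⋙ L₁ ⟶ T₁ ⋙ Q) (c₂ : Q ⋙ L₂ ⟶ T₂ ⋙ Q) (c₃ : Q ⋙ L₃ ⟶ T₃ ⋙ Q)
  [L₁.IsLeftDerivedFunctor c₁ (SESLift.qis C)]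
  (good : CochainComplex C ℤ → Prop) (h₁ : ∀ K, good K → IsIso (c₁.app K)) (h₂ : ∀ K, good K → IsIso (c₂.app K))
  (h₃ : ∀ K, good K → IsIso (c₃.app K)) (hres : ∀ M : DerivedCategory C, ∃ K, good K ∧ Nonempty (Q.obj K ≅ M))
  (F : L₁ ⟶ L₂) (G : L₂ ⟶ L₃) (hF : ∀ K, F.app (Q.obj K) ≫ c₂.app K = c₁.app K ≫ Q.map (f.app K))
  (hG : ∀ K, G.app (Q.obj K) ≫ c₃.app K = c₂.app K ≫ Q.map (g.app K))

include hk hc he hS a₁ a₂ a₃ h₁ h₂ h₃ hres hF hG in
/-- from the second and third term to the first, one degree -/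
theorem first_of_at (L : DerivedCategory C) (i : ℤ) (p₂ : P ((homologyFunctor C i).obj (R₂.obj L)))
    (p₂' : P ((homologyFunctor C i).obj (R₂.obj (L⟦(1 : ℤ)⟧))))
    (p₃ : P ((homologyFunctor C i).obj (R₃.obj L)))
    (p₃' : P ((homologyFunctor C i).obj (R₃.obj (L⟦(1 : ℤ)⟧)))) :
    P ((homologyFunctor C i).obj (R₁.obj L)) := by
  haveI := additive_left a₁
  haveI := additive_left a₂
  haveI := additive_left a₃
  let a₂' := shiftAdj a₂
  let a₃' := shiftAdj a₃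
  let θ := SESLift.θ f g w hS c₁ c₃
  let G' := Functor.whiskerRight G (SESLift.sN C)
  have z := SESLift.comp_eq_zero f g w hS c₁ c₂ c₃ good h₁ h₂ h₃ hres F G hF hG
  let m₀ := RHomExact.mate a₂ a₃ G L
  let m₁ := RHomExact.mate a₁ a₂ F L
  let m₂ := RHomExact.mate a₃' a₁ θ L
  let m₃ := RHomExact.mate a₂' a₃' G' L
  have w₁ : m₀ ≫ m₁ = 0 := RHomExact.mate_comp_mate a₁ a₂ a₃ F G (fun M => (z M).1) L
  have w₂ : m₁ ≫ m₂ = 0 := RHomExact.mate_comp_mate a₃' a₁ a₂ θ F (fun M => (z M).2.1) L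
  have w₃ : m₂ ≫ m₃ = 0 := RHomExact.mate_comp_mate a₂' a₃' a₁ G' θ (fun M => (z M).2.2) L
  have e₁ := RHomExact.exact_H m₀ m₁ w₁ (fun M ξ => RHomExact.exact_hom a₁ a₂ a₃ F G L
    (fun M x => SESLift.exactA f g w hS c₁ c₂ c₃ good h₁ h₂ hres F G hF hG M L x) ξ) i
  have e₂ := RHomExact.exact_H m₁ m₂ w₂ (fun M ξ => RHomExact.exact_hom a₃' a₁ a₂ θ F L
    (fun M x => SESLift.exactB f g w hS c₁ c₂ c₃ good h₁ h₃ hres F hF M L x) ξ) i
  have e₃ := RHomExact.exact_H m₂ m₃ w₃ (fun M ξ => RHomExact.exact_hom a₂' a₃' a₁ G' θ L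
    (fun M x => SESLift.exactC f g w hS c₁ c₂ c₃ good h₁ h₂ h₃ hres G hG M L x) ξ) i
  let H := homologyFunctor C i
  refine he _ (RHomExact.shortExact_middle (H.map m₀) (H.map m₁) (H.map m₂) (H.map m₃) _ _ _ e₁ e₂ e₃)
    (hc _ p₃ p₂) (hk _ ?_ ?_)
  · exact p₃'
  · exact p₂'

include hiso hk hc he hS a₁ a₂ a₃ h₁ h₂ h₃ hres hF hG in
/-- from the second and third term to the first -/
theorem first_of (p₂ : ∀ L, PD P L → PD P (R₂.obj L)) (p₃ : ∀ L, PD P L → PD P (R₃.obj L))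
    (L : DerivedCategory C) (hL : PD P L) : PD P (R₁.obj L) := fun i =>
  first_of_at P hk hc he f g w hS a₁ a₂ a₃ c₁ c₂ c₃ good h₁ h₂ h₃ hres F G hF hG L i (p₂ L hL i)
    (p₂ _ (PD_shift P hiso hL 1) i) (p₃ L hL i) (p₃ _ (PD_shift P hiso hL 1) i)

include hS a₁ a₂ a₃ h₁ h₂ h₃ hres hF hG in
/-- if the middle adjoint is zero the outer ones differ by a shift -/
theorem iso_of_zero (z₂ : ∀ L, IsZero (R₂.obj L)) (L : DerivedCategory C) :
    Nonempty (R₁.obj L ≅ R₃.obj (L⟦(1 : ℤ)⟧)) := by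
  haveI := additive_left a₁
  haveI := additive_left a₂
  haveI := additive_left a₃
  let a₂' := shiftAdj a₂
  let a₃' := shiftAdj a₃
  let θ := SESLift.θ f g w hS c₁ c₃
  let G' := Functor.whiskerRight G (SESLift.sN C)
  have z := SESLift.comp_eq_zero f g w hS c₁ c₂ c₃ good h₁ h₂ h₃ hres F G hF hG
  let m₁ := RHomExact.mate a₁ a₂ F L
  let m₂ := RHomExact.mate a₃' a₁ θ L
  let m₃ := RHomExact.mate a₂' a₃' G' L
  have w₂ : m₁ ≫ m₂ = 0 := RHomExact.mate_comp_mate a₃' a₁ a₂ θ F (fun M => (z M).2.1) L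
  have w₃ : m₂ ≫ m₃ = 0 := RHomExact.mate_comp_mate a₂' a₃' a₁ G' θ (fun M => (z M).2.2) L
  haveI : IsIso m₂ := by
    refine (DerivedCategory.isIso_iff C m₂).2 fun i => ?_
    have e₂ := RHomExact.exact_H m₁ m₂ w₂ (fun M ξ => RHomExact.exact_hom a₃' a₁ a₂ θ F L
      (fun M x => SESLift.exactB f g w hS c₁ c₂ c₃ good h₁ h₃ hres F hF M L x) ξ) i
    have e₃ := RHomExact.exact_H m₂ m₃ w₃ (fun M ξ => RHomExact.exact_hom a₂' a₃' a₁ G' θ L
      (fun M x => SESLift.exactC f g w hS c₁ c₂ c₃ good h₁ h₂ h₃ hres G hG M L x) ξ) i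
    have h0 : IsZero ((homologyFunctor C i).obj (R₂.obj L)) := (homologyFunctor C i).map_isZero (z₂ L)
    have h0' : IsZero ((homologyFunctor C i).obj (R₂.obj (L⟦(1 : ℤ)⟧))) :=
      (homologyFunctor C i).map_isZero (z₂ _)
    haveI : Mono ((homologyFunctor C i).map m₂) := e₂.mono_g (h0.eq_of_src _ _)
    haveI : Epi ((homologyFunctor C i).map m₂) := e₃.epi_f (h0'.eq_of_tgt _ _)
    exact isIso_of_mono_of_epi _
  exact ⟨asIso m₂⟩

end Groth.L29.DC.FiveRight
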