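import Groth.Agent.L29.DCoh.RpushCoprod
import Groth.Agent.L29.DCoh.RpushAcyclic
import Groth.Agent.L18.TildeFunctor

/-!
Quasi-coherence is stable under colimits; unbounded quasi-coherent colimits commute with `Rf_*`.
-/

set_option autoImplicit false
set_option backward.defeqAttrib.useBackward true
set_option backward.isDefEq.respectTransparency false
set_option backward.isDefEq.respectTransparency.types false

universe u

open CategoryTheory CategoryTheory.Limits AlgebraicGeometry

attribute [local instance] HasDerivedCategory.standard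

namespace Groth.L29.DC.QCohColim

variable {X : Scheme.{u}}

theorem isQCoh_colimit {J : Type u} [SmallCategory J] (F : J ⥤ X.Modules) (c : Cocone F) (hc : IsColimit c)
    (hF : ∀ j, Coh.IsQCoh (F.obj j)) : Coh.IsQCoh c.pt := by
  refine Groth.L00.Local.isQCoh_of_tilde_charts _ fun x => ?_
  obtain ⟨_, ⟨(V : X.Opens), hV, rfl⟩, hxV, -⟩ := X.isBasis_affineOpens.exists_subset_of_mem_open (Set.mem_univ x) isOpen_univ
  let r := Scheme.Modules.restrictFunctor hV.fromSpec
  haveI : PreservesColimitsOfSize.{u, u} r :=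
    (Scheme.Modules.restrictAdjunction hV.fromSpec).leftAdjoint_preservesColimits
  haveI hq : ∀ j, Coh.IsQCoh ((F ⋙ r).obj j) := fun j => by
    haveI := hF j
    exact Scheme.Modules.isQuasicoherent_restrictFunctor _ _
  haveI : ((r.mapCocone c).pt).IsQuasicoherent :=
    Groth.L18.TildeF.isQCoh_of_iso ((colimit.isColimit (F ⋙ r)).coconePointUniqueUpToIso (isColimitOfPreserves r hc))
      (Groth.L18.TildeF.isQCoh_colimit (F ⋙ r) hq)
  exact ⟨_, hV.fromSpec, inferInstance, _, hV.opensRange_fromSpec.ge hxV,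
    ⟨(Groth.L18.TildeF.counitIso (r.mapCocone c).pt).symm⟩⟩

theorem isQCohD_coproduct {ι : Type u} (K : ι → DCoh.D X) (hK : ∀ i, DCoh.IsQCohD (K i)) [HasCoproduct K] :
    DCoh.IsQCohD (∐ K) := fun j => by
  obtain ⟨h⟩ := RpushColim.isColimit_H_cofan K _ (coproductIsCoproduct K) j
  exact isQCoh_colimit _ _ h fun i => hK i.as j

end Groth.L29.DC.QCohColim

namespace Groth.L29.DC.RpushQC

open Groth.L10

variable {X S : Scheme.{u}} (f : X ⟶ S) [QuasiCompact f] [QuasiSeparated f] [DCoh.HasRpush f]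

/-- over an affine open of the base, high-degree isomorphisms are preserved by `H^j Rf_*` -/
theorem exists_bound_isIso_res (V : S.affineOpens) : ∃ N : ℕ, ∀ {K L : DCoh.D X}, DCoh.IsQCohD K → DCoh.IsQCohD L →
    ∀ (φ : K ⟶ L) (m : ℕ), (∀ i : ℤ, -(m : ℤ) ≤ i → IsIso ((DerivedCategory.homologyFunctor X.Modules i).map φ)) →
    ∀ j : ℤ, (N : ℤ) - (m : ℤ) ≤ j → IsIso ((Scheme.Modules.restrictFunctor V.1.ι).map
      ((DerivedCategory.homologyFunctor S.Modules j).map ((DCoh.Rpush f).map φ))) := by
  haveI : IsAffine (V.1 : Scheme.{u}) := V.2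
  haveI := hasRpush (f ∣_ V.1)
  haveI := Groth.L17.PushQCoh.hasInjectiveResolutions (f ⁻¹ᵁ V.1 : Scheme.{u})
  obtain ⟨N, hN⟩ := exists_bound (f ∣_ V.1)
  obtain ⟨e⟩ := RpushRes.nonempty_iso f V.1.ι (f ⁻¹ᵁ V.1).ι (f ∣_ V.1)
    (by rw [Scheme.Opens.opensRange_ι, Scheme.Opens.opensRange_ι]) (morphismRestrict_ι f V.1)
  refine ⟨N, fun {K L} hK hL φ m hφ j hm => ?_⟩
  haveI h3 := isIso_H_map_of_bound (f ∣_ V.1) N hN (isQCohD_restrictD (f ⁻¹ᵁ V.1).ι hK)
    (isQCohD_restrictD (f ⁻¹ᵁ V.1).ι hL) ((DCoh.restrictD (f ⁻¹ᵁ V.1).ι).map φ) m (fun i hi => by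
      haveI := hφ i hi
      exact UnitIso.isIso_H_map (Scheme.Modules.restrictFunctor (f ⁻¹ᵁ V.1).ι) _ i) j hm
  exact isIso_unit_of_acyclic.isIso_res_of_H (Scheme.Modules.restrictFunctor V.1.ι) _ j
    ((NatIso.isIso_map_iff (Functor.isoWhiskerRight e (DerivedCategory.homologyFunctor (V.1 : Scheme.{u}).Modules j)) _).2 h3)

end Groth.L29.DC.RpushQC

namespace Groth.L29.DC.QCohColim

variable {X S : Scheme.{u}} (f : X ⟶ S) [QuasiCompact f] [QuasiSeparated f] [DCoh.HasRpush f]
  {J : Type u} [SmallCategory J] [IsFiltered J] (C : J ⥤ CochainComplex X.Modules ℤ) (c : Cocone C)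
  (hc : IsColimit c) (hC : ∀ j, DCoh.IsQCohD (DCoh.toD X (C.obj j)))

include hc hC in
theorem isColimit_G0_qcoh (i : ℤ) : Nonempty (IsColimit ((RpushColim.G0 f i).mapCocone c)) := by
  haveI := Groth.L00.Tensor.grothendieckAbelian_modules X
  haveI := Groth.L00.Tensor.grothendieckAbelian_modules S
  haveI := HomologyColim.preservesColimitsOfShape_homology (A := X.Modules) (J := J) (ComplexShape.up ℤ)
  let G := RpushColim.G0 f i
  let t := colimit.desc (C ⋙ G) (G.mapCocone c)
  suffices IsIso t from ⟨IsColimit.ofIsoColimit (colimit.isColimit (C ⋙ G))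
    (Cocone.ext (asIso t) fun j => colimit.ι_desc _ j)⟩
  refine Groth.L21.Mod.isIso_of_restrict_opens (fun V : S.affineOpens => V.1) (iSup_affineOpens_eq_top S) _
    fun V => ?_
  let res := Scheme.Modules.restrictFunctor V.1.ι
  haveI : PreservesColimitsOfSize.{u, u} res :=
    (Scheme.Modules.restrictAdjunction V.1.ι).leftAdjoint_preservesColimits
  obtain ⟨N, hN⟩ := RpushQC.exists_bound_isIso_res f V
  let m : ℕ := ((N : ℤ) - i).toNat
  let e := ComplexShape.embeddingUpIntGE (-(m : ℤ))
  let D := C ⋙ e.truncGEFunctor X.Modules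
  let ρ : C ⟶ D := Functor.whiskerLeft C (e.πTruncGENatTrans X.Modules)
  let θ : c.pt ⟶ colimit D := hc.desc ((Cocone.precompose ρ).obj (colimit.cocone D))
  have hθ : ∀ j, c.ι.app j ≫ θ = ρ.app j ≫ colimit.ι D j := fun j => hc.fac _ j
  have hDge : ∀ j, (DCoh.toD X (D.obj j)).IsGE (-(m : ℤ)) := fun j => by
    haveI : CochainComplex.IsStrictlyGE (D.obj j) (-(m : ℤ)) :=
      inferInstanceAs ((HomologicalComplex.truncGE (C.obj j) e).IsStrictlySupported e)
    exact (DerivedCategory.isGE_Q_obj_iff _ _).2 inferInstance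
  have hρ : ∀ (j : J) (k : ℤ), -(m : ℤ) ≤ k → IsIso (HomologicalComplex.homologyMap (ρ.app j) k) := fun j k hk =>
    (quasiIsoAt_iff_isIso_homologyMap _ _).1 (CochainComplex.quasiIsoAt_πTruncGE (C.obj j) (-(m : ℤ)) k hk)
  have hρ' : ∀ (j : J) (k : ℤ), -(m : ℤ) ≤ k →
      IsIso ((DerivedCategory.homologyFunctor X.Modules k).map (DerivedCategory.Q.map (ρ.app j))) := fun j k hk => by
    haveI := hρ j k hk
    exact (NatIso.isIso_map_iff (DerivedCategory.homologyFunctorFactors X.Modules k) (ρ.app j)).2 this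
  have hθ' : ∀ k : ℤ, -(m : ℤ) ≤ k →
      IsIso ((DerivedCategory.homologyFunctor X.Modules k).map (DerivedCategory.Q.map θ)) := fun k hk => by
    let H := HomologicalComplex.homologyFunctor X.Modules (ComplexShape.up ℤ) k
    haveI : ∀ j, IsIso ((Functor.whiskerRight ρ H).app j) := fun j => hρ j k hk
    haveI := NatIso.isIso_of_isIso_app (Functor.whiskerRight ρ H)
    have he : H.map θ = ((isColimitOfPreserves H hc).coconePointsIsoOfNatIso
        (isColimitOfPreserves H (colimit.isColimit D)) (asIso (Functor.whiskerRight ρ H))).hom :=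
      (isColimitOfPreserves H hc).hom_ext fun j => by
        rw [IsColimit.comp_coconePointsIsoOfNatIso_hom]
        simp only [Functor.mapCocone_ι_app, asIso_hom, Functor.whiskerRight_app, ← Functor.map_comp]
        exact congrArg H.map (hθ j)
    have : IsIso (H.map θ) := by rw [he]; infer_instance
    exact (NatIso.isIso_map_iff (DerivedCategory.homologyFunctorFactors X.Modules k) θ).2 this
  have hq : ∀ {K : CochainComplex X.Modules ℤ}, DCoh.IsQCohD (DCoh.toD X K) → ∀ k, Coh.IsQCoh (K.homology k) :=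
    fun {K} h k => isQCoh_of_iso' ((DerivedCategory.homologyFunctorFactors X.Modules k).app K) (h k)
  have hcq : DCoh.IsQCohD (DCoh.toD X c.pt) := fun k =>
    isQCoh_of_iso' ((DerivedCategory.homologyFunctorFactors X.Modules k).app c.pt).symm
      (isQCoh_colimit _ _ (isColimitOfPreserves (HomologicalComplex.homologyFunctor X.Modules (ComplexShape.up ℤ) k) hc)
        fun j => hq (hC j) k)
  have hDq : ∀ j, DCoh.IsQCohD (DCoh.toD X (D.obj j)) := fun j k => by
    by_cases hk : -(m : ℤ) ≤ k
    · haveI := hρ' j k hk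
      exact isQCoh_of_iso' (asIso ((DerivedCategory.homologyFunctor X.Modules k).map (DerivedCategory.Q.map (ρ.app j)))) (hC j k)
    · haveI := hDge j
      exact isQCoh_of_isZero (DerivedCategory.isZero_of_isGE _ (-(m : ℤ)) k (by omega))
  have hdq : DCoh.IsQCohD (DCoh.toD X (colimit D)) := fun k =>
    isQCoh_of_iso' ((DerivedCategory.homologyFunctorFactors X.Modules k).app _).symm
      (isQCoh_colimit _ _ (isColimitOfPreserves (HomologicalComplex.homologyFunctor X.Modules (ComplexShape.up ℤ) k)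
        (colimit.isColimit D)) fun j => hq (hDq j) k)
  haveI : ∀ j, IsIso ((Functor.whiskerRight ρ (G ⋙ res)).app j) := fun j =>
    hN (hC j) (hDq j) (DerivedCategory.Q.map (ρ.app j)) m (hρ' j) i (by simp only [m]; omega)
  haveI := NatIso.isIso_of_isIso_app (Functor.whiskerRight ρ (G ⋙ res))
  haveI : IsIso ((G ⋙ res).map θ) :=
    hN hcq hdq (DerivedCategory.Q.map θ) m hθ' i (by simp only [m]; omega)
  obtain ⟨h1⟩ := RpushColim.isColimit_G0 f D (colimit.cocone D) (colimit.isColimit D) (-(m : ℤ)) hDge i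
  have h2 : IsColimit ((G ⋙ res).mapCocone c) :=
    IsColimit.ofIsoColimit ((IsColimit.precomposeHomEquiv (asIso (Functor.whiskerRight ρ (G ⋙ res))) _).symm
      (isColimitOfPreserves res h1))
    (Cocone.ext (asIso ((G ⋙ res).map θ)) fun j => by
      change (G ⋙ res).map (c.ι.app j) ≫ (G ⋙ res).map θ = (G ⋙ res).map (ρ.app j) ≫ (G ⋙ res).map (colimit.ι D j)
      rw [← Functor.map_comp, ← Functor.map_comp, hθ]).symm
  have h3 := isColimitOfPreserves res (colimit.isColimit (C ⋙ G))
  have : res.map t = (h3.coconePointUniqueUpToIso h2).hom := h3.hom_ext fun j => by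
    rw [IsColimit.comp_coconePointUniqueUpToIso_hom]
    exact (res.map_comp _ _).symm.trans (congrArg res.map (colimit.ι_desc (G.mapCocone c) j))
  change IsIso (res.map t)
  rw [this]
  infer_instance

open CoproductsFromFiniteFiltered in
theorem isIso_sigma_desc {ι : Type u} (K : ι → DCoh.D X) (hK : ∀ i, DCoh.IsQCohD (K i))
    [HasCoproduct K] [HasCoproduct (fun i => (DCoh.Rpush f).obj (K i))] :
    IsIso (Sigma.desc (fun i => (DCoh.Rpush f).map (Sigma.ι K i))) := by
  haveI := Groth.L00.Tensor.grothendieckAbelian_modules X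
  refine RpushColim.isIso_sigma_desc_of f K fun j => ?_
  let C : ι → CochainComplex X.Modules ℤ := fun i => DerivedCategory.Q.objPreimage (K i)
  haveI := RpushColim.additive_Rpush f
  have hJ : ∀ s : Finset (Discrete ι), DCoh.IsQCohD (DCoh.toD X ((liftToFinsetObj (Discrete.functor C)).obj s)) :=
    fun s k => by
      haveI : PreservesFiniteCoproducts (DerivedCategory.Q ⋙ DerivedCategory.homologyFunctor X.Modules k) :=
        inferInstance
      exact isQCoh_colimit _ _ (isColimitOfHasCoproductOfPreservesColimit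
        (DerivedCategory.Q ⋙ DerivedCategory.homologyFunctor X.Modules k) (fun x : s => C x.1.as))
        fun x => isQCoh_of_iso' ((DerivedCategory.homologyFunctor X.Modules k).mapIso
          (DerivedCategory.Q.objObjPreimageIso (K x.as.1.as))).symm (hK x.as.1.as k)
  obtain ⟨h⟩ := isColimit_G0_qcoh f (liftToFinsetObj (Discrete.functor C)) _ (isColimitFiniteSubproductsCocone C) hJ j
  exact Coprod.isColimit_cofan_of_finite (RpushColim.G0 f j) C h

end Groth.L29.DC.QCohColim
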