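import Groth.Agent.L29.DCoh.QCohLocal
import Groth.Agent.L29.DCoh.TensorPerfect
import Groth.Agent.L00.TensorTilde
import Groth.Agent.L00.DerivedApi

/-!
Derived tensor products keep quasi-coherent cohomology.
-/

set_option autoImplicit false
set_option backward.isDefEq.respectTransparency false
set_option backward.isDefEq.respectTransparency.types false

universe u

open CategoryTheory CategoryTheory.Limits AlgebraicGeometry MonoidalCategory

attribute [local instance] HasDerivedCategory.standard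

namespace Groth.L29.DC

variable {X : Scheme.{u}} {R : CommRingCat.{u}}

open Groth.L00 Groth.L00.Tensor

theorem tensorBi_map {X : Scheme.{u}} {A A' : X.Modules} (φ : A ⟶ A') (B : X.Modules) :
    ((DCoh.tensorBi (X := X)).map φ).app B = tensorMap φ (𝟙 B) := by
  refine congrArg (shf _).map ?_
  rw [CategoryTheory.Functor.map_id]
  exact (MonoidalCategory.tensorHom_id _ _).symm

theorem tensorBi_obj_map {X : Scheme.{u}} (A : X.Modules) {B B' : X.Modules} (φ : B ⟶ B') :
    ((DCoh.tensorBi (X := X)).obj A).map φ = tensorMap (𝟙 A) φ := by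
  refine congrArg (shf _).map ?_
  rw [CategoryTheory.Functor.map_id]
  exact (MonoidalCategory.id_tensorHom _ _).symm

theorem tildeTensorIso_natural {M M' N N' : ModuleCat.{u} R} (f : M ⟶ M') (g : N ⟶ N') :
    tensorMap (tilde.map f) (tilde.map g) ≫ (tildeTensorIso M' N').inv =
      (tildeTensorIso M N).inv ≫ tilde.map (f ⊗ₘ g) :=
  (Iso.eq_inv_comp (tildeTensorIso M N)).2 (by
    rw [← Category.assoc]
    exact (Iso.comp_inv_eq (tildeTensorIso M' N')).2 (tildeTensorHom_naturality f g).symm)

/-- tilde commutes with tensor products of complexes -/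
noncomputable def tildeTensorCxIso (K L : CochainComplex (ModuleCat.{u} R) ℤ) :
    (DCoh.tensorCx.obj ((ModRes.tCx R).obj K)).obj ((ModRes.tCx R).obj L) ≅
      (ModRes.tCx R).obj (HomologicalComplex.tensorObj K L) :=
  haveI : PreservesColimitsOfSize.{u, u} (tilde.functor R) :=
    (tilde.adjunction (R := R)).leftAdjoint_preservesColimits
  haveI : PreservesColimitsOfSize.{0, 0} (tilde.functor R) := preservesColimitsOfSize_shrink.{0, u, 0, u} _
  haveI : Functor.Additive (D := (Spec R).Modules) (tilde.functor R) :=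
    @inferInstance ((tilde.functor R).Additive) _
  FunctorTotal.totalIso (curriedTensor (ModuleCat.{u} R)) (DCoh.tensorBi (X := Spec R))
    (tilde.functor R) (tilde.functor R) (tilde.functor R)
    (fun M N => (tildeTensorIso M N).symm)
    (fun {M M'} f N => by
      rw [tensorBi_map, ← CategoryTheory.Functor.map_id (tilde.functor R)]
      exact (tildeTensorIso_natural f (𝟙 N)).trans
        (congrArg (fun t => (tildeTensorIso M N).inv ≫ tilde.map t) (MonoidalCategory.tensorHom_id f N)))
    (fun M {N N'} g => by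
      rw [tensorBi_obj_map, ← CategoryTheory.Functor.map_id (tilde.functor R)]
      exact (tildeTensorIso_natural (𝟙 M) g).trans
        (congrArg (fun t => (tildeTensorIso M N).inv ≫ tilde.map t) (MonoidalCategory.id_tensorHom M g)))
    (c := ComplexShape.up ℤ) K L

theorem isQCohD_Q_tCx (N : CochainComplex (ModuleCat.{u} R) ℤ) :
    DCoh.IsQCohD (DerivedCategory.Q.obj ((ModRes.tCx R).obj N)) := by
  haveI := Groth.L18.TildeF.tilde_preservesFiniteLimits (R := R)
  exact isQCohD_of_iso ((tilde.functor R).mapDerivedCategoryFactors.app N) (isQCohD_tildeD _)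

/-- an object with quasi-coherent cohomology on an affine scheme is the tilde of a resolution -/
theorem exists_tilde_rep {K : DCoh.D (Spec R)} (hK : DCoh.IsQCohD K) :
    ∃ N : CochainComplex (ModuleCat.{u} R) ℤ, ModRes.IsKFlat N ∧
      Nonempty (DerivedCategory.Q.obj ((ModRes.tCx R).obj N) ≅ K) := by
  haveI := Groth.L18.TildeF.tilde_preservesFiniteLimits (R := R)
  obtain ⟨M, ⟨e⟩⟩ := (TildeD.isQCohD_iff K).1 hK
  let G := DerivedCategory.Q.objPreimage M
  haveI : IsIso (DerivedCategory.Q.map ((ModRes.rF R).app G)) :=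
    (DerivedCategory.isIso_Q_map_iff_quasiIso _ _).2 (ModRes.quasiIso_rF G)
  exact ⟨(ModRes.RF R).obj G, ModRes.isKFlat_RF G,
    ⟨((tilde.functor R).mapDerivedCategoryFactors.app _).symm ≪≫
      (DCoh.tildeD R).mapIso (asIso (DerivedCategory.Q.map ((ModRes.rF R).app G)) ≪≫
        DerivedCategory.Q.objObjPreimageIso M) ≪≫ e⟩⟩

/-- on an affine scheme a K-flat complex tensor a complex, both with quasi-coherent cohomology, has
quasi-coherent cohomology -/
theorem isQCohD_tensor_affine {P F : CochainComplex (Spec R).Modules ℤ} (hP : DCoh.IsKFlat P)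
    (hP' : DCoh.IsQCohD (DCoh.toD _ P)) (hF : DCoh.IsQCohD (DCoh.toD _ F)) :
    DCoh.IsQCohD (DerivedCategory.Q.obj ((DCoh.tensorCx.obj P).obj F)) := by
  obtain ⟨F', r, hF', -, hr, -⟩ := KFlat.exists_resolution F
  haveI := hr
  haveI := KFlat.quasiIso_tensor_of_kflat P hP r
  let e₀ : DerivedCategory.Q.obj ((DCoh.tensorCx.obj P).obj F') ≅
      DerivedCategory.Q.obj ((DCoh.tensorCx.obj P).obj F) :=
    DerivedCategory.Q.mapIso (KFlat.commIso F' P) ≪≫
      @asIso _ _ _ _ (DerivedCategory.Q.map (((DCoh.tensorCx (X := Spec R)).map r).app P))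
        ((DerivedCategory.isIso_Q_map_iff_quasiIso _ _).2 inferInstance) ≪≫
      (DerivedCategory.Q.mapIso (KFlat.commIso F P)).symm
  obtain ⟨NP, hNP, ⟨eP⟩⟩ := exists_tilde_rep hP'
  obtain ⟨NF, hNF, ⟨eF⟩⟩ := exists_tilde_rep hF
  haveI : IsIso (DerivedCategory.Q.map r) := (DerivedCategory.isIso_Q_map_iff_quasiIso _ r).2 hr
  obtain ⟨t⟩ := nonempty_tensor_iso hNP hP hNF hF' eP (eF ≪≫ (asIso (DerivedCategory.Q.map r)).symm)
  exact isQCohD_of_iso (DerivedCategory.Q.mapIso (tildeTensorCxIso NP NF).symm ≪≫ t ≪≫ e₀)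
    (isQCohD_Q_tCx _)

/-- derived tensor products keep quasi-coherent cohomology -/
theorem isQCohD_LTensorCx (F : CochainComplex X.Modules ℤ) (hF : DCoh.IsQCohD (DCoh.toD X F))
    [DCoh.HasLTensorCx F] {E : DCoh.D X} (hE : DCoh.IsQCohD E) :
    DCoh.IsQCohD ((DCoh.LTensorCx F).obj E) := by
  obtain ⟨P, q, hP, -, hq, -⟩ := KFlat.exists_resolution (DerivedCategory.Q.objPreimage E)
  haveI := (DerivedCategory.isIso_Q_map_iff_quasiIso _ q).2 hq
  let eE : DCoh.toD X P ≅ E := asIso (DerivedCategory.Q.map q) ≪≫ DerivedCategory.Q.objObjPreimageIso E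
  obtain ⟨eT⟩ := nonempty_LTensorCx_iso F P hP
  refine isQCohD_of_iso (eT.symm ≪≫ (DCoh.LTensorCx F).mapIso eE) (isQCohD_of_charts fun x => ?_)
  obtain ⟨_, ⟨V, hV, rfl⟩, hxV, -⟩ := X.isBasis_affineOpens.exists_subset_of_mem_open
    (Set.mem_univ x) isOpen_univ
  refine ⟨_, hV.fromSpec, inferInstance, by rwa [hV.opensRange_fromSpec], ?_⟩
  let j := hV.fromSpec
  let f := fun K : CochainComplex X.Modules ℤ => (Scheme.Modules.restrictFunctor j).mapDerivedCategoryFactors.app K
  refine isQCohD_of_iso (DerivedCategory.Q.mapIso (restrictTensorCxIso j P F) ≪≫ (f _).symm) ?_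
  exact isQCohD_tensor_affine (isKFlat_restrict j hP)
    (isQCohD_of_iso (f P) (isQCohD_restrictD j (isQCohD_of_iso eE.symm hE)))
    (isQCohD_of_iso (f F) (isQCohD_restrictD j hF))

end Groth.L29.DC
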