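import Groth.Agent.L00.DerivedApi
import Groth.Agent.L18.TildeFunctor

/-!
Functorial resolutions of complexes of modules by complexes whose tilde is K-flat; derived base change
computed on them.
-/

set_option autoImplicit false
set_option backward.isDefEq.respectTransparency false
set_option backward.isDefEq.respectTransparency.types false

universe u

open CategoryTheory CategoryTheory.Limits AlgebraicGeometry CochainComplex

attribute [local instance] HasDerivedCategory.standard

namespace Groth.L29.DC.ModRes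

open Groth.L00

variable (R : CommRingCat.{u})

/-- tilde on complexes -/
noncomputable abbrev tCx : CochainComplex (ModuleCat.{u} R) ℤ ⥤ CochainComplex (Spec R).Modules ℤ :=
  (tilde.functor R).mapHomologicalComplex (ComplexShape.up ℤ)

/-- free covers -/
noncomputable def cover : ModuleCat.{u} R ⥤ ModuleCat.{u} R := forget (ModuleCat.{u} R) ⋙ ModuleCat.free R

/-- their augmentation -/
noncomputable def π : cover R ⟶ 𝟭 _ := (ModuleCat.adj R).counit

variable {R}

instance epi_π (M : ModuleCat.{u} R) : Epi ((π R).app M) :=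
  inferInstanceAs (Epi ((ModuleCat.adj R).counit.app M))

theorem isFlat_tilde (M : ModuleCat.{u} R) [Module.Flat R M] :
    FlatMod.IsFlat ((tilde.functor R).obj M) := fun x => by
  letI := (KFlat.toStalk R x).toAlgebra
  haveI : Module.Flat ((Spec R).presheaf.stalk x)
      ((ModuleCat.extendScalars (KFlat.toStalk R x)).obj M) :=
    inferInstanceAs (Module.Flat ((Spec R).presheaf.stalk x) (TensorProduct R ((Spec R).presheaf.stalk x) M))
  exact Module.Flat.of_linearEquiv ((KFlat.tildeStalkIso R x).app M).toLinearEquiv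

theorem isFlat_cover (M : ModuleCat.{u} R) : FlatMod.IsFlat ((tilde.functor R).obj ((cover R).obj M)) :=
  haveI : Module.Flat R ((cover R).obj M) := inferInstanceAs (Module.Flat R (M →₀ R))
  isFlat_tilde _

/-- complexes with K-flat tilde -/
abbrev IsKFlat (P : CochainComplex (ModuleCat.{u} R) ℤ) : Prop := DCoh.IsKFlat ((tCx R).obj P)

theorem isKFlat_cone {P N : CochainComplex (ModuleCat.{u} R) ℤ} (φ : P ⟶ N)
    (hd : ∀ m n, P.d m n = 0) (hP : ∀ n, FlatMod.IsFlat ((tilde.functor R).obj (P.X n))) (hN : IsKFlat N) :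
    IsKFlat (mappingCone φ) :=
  KFlat.of_iso (mappingCone.mapHomologicalComplexIso φ (tilde.functor R)).symm
    (KFlat.mappingCone_of_zeroDiff _ (fun m n => by
      change (tilde.functor R).map (P.d m n) = 0
      rw [hd, Functor.map_zero]) hP hN)

theorem isKFlat_colimit (K : ℕ ⥤ CochainComplex (ModuleCat.{u} R) ℤ) {c : Cocone K} (hc : IsColimit c)
    (h : ∀ k, IsKFlat (K.obj k)) : IsKFlat c.pt := by
  haveI : HasColimitsOfSize.{0, 0} (ModuleCat.{u} R) := hasColimitsOfSizeShrink.{0, 0, u, u} _
  haveI : PreservesColimitsOfShape ℕ (tilde.functor R) :=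
    (tilde.adjunction (R := R)).leftAdjoint_preservesColimits.preservesColimitsOfShape
  haveI : PreservesColimitsOfShape ℕ (tCx R) := ⟨fun {K'} => ⟨fun {c'} h' =>
    ⟨HomologicalComplex.isColimitOfEval _ _ fun n =>
      let e : tCx R ⋙ HomologicalComplex.eval (Spec R).Modules (ComplexShape.up ℤ) n ≅
          HomologicalComplex.eval (ModuleCat.{u} R) (ComplexShape.up ℤ) n ⋙ tilde.functor R := Iso.refl _
      haveI := preservesColimit_of_natIso K' e.symm
      isColimitOfPreserves (tCx R ⋙ HomologicalComplex.eval (Spec R).Modules (ComplexShape.up ℤ) n) h'⟩⟩⟩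
  have hc' : IsColimit ((tCx R).mapCocone c) := isColimitOfPreserves _ hc
  generalize hF : tCx R = F at hc'
  have h' : ∀ k, DCoh.IsKFlat ((K ⋙ F).obj k) := fun k => by
    subst hF
    exact h k
  have h'' := KFlat.of_isColimit (K ⋙ F) hc' h'
  subst hF
  exact h''

variable (R)

/-- the cell tower -/
noncomputable abbrev Res :
    Arrow (CochainComplex (ModuleCat.{u} R) ℤ) ⥤ CochainComplex (ModuleCat.{u} R) ℤ :=
  haveI : HasColimitsOfSize.{0, 0} (ModuleCat.{u} R) := hasColimitsOfSizeShrink.{0, 0, u, u} _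
  Cell.res (cover R) (π R)

/-- the zero complex mapping to a complex -/
noncomputable def zeroArrow :
    CochainComplex (ModuleCat.{u} R) ℤ ⥤ Arrow (CochainComplex (ModuleCat.{u} R) ℤ) where
  obj G := Arrow.mk (0 : (HomologicalComplex.zero : CochainComplex (ModuleCat.{u} R) ℤ) ⟶ G)
  map a := Arrow.homMk (𝟙 _) a (by simp)
  map_id G := by ext <;> rfl
  map_comp a b := by ext <;> simp

/-- the functorial resolution -/
noncomputable def RF : CochainComplex (ModuleCat.{u} R) ℤ ⥤ CochainComplex (ModuleCat.{u} R) ℤ :=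
  zeroArrow R ⋙ Res R

/-- its augmentation -/
noncomputable def rF : RF R ⟶ 𝟭 _ :=
  haveI : HasColimitsOfSize.{0, 0} (ModuleCat.{u} R) := hasColimitsOfSizeShrink.{0, 0, u, u} _
  { app := fun G => (Cell.resOut (cover R) (π R)).app ((zeroArrow R).obj G)
    naturality := fun G G' a => (Cell.resOut (cover R) (π R)).naturality ((zeroArrow R).map a) }

variable {R}

theorem isKFlat_RF (G : CochainComplex (ModuleCat.{u} R) ℤ) : IsKFlat ((RF R).obj G) :=
  haveI : HasColimitsOfSize.{0, 0} (ModuleCat.{u} R) := hasColimitsOfSizeShrink.{0, 0, u, u} _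
  Cell.res_induction (cover R) (π R) _ (fun N => IsKFlat N)
    (KFlat.zero _ ((tCx R).map_isZero HomologicalComplex.isZero_zero))
    (fun f ih => isKFlat_cone _ (fun _ _ => rfl) (fun _ => isFlat_cover _) ih)
    (fun K c hc hK => isKFlat_colimit K hc hK)

theorem quasiIso_rF (G : CochainComplex (ModuleCat.{u} R) ℤ) : QuasiIso ((rF R).app G) := by
  haveI : HasColimitsOfSize.{0, 0} (ModuleCat.{u} R) := hasColimitsOfSizeShrink.{0, 0, u, u} _
  haveI := KFlat.hasExactColimitsOfShapeNat_moduleCat R
  exact Cell.quasiIso_resOut _ _ _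

theorem quasiIso_RF_map {G G' : CochainComplex (ModuleCat.{u} R) ℤ} (a : G ⟶ G') [QuasiIso a] :
    QuasiIso ((RF R).map a) := by
  haveI := quasiIso_rF G
  haveI := quasiIso_rF G'
  haveI : QuasiIso ((RF R).map a ≫ (rF R).app G') := by
    rw [(rF R).naturality a]
    change QuasiIso ((rF R).app G ≫ a)
    infer_instance
  exact quasiIso_of_comp_right ((RF R).map a) ((rF R).app G')

section Base

variable {S : CommRingCat.{u}} (φ : R ⟶ S)

/-- extension of scalars on complexes -/
noncomputable abbrev eCx : CochainComplex (ModuleCat.{u} R) ℤ ⥤ CochainComplex (ModuleCat.{u} S) ℤ :=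
  (ModuleCat.extendScalars.{u, u, u} φ.hom).mapHomologicalComplex (ComplexShape.up ℤ)

/-- pullback of tilde is tilde of the extension of scalars, on complexes -/
noncomputable def pullTildeCx :
    tCx R ⋙ (Scheme.Modules.pullback (Spec.map φ)).mapHomologicalComplex (ComplexShape.up ℤ) ≅
      eCx φ ⋙ tCx S :=
  NatIso.ofComponents
    (fun P => HomologicalComplex.Hom.isoOfComponents
      (fun n => (Groth.L18.TildeF.pullbackTildeIso φ).app (P.X n))
      (fun i j _ => ((Groth.L18.TildeF.pullbackTildeIso φ).hom.naturality (P.d i j)).symm))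
    (fun {P Q} a => by
      ext n : 1
      exact (Groth.L18.TildeF.pullbackTildeIso φ).hom.naturality (a.f n))

theorem isKFlat_extend {P : CochainComplex (ModuleCat.{u} R) ℤ} (hP : IsKFlat P) :
    IsKFlat ((eCx φ).obj P) :=
  KFlat.of_iso ((pullTildeCx φ).app P) (KFlat.pullback_kflat _ _ hP)

theorem acyclic_extend {P : CochainComplex (ModuleCat.{u} R) ℤ} (hP : IsKFlat P)
    (hac : ∀ i, IsZero (P.homology i)) (i : ℤ) : IsZero (((eCx φ).obj P).homology i) := by
  haveI := Groth.L18.TildeF.tilde_preservesFiniteLimits (R := R)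
  haveI := Groth.L18.TildeF.tilde_preservesFiniteLimits (R := S)
  haveI := Groth.L18.TildeF.tilde_preservesFiniteLimits (R := S)
  have h : IsZero (((tCx S).obj ((eCx φ).obj P)).homology i) :=
    (KFlat.acyclic_pullback (Spec.map φ) _ hP
        (fun j => ((tilde.functor R).map_isZero (hac j)).of_iso ((P.sc j).mapHomologyIso (tilde.functor R))) i).of_iso
      ((HomologicalComplex.homologyFunctor _ _ i).mapIso ((pullTildeCx φ).app P)).symm
  have h' := h.of_iso (((eCx φ).obj P).sc i |>.mapHomologyIso (tilde.functor S)).symm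
  rw [IsZero.iff_id_eq_zero] at h' ⊢
  apply (tilde.functor S).map_injective
  rw [CategoryTheory.Functor.map_id, Functor.map_zero]
  exact h'

theorem isKFlat_cone' {P Q : CochainComplex (ModuleCat.{u} R) ℤ} (α : P ⟶ Q) (hP : IsKFlat P) (hQ : IsKFlat Q) :
    IsKFlat (mappingCone α) :=
  KFlat.of_iso (mappingCone.mapHomologicalComplexIso α (tilde.functor R)).symm (KFlat.isKFlat_cone _ hP hQ)

theorem quasiIso_extend {P Q : CochainComplex (ModuleCat.{u} R) ℤ} (α : P ⟶ Q) [QuasiIso α]
    (hP : IsKFlat P) (hQ : IsKFlat Q) : QuasiIso ((eCx φ).map α) :=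
  ConeTransfer.quasiIso_map _
    (fun S' σ => HomologicalComplex.shortExact_of_degreewise_shortExact _
      fun q => ((σ q).map (ModuleCat.extendScalars.{u, u, u} φ.hom)).shortExact) α
    (fun i => acyclic_extend φ (isKFlat_cone' (𝟙 P) hP hP) (ConeTransfer.acyclic_cone (𝟙 P)) i)
    (fun i => acyclic_extend φ (isKFlat_cone' α hP hQ) (ConeTransfer.acyclic_cone α) i)

end Base

end Groth.L29.DC.ModRes
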