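import Groth.Agent.L29.DCoh.FibreBetti
import Groth.Agent.L29.DCoh.TensorPerfect
import Mathlib.Order.Interval.Finset.Basic
import Mathlib.Data.Int.Interval
import Mathlib.Algebra.BigOperators.Finprod

/-!
Semicontinuity of fibre dimensions of perfect and pseudo-coherent objects.
-/

set_option autoImplicit false
set_option backward.isDefEq.respectTransparency false
set_option backward.isDefEq.respectTransparency.types false

universe u

open CategoryTheory CategoryTheory.Limits AlgebraicGeometry Opposite CochainComplex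

attribute [local instance] HasDerivedCategory.standard

namespace Groth.L29.DC.Fib

variable {X : Scheme.{u}}

/-- finitely many locally free terms are simultaneously free near a point -/
theorem exists_free_nhd {E : CochainComplex X.Modules ℤ} (hE : DCoh.IsStrictlyPerfect E) (x : X) :
    ∃ W : X.Opens, x ∈ W ∧ ∀ i : ℤ, ∃ n : ℕ, Nonempty ((E.X i).restrict W.ι ≅ FlatMod.freeMod (↑W) n) := by
  obtain ⟨⟨a, b, hv⟩, h⟩ := hE
  choose U n hx e using fun i => h i x
  classical
  let s : Finset ℤ := (Finset.range (b - a + 1).toNat).image fun k : ℕ => a + k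
  refine ⟨s.inf U, ?_, fun i => ?_⟩
  · induction s using Finset.induction with
    | empty => trivial
    | insert k t hk ih => rw [Finset.inf_insert]; exact ⟨hx k, ih⟩
  by_cases hi : i ∈ s
  · exact ⟨n i, Groth.L29.LocFree.restrict_le (Finset.inf_le hi) (e i).some⟩
  · refine ⟨0, ⟨IsZero.iso ((Scheme.Modules.restrictFunctor _).map_isZero (hv i ?_)) ?_⟩⟩
    · by_contra hc
      refine hi (Finset.mem_image.2 ⟨(i - a).toNat, Finset.mem_range.2 ?_, ?_⟩) <;> omega
    · exact (IsZero.iff_id_eq_zero _).2 (Sigma.hom_ext _ _ fun k => k.elim0)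

variable {U : Scheme.{u}} (j : U ⟶ X) [IsOpenImmersion j]

/-- the residue point of `j u`, seen in `U` -/
noncomputable def lpt (u : U) : Spec (X.residueField (j u)) ⟶ U :=
  IsOpenImmersion.lift j (X.fromSpecResidueField (j u)) (by
    rw [Scheme.range_fromSpecResidueField, Set.singleton_subset_iff]
    exact Set.mem_range_self u)

theorem lpt_fac (u : U) : lpt j u ≫ j = X.fromSpecResidueField (j u) :=
  IsOpenImmersion.lift_fac _ _ _

theorem lpt_pt (u : U) : lpt j u (pt (j u)) = u := by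
  apply j.isOpenEmbedding.injective
  rw [← Scheme.Hom.comp_apply, lpt_fac]
  exact fromSpec_pt _

/-- rank of a morphism at the residue point -/
noncomputable def rkp {M N : U.Modules} (φ : M ⟶ N) (u : U) : ℕ :=
  letI := stalkField (pt (j u)) (isField_stalk_pt _)
  rk (Groth.L00.PullStalk.φ (lpt j u) (pt (j u))) φ

theorem exists_open_rkp_le {M N : U.Modules} {n m : ℕ} (e : M ≅ FlatMod.freeMod U n)
    (e' : N ≅ FlatMod.freeMod U m) (φ : M ⟶ N) (u : U) :
    ∃ O : U.Opens, u ∈ O ∧ ∀ v ∈ O, rkp j φ u ≤ rkp j φ v := by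
  letI := stalkField (pt (j u)) (isField_stalk_pt _)
  obtain ⟨O, hu, h⟩ := exists_open_rk_le (Groth.L00.PullStalk.φ (lpt j u) (pt (j u))) e e' φ
  refine ⟨O, by rw [lpt_pt] at hu; exact hu, fun v hv => ?_⟩
  letI := stalkField (pt (j v)) (isField_stalk_pt _)
  exact h (lpt j v (pt (j v))) _ (Groth.L00.PullStalk.φ (lpt j v) (pt (j v))) (by rw [lpt_pt]; exact hv)

theorem rkp_eq_zero {M N : U.Modules} (φ : M ⟶ N) (h : IsZero M) (u : U) : rkp j φ u = 0 := by
  letI := stalkField (pt (j u)) (isField_stalk_pt _)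
  change Module.finrank _ (LinearMap.range ((Φ _).map φ).hom) = 0
  rw [h.eq_of_src φ 0, Functor.map_zero, ModuleCat.hom_zero, LinearMap.range_zero, finrank_bot]

theorem eq_zero_of_isZero {n : ℕ} (u : U) (h : IsZero (FlatMod.freeMod U n)) : n = 0 := by
  letI := stalkField (pt ((𝟙 U : U ⟶ U) u)) (isField_stalk_pt _)
  let ρ := Groth.L00.PullStalk.φ (lpt (𝟙 U) u) (pt ((𝟙 U : U ⟶ U) u))
  haveI : Subsingleton ((Φ ρ).obj (FlatMod.freeMod U n)) :=
    ModuleCat.subsingleton_of_isZero ((Φ ρ).map_isZero h)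
  rw [← finrank_Φ_of_iso ρ (Iso.refl (FlatMod.freeMod U n))]
  exact Module.finrank_zero_of_subsingleton

/-- the local formula -/
theorem betti_add_rkp (E : DCoh.D X) {P : CochainComplex U.Modules ℤ} (hP : DCoh.IsStrictlyPerfect P)
    (n : ℤ → ℕ) (e : ∀ i, P.X i ≅ FlatMod.freeMod U (n i))
    {α : DerivedCategory.Q.obj P ⟶ (DCoh.restrictD j).obj E} {m : ℤ} (hα : Approx α m)
    (u : U) [DCoh.HasLpull (X.fromSpecResidueField (j u))] {i : ℤ} (hi : m < i) :
    PerfD.betti E (j u) i + rkp j (P.d (i - 1) i) u + rkp j (P.d i (i + 1)) u = n i := by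
  haveI := Groth.L00.KFlat.hasLpull (lpt j u)
  rw [betti_eq_bfib, bfib_comp (lpt j u) j _ (lpt_fac j u), ← bfib_approx (lpt j u) _ hα hi]
  exact bfib_add_rk (lpt j u) (pt (j u)) (isField_stalk_pt _) P (isKFlat_of_isStrictlyPerfect hP) n e i

theorem exists_model_of_pc (E : DCoh.D X) (m : ℤ) (hE : DCoh.IsPseudoCoherentD m E) (x : X) :
    ∃ (U : Scheme.{u}) (j : U ⟶ X) (_ : IsOpenImmersion j) (P : CochainComplex U.Modules ℤ) (n : ℤ → ℕ)
      (α : DerivedCategory.Q.obj P ⟶ (DCoh.restrictD j).obj E), x ∈ j.opensRange ∧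
      DCoh.IsStrictlyPerfect P ∧ Approx α m ∧ ∀ i, Nonempty (P.X i ≅ FlatMod.freeMod U (n i)) := by
  obtain ⟨V, hx, P, α, hP, hα⟩ := (isPC_iff_wit m E).1 hE x
  obtain ⟨W, hxW, hW⟩ := exists_free_nhd hP ⟨x, hx⟩
  choose n e using hW
  refine ⟨_, W.ι ≫ V.ι, inferInstance,
    ((Scheme.Modules.restrictFunctor W.ι).mapHomologicalComplex (ComplexShape.up ℤ)).obj P, n,
    ((Scheme.Modules.restrictFunctor W.ι).mapDerivedCategoryFactors.app P).inv ≫
      (DCoh.restrictD W.ι).map α ≫ ((resTransD V.ι W.ι (W.ι ≫ V.ι) rfl).app E).hom,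
    mem_opensRange_comp hx hxW, isStrictlyPerfect_restrict W.ι hP, ?_, e⟩
  exact (Approx.of_isIso _ m).comp ((Approx.map_exact (Scheme.Modules.restrictFunctor W.ι) hα).comp
    (Approx.of_isIso _ m))

theorem exists_model_of_perfect (E : DCoh.D X) (hE : DCoh.IsPerfect E) (x : X) :
    ∃ (U : Scheme.{u}) (j : U ⟶ X) (_ : IsOpenImmersion j) (P : CochainComplex U.Modules ℤ) (n : ℤ → ℕ)
      (α : DerivedCategory.Q.obj P ⟶ (DCoh.restrictD j).obj E), x ∈ j.opensRange ∧
      DCoh.IsStrictlyPerfect P ∧ IsIso α ∧ ∀ i, Nonempty (P.X i ≅ FlatMod.freeMod U (n i)) := by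
  obtain ⟨V, hx, P, hP, ⟨α⟩⟩ := (isPerfect_iff_wit E).1 hE x
  obtain ⟨W, hxW, hW⟩ := exists_free_nhd hP ⟨x, hx⟩
  choose n e using hW
  exact ⟨_, W.ι ≫ V.ι, inferInstance,
    ((Scheme.Modules.restrictFunctor W.ι).mapHomologicalComplex (ComplexShape.up ℤ)).obj P, n,
    (((Scheme.Modules.restrictFunctor W.ι).mapDerivedCategoryFactors.app P).symm ≪≫
      (DCoh.restrictD W.ι).mapIso α.symm ≪≫ (resTransD V.ι W.ι (W.ι ≫ V.ι) rfl).app E).hom,
    mem_opensRange_comp hx hxW, isStrictlyPerfect_restrict W.ι hP, inferInstance, e⟩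

/-- upper semicontinuity -/
theorem isOpen_betti_lt [∀ x : X, DCoh.HasLpull (X.fromSpecResidueField x)] (E : DCoh.D X) (i : ℤ)
    (hE : DCoh.IsPseudoCoherentD (i - 1) E) (k : ℕ) : IsOpen {x : X | PerfD.betti E x i < k} := by
  rw [isOpen_iff_mem_nhds]
  intro x hx
  obtain ⟨U, j, _, P, n, α, hxU, hP, hα, he⟩ := exists_model_of_pc E (i - 1) hE x
  obtain ⟨u, rfl⟩ := hxU
  obtain ⟨O₁, hu₁, h₁⟩ := exists_open_rkp_le j (he (i - 1)).some (he i).some (P.d (i - 1) i) u
  obtain ⟨O₂, hu₂, h₂⟩ := exists_open_rkp_le j (he i).some (he (i + 1)).some (P.d i (i + 1)) u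
  refine Filter.mem_of_superset ((j.isOpenEmbedding.isOpenMap _ (O₁ ⊓ O₂).2).mem_nhds
    ⟨u, ⟨hu₁, hu₂⟩, rfl⟩) ?_
  rintro _ ⟨v, ⟨hv₁, hv₂⟩, rfl⟩
  have ha := betti_add_rkp j E hP n (fun i => (he i).some) hα u (show i - 1 < i by omega)
  have hb := betti_add_rkp j E hP n (fun i => (he i).some) hα v (show i - 1 < i by omega)
  have := h₁ v hv₁
  have := h₂ v hv₂
  simp only [Set.mem_setOf_eq] at hx ⊢
  omega

theorem finsum_alt_telescope (R : ℤ → ℤ) (hR : (Function.support R).Finite) :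
    finsum (fun i : ℤ => (i.negOnePow : ℤ) * (R i + R (i + 1))) = 0 := by
  have hf : (Function.support fun i : ℤ => (i.negOnePow : ℤ) * R i).Finite :=
    hR.subset fun i hi h0 => hi (by simp [h0])
  have hg : (Function.support fun i : ℤ => (i.negOnePow : ℤ) * R (i + 1)).Finite :=
    (hR.preimage (f := fun i : ℤ => i + 1) (add_left_injective 1).injOn).subset
      fun i hi h0 => hi (by simp [h0])
  simp only [mul_add]
  rw [finsum_add_distrib hf hg, ← finsum_comp_equiv (Equiv.addRight (1 : ℤ))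
    (f := fun i : ℤ => (i.negOnePow : ℤ) * R i), ← finsum_add_distrib ?_ hg]
  · refine (finsum_congr fun i => ?_).trans finsum_zero
    simp [Int.negOnePow_succ]
  · exact (hf.preimage (f := fun i : ℤ => i + 1) (add_left_injective 1).injOn)

/-- local constancy of the Euler characteristic -/
theorem isLocallyConstant_eulerChar [∀ x : X, DCoh.HasLpull (X.fromSpecResidueField x)] (E : DCoh.D X)
    (hE : DCoh.IsPerfect E) : IsLocallyConstant (fun x : X => PerfD.eulerChar E x) := by
  refine IsLocallyConstant.iff_exists_open _ |>.2 fun x => ?_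
  obtain ⟨U, j, _, P, n, α, hxU, hP, hα, he⟩ := exists_model_of_perfect E hE x
  obtain ⟨u, rfl⟩ := hxU
  refine ⟨Set.range j, j.isOpenEmbedding.isOpen_range, ⟨u, rfl⟩, ?_⟩
  suffices h : ∀ v : U, PerfD.eulerChar E (j v) = finsum fun i : ℤ => (i.negOnePow : ℤ) * (n i : ℤ) by
    rintro _ ⟨v, rfl⟩
    exact (h v).trans (h u).symm
  intro v
  obtain ⟨⟨a, b, hv⟩, -⟩ := hP
  let R : ℤ → ℤ := fun i => rkp j (P.d (i - 1) i) v
  have hR : (Function.support R).Finite := (Set.finite_Icc (a + 1) (b + 1)).subset fun i hi => by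
    by_contra hc
    refine hi ?_
    simp only [Set.mem_Icc] at hc
    exact Int.ofNat_eq_zero.2 (rkp_eq_zero j _ (hv (i - 1) (by omega)) v)
  have hn : (Function.support fun i : ℤ => (i.negOnePow : ℤ) * (n i : ℤ)).Finite :=
    (Set.finite_Icc a b).subset fun i hi => by
      by_contra hc
      refine hi ?_
      simp only [Set.mem_Icc] at hc
      have := eq_zero_of_isZero v ((hv i (by omega)).of_iso (he i).some.symm)
      simp [this]
  have key : ∀ i, (PerfD.betti E (j v) i : ℤ) = (n i : ℤ) - (R i + R (i + 1)) := fun i => by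
    have := betti_add_rkp j E (by exact ⟨⟨a, b, hv⟩, fun k => Groth.L29.LocFree.of_iso (he k).some.symm
      (isFinLocFree_freeMod U _)⟩) n (fun i => (he i).some) (Approx.of_isIso α (i - 1)) v
      (show i - 1 < i by omega)
    simp only [R]
    rw [show i + 1 - 1 = i by omega]
    omega
  have h0 := finsum_alt_telescope R hR
  have hs : (Function.support fun i : ℤ => (i.negOnePow : ℤ) * (R i + R (i + 1))).Finite :=
    (hR.union (hR.preimage (f := fun i : ℤ => i + 1) (add_left_injective 1).injOn)).subset fun i hi => by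
      by_contra hc
      simp only [Set.mem_union, Function.mem_support, Set.mem_preimage, not_or, not_not] at hc
      exact hi (by simp [hc.1, hc.2])
  unfold PerfD.eulerChar
  simp only [key, mul_sub]
  rw [finsum_sub_distrib hn hs, h0, sub_zero]

end Groth.L29.DC.Fib
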