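import Groth.Agent.L29.DCoh.TorPerfect
import Groth.Agent.L29.DCoh.FibreLocal
import Groth.Agent.L00.TorAmp

/-!
Characterisations of perfect objects.
-/

set_option autoImplicit false
set_option backward.isDefEq.respectTransparency false
set_option backward.isDefEq.respectTransparency.types false

universe u

open CategoryTheory CategoryTheory.Limits AlgebraicGeometry Opposite CochainComplex

attribute [local instance] HasDerivedCategory.standard

namespace Groth.L29.DC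

attribute [local instance] preservesBinaryBiproducts_of_preservesBiproducts Functor.preservesFiniteBiproductsOfAdditive

variable {X : Scheme.{u}}

theorem flatAmp_of_iso {a b : ℤ} {K L : DCoh.D X} (e : K ≅ L) (h : DCoh.HasFlatAmplitudeIn a b K) :
    DCoh.HasFlatAmplitudeIn a b L := by
  obtain ⟨F, hv, hf, ⟨i⟩⟩ := h
  exact ⟨F, hv, hf, ⟨i ≪≫ e⟩⟩

theorem flatAmp_mono {a b a' b' : ℤ} (ha : a' ≤ a) (hb : b ≤ b') {K : DCoh.D X}
    (h : DCoh.HasFlatAmplitudeIn a b K) : DCoh.HasFlatAmplitudeIn a' b' K := by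
  obtain ⟨F, hv, hf, e⟩ := h
  exact ⟨F, fun i hi => hv i (by omega), hf, e⟩

theorem locFiniteTorDim_iff (K : DCoh.D X) :
    DCoh.LocHasFiniteTorDim K ↔
      ∀ x : X, ∃ (V : X.Opens) (a b : ℤ), x ∈ V ∧ a ≤ b ∧ DCoh.HasFlatAmplitudeIn a b ((resD V).obj K) := by
  refine forall_congr' fun x => ⟨?_, ?_⟩
  · rintro ⟨V, a, b, hx, h⟩
    refine ⟨V, a, max a b, hx, le_max_left _ _, flatAmp_mono le_rfl (le_max_right _ _) ?_⟩
    exact flatAmp_of_iso ((resQIso V _).symm ≪≫ (resD V).mapIso (DerivedCategory.Q.objObjPreimageIso K))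
      (h _ ⟨DerivedCategory.Q.objObjPreimageIso K⟩)
  · rintro ⟨V, a, b, hx, -, h⟩
    exact ⟨V, a, b, hx, fun F' ⟨e⟩ => flatAmp_of_iso ((resD V).mapIso e.symm ≪≫ resQIso V F') h⟩

theorem locFiniteTorDim_of_perfect {K : DCoh.D X} (h : DCoh.IsPerfect K) : DCoh.LocHasFiniteTorDim K := by
  rw [locFiniteTorDim_iff]
  intro x
  obtain ⟨V, hx, E, hE, ⟨e⟩⟩ := (isPerfect_iff K).1 h x
  obtain ⟨⟨a, b, hv⟩, hf⟩ := hE
  exact ⟨V, a, max a b, hx, le_max_left _ _,
    ⟨E, fun i hi => hv i (by omega), fun i => isFlat_of_isFinLocFree (hf i), ⟨e.symm⟩⟩⟩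

theorem isPerfect_of_pc_of_finiteTorDim {K : DCoh.D X} (h : ∀ m : ℤ, DCoh.IsPseudoCoherentD m K)
    (h' : DCoh.LocHasFiniteTorDim K) : DCoh.IsPerfect K := by
  rw [locFiniteTorDim_iff] at h'
  refine perfect_of_on fun x => ?_
  obtain ⟨V, a, b, hx, -, hamp⟩ := h' x
  have hpc : DCoh.IsPseudoCoherentD (a - 1) ((resD V).obj K) := by
    rw [isPC_iff_wit]
    intro y
    obtain ⟨W, hyW, hW⟩ := (isPC_iff_wit (a - 1) K).1 (h (a - 1)) y.1
    obtain ⟨O, hyO, hO⟩ := exists_opens_of_on (fun {Z} L => Wit (a - 1) L) (fun k _ _ h => h.restrict k)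
      (fun e h => wit_iso e h) (K := (resD V).obj K) (x := y) (U := (↑(V ⊓ W) : Scheme.{u}))
      (X.homOfLE (inf_le_left : V ⊓ W ≤ V)) (by
        refine ⟨⟨y.1, y.2, hyW⟩, ?_⟩
        apply V.ι.isOpenEmbedding.injective
        rw [← Scheme.Hom.comp_apply, X.homOfLE_ι]; rfl)
      (wit_iso ((resTransD V.ι (X.homOfLE (inf_le_left : V ⊓ W ≤ V)) (V ⊓ W).ι
        (X.homOfLE_ι _)).app K).symm (res_le (fun {Z} L => Wit (a - 1) L) (fun k _ _ h => h.restrict k)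
          (fun e h => wit_iso e h) (inf_le_right : V ⊓ W ≤ W) hW))
    exact ⟨O, hyO, hO⟩
  obtain ⟨W, hxW, hW⟩ := (isPerfect_iff_wit _).1 (isPerfect_of_flatAmp_of_pc _ a b hamp hpc) ⟨x, hx⟩
  exact ⟨_, W.ι ≫ V.ι, inferInstance, mem_opensRange_comp hx hxW,
    hW.of_iso ((resTransD V.ι W.ι (W.ι ≫ V.ι) rfl).app K)⟩

theorem isPerfect_iff_pc_finiteTorDim (K : DCoh.D X) :
    DCoh.IsPerfect K ↔ (∀ m : ℤ, DCoh.IsPseudoCoherentD m K) ∧ DCoh.LocHasFiniteTorDim K :=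
  ⟨fun h => ⟨pc_of_perfect h, locFiniteTorDim_of_perfect h⟩,
    fun h => isPerfect_of_pc_of_finiteTorDim h.1 h.2⟩

theorem isPerfect_of_biprod (K L : DCoh.D X) [HasBinaryBiproduct K L] (h : DCoh.IsPerfect (K ⊞ L)) :
    DCoh.IsPerfect K ∧ DCoh.IsPerfect L := by
  rw [isPerfect_iff_pc_finiteTorDim] at h
  obtain ⟨hpc, htd⟩ := h
  rw [locFiniteTorDim_iff] at htd
  have key : ∀ x : X, ∃ (V : X.Opens) (a b : ℤ), x ∈ V ∧ a ≤ b ∧
      DCoh.HasFlatAmplitudeIn a b ((resD V).obj K) ∧ DCoh.HasFlatAmplitudeIn a b ((resD V).obj L) := by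
    intro x
    obtain ⟨V, a, b, hx, hab, hamp⟩ := htd x
    have hs := Groth.L00.TorAmp.torAmp_of_biprod ((resD V).obj K) ((resD V).obj L) a b
      (flatAmp_of_iso ((resD V).mapBiprod K L) hamp)
    exact ⟨V, a, b, hx, hab,
      (Groth.L00.TorAmp.torAmp_iff_flatAmp _ a b hab fun G => Groth.L00.DerivedApi.hasLTensorMod G).1 hs.1,
      (Groth.L00.TorAmp.torAmp_iff_flatAmp _ a b hab fun G => Groth.L00.DerivedApi.hasLTensorMod G).1 hs.2⟩
  constructor <;> refine isPerfect_of_pc_of_finiteTorDim (fun m => ?_) ((locFiniteTorDim_iff _).2 fun x => ?_)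
  · exact (pc_of_biprod K L (hpc m)).1
  · obtain ⟨V, a, b, hx, hab, h1, -⟩ := key x
    exact ⟨V, a, b, hx, hab, h1⟩
  · exact (pc_of_biprod K L (hpc m)).2
  · obtain ⟨V, a, b, hx, hab, -, h2⟩ := key x
    exact ⟨V, a, b, hx, hab, h2⟩

theorem isPerfect_iff_free (E : DCoh.D X) :
    DCoh.IsPerfect E ↔ ∀ x : X, ∃ V : X.Opens, x ∈ V ∧
      ∀ F : CochainComplex X.Modules ℤ, Nonempty (DCoh.toD X F ≅ E) →
        ∃ (P : CochainComplex (V : Scheme.{u}).Modules ℤ) (a b : ℤ), DCoh.VanishesOutside P a b ∧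
          (∀ i : ℤ, ∃ n : ℕ, Nonempty (P.X i ≅ FlatMod.freeMod (V : Scheme.{u}) n)) ∧
          Nonempty (DerivedCategory.Q.obj ((DCoh.restrictCx V).obj F) ≅ DerivedCategory.Q.obj P) := by
  constructor
  · intro h x
    obtain ⟨U, j, _, P, n, α, hxU, hP, hα, he⟩ := Fib.exists_model_of_perfect E h x
    haveI := hα
    refine ⟨j.opensRange, hxU, fun F ⟨eF⟩ => ?_⟩
    obtain ⟨⟨a, b, hv⟩, -⟩ := hP
    let k := j.isoOpensRange.inv
    refine ⟨((Scheme.Modules.restrictFunctor k).mapHomologicalComplex (ComplexShape.up ℤ)).obj P, a, b,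
      fun i hi => (Scheme.Modules.restrictFunctor k).map_isZero (hv i hi), fun i => ⟨n i, ?_⟩, ?_⟩
    · exact ⟨(Scheme.Modules.restrictFunctor k).mapIso (he i).some ≪≫
        (Scheme.Modules.restrictFunctorIsoPullback k).app _ ≪≫ Groth.L29.LocFree.pullbackFreeIso k _⟩
    · exact ⟨(resQIso j.opensRange F).symm ≪≫ (resD j.opensRange).mapIso eF ≪≫
        ((resTransD j k _ j.isoOpensRange_inv_comp).app E).symm ≪≫
        (DCoh.restrictD k).mapIso (asIso α).symm ≪≫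
        (Scheme.Modules.restrictFunctor k).mapDerivedCategoryFactors.app P⟩
  · intro h x
    obtain ⟨V, hx, hV⟩ := h x
    refine ⟨V, hx, fun F hF => ?_⟩
    obtain ⟨P, a, b, hv, hfree, e⟩ := hV F hF
    exact ⟨P, ⟨⟨a, b, hv⟩, fun i => Groth.L29.LocFree.of_iso (hfree i).choose_spec.some.symm
      (isFinLocFree_freeMod _ _)⟩, e⟩

end Groth.L29.DC
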