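import Groth.Agent.L29.DCoh.TopCoh
import Groth.Agent.L29.DCoh.PerfectIff
import Groth.Agent.L29.DCoh.ModRes
import Groth.Agent.L18.GrTildeFT
import Groth.Agent.L18.TildeFunctor
import Groth.Agent.L18.LocFreeTilde
import Groth.Agent.L00.KFlatStalk
import Groth.Agent.L02.PC.Coherent
import Groth.Agent.L10.DRing.Perfect

/-!
Pseudo-coherence, perfectness and tor amplitude of `M~` against those of `M` in `D(R)`.
-/

set_option autoImplicit false
set_option backward.isDefEq.respectTransparency false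
set_option backward.isDefEq.respectTransparency.types false

universe u

open CategoryTheory CategoryTheory.Limits CategoryTheory.Pretriangulated AlgebraicGeometry HomologicalComplex ZeroObject

attribute [local instance] HasDerivedCategory.standard

noncomputable section

namespace Groth.L29.DC.TildeAlg

theorem isFT_of_iso {X : Scheme.{u}} {M N : X.Modules} (e : M ≅ N) (h : CohB1.IsFT M) : CohB1.IsFT N := by
  refine Groth.L00.Local.isFT_of_generators N fun x => ?_
  obtain ⟨U, σ, hx, hf⟩ := Groth.L00.Local.exists_generators_of_isFT M h x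
  exact ⟨U, σ.ofEpi ((Scheme.Modules.restrictFunctor U.ι).mapIso e).hom, hx, hf⟩

theorem isZero_of_homology {A : Type u} [CommRing A] (K : Dual.D A)
    (h : ∀ i, IsZero ((Groth.L02.PC.HH i).obj K)) : IsZero K := by
  haveI : IsIso (0 : K ⟶ (0 : Dual.D A)) := (DerivedCategory.isIso_iff (ModuleCat.{u} A) _).2 fun i =>
    isIso_of_source_target_iso_zero _ (h i).isoZero
      ((DerivedCategory.homologyFunctor _ i).map_isZero (Limits.isZero_zero _)).isoZero
  exact (Limits.isZero_zero _).of_iso (asIso (0 : K ⟶ (0 : Dual.D A)))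

theorem amp_of_flat_cokernel {A : Type u} [CommRing A] {K : Dual.D A} (F : DRing.Cx A) {a b : ℤ}
    (hF : DRing.VanishesAbove F b) (hflat : DRing.TermwiseFlat F) (e : DRing.toD F ≅ K)
    (hz : ∀ i, i < a → IsZero ((Groth.L02.PC.HH i).obj K))
    (hco : Module.Flat A (cokernel (F.d (a - 1) a) : ModuleCat.{u} A)) : DRing.HasTorAmplitudeIn A a b K := by
  obtain ⟨e'⟩ := Groth.L10.DR.toD_truncGE_iso (P := F) a fun i hi => (Groth.L10.DR.HH_iso_zero e i).1 (hz i hi)
  refine ⟨F.truncGE a, Groth.L10.DR.vanishesOutside_truncGE a b hF, fun i => ?_, ⟨e'.symm ≪≫ e⟩⟩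
  rcases lt_trichotomy i a with hi | rfl | hi
  · haveI := ModuleCat.subsingleton_of_isZero (CochainComplex.isZero_of_isStrictlyGE (F.truncGE a) a i hi)
    exact inferInstance
  · obtain ⟨ε⟩ := Groth.L10.DR.truncGE_X_iso F i
    haveI := hco
    exact Module.Flat.of_linearEquiv
      ((ε ≪≫ (ModuleCat.cokernelIsoRangeQuotient (F.d (i - 1) i)).symm).toLinearEquiv)
  · haveI := hflat i
    exact Module.Flat.of_linearEquiv (CochainComplex.truncGEXIso F a i hi).toLinearEquiv

theorem flat_of_top_sections {R : CommRingCat.{u}} (N : ModuleCat.{u} R)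
    (hflat : Module.Flat Γ(Spec R, ⊤) Γ(tilde N, ⊤)) : Module.Flat R N := by
  let e : R ≃+* Γ(Spec R, ⊤) := (Scheme.ΓSpecIso R).symm.commRingCatIsoToRingEquiv
  let i : (moduleSpecΓFunctor (R := R)).obj (tilde N) ≅ N := (tilde.toTildeΓNatIso.app N).symm
  letI : Algebra R Γ(Spec R, ⊤) := e.toRingHom.toAlgebra
  haveI : Module.Flat R Γ(Spec R, ⊤) :=
    Module.Flat.of_linearEquiv (LinearEquiv.ofBijective (Algebra.linearMap R Γ(Spec R, ⊤)) e.bijective).symm
  letI : Module R Γ(tilde N, ⊤) := Module.compHom _ e.toRingHom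
  haveI : IsScalarTower R Γ(Spec R, ⊤) Γ(tilde N, ⊤) := IsScalarTower.of_algebraMap_smul fun _ _ => rfl
  haveI : Module.Flat R Γ(tilde N, ⊤) := Module.Flat.trans R Γ(Spec R, ⊤) _
  let j : Γ(tilde N, ⊤) ≃ₗ[R] (moduleSpecΓFunctor (R := R)).obj (tilde N) :=
    { toFun := fun x => x
      invFun := fun x => x
      map_add' := fun _ _ => rfl
      map_smul' := fun _ _ => rfl }
  exact Module.Flat.of_linearEquiv (j.trans i.toLinearEquiv).symm

variable {R : CommRingCat.{u}} [PreservesFiniteLimits (tilde.functor R)]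

/-- tilde on complexes -/
abbrev tC : DRing.Cx R ⥤ CochainComplex (Spec R).Modules ℤ :=
  (tilde.functor R).mapHomologicalComplex (ComplexShape.up ℤ)

/-- `(Q E)~ = Q (E~)` -/
def qIso (E : DRing.Cx R) :
    (DCoh.tildeD R).obj (DRing.toD E) ≅ DerivedCategory.Q.obj ((tC (R := R)).obj E) :=
  (tilde.functor R).mapDerivedCategoryFactors.app E

/-- cohomology commutes with tilde -/
def hdIso (K : Dual.D R) (i : ℤ) :
    DCoh.HD ((DCoh.tildeD R).obj K) i ≅ (tilde.functor R).obj ((Groth.L02.PC.HH i).obj K) :=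
  let F := DerivedCategory.Q.objPreimage K
  let e := DerivedCategory.Q.objObjPreimageIso K
  (DerivedCategory.homologyFunctor _ i).mapIso ((DCoh.tildeD R).mapIso e.symm ≪≫ qIso F) ≪≫
    (DerivedCategory.homologyFunctorFactors _ i).app ((tC (R := R)).obj F) ≪≫
    (F.sc i).mapHomologyIso (tilde.functor R) ≪≫
    (tilde.functor R).mapIso (((DerivedCategory.homologyFunctorFactors _ i).app F).symm ≪≫
      (DerivedCategory.homologyFunctor _ i).mapIso e)

theorem isZero_of_isZero_tilde {N : ModuleCat.{u} R} (h : IsZero ((tilde.functor R).obj N)) : IsZero N := by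
  rw [IsZero.iff_id_eq_zero]
  exact (tilde.functor R).map_injective (h.eq_of_src _ _)

theorem isZero_hd_iff (K : Dual.D R) (i : ℤ) :
    IsZero (DCoh.HD ((DCoh.tildeD R).obj K) i) ↔ IsZero ((Groth.L02.PC.HH i).obj K) :=
  ⟨fun h => isZero_of_isZero_tilde (h.of_iso (hdIso K i).symm),
    fun h => ((tilde.functor R).map_isZero h).of_iso (hdIso K i)⟩

theorem isStrictlyPerfect_tC {E : DRing.Cx R} {a b : ℤ} (hv : DRing.VanishesOutside E a b)
    (hp : ∀ i, Module.Finite R (E.X i) ∧ Module.Projective R (E.X i)) :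
    DCoh.IsStrictlyPerfect ((tC (R := R)).obj E) := by
  refine ⟨⟨a, b, fun i hi => (tilde.functor R).map_isZero (hv i hi)⟩, fun i => ?_⟩
  haveI := (hp i).1
  haveI := (hp i).2
  exact Groth.L18.LFP.isFinLocFree_tilde (E.X i)

theorem pc_tilde {K : Dual.D R} {m : ℤ} (h : DRing.IsPseudoCoherent R m K) :
    DCoh.IsPseudoCoherentD m ((DCoh.tildeD R).obj K) := by
  obtain ⟨E, a, b, α, hv, hf, hi, he⟩ := h
  have hw : Wit m ((DCoh.tildeD R).obj K) := by
    refine ⟨(tC (R := R)).obj E, (qIso E).inv ≫ (DCoh.tildeD R).map α, isStrictlyPerfect_tC hv fun i => ?_,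
      (Approx.of_isIso _ m).comp (Approx.map_exact (tilde.functor R) ⟨hi, he⟩)⟩
    haveI := (hf i).1
    haveI := (hf i).2
    exact ⟨inferInstance, inferInstance⟩
  exact pc_of_on fun x => ⟨_, (⊤ : (Spec R).Opens).ι, inferInstance, by simp, hw.restrict _⟩

theorem perfect_tilde {K : Dual.D R} (h : DRing.IsPerfect R K) :
    DCoh.IsPerfect ((DCoh.tildeD R).obj K) := by
  obtain ⟨E, a, b, hv, hp, ⟨e⟩⟩ := h
  have hw : PWit ((DCoh.tildeD R).obj K) :=
    ⟨_, isStrictlyPerfect_tC hv hp, ⟨(DCoh.tildeD R).mapIso e.symm ≪≫ qIso E⟩⟩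
  exact perfect_of_on fun x => ⟨_, (⊤ : (Spec R).Opens).ι, inferInstance, by simp, hw.restrict _⟩

/-- a pseudo-coherent object over an affine scheme is bounded above -/
theorem exists_isZero {m : ℤ} {X : Scheme.{u}} [CompactSpace X] {L : DCoh.D X}
    (h : DCoh.IsPseudoCoherentD m L) : ∃ N : ℤ, ∀ i, N ≤ i → IsZero (DCoh.HD L i) := by
  choose V hx hV using (isPC_iff_wit m L).1 h
  choose N _ hN using fun x => (hV x).exists_isZero
  obtain ⟨t, ht⟩ := isCompact_univ.elim_finite_subcover (fun x : X => (V x : Set X))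
    (fun x => (V x).isOpen) (fun x _ => Set.mem_iUnion.2 ⟨x, hx x⟩)
  obtain ⟨M, hM⟩ := (t.image N).finite_toSet.bddAbove
  refine ⟨M, fun i hi => isZero_HD_of_local L i fun x => ?_⟩
  obtain ⟨y, hy, hxy⟩ := Set.mem_iUnion₂.1 (ht (Set.mem_univ x))
  exact ⟨V y, hxy, hN y i ((hM (Finset.mem_coe.2 (Finset.mem_image_of_mem N hy))).trans hi)⟩

/-- free modules mapping onto the top cohomology -/
theorem exists_onto_top {n : ℤ} (K : Dual.D R) (h : Groth.L02.PC.LEH K n) (hfin : Module.Finite R ((Groth.L02.PC.HH n).obj K)) :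
    ∃ (W : DRing.Cx R) (f : DRing.toD W ⟶ K), (∀ j, DRing.IsPseudoCoherent R j (DRing.toD W)) ∧
      Groth.L02.PC.IsApprox f n := by
  obtain ⟨F, hF, -, hKP, ⟨e⟩⟩ := Groth.L02.PC.exists_free_rep h
  have hd : F.d n (n + 1) = 0 := (hF (n + 1) (by omega)).eq_of_tgt _ _
  haveI : IsIso (F.iCycles n) := F.isIso_iCycles n (n + 1) (by simp) hd
  have hfin' : Module.Finite R (F.homology n) :=
    Module.Finite.equiv (((DerivedCategory.homologyFunctor (ModuleCat.{u} R) n).mapIso e).symm ≪≫
      (DerivedCategory.homologyFunctorFactors (ModuleCat.{u} R) n).app F).toLinearEquiv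
  obtain ⟨q, s, hs⟩ := Module.Finite.exists_fin' R (F.homology n)
  let π : F.X n ⟶ F.homology n := inv (F.iCycles n) ≫ F.homologyπ n
  haveI : Epi π := epi_comp _ _
  obtain ⟨φ, hφ⟩ := Module.projective_lifting_property π.hom s ((ModuleCat.epi_iff_surjective π).1 inferInstance)
  let A : ModuleCat.{u} R := ModuleCat.of R (Fin q → R)
  let φ' : A ⟶ F.X n := ModuleCat.ofHom φ
  let W : DRing.Cx R := (HomologicalComplex.single _ (ComplexShape.up ℤ) n).obj A
  let f : W ⟶ F := HomologicalComplex.mkHomFromSingle φ' (fun j hj => by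
    obtain rfl : n + 1 = j := hj
    rw [hd, comp_zero])
  have hW : ∀ i, i < n ∨ n < i → IsZero (W.X i) := fun i hi =>
    HomologicalComplex.isZero_single_obj_X _ _ _ _ (by omega)
  refine ⟨W, DerivedCategory.Q.map f ≫ e.hom, fun j => Groth.L02.PC.pc_of_bounded_free hW (fun i => ?_) j,
    Groth.L02.PC.IsApprox.comp ⟨fun i hi => ?_, ?_⟩ (Groth.L02.PC.IsApprox.of_isIso e.hom n)⟩
  · by_cases hi : i = n
    · subst hi
      let ε := (HomologicalComplex.singleObjXSelf (ComplexShape.up ℤ) i A).toLinearEquiv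
      exact ⟨Module.Finite.equiv ε.symm, Module.Free.of_equiv ε.symm⟩
    · haveI := ModuleCat.subsingleton_of_isZero (hW i (by omega))
      exact ⟨inferInstance, inferInstance⟩
  · exact isIso_of_source_target_iso_zero _
      (IsZero.isoZero ((Groth.L02.PC.isZero_HH_Q_iff _ _).2
        (ShortComplex.isZero_homology_of_isZero_X₂ (W.sc i) (hW i (Or.inr hi)))))
      (IsZero.isoZero ((Groth.L02.PC.isZero_HH_Q_iff _ _).2
        (ShortComplex.isZero_homology_of_isZero_X₂ (F.sc i) (hF i hi))))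
  · haveI : Epi (HomologicalComplex.homologyMap f n) := by
      have key : (HomologicalComplex.singleObjHomologySelfIso (ComplexShape.up ℤ) n A).inv ≫
          HomologicalComplex.homologyMap f n = ModuleCat.ofHom s := by
        rw [show ModuleCat.ofHom s = φ' ≫ π from ModuleCat.hom_ext hφ.symm,
          ← HomologicalComplex.singleObjCyclesSelfIso_inv_homologyπ, Category.assoc,
          HomologicalComplex.homologyπ_naturality, ← Category.assoc]
        show _ = φ' ≫ inv (F.iCycles n) ≫ F.homologyπ n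
        rw [← Category.assoc φ']
        refine congrArg (fun t => t ≫ F.homologyπ n) ?_
        rw [IsIso.eq_comp_inv, Category.assoc, HomologicalComplex.cyclesMap_i,
          HomologicalComplex.singleObjCyclesSelfIso_inv_iCycles_assoc,
          HomologicalComplex.mkHomFromSingle_f, Iso.inv_hom_id_assoc]
      haveI : Epi (ModuleCat.ofHom s) := (ModuleCat.epi_iff_surjective (ModuleCat.ofHom s)).2 hs
      rw [← key] at this
      exact epi_of_epi (HomologicalComplex.singleObjHomologySelfIso (ComplexShape.up ℤ) n A).inv _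
    exact ((MorphismProperty.epimorphisms _).arrow_mk_iso_iff
      ((Arrow.isoOfNatIso (DerivedCategory.homologyFunctorFactors (ModuleCat.{u} R) n) (Arrow.mk f)))).2 ‹_›

theorem pc_of_tilde {K : Dual.D R} {m : ℤ} (h : DCoh.IsPseudoCoherentD m ((DCoh.tildeD R).obj K)) :
    DRing.IsPseudoCoherent R m K := by
  obtain ⟨N, hN⟩ := exists_isZero h
  suffices key : ∀ (k : ℕ) (L : Dual.D R), DCoh.IsPseudoCoherentD m ((DCoh.tildeD R).obj L) →
      Groth.L02.PC.LEH L (m - 1 + k) → DRing.IsPseudoCoherent R m L from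
    key (N - m + 1).toNat K h fun i hi => (isZero_hd_iff K i).1 (hN i (by omega))
  intro k
  induction k with
  | zero =>
    intro L _ hz
    let O : DRing.Cx R := 0
    have hO : ∀ i, IsZero (O.X i) := fun i =>
      (HomologicalComplex.eval _ _ i).map_isZero (Limits.isZero_zero _)
    refine ⟨O, 0, 0, 0, fun i _ => hO i, fun i => ?_, fun i hi => ?_, ?_⟩
    · haveI := ModuleCat.subsingleton_of_isZero (hO i)
      exact ⟨inferInstance, inferInstance⟩
    · exact isIso_of_source_target_iso_zero _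
        ((Groth.L02.PC.isZero_HH_Q_iff O i).2 (ShortComplex.isZero_homology_of_isZero_X₂ (O.sc i) (hO i))).isoZero
        (hz i (by simp only [Nat.cast_zero, add_zero]; omega)).isoZero
    · exact (hz m (by simp)).epi _
  | succ k ih =>
    intro L hL hz
    have hb : m ≤ m - 1 + ((k + 1 : ℕ) : ℤ) := by omega
    have hft : CohB1.IsFT (DCoh.HD ((DCoh.tildeD R).obj L) (m - 1 + ((k + 1 : ℕ) : ℤ))) :=
      TopCoh.isFT_top hb hL fun i hi => (isZero_hd_iff L i).2 (hz i hi)
    have hfin : Module.Finite R ((Groth.L02.PC.HH (m - 1 + ((k + 1 : ℕ) : ℤ))).obj L) :=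
      (Groth.L18.GrT.tildeFT_iff R _).1 (isFT_of_iso (hdIso L _) hft)
    obtain ⟨W, f, hW, hf⟩ := exists_onto_top L hz hfin
    obtain ⟨C, g, h', hT⟩ := distinguished_cocone_triangle f
    have hC : Groth.L02.PC.LEH C (m - 1 + k) := fun i hi =>
      (Groth.L02.PC.isApprox_iff _ hT _).1 hf i (by push_cast; omega)
    have hCt : DCoh.IsPseudoCoherentD m ((DCoh.tildeD R).obj C) :=
      pc_third ((DCoh.tildeD R).map_distinguished _ hT) (pc_tilde (hW (m + 1))) hL
    exact Groth.L02.PC.pc_second _ hT m (hW m) (ih C hCt hC)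

theorem isKFlat_of_bdd {X : Scheme.{u}} (E : CochainComplex X.Modules ℤ) (hf : ∀ i, FlatMod.IsFlat (E.X i))
    (b : ℤ) (hb : ∀ i, b < i → IsZero (E.X i)) : DCoh.IsKFlat E :=
  Groth.L00.Stk.isKFlat_of_stalks E fun x L hL i => by
    haveI : ∀ p, Module.Flat (X.presheaf.stalk x) (((Groth.L00.Stk.S X x).obj E).X p) := fun p => hf p x
    exact Groth.L00.KFlatAlg.acyclic_tensor_of_bounded_flat _ b
      (fun p hp => (Groth.L00.Stk.F X x).map_isZero (hb p hp)) L hL i

theorem flatAmp_tilde {K : Dual.D R} {a b : ℤ} (h : DRing.HasTorAmplitudeIn R a b K) :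
    DCoh.HasFlatAmplitudeIn a b ((DCoh.tildeD R).obj K) := by
  obtain ⟨E, hv, hf, ⟨e⟩⟩ := h
  refine ⟨(tC (R := R)).obj E, fun i hi => (tilde.functor R).map_isZero (hv i hi), fun i => ?_,
    ⟨(qIso E).symm ≪≫ (DCoh.tildeD R).mapIso e⟩⟩
  haveI := hf i
  exact ModRes.isFlat_tilde _

theorem flat_of_isFlat_tilde (N : ModuleCat.{u} R) (h : FlatMod.IsFlat ((tilde.functor R).obj N)) :
    Module.Flat R N := by
  have := Groth.L18.LFP.flat_sections ((tilde.functor R).obj N) h (isAffineOpen_top (Spec R))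
  exact flat_of_top_sections N this

theorem amp_of_tilde {K : Dual.D R} {a b : ℤ}
    (h : DCoh.HasFlatAmplitudeIn a b ((DCoh.tildeD R).obj K)) : DRing.HasTorAmplitudeIn R a b K := by
  have hz : ∀ i, i < a ∨ b < i → IsZero ((Groth.L02.PC.HH i).obj K) := fun i hi =>
    (isZero_hd_iff K i).1 (isZero_HD_of_flatAmp h hi)
  by_cases hab : b < a
  · exact Groth.L10.DR.amp_of_isZero (isZero_of_homology K fun i => hz i (by omega)) a b
  obtain ⟨F, hF, hfree, -, ⟨e⟩⟩ := Groth.L02.PC.exists_free_rep (K := K) (n := b) fun i hi => hz i (Or.inr hi)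
  have hflat : ∀ i, Module.Flat R (F.X i) := fun i => by have := hfree i; infer_instance
  have hfl : ∀ i, FlatMod.IsFlat (((tC (R := R)).obj F).X i) := fun i => by
    haveI := hflat i
    exact ModRes.isFlat_tilde _
  obtain ⟨E, hvE, hfE, ⟨eE⟩⟩ := h
  have hk : DCoh.IsKFlat ((tC (R := R)).obj F) :=
    isKFlat_of_bdd _ hfl b fun i hi => (tilde.functor R).map_isZero (hF i hi)
  have hc := Groth.L00.TorAmp.isFlat_cokernel_of_torAmp ((tC (R := R)).obj F) hk hfl
    ((qIso F).symm ≪≫ (DCoh.tildeD R).mapIso e) (fun G => Groth.L00.DerivedApi.hasLTensorMod G) a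
    (fun G _ => Groth.L00.TorAmp.torAmp_of_flatAmp hvE hfE eE G (a - 1) (Or.inl (by omega)))
  have hco : Module.Flat R (cokernel (F.d (a - 1) a) : ModuleCat.{u} R) :=
    flat_of_isFlat_tilde _ (Groth.L00.KFlat.isFlat_of_iso
      (PreservesCokernel.iso (tilde.functor R) (F.d (a - 1) a)).symm hc)
  exact amp_of_flat_cokernel F hF hflat e (fun i hi => hz i (Or.inl hi)) hco

theorem perfect_of_tilde {K : Dual.D R} (h : DCoh.IsPerfect ((DCoh.tildeD R).obj K)) :
    DRing.IsPerfect R K := by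
  obtain ⟨hpc, htd⟩ := (isPerfect_iff_pc_finiteTorDim _).1 h
  rw [locFiniteTorDim_iff] at htd
  choose V a b hx hab hamp using htd
  obtain ⟨t, ht⟩ := isCompact_univ.elim_finite_subcover (fun x : Spec R => (V x : Set (Spec R)))
    (fun x => (V x).isOpen) (fun x _ => Set.mem_iUnion.2 ⟨x, hx x⟩)
  obtain ⟨A, hA⟩ := (t.image a).finite_toSet.bddBelow
  obtain ⟨B, hB⟩ := (t.image b).finite_toSet.bddAbove
  have hg : DCoh.HasFlatAmplitudeIn A (max A B) ((DCoh.tildeD R).obj K) := by
    refine flatAmp_of_local (le_max_left _ _) _ fun x => ?_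
    obtain ⟨y, hy, hxy⟩ := Set.mem_iUnion₂.1 (ht (Set.mem_univ x))
    exact ⟨V y, hxy, flatAmp_mono (hA (Finset.mem_coe.2 (Finset.mem_image_of_mem a hy)))
      ((hB (Finset.mem_coe.2 (Finset.mem_image_of_mem b hy))).trans (le_max_right _ _)) (hamp y)⟩
  exact Groth.L10.DR.perfect_of_pc'_amp (Groth.L02.PC.pc'_of_forall fun m => pc_of_tilde (hpc m))
    (amp_of_tilde hg)

end Groth.L29.DC.TildeAlg
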