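import Groth.Agent.L29.DCoh.EvalPerf
import Groth.Agent.L29.DCoh.RHomBound

/-!
`RHom(L, M) ⊗ K ≅ RHom(RHom(K, L), M)` for perfect `K`; the dual of a perfect complex.
-/

set_option autoImplicit false
set_option backward.isDefEq.respectTransparency false
set_option backward.isDefEq.respectTransparency.types false

universe u

open CategoryTheory CategoryTheory.Limits AlgebraicGeometry CochainComplex Pretriangulated

attribute [local instance] HasDerivedCategory.standard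

namespace Groth.L29.DC.RHom

theorem acyclic_flip_single {X : Scheme.{u}} {K P : CochainComplex X.Modules ℤ} (hK : K.Acyclic)
    (hP : DCoh.IsKFlat P) :
    HomologicalComplex.Acyclic (((DCoh.tensorCx (X := X)).flip.obj K).obj P) :=
  Eval.acyclic_of_iso (Groth.L00.KFlat.commIso P K) fun i =>
    (HomologicalComplex.exactAt_iff_isZero_homology _ _).2
      (hP K (fun k => (HomologicalComplex.exactAt_iff_isZero_homology _ _).1 (hK k)) i)

end Groth.L29.DC.RHom

namespace Groth.L29.DC.EvalMain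

open Groth.L00

variable {X : Scheme.{u}}

/-- restriction of complexes in stages, in the derived category -/
noncomputable def resQTrans {U : Scheme.{u}} (j : U ⟶ X) [IsOpenImmersion j] (W : U.Opens) :
    ExtZero.rCx j ⋙ DerivedCategory.Q ⋙ resD W ≅ ExtZero.rCx (W.ι ≫ j) ⋙ DerivedCategory.Q :=
  Functor.isoWhiskerLeft (ExtZero.rCx j) (Scheme.Modules.restrictFunctor W.ι).mapDerivedCategoryFactors ≪≫
    (Functor.associator _ _ _).symm ≪≫
    Functor.isoWhiskerRight (resTransCx j W.ι (W.ι ≫ j) rfl) DerivedCategory.Q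

/-- isomorphisms in the derived category can be tested locally -/
theorem isIso_Q_of_local {U : Scheme.{u}} {A A' : CochainComplex U.Modules ℤ} (f : A ⟶ A')
    (h : ∀ y : U, ∃ W : U.Opens, y ∈ W ∧ IsIso (DerivedCategory.Q.map ((ExtZero.rCx W.ι).map f))) :
    IsIso (DerivedCategory.Q.map f) := by
  choose W hW hi using h
  refine (EvalLocal.acyclic_cone_iff f).1 fun i => ?_
  rw [HomologicalComplex.exactAt_iff_isZero_homology]
  refine Groth.L21.Mod.isZero_of_restrict (fun y => (W y).ι) (fun y => ⟨y, ⟨y, hW y⟩, rfl⟩) _ fun y => ?_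
  have h1 := (HomologicalComplex.exactAt_iff_isZero_homology _ _).1 ((EvalLocal.acyclic_cone_iff _).2 (hi y) i)
  exact (h1.of_iso ((HomologicalComplex.homologyFunctor _ _ i).mapIso
    (mappingCone.mapHomologicalComplexIso f (Scheme.Modules.restrictFunctor (W y).ι)))).of_iso
      (((mappingCone f).sc i).mapHomologyIso (Scheme.Modules.restrictFunctor (W y).ι)).symm

theorem isPerfect_of_local {U : Scheme.{u}} {K : DCoh.D U}
    (h : ∀ y : U, ∃ W : U.Opens, y ∈ W ∧ DCoh.IsPerfect ((resD W).obj K)) : DCoh.IsPerfect K := by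
  refine perfect_of_on fun y => ?_
  obtain ⟨W, hy, hW⟩ := h y
  obtain ⟨V, hyV, hV⟩ := (isPerfect_iff_wit _).1 hW ⟨y, hy⟩
  exact ⟨_, V.ι ≫ W.ι, inferInstance, mem_opensRange_comp hy hyV,
    hV.of_iso ((resTransD W.ι V.ι (V.ι ≫ W.ι) rfl).app K)⟩

theorem isPerfect_of_isZero {U : Scheme.{u}} {K : DCoh.D U} (h : IsZero K) : DCoh.IsPerfect K :=
  (isPerfect_iff_wit _).2 fun y => ⟨⊤, trivial, HomologicalComplex.zero,
    isStrictlyPerfect_of_isZero (fun i => (HomologicalComplex.eval _ (ComplexShape.up ℤ) i).map_isZero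
      HomologicalComplex.isZero_zero),
    ⟨((resD (⊤ : U.Opens)).map_isZero h).iso
      (DerivedCategory.Q.map_isZero HomologicalComplex.isZero_zero)⟩⟩

theorem isPerfect_restrictD {U : Scheme.{u}} (j : U ⟶ X) [IsOpenImmersion j] {K : DCoh.D X}
    (h : DCoh.IsPerfect K) : DCoh.IsPerfect ((DCoh.restrictD j).obj K) := by
  haveI := KFlat.hasLpull j
  obtain ⟨i⟩ := nonempty_Lpull_iso_restrictD j K
  exact isPerfect_of_iso i (isPerfect_Lpull j h)

section Props

variable (I J : CochainComplex X.Modules ℤ) [I.IsKInjective] [J.IsKInjective]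

/-- local invertibility of the evaluation map -/
def Pκ {U : Scheme.{u}} (j : U ⟶ X) [IsOpenImmersion j] (K : CochainComplex X.Modules ℤ) : Prop :=
  EvalLocal.P (Eval.PhiL X) (fun K L => Assoc.assocFunctor K L) (ExtZero.res j) I J K

/-- local perfectness of the Hom complex -/
def PA {U : Scheme.{u}} (j : U ⟶ X) [IsOpenImmersion j] (K : CochainComplex X.Modules ℤ) : Prop :=
  EvalLocal.P₁ (Eval.PhiL X) (ExtZero.res j) I DCoh.IsPerfect K

theorem locProp_κ : EvalPerf.LocProp (X := X) (fun j _ K => Pκ I J j K) where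
  unit j _ := EvalLocal.P_unit I J _ RHom.unitCxIso (RHom.flipIso (RHom.O0 X) ≪≫ RHom.unitCxIso)
  acyclic j _ K hK h := EvalLocal.P_acyclic (CxOX.extZeroAdj j) (Eval.setting j) I J hK h
  middle j _ S σ h₁ h₃ := (EvalLocal.P_two_three (Eval.setting j) I J S σ).2.1 h₁ h₃
  shift j _ K hK := EvalLocal.P_shift (CxOX.extZeroAdj j) (Eval.setting j) I J hK
  iff j _ _ _ g hK hK' hg := EvalLocal.P_iff (CxOX.extZeroAdj j) (Eval.setting j) I J g hK hK'
  loc j _ K h := by
    refine isIso_Q_of_local _ fun y => ?_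
    obtain ⟨W, hy, hW⟩ := h y
    exact ⟨W, hy, (NatIso.isIso_map_iff
      (Functor.isoWhiskerRight (resTransCx j W.ι (W.ι ≫ j) rfl) DerivedCategory.Q) _).2 hW⟩

variable (hI : DCoh.IsPerfect (DCoh.toD X I))

include hI in
theorem locProp_A : EvalPerf.LocProp (X := X) (fun j _ K => PA I j K) where
  unit j _ := by
    let V := RHom.flipIso (RHom.O0 X) ≪≫ RHom.unitCxIso
    haveI : ((Eval.PhiL X).obj (RHom.O0 X)).IsEquivalence := Functor.isEquivalence_of_iso V.symm
    let i : EvalAbs.A (Eval.PhiL X) I (RHom.O0 X) ≅ I :=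
      (V.app _).symm ≪≫ asIso ((Adjunction.ofIsLeftAdjoint ((Eval.PhiL X).obj (RHom.O0 X))).counit.app I)
    exact isPerfect_of_iso (((ExtZero.res j).mapDerivedCategoryFactors.app I) ≪≫
      DerivedCategory.Q.mapIso ((ExtZero.rCx j).mapIso i.symm)) (isPerfect_restrictD j hI)
  acyclic j _ K _ h := EvalLocal.P₁_acyclic (CxOX.extZeroAdj j) (Eval.setting j) I _ isPerfect_of_isZero h
  middle j _ S σ h₁ h₃ := (EvalLocal.P₁_two_three (Eval.setting j) I S σ _
    (fun _ hΔ => perfect_two_out_of_three hΔ)).2.1 h₁ h₃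
  shift j _ K _ := EvalLocal.P₁_shift (CxOX.extZeroAdj j) (Eval.setting j) I _ isPerfect_of_isZero
    (fun _ hΔ => perfect_two_out_of_three hΔ) K
  iff j _ _ _ g _ _ hg := EvalLocal.P₁_iff (CxOX.extZeroAdj j) (Eval.setting j) I _ isPerfect_of_isZero
    (fun _ hΔ => perfect_two_out_of_three hΔ) g
  loc j _ K h := by
    refine isPerfect_of_local fun y => ?_
    obtain ⟨W, hy, hW⟩ := h y
    exact ⟨W, hy, isPerfect_of_iso ((resQTrans j W).app _).symm hW⟩

variable {K : CochainComplex X.Modules ℤ} (hK : DCoh.IsKFlat K) (hKp : DCoh.IsPerfect (DCoh.toD X K))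

include hK hKp in
/-- the evaluation map is a quasi-isomorphism -/
theorem isIso_Q_κ : IsIso (DerivedCategory.Q.map
    (EvalAbs.κ (Eval.PhiL X) (fun K L => Assoc.assocFunctor K L) I J K)) := by
  refine isIso_Q_of_local _ fun x => ?_
  exact EvalPerf.of_perfect (locProp_κ I J) hK hKp x

include hK hKp hI in
/-- the Hom complex into a perfect complex is perfect -/
theorem isPerfect_A : DCoh.IsPerfect (DCoh.toD X (EvalAbs.A (Eval.PhiL X) I K)) := by
  refine isPerfect_of_local fun x => ?_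
  obtain ⟨V, hx, h⟩ := EvalPerf.of_perfect (locProp_A I hI) hK hKp x
  exact ⟨V, hx, isPerfect_of_iso (resQIso V _).symm h⟩

end Props

section Represent

variable (J : CochainComplex X.Modules ℤ) [J.IsKInjective]

/-- the Hom complex out of a K-flat complex represents internal Hom -/
theorem nonempty_RSheafHom_of_kflat {K : CochainComplex X.Modules ℤ} (hK : DCoh.IsKFlat K)
    [DCoh.HasLTensorCx K] [DCoh.HasRSheafHom K] :
    Nonempty (DerivedCategory.Q.obj ((HomCx.H (Eval.PhiR X) K).obj J) ≅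
      (DCoh.RSheafHom K).obj (DCoh.toD X J)) := by
  haveI := QRlim.enoughKInj X
  haveI : ((Eval.PhiR X).obj K).Additive := (Eval.dataR X).additive K
  exact DerRight.nonempty_iso_rightAdjoint (HomCx.adj (Eval.PhiR X) K) ((Eval.dataR X).retractObj K)
    (RHom.acyclic_flip hK) (DCoh.LTensorCx K) (Assoc.allIso K hK) (DCoh.RSheafHomAdj K) J

theorem test_id (K : CochainComplex X.Modules ℤ) (hK : K.Acyclic) (T : X.Modules) :
    ∃ (F : X.Modules) (p : F ⟶ T), Epi p ∧ ∀ n : ℤ, (((Eval.PhiR X).obj K).obj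
      ((HomologicalComplex.single X.Modules (ComplexShape.up ℤ) n).obj ((𝟭 X.Modules).obj F))).Acyclic := by
  obtain ⟨F, p, hp, hF⟩ := Eval.exists_flat_cover T
  refine ⟨F, p, hp, fun n => ?_⟩
  dsimp only [Functor.id_obj]
  exact RHom.acyclic_flip_single hK (KFlat.single F hF n)

theorem acyclic_H (K : CochainComplex X.Modules ℤ) (hK : K.Acyclic) :
    ((HomCx.H (Eval.PhiR X) K).obj J).Acyclic :=
  Eval.acyclic_of_iso ((Functor.mapHomologicalComplexIdIso X.Modules (ComplexShape.up ℤ)).app _)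
    (HomCx.acyclic_res (Eval.dataR X) J (Adjunction.id (C := X.Modules)) K (test_id K hK))

theorem nonempty_H_cone {K K' : CochainComplex X.Modules ℤ} (g : K ⟶ K') [QuasiIso g] :
    Nonempty (DerivedCategory.Q.obj ((HomCx.H (Eval.PhiR X) K').obj J) ≅
      (DerivedCategory.Q.obj ((HomCx.H (Eval.PhiR X) (K⟦(1 : ℤ)⟧)).obj J))⟦(1 : ℤ)⟧) := by
  let τ := HomCx.homSplit (Eval.dataR X) (mappingCone.triangleRotateShortComplex g)
    (mappingCone.triangleRotateShortComplexSplitting g) J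
  exact EvalLocal.nonempty_iso_of_acyclic_middle
    (HomologicalComplex.shortExact_of_degreewise_shortExact _ fun n => (τ n).shortExact)
    (acyclic_H J _ fun i => (HomologicalComplex.exactAt_iff_isZero_homology _ _).2 (ConeTransfer.acyclic_cone g i))

/-- the Hom complex represents internal Hom -/
theorem nonempty_RSheafHom (K : CochainComplex X.Modules ℤ) [DCoh.HasLTensorCx K] [DCoh.HasRSheafHom K] :
    Nonempty (DerivedCategory.Q.obj ((HomCx.H (Eval.PhiR X) K).obj J) ≅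
      (DCoh.RSheafHom K).obj (DCoh.toD X J)) := by
  let R := (KFlat.RF X).obj K
  let q : R ⟶ K := (KFlat.rF X).app K
  haveI : QuasiIso q := KFlat.quasiIso_rF K
  haveI := KFlat.hasLTensorCx R
  haveI := RHom.hasRSheafHom R
  obtain ⟨a⟩ := nonempty_H_cone J q
  obtain ⟨b⟩ := nonempty_H_cone J (𝟙 R)
  obtain ⟨c⟩ := nonempty_RSheafHom_of_kflat J (KFlat.isKFlat_RF K)
  haveI := RHom.isIso_ltMap q
  exact ⟨a ≪≫ b.symm ≪≫ c ≪≫ (((DCoh.RSheafHomAdj R).ofNatIsoLeft (asIso (RHom.ltMap q))).rightAdjointUniq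
    (DCoh.RSheafHomAdj K)).app _⟩

end Represent

/-- the two Hom complexes agree -/
noncomputable def hIso (K : CochainComplex X.Modules ℤ) :
    HomCx.H (Eval.PhiL X) K ≅ HomCx.H (Eval.PhiR X) K :=
  ((HomCx.adj (Eval.PhiL X) K).ofNatIsoLeft (RHom.flipIso K)).rightAdjointUniq (HomCx.adj (Eval.PhiR X) K)

theorem nonempty_RSheafHom_iso {E E' : CochainComplex X.Modules ℤ} [DCoh.HasLTensorCx E] [DCoh.HasRSheafHom E]
    [DCoh.HasLTensorCx E'] [DCoh.HasRSheafHom E'] (e : DCoh.toD X E ≅ DCoh.toD X E') :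
    Nonempty (DCoh.RSheafHom E ≅ DCoh.RSheafHom E') := by
  obtain ⟨t⟩ := RHom.nonempty_lt_iso e
  exact ⟨((DCoh.RSheafHomAdj E).ofNatIsoLeft t).rightAdjointUniq (DCoh.RSheafHomAdj E')⟩

theorem exists_kinj (M : DCoh.D X) :
    ∃ I : CochainComplex X.Modules ℤ, I.IsKInjective ∧ Nonempty (DCoh.toD X I ≅ M) := by
  haveI := QRlim.enoughKInj X
  obtain ⟨I, s, hI, hs⟩ := Groth.L10.KInjDerived.EnoughKInjectives.exists_res (DerivedCategory.Q.objPreimage M)
  haveI := hs
  haveI := (DerivedCategory.isIso_Q_map_iff_quasiIso _ s).2 hs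
  exact ⟨I, hI, ⟨(asIso (DerivedCategory.Q.map s)).symm ≪≫ DerivedCategory.Q.objObjPreimageIso M⟩⟩

/-- `RHom(L, M) ⊗ K ≅ RHom(RHom(K, L), M)` -/
theorem nonempty_eval (K L D : CochainComplex X.Modules ℤ) (hK : DCoh.IsKFlat K)
    (hKp : DCoh.IsPerfect (DCoh.toD X K)) [DCoh.HasLTensorCx K] [DCoh.HasRSheafHom K]
    [DCoh.HasLTensorCx L] [DCoh.HasRSheafHom L] [DCoh.HasLTensorCx D] [DCoh.HasRSheafHom D]
    (hD : Nonempty (DCoh.toD X D ≅ (DCoh.RSheafHom K).obj (DCoh.toD X L))) (M : DCoh.D X) :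
    Nonempty ((DCoh.LTensorCx K).obj ((DCoh.RSheafHom L).obj M) ≅ (DCoh.RSheafHom D).obj M) := by
  obtain ⟨I, hI, ⟨eI⟩⟩ := exists_kinj (DCoh.toD X L)
  obtain ⟨J, hJ, ⟨eJ⟩⟩ := exists_kinj M
  haveI := hI
  haveI := hJ
  haveI := KFlat.hasLTensorCx I
  haveI := RHom.hasRSheafHom I
  let A := EvalAbs.A (Eval.PhiL X) I K
  haveI := KFlat.hasLTensorCx A
  haveI := RHom.hasRSheafHom A
  haveI := isIso_Q_κ I J hK hKp
  obtain ⟨a⟩ := nonempty_RSheafHom J I
  obtain ⟨b⟩ := nonempty_RSheafHom J A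
  obtain ⟨c⟩ := nonempty_RSheafHom I K
  obtain ⟨d⟩ := hD
  let eA : DCoh.toD X A ≅ DCoh.toD X D :=
    DerivedCategory.Q.mapIso ((hIso K).app I) ≪≫ c ≪≫ (DCoh.RSheafHom K).mapIso eI ≪≫ d.symm
  obtain ⟨f⟩ := nonempty_RSheafHom_iso eA
  obtain ⟨g⟩ := nonempty_RSheafHom_iso eI
  exact ⟨(DCoh.LTensorCx K).mapIso ((DCoh.RSheafHom L).mapIso eJ.symm ≪≫ (g.app _).symm ≪≫ a.symm) ≪≫
    (Assoc.allIso K hK).app _ ≪≫
    asIso (DerivedCategory.Q.map (EvalAbs.κ (Eval.PhiL X) (fun K L => Assoc.assocFunctor K L) I J K)) ≪≫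
    b ≪≫ f.app _ ≪≫ (DCoh.RSheafHom D).mapIso eJ⟩

/-- the unit object -/
theorem nonempty_O0_iso : Nonempty (DCoh.toD X (RHom.O0 X) ≅
    (DerivedCategory.singleFunctor X.Modules 0).obj (Coh.structureModule X)) :=
  ⟨((DerivedCategory.singleFunctorIsoCompQ X.Modules 0).app (Coh.structureModule X)).symm⟩

/-- the dual of a perfect complex -/
theorem isPerfect_dual (K : CochainComplex X.Modules ℤ) (hK : DCoh.IsKFlat K)
    (hKp : DCoh.IsPerfect (DCoh.toD X K)) [DCoh.HasLTensorCx K] [DCoh.HasRSheafHom K] :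
    DCoh.IsPerfect ((DCoh.RSheafHom K).obj (DCoh.toD X (RHom.O0 X))) := by
  obtain ⟨I, hI, ⟨eI⟩⟩ := exists_kinj (DCoh.toD X (RHom.O0 X))
  haveI := hI
  have hIp : DCoh.IsPerfect (DCoh.toD X I) := isPerfect_of_iso eI.symm
    ((isPerfect_iff_wit _).2 fun x => ⟨⊤, trivial,
      PWit.restrict _ ⟨RHom.O0 X, RHom.isStrictlyPerfect_O0, ⟨Iso.refl _⟩⟩⟩)
  obtain ⟨c⟩ := nonempty_RSheafHom I K
  exact isPerfect_of_iso (DerivedCategory.Q.mapIso ((hIso K).app I) ≪≫ c ≪≫ (DCoh.RSheafHom K).mapIso eI)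
    (isPerfect_A I hIp hK hKp)

/-- tensoring with the dual computes internal Hom -/
theorem nonempty_dual (K D : CochainComplex X.Modules ℤ) (hK : DCoh.IsKFlat K)
    (hKp : DCoh.IsPerfect (DCoh.toD X K)) (hDf : DCoh.IsKFlat D) [DCoh.HasLTensorCx K] [DCoh.HasRSheafHom K]
    [DCoh.HasLTensorCx D]
    (hD : Nonempty (DCoh.toD X D ≅ (DCoh.RSheafHom K).obj (DCoh.toD X (RHom.O0 X)))) (M : DCoh.D X) :
    Nonempty ((DCoh.LTensorCx D).obj M ≅ (DCoh.RSheafHom K).obj M) := by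
  haveI := KFlat.hasLTensorCx (RHom.O0 X)
  haveI := RHom.hasRSheafHom (RHom.O0 X)
  haveI := RHom.hasRSheafHom D
  obtain ⟨d⟩ := hD
  obtain ⟨u⟩ := RHom.nonempty_RSheafHom_O0 (X := X)
  obtain ⟨w⟩ := nonempty_eval K (RHom.O0 X) D hK hKp ⟨d⟩ (DCoh.toD X (RHom.O0 X))
  let v : DCoh.toD X K ≅ (DCoh.RSheafHom D).obj (DCoh.toD X (RHom.O0 X)) :=
    DerivedCategory.Q.mapIso ((RHom.flipIso (RHom.O0 X) ≪≫ RHom.unitCxIso).app K).symm ≪≫
      ((Assoc.allIso K hK).app (RHom.O0 X)).symm ≪≫ (DCoh.LTensorCx K).mapIso (u.app _).symm ≪≫ w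
  obtain ⟨z⟩ := nonempty_eval D (RHom.O0 X) K hDf
    (isPerfect_of_iso d.symm (isPerfect_dual K hK hKp)) ⟨v⟩ M
  exact ⟨(DCoh.LTensorCx D).mapIso (u.app M).symm ≪≫ z⟩

end Groth.L29.DC.EvalMain
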