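import Groth.Agent.L29.DCoh.PCDescent
import Groth.Agent.L29.DCoh.TopCoh
import Groth.Agent.L29.DCoh.TildeAlg
import Groth.Agent.L29.DCoh.Summand
import Groth.Agent.L29.DCoh.RpushRestrict
import Groth.Agent.L20.ResDescent
import Groth.Agent.L17.ClosedPush
import Groth.Agent.L18.LocFreeFP
import Groth.Agent.L29.DCoh.LocalLift

/-!
Pseudo-coherence along a closed immersion with pseudo-coherent structure sheaf.
-/

set_option autoImplicit false
set_option backward.defeqAttrib.useBackward true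
set_option backward.isDefEq.respectTransparency false
set_option backward.isDefEq.respectTransparency.types false

universe u

open CategoryTheory CategoryTheory.Limits CategoryTheory.Pretriangulated AlgebraicGeometry

attribute [local instance] HasDerivedCategory.standard

namespace Groth.L29.DC.ClosedPC

open Groth.L00

variable {Z W : Scheme.{u}}

theorem additive (i : Z ⟶ W) : (Scheme.Modules.pushforward i).Additive := Groth.L17.PushQCoh.additive_push i

theorem exactLeft (i : Z ⟶ W) : PreservesFiniteLimits (Scheme.Modules.pushforward i) :=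
  haveI : (Scheme.Modules.pushforward i).IsRightAdjoint := ⟨_, ⟨Scheme.Modules.pullbackPushforwardAdjunction i⟩⟩
  inferInstance

theorem exactRight (i : Z ⟶ W) [IsClosedImmersion i] : PreservesFiniteColimits (Scheme.Modules.pushforward i) :=
  haveI := Groth.L17.ClosedPush.preservesColimits_push i
  PreservesColimitsOfSize.preservesFiniteColimits _

attribute [local instance] additive exactLeft exactRight

/-- exact direct image -/
noncomputable abbrev pD (i : Z ⟶ W) [IsClosedImmersion i] : DCoh.D Z ⥤ DCoh.D W :=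
  (Scheme.Modules.pushforward i).mapDerivedCategory

/-- pseudo-coherent structure sheaf -/
def PO (i : Z ⟶ W) : Prop :=
  ∀ k : ℤ, DCoh.IsPseudoCoherentD k (DCoh.inD W ((Scheme.Modules.pushforward i).obj (Coh.structureModule Z)))

section

variable (i : Z ⟶ W) [IsClosedImmersion i]

theorem isZero_of_isZero_push {M : Z.Modules} (h : IsZero ((Scheme.Modules.pushforward i).obj M)) : IsZero M := by
  haveI := Groth.L17.ClosedPush.isIso_counit i
  exact ((Scheme.Modules.pullback i).map_isZero h).of_iso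
    (asIso ((Scheme.Modules.pullbackPushforwardAdjunction i).counit.app M)).symm

/-- cohomology commutes with exact direct image -/
theorem nonempty_HD_iso (E : DCoh.D Z) (j : ℤ) :
    Nonempty (DCoh.HD ((pD i).obj E) j ≅ (Scheme.Modules.pushforward i).obj (DCoh.HD E j)) := by
  let G := DerivedCategory.Q.objPreimage E
  let e : DerivedCategory.Q.obj G ≅ E := DerivedCategory.Q.objObjPreimageIso E
  exact ⟨(DerivedCategory.homologyFunctor _ j).mapIso ((pD i).mapIso e.symm ≪≫
      (Scheme.Modules.pushforward i).mapDerivedCategoryFactors.app G) ≪≫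
    (DerivedCategory.homologyFunctorFactors _ j).app _ ≪≫ (G.sc j).mapHomologyIso (Scheme.Modules.pushforward i) ≪≫
    (Scheme.Modules.pushforward i).mapIso (((DerivedCategory.homologyFunctorFactors _ j).app G).symm ≪≫
      (DerivedCategory.homologyFunctor _ j).mapIso e)⟩

theorem isZero_HD_iff (E : DCoh.D Z) (j : ℤ) : IsZero (DCoh.HD ((pD i).obj E) j) ↔ IsZero (DCoh.HD E j) := by
  obtain ⟨e⟩ := nonempty_HD_iso i E j
  exact ⟨fun h => isZero_of_isZero_push i (h.of_iso e.symm), fun h => ((Scheme.Modules.pushforward i).map_isZero h).of_iso e⟩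

/-- restriction to an open of the target -/
theorem nonempty_res (V : W.Opens) :
    Nonempty (pD i ⋙ resD V ≅ resD (i ⁻¹ᵁ V) ⋙ pD (i ∣_ V)) := by
  let c := ComplexShape.up ℤ
  let F := Scheme.Modules.pushforward i
  let G := Scheme.Modules.pushforward (i ∣_ V)
  let R := Scheme.Modules.restrictFunctor V.ι
  let S := Scheme.Modules.restrictFunctor (i ⁻¹ᵁ V).ι
  let a : F ⋙ R ≅ S ⋙ G :=
    Groth.L17.PushQCoh.pushRestrictIso i V.ι (i ⁻¹ᵁ V).ι (i ∣_ V) (by simp) (morphismRestrict_ι i V)
  let a' : F.mapHomologicalComplex c ⋙ R.mapHomologicalComplex c ≅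
      S.mapHomologicalComplex c ⋙ G.mapHomologicalComplex c :=
    NatIso.ofComponents (fun K => HomologicalComplex.Hom.isoOfComponents (fun n => a.app (K.X n))
      (fun n m _ => (a.hom.naturality (K.d n m)).symm))
      (fun f => HomologicalComplex.hom_ext _ _ fun n => a.hom.naturality (f.f n))
  let e : DerivedCategory.Q ⋙ (pD i ⋙ resD V) ≅ DerivedCategory.Q ⋙ (resD (i ⁻¹ᵁ V) ⋙ pD (i ∣_ V)) :=
    (Functor.associator _ _ _).symm ≪≫ Functor.isoWhiskerRight F.mapDerivedCategoryFactors _ ≪≫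
      Functor.associator _ _ _ ≪≫ Functor.isoWhiskerLeft (F.mapHomologicalComplex c) R.mapDerivedCategoryFactors ≪≫
      (Functor.associator _ _ _).symm ≪≫ Functor.isoWhiskerRight a' _ ≪≫ Functor.associator _ _ _ ≪≫
      Functor.isoWhiskerLeft (S.mapHomologicalComplex c) G.mapDerivedCategoryFactors.symm ≪≫
      (Functor.associator _ _ _).symm ≪≫ Functor.isoWhiskerRight S.mapDerivedCategoryFactors.symm _ ≪≫
      Functor.associator _ _ _
  exact ⟨Localization.liftNatIso DerivedCategory.Q (HomologicalComplex.quasiIso Z.Modules c)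
    (DerivedCategory.Q ⋙ (pD i ⋙ resD V)) (DerivedCategory.Q ⋙ (resD (i ⁻¹ᵁ V) ⋙ pD (i ∣_ V))) _ _ e⟩

variable {i} in
theorem PO.restrict (hO : PO i) (V : W.Opens) : PO (i ∣_ V) := fun k => by
  let a := (Groth.L17.PushQCoh.pushRestrictIso i V.ι (i ⁻¹ᵁ V).ι (i ∣_ V) (by simp) (morphismRestrict_ι i V)).app
    (Coh.structureModule Z)
  refine isPseudoCoherentD_of_iso ?_ (PCStalk.pc_res V.ι (hO k))
  exact (((Scheme.Modules.restrictFunctor V.ι).mapDerivedCategorySingleFunctor 0).app _) ≪≫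
    (DerivedCategory.singleFunctor _ 0).mapIso (a ≪≫
      (Scheme.Modules.pushforward (i ∣_ V)).mapIso (Scheme.Modules.restrictUnitIso (i ⁻¹ᵁ V).ι))

/-- locality on the target -/
theorem pc_push_of_local {m : ℤ} {E : DCoh.D Z}
    (h : ∀ z : Z, ∃ V : W.Opens, i z ∈ V ∧
      DCoh.IsPseudoCoherentD m ((pD (i ∣_ V)).obj ((resD (i ⁻¹ᵁ V)).obj E))) :
    DCoh.IsPseudoCoherentD m ((pD i).obj E) := by
  refine PCDesc.pc_of_local fun w => ?_
  by_cases hw : w ∈ Set.range i
  · obtain ⟨z, rfl⟩ := hw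
    obtain ⟨V, hV, hp⟩ := h z
    obtain ⟨e⟩ := nonempty_res i V
    exact ⟨V, hV, isPseudoCoherentD_of_iso (e.app E).symm hp⟩
  · let V : W.Opens := ⟨(Set.range i)ᶜ, i.isClosedEmbedding.isClosed_range.isOpen_compl⟩
    obtain ⟨e⟩ := nonempty_res i V
    refine ⟨V, hw, isPseudoCoherentD_of_iso (e.app E).symm (pc_of_isZero fun j _ => ?_)⟩
    refine (isZero_HD_iff (i ∣_ V) _ j).2 ((PCStalk.isZero_HD_iff_stk _ _).2 fun z => absurd ?_ z.2)
    exact ⟨(i ⁻¹ᵁ V).ι z, rfl⟩

theorem pc_push_free (hO : PO i) (q : ℕ) (k : ℤ) :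
    DCoh.IsPseudoCoherentD k ((pD i).obj (DCoh.inD Z (FlatMod.freeMod Z q))) := by
  induction q generalizing k with
  | zero =>
    refine pc_of_isZero fun j _ => (DerivedCategory.homologyFunctor _ j).map_isZero ((pD i).map_isZero
      ((DerivedCategory.singleFunctor Z.Modules 0).map_isZero ?_))
    exact (IsZero.iff_id_eq_zero _).2 (Sigma.hom_ext _ _ fun j => j.elim0)
  | succ q ih =>
    let F := pD i
    let s := DerivedCategory.singleFunctor Z.Modules 0
    haveI := preservesBinaryBiproducts_of_preservesBiproducts F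
    haveI := preservesBinaryBiproducts_of_preservesBiproducts s
    let e : F.obj (DCoh.inD Z (FlatMod.freeMod Z (q + 1))) ≅
        F.obj (s.obj (Coh.structureModule Z)) ⊞ F.obj (s.obj (FlatMod.freeMod Z q)) :=
      F.mapIso (s.mapIso (coprodFinSuccIso fun _ : Fin (q + 1) => Coh.structureModule Z) ≪≫ s.mapBiprod _ _) ≪≫
        F.mapBiprod _ _
    exact isPseudoCoherentD_of_iso e.symm ((pc_two_out_of_three (binaryBiproductTriangle_distinguished _ _) k).2.1
      (isPseudoCoherentD_of_iso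
        (((Scheme.Modules.pushforward i).mapDerivedCategorySingleFunctor 0).app _).symm (hO k)) (ih k))

theorem isFT_of_push {M : Z.Modules} (h : CohB1.IsFT ((Scheme.Modules.pushforward i).obj M)) : CohB1.IsFT M := by
  haveI := Groth.L17.ClosedPush.isIso_counit i
  exact TildeAlg.isFT_of_iso (asIso ((Scheme.Modules.pullbackPushforwardAdjunction i).counit.app M))
    (Groth.L20.ResDescent.isFT_pullback i _ h)

end

theorem perfect_free (q : ℕ) : DCoh.IsPerfect (DCoh.inD Z (FlatMod.freeMod Z q)) :=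
  perfect_of_on fun x => ⟨_, (⊤ : Z.Opens).ι, inferInstance, by simp, PWit.restrict _
    ⟨(HomologicalComplex.single Z.Modules (ComplexShape.up ℤ) 0).obj (FlatMod.freeMod Z q),
      ⟨⟨0, 0, fun i hi => HomologicalComplex.isZero_single_obj_X _ _ _ _ (by omega)⟩, fun i => by
        by_cases h : i = 0
        · subst h
          exact Groth.L29.LocFree.of_iso (HomologicalComplex.singleObjXSelf _ _ _).symm (isFinLocFree_freeMod Z q)
        · exact Groth.L29.LocFree.of_isZero (HomologicalComplex.isZero_single_obj_X _ _ _ _ h)⟩,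
      ⟨(DerivedCategory.singleFunctorIsoCompQ Z.Modules 0).app _⟩⟩⟩

/-- free generators of the top cohomology, near a point -/
theorem exists_top_map {n : ℤ} (E : DCoh.D Z) [E.IsLE n] (hFT : CohB1.IsFT (DCoh.HD E n)) (z : Z) :
    ∃ (U : Z.Opens) (q : ℕ) (α : (DCoh.inD (U : Scheme.{u}) (FlatMod.freeMod U q))⟦-n⟧ ⟶ (resD U).obj E),
      z ∈ U ∧ Approx α n := by
  obtain ⟨G, hG, ⟨e⟩⟩ := DerivedCategory.exists_iso_Q_obj_of_isLE E n
  have hd : G.d n (n + 1) = 0 := (CochainComplex.isZero_of_isStrictlyLE G n (n + 1) (by omega)).eq_of_tgt _ _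
  haveI : IsIso (G.iCycles n) := G.isIso_iCycles n (n + 1) (by simp) hd
  let π : G.X n ⟶ G.homology n := inv (G.iCycles n) ≫ G.homologyπ n
  haveI : Epi π := epi_comp _ _
  obtain ⟨U₀, σ, hz₀, hfin⟩ := Groth.L00.Local.exists_generators_of_isFT _
    (TildeAlg.isFT_of_iso ((DerivedCategory.homologyFunctor Z.Modules n).mapIso e ≪≫
      (DerivedCategory.homologyFunctorFactors Z.Modules n).app G) hFT) z
  haveI := hfin
  let R₀ := Scheme.Modules.restrictFunctor U₀.ι
  let ε : FlatMod.freeMod (U₀ : Scheme.{u}) (Nat.card σ.I) ⟶ R₀.obj (G.homology n) :=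
    (Groth.L18.LFP.freeIso (U₀ : Scheme.{u}) σ.I).inv ≫ σ.π
  haveI : Epi σ.π := σ.epi
  haveI : Epi ε := epi_comp _ _
  haveI : Epi (R₀.map π) := R₀.map_epi π
  obtain ⟨U₁, hz₁, ψ, hψ⟩ := liftAt_freeMod (R₀.map π) ε ⟨z, hz₀⟩
  let j := U₁.ι ≫ U₀.ι
  let k := j.isoOpensRange.inv
  let U := j.opensRange
  let q := Nat.card σ.I
  let R₁ := Scheme.Modules.restrictFunctor U₁.ι
  let Rk := Scheme.Modules.restrictFunctor k
  let R := Scheme.Modules.restrictFunctor U.ι
  let tr : R₀ ⋙ R₁ ⋙ Rk ≅ R := Functor.isoWhiskerLeft _ (Scheme.Modules.restrictFunctorComp k U₁.ι).symm ≪≫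
    (Scheme.Modules.restrictFunctorComp (k ≫ U₁.ι) U₀.ι).symm ≪≫
    Scheme.Modules.restrictFunctorCongr (by rw [Category.assoc]; exact j.isoOpensRange_inv_comp)
  let fi : FlatMod.freeMod U q ≅ Rk.obj (R₁.obj (FlatMod.freeMod (U₀ : Scheme.{u}) q)) :=
    (Rk.mapIso (TopCoh.freeRes U₁.ι q) ≪≫ TopCoh.freeRes k q).symm
  let φ : FlatMod.freeMod U q ⟶ (R.mapHomologicalComplex (ComplexShape.up ℤ)).obj G |>.X n :=
    fi.hom ≫ Rk.map ψ ≫ tr.hom.app (G.X n)
  let S := (HomologicalComplex.single (U : Scheme.{u}).Modules (ComplexShape.up ℤ) n).obj (FlatMod.freeMod U q)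
  let G' := (R.mapHomologicalComplex (ComplexShape.up ℤ)).obj G
  have hd' : G'.d n (n + 1) = 0 := by
    change R.map (G.d n (n + 1)) = 0
    rw [hd, R.map_zero]
  let a : S ⟶ G' := HomologicalComplex.mkHomFromSingle φ (fun l hl => by
    obtain rfl : n + 1 = l := hl
    rw [hd', comp_zero])
  haveI : IsIso (G'.iCycles n) := G'.isIso_iCycles n (n + 1) (by simp) hd'
  have hepi : Epi (φ ≫ R.map π) := by
    have h1 : φ ≫ R.map π = fi.hom ≫ Rk.map (R₁.map ε) ≫ tr.hom.app _ := by
      have hn : Rk.map (R₁.map (R₀.map π)) ≫ tr.hom.app (G.homology n) = tr.hom.app (G.X n) ≫ R.map π :=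
        tr.hom.naturality π
      simp only [φ, Category.assoc, ← hn, ← Functor.map_comp_assoc]
      rw [show ψ ≫ R₁.map (R₀.map π) = R₁.map ε from hψ]
    rw [h1]
    haveI : Epi (R₁.map ε) := R₁.map_epi ε
    haveI : Epi (Rk.map (R₁.map ε)) := Rk.map_epi _
    haveI : Epi (Rk.map (R₁.map ε) ≫ tr.hom.app (G.homology n)) := epi_comp _ _
    exact epi_comp _ _
  have ha : Epi (HomologicalComplex.homologyMap a n) := by
    have key : (HomologicalComplex.singleObjHomologySelfIso (ComplexShape.up ℤ) n _).inv ≫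
        HomologicalComplex.homologyMap a n = φ ≫ inv (G'.iCycles n) ≫ G'.homologyπ n := by
      rw [← HomologicalComplex.singleObjCyclesSelfIso_inv_homologyπ, Category.assoc,
        HomologicalComplex.homologyπ_naturality, ← Category.assoc, ← Category.assoc φ]
      refine congrArg (fun t => t ≫ G'.homologyπ n) ?_
      rw [IsIso.eq_comp_inv, Category.assoc, HomologicalComplex.cyclesMap_i,
        HomologicalComplex.singleObjCyclesSelfIso_inv_iCycles_assoc,
        HomologicalComplex.mkHomFromSingle_f, Iso.inv_hom_id_assoc]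
    haveI : Epi (φ ≫ inv (G'.iCycles n) ≫ G'.homologyπ n) := by
      have w : G.d (n - 1) n ≫ π = 0 := by
        have h1 : G.d (n - 1) n ≫ inv (G.iCycles n) = G.toCycles (n - 1) n := by
          rw [IsIso.comp_inv_eq]; exact (G.toCycles_i (n - 1) n).symm
        simp only [π]
        rw [reassoc_of% h1]; exact G.toCycles_comp_homologyπ (n - 1) n
      obtain ⟨hc⟩ := TopCoh.isColimit_of_iso (G.homologyIsCokernel (n - 1) n (by simp)) (Iso.refl (G.X (n - 1)))
        (asIso (G.iCycles n)) (Iso.refl _) w (by simp [G.toCycles_i]) (by simp [π])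
      have w2 : R.map (G.d (n - 1) n) ≫ R.map π = 0 := by rw [← R.map_comp, w, R.map_zero]
      have hR : IsColimit (CokernelCofork.ofπ (R.map π) w2) := CokernelCofork.mapIsColimit _ hc R
      have w' : R.map (G.d (n - 1) n) ≫ inv (G'.iCycles n) ≫ G'.homologyπ n = 0 := by
        have h1 : G'.d (n - 1) n ≫ inv (G'.iCycles n) = G'.toCycles (n - 1) n := by
          rw [IsIso.comp_inv_eq]; exact (G'.toCycles_i (n - 1) n).symm
        change G'.d (n - 1) n ≫ _ = 0
        rw [reassoc_of% h1]; exact G'.toCycles_comp_homologyπ (n - 1) n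
      refine Preadditive.epi_of_cancel_zero _ fun {Y} g hg => ?_
      obtain ⟨g', hg'⟩ := CokernelCofork.IsColimit.desc' hR ((inv (G'.iCycles n) ≫ G'.homologyπ n) ≫ g)
        (by rw [← Category.assoc, w', zero_comp])
      have h2 : g' = 0 := by
        rw [← cancel_epi (φ ≫ R.map π), comp_zero, Category.assoc]
        exact (congrArg (φ ≫ ·) hg').trans (by simpa only [Category.assoc] using hg)
      haveI : Epi (inv (G'.iCycles n) ≫ G'.homologyπ n) := epi_comp _ _
      rw [← cancel_epi (inv (G'.iCycles n) ≫ G'.homologyπ n), comp_zero, ← hg', h2]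
      simp
    have : Epi ((HomologicalComplex.singleObjHomologySelfIso (ComplexShape.up ℤ) n (FlatMod.freeMod U q)).inv ≫
        HomologicalComplex.homologyMap a n) := by rw [key]; infer_instance
    exact epi_of_epi (HomologicalComplex.singleObjHomologySelfIso (ComplexShape.up ℤ) n (FlatMod.freeMod U q)).inv _
  have hA : Approx (DerivedCategory.Q.map a) n := by
    refine ⟨fun l hl => ?_, ?_⟩
    · refine isIso_of_source_target_iso_zero _ (IsZero.isoZero ?_) (IsZero.isoZero ?_)
      · exact (ShortComplex.isZero_homology_of_isZero_X₂ _ (HomologicalComplex.isZero_single_obj_X (ComplexShape.up ℤ) n _ l (by omega))).of_iso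
          ((DerivedCategory.homologyFunctorFactors _ l).app S)
      · exact (ShortComplex.isZero_homology_of_isZero_X₂ _
          (R.map_isZero (CochainComplex.isZero_of_isStrictlyLE G n l hl))).of_iso
          ((DerivedCategory.homologyFunctorFactors _ l).app G')
    · exact ((MorphismProperty.epimorphisms _).arrow_mk_iso_iff
        (Arrow.isoOfNatIso (DerivedCategory.homologyFunctorFactors _ n) (Arrow.mk a))).2 ha
  let eS : (DCoh.inD (U : Scheme.{u}) (FlatMod.freeMod U q))⟦-n⟧ ≅ DerivedCategory.Q.obj S :=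
    ((DerivedCategory.singleFunctors _).shiftIso (-n) n 0 (by omega)).app _ ≪≫
      (DerivedCategory.singleFunctorIsoCompQ _ n).app _
  exact ⟨U, q, eS.hom ≫ DerivedCategory.Q.map a ≫ (resQIso U G).inv ≫ (resD U).map e.inv,
    mem_opensRange_comp hz₀ hz₁,
    (Approx.of_isIso _ n).comp (hA.comp ((Approx.of_isIso _ n).comp (Approx.of_isIso _ n)))⟩

theorem pc_push_iff_aux (m : ℤ) : ∀ (k : ℕ) {Z W : Scheme.{u}} (i : Z ⟶ W) [IsClosedImmersion i], PO i →
    ∀ E : DCoh.D Z, (∀ j, m - 1 + k < j → IsZero (DCoh.HD E j)) →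
      (DCoh.IsPseudoCoherentD m E ↔ DCoh.IsPseudoCoherentD m ((pD i).obj E)) := by
  intro k
  induction k with
  | zero =>
    intro Z W i _ _ E hz
    exact ⟨fun _ => pc_of_isZero fun j hj => (isZero_HD_iff i E j).2 (hz j (by omega)),
      fun _ => pc_of_isZero fun j hj => hz j (by omega)⟩
  | succ k ih =>
    intro Z W i _ hO E hz
    let n : ℤ := m + k
    haveI : E.IsLE n := (E.isLE_iff n).2 fun j hj => hz j (by omega)
    suffices key : CohB1.IsFT (DCoh.HD E n) → ∀ z : Z, ∃ V : W.Opens, i z ∈ V ∧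
        (DCoh.IsPseudoCoherentD m ((resD (i ⁻¹ᵁ V)).obj E) ↔
          DCoh.IsPseudoCoherentD m ((pD (i ∣_ V)).obj ((resD (i ⁻¹ᵁ V)).obj E))) by
      constructor
      · intro hE
        refine pc_push_of_local i fun z => ?_
        obtain ⟨V, hV, h⟩ := key (TopCoh.isFT_top (m := m) (by omega) hE fun j hj => hz j (by omega)) z
        exact ⟨V, hV, h.1 (PCStalk.pc_res _ hE)⟩
      · intro hE
        refine PCDesc.pc_of_local fun z => ?_
        obtain ⟨e⟩ := nonempty_HD_iso i E n
        obtain ⟨V, hV, h⟩ := key (isFT_of_push i (TildeAlg.isFT_of_iso e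
          (TopCoh.isFT_top (m := m) (by omega) hE fun j hj => (isZero_HD_iff i E j).2 (hz j (by omega))))) z
        obtain ⟨r⟩ := nonempty_res i V
        exact ⟨i ⁻¹ᵁ V, hV, h.2 (isPseudoCoherentD_of_iso (r.app E) (PCStalk.pc_res V.ι hE))⟩
    intro hFT z
    obtain ⟨U, q, α, hzU, hα⟩ := exists_top_map E hFT z
    obtain ⟨O, hO', hOU⟩ := i.isClosedEmbedding.isInducing.isOpen_iff.1 U.2
    let V : W.Opens := ⟨O, hO'⟩
    have hUV : U = i ⁻¹ᵁ V := TopologicalSpace.Opens.ext hOU.symm
    subst hUV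
    refine ⟨V, hzU, ?_⟩
    obtain ⟨C, g, d, hT⟩ := distinguished_cocone_triangle α
    have hC := (approx_iff_triangle _ hT n).1 hα
    have hCz : ∀ j, m - 1 + k < j → IsZero (DCoh.HD C j) := fun j hj =>
      haveI : DerivedCategory.IsLE C (n - 1) := hC
      DerivedCategory.isZero_of_isLE C (n - 1) j (by omega)
    have hfree : ∀ l, DCoh.IsPseudoCoherentD l ((DCoh.inD (i ⁻¹ᵁ V : Scheme.{u}) (FlatMod.freeMod _ q))⟦-n⟧) :=
      fun l => pc_of_perfect (perfect_shift (perfect_free q) _) l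
    have hpfree : ∀ l, DCoh.IsPseudoCoherentD l
        ((pD (i ∣_ V)).obj ((DCoh.inD (i ⁻¹ᵁ V : Scheme.{u}) (FlatMod.freeMod _ q))⟦-n⟧)) := fun l =>
      isPseudoCoherentD_of_iso (((pD (i ∣_ V)).commShiftIso (-n)).app _).symm
        (pc_shift (pc_push_free (i ∣_ V) (hO.restrict V) q (l - n)) (-n) l (by omega))
    have hT' := (pD (i ∣_ V)).map_distinguished _ hT
    have hih := ih (i ∣_ V) (hO.restrict V) C hCz
    exact ⟨fun h => (pc_two_out_of_three hT' m).2.1 (hpfree m) (hih.1 ((pc_two_out_of_three hT m).1 (hfree _) h)),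
      fun h => (pc_two_out_of_three hT m).2.1 (hfree m) (hih.2 ((pc_two_out_of_three hT' m).1 (hpfree _) h))⟩

/-- pseudo-coherence is detected along such closed immersions -/
theorem pc_push_iff (i : Z ⟶ W) [IsClosedImmersion i] (hO : PO i) (E : DCoh.D Z) (m : ℤ) :
    DCoh.IsPseudoCoherentD m E ↔ DCoh.IsPseudoCoherentD m ((pD i).obj E) := by
  constructor
  · intro hE
    refine pc_push_of_local i fun z => ?_
    obtain ⟨U, hzU, hU⟩ := (isPC_iff_wit m E).1 hE z
    obtain ⟨O, hO', hOU⟩ := i.isClosedEmbedding.isInducing.isOpen_iff.1 U.2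
    let V : W.Opens := ⟨O, hO'⟩
    have hUV : U = i ⁻¹ᵁ V := TopologicalSpace.Opens.ext hOU.symm
    subst hUV
    obtain ⟨N, -, hN⟩ := hU.exists_isZero
    exact ⟨V, hzU, (pc_push_iff_aux m (N - m + 1).toNat (i ∣_ V) (hO.restrict V) _
      fun j hj => hN j (by omega)).1 (PCStalk.pc_res _ hE)⟩
  · intro hE
    refine PCDesc.pc_of_local fun z => ?_
    obtain ⟨V, hzV, hV⟩ := (isPC_iff_wit m _).1 hE (i z)
    obtain ⟨N, -, hN⟩ := hV.exists_isZero
    obtain ⟨r⟩ := nonempty_res i V
    refine ⟨i ⁻¹ᵁ V, hzV, (pc_push_iff_aux m (N - m + 1).toNat (i ∣_ V) (hO.restrict V) _ fun j hj => ?_).2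
      (isPseudoCoherentD_of_iso (r.app E) (PCStalk.pc_res V.ι hE))⟩
    exact (isZero_HD_iff (i ∣_ V) _ j).1 ((hN j (by omega)).of_iso
      ((DerivedCategory.homologyFunctor _ j).mapIso (r.app E)).symm)

end Groth.L29.DC.ClosedPC
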