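import Groth.Agent.L16.RelExt.FirstVar
import Groth.Agent.L22.PDual.TwistExt
import Groth.Agent.L17.Duality
import Groth.Agent.L13.PointBlow.Twist
import Groth.Agent.L03.BlowPt.ZeroPoint
import Groth.Agent.L21.RR.Twist
import Groth.Prelude.Def_ExtSupp

/-!
`Ext¹(O_D, ω) = O_D ⊗ (L ⊗ ω)` for a closed subscheme with invertible ideal `L⁻¹`.
-/

set_option autoImplicit false
set_option backward.isDefEq.respectTransparency false
set_option linter.style.haveILetI false
universe u

open CategoryTheory CategoryTheory.Limits AlgebraicGeometry TopologicalSpace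

noncomputable section

namespace Groth.L29.ExtDivisor

open Groth.L00.Tensor (tensorMap tensorIso tensorAssoc tensorComm tensorUnitLeft tensorUnitRight tensorRightF)
open Groth.L16.RelExt (tL)
open Groth.L17.ChangeRings (homMod tensorRightBiIso)

variable {X : Scheme.{u}}

/-- Derived functors of exact functors vanish. -/
theorem isZero_rightDerived_exact {C D : Type*} [Category C] [Abelian C] [HasInjectiveResolutions C]
    [Category D] [Abelian D] (F : C ⥤ D) [F.Additive] [F.PreservesHomology] (n : ℕ) (M : C) :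
    IsZero ((F.rightDerived (n + 1)).obj M) := by
  refine IsZero.of_iso ?_ ((injectiveResolution M).isoRightDerivedObj F (n + 1))
  refine (HomologicalComplex.exactAt_iff_isZero_homology _ _).1 ?_
  exact ((injectiveResolution M).cocomplex_exactAt_succ n).map F

/-- `- ⊗ N` for invertible `N` is an equivalence. -/
theorem isEquivalence_flip {N N' : X.Modules} (e : CohB1.tensorMod N N' ≅ Coh.structureModule X) :
    ((ModSite.tensorBi X.sheaf).flip.obj N).IsEquivalence :=
  haveI := Groth.L22.PDual.isEquivalence_tensorRightF e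
  Functor.isEquivalence_of_iso (tensorRightBiIso N)

variable {J L : X.Modules} [ModSite.HasSheafHom (O := X.sheaf) J]
  [ModSite.HasSheafHom (O := X.sheaf) (Coh.structureModule X)]

/-- `W ⊗ O ≅ W`. -/
def rIso (W : X.Modules) : (tL W).obj (Coh.structureModule X) ≅ W := tensorUnitRight W

/-- The cokernel of `Hom(O, W) ⟶ Hom(J, W)`, for invertible `J`. -/
theorem nonempty_cokernel_sheafHomMap (eL : CohB1.tensorMod L J ≅ Coh.structureModule X)
    (ι : J ⟶ Coh.structureModule X) (W : X.Modules) :
    Nonempty (cokernel ((ExtSupp.sheafHomMap (O := X.sheaf) ι).app W) ≅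
      CohB1.tensorMod (cokernel ι) (CohB1.tensorMod L W)) := by
  let T : X.Modules ⥤ X.Modules := (ModSite.tensorBi X.sheaf).flip.obj J
  let adj : T ⊣ ModSite.sheafHom (O := X.sheaf) J := ModSite.sheafHomAdj (O := X.sheaf) J
  let adjO := ModSite.sheafHomAdj (O := X.sheaf) (Coh.structureModule X)
  haveI hT : T.IsEquivalence := isEquivalence_flip (tensorComm J L ≪≫ eL)
  haveI : ((ModSite.tensorBi X.sheaf).flip.obj (Coh.structureModule X)).IsEquivalence :=
    isEquivalence_flip (N' := Coh.structureModule X) (tensorUnitRight _)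
  let h := (ExtSupp.sheafHomMap (O := X.sheaf) ι).app W
  let incl : T.obj W ⟶ W := (tL W).map ι ≫ (rIso W).hom
  let u : W ⟶ (ModSite.sheafHom (O := X.sheaf) (Coh.structureModule X)).obj W :=
    adjO.homEquiv W W (rIso W).hom
  haveI : IsIso u := by
    have : u = adjO.unit.app W ≫ (ModSite.sheafHom (O := X.sheaf) (Coh.structureModule X)).map (rIso W).hom :=
      Adjunction.homEquiv_unit ..
    rw [this]
    infer_instance
  have ha : u ≫ h = adj.homEquiv W W incl := Groth.L16.RelExt.homEquiv_comp ι (rIso W).hom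
  let a := adj.homEquiv W W incl
  have hinc : T.map a ≫ adj.counit.app W = incl :=
    (Adjunction.homEquiv_counit (adj := adj) W W a).symm.trans (Equiv.symm_apply_apply _ _)
  let e1 : cokernel h ≅ cokernel a := (cokernelEpiComp u h).symm ≪≫ cokernelIsoOfEq ha
  let e2 : T.obj (cokernel a) ≅ (tL W).obj (cokernel ι) :=
    PreservesCokernel.iso T a ≪≫ (cokernelCompIsIso (T.map a) (adj.counit.app W)).symm ≪≫
      cokernelIsoOfEq hinc ≪≫ cokernelCompIsIso ((tL W).map ι) (rIso W).hom ≪≫
      (PreservesCokernel.iso (tL W) ι).symm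
  let e2' : CohB1.tensorMod (cokernel a) J ≅ CohB1.tensorMod W (cokernel ι) := e2
  exact ⟨e1 ≪≫ (tensorUnitRight _).symm ≪≫ tensorIso (Iso.refl _) (eL.symm ≪≫ tensorComm L J) ≪≫
    (tensorAssoc _ J L).symm ≪≫ tensorIso e2' (Iso.refl L) ≪≫ tensorIso (tensorComm W _) (Iso.refl L) ≪≫
    tensorAssoc _ W L ≪≫ tensorIso (Iso.refl _) (tensorComm W L)⟩

/-- The closed subscheme as a cokernel. -/
theorem nonempty_push_iso_quotMod {D : Scheme.{u}} (i : D ⟶ X) [IsClosedImmersion i] :
    Nonempty ((Scheme.Modules.pushforward i).obj (Coh.structureModule D) ≅ ClSub.quotMod i.ker) := by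
  obtain ⟨u⟩ := Groth.L03.BlowPt.nonempty_push_structure i.toImage
  exact ⟨(Scheme.Modules.pushforwardCongr (Scheme.Hom.toImage_imageι i).symm).app _ ≪≫
    ((Scheme.Modules.pushforwardComp i.toImage i.ker.subschemeι).app _).symm ≪≫
    (Scheme.Modules.pushforward i.ker.subschemeι).mapIso u⟩

variable (X) in
/-- The ideal sequence. -/
def idealSeq (I : X.IdealSheafData) : ShortComplex X.Modules :=
  ShortComplex.mk (ClSub.idealModι I) (ClSub.toSubscheme I) (kernel.condition _)

theorem shortExact_idealSeq (I : X.IdealSheafData) : (idealSeq X I).ShortExact :=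
  { exact := ShortComplex.exact_of_f_is_kernel _ (kernelIsKernel _)
    mono_f := inferInstanceAs (Mono (kernel.ι _))
    epi_g := Groth.L21.RR.epi_toSubscheme I }

theorem shortExact_sheafHomMap {S : ShortComplex X.Modules} (hS : S.ShortExact)
    [ModSite.HasSheafHom (O := X.sheaf) S.X₁] [ModSite.HasSheafHom (O := X.sheaf) S.X₂]
    [ModSite.HasSheafHom (O := X.sheaf) S.X₃] (I : X.Modules) [Injective I] :
    (ShortComplex.mk ((ExtSupp.sheafHomMap (O := X.sheaf) S.g).app I) ((ExtSupp.sheafHomMap (O := X.sheaf) S.f).app I)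
      (Groth.L16.RelExt.w_app S I)).ShortExact := by
  have h := Groth.L16.RelExt.shortExact_push (S := S) (𝟙 X) hS I
  refine ShortComplex.shortExact_of_iso (ShortComplex.isoMk
    ((Scheme.Modules.pushforwardId X).app ((ModSite.sheafHom (O := X.sheaf) S.X₃).obj I))
    ((Scheme.Modules.pushforwardId X).app ((ModSite.sheafHom (O := X.sheaf) S.X₂).obj I))
    ((Scheme.Modules.pushforwardId X).app ((ModSite.sheafHom (O := X.sheaf) S.X₁).obj I)) ?_ ?_) h
  · exact ((Scheme.Modules.pushforwardId X).hom.naturality _).symm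
  · exact ((Scheme.Modules.pushforwardId X).hom.naturality _).symm

theorem nonempty_extSh_one_seq {J L Q : X.Modules} (eL : CohB1.tensorMod L J ≅ Coh.structureModule X)
    (ι : J ⟶ Coh.structureModule X) (π : Coh.structureModule X ⟶ Q) (w : ι ≫ π = 0)
    (hS : (ShortComplex.mk ι π w).ShortExact) (ω : X.Modules)
    [ModSite.HasSheafHom (O := X.sheaf) Q] [HasInjectiveResolutions (ModSite.Mod X.sheaf)] :
    Nonempty ((ModSite.extSh (O := X.sheaf) Q 1).obj ω ≅ CohB1.tensorMod Q (CohB1.tensorMod L ω)) := by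
  haveI : ModSite.HasSheafHom (O := X.sheaf) J := Groth.L17.Duality.hasSheafHom _
  haveI hO : ModSite.HasSheafHom (O := X.sheaf) (Coh.structureModule X) := Groth.L17.Duality.hasSheafHom _
  let S : ShortComplex X.Modules := ShortComplex.mk ι π w
  haveI : ModSite.HasSheafHom (O := X.sheaf) S.X₁ := ‹ModSite.HasSheafHom (O := X.sheaf) J›
  haveI : ModSite.HasSheafHom (O := X.sheaf) S.X₂ := hO
  haveI : ModSite.HasSheafHom (O := X.sheaf) S.X₃ := ‹ModSite.HasSheafHom (O := X.sheaf) Q›
  haveI : HasInjectiveResolutions X.Modules := ‹HasInjectiveResolutions (ModSite.Mod X.sheaf)›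
  haveI := (ModSite.sheafHomAdj (O := X.sheaf) J).isRightAdjoint
  haveI := (ModSite.sheafHomAdj (O := X.sheaf) (Coh.structureModule X)).isRightAdjoint
  haveI := (ModSite.sheafHomAdj (O := X.sheaf) Q).isRightAdjoint
  haveI := isEquivalence_flip (N := Coh.structureModule X) (N' := Coh.structureModule X) (tensorUnitRight _)
  haveI : (ModSite.sheafHom (O := X.sheaf) (Coh.structureModule X)).IsEquivalence :=
    (ModSite.sheafHomAdj (O := X.sheaf) (Coh.structureModule X)).isEquivalence_right_of_isEquivalence_left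
  obtain ⟨e⟩ := Groth.L04.FunctorLES.nonempty_iso_cokernel (ExtSupp.sheafHomMap (O := X.sheaf) π)
    (ExtSupp.sheafHomMap (O := X.sheaf) ι) (Groth.L16.RelExt.w_app S)
    (fun I hI => haveI : Injective (C := X.Modules) I := hI; shortExact_sheafHomMap hS I)
    (fun M => isZero_rightDerived_exact (ModSite.sheafHom (O := X.sheaf) (Coh.structureModule X)) 0 M)
  obtain ⟨c⟩ := nonempty_cokernel_sheafHomMap eL ι ω
  let eQ : cokernel ι ≅ Q :=
    haveI : Epi S.g := hS.epi_g
    (cokernelIsCokernel ι).coconePointUniqueUpToIso hS.exact.gIsCokernel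
  exact ⟨e.app ω ≪≫
    PreservesCokernel.iso ((CategoryTheory.evaluation X.Modules X.Modules).obj ω)
      (ExtSupp.sheafHomMap (O := X.sheaf) ι) ≪≫ c ≪≫ tensorIso eQ (Iso.refl _)⟩

theorem nonempty_extSh_one {D : Scheme.{u}} (i : D ⟶ X) [IsClosedImmersion i] (L : X.Modules)
    (hL : ClSub.IsInverseOf L (ClSub.idealMod i.ker)) (ω : X.Modules)
    [ModSite.HasSheafHom (O := X.sheaf) ((Scheme.Modules.pushforward i).obj (Coh.structureModule D))]
    [HasInjectiveResolutions (ModSite.Mod X.sheaf)] :
    Nonempty ((ModSite.extSh (O := X.sheaf) ((Scheme.Modules.pushforward i).obj (Coh.structureModule D)) 1).obj ω ≅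
      CohB1.tensorMod ((Scheme.Modules.pushforward i).obj (Coh.structureModule D)) (CohB1.tensorMod L ω)) := by
  obtain ⟨eL⟩ := hL
  obtain ⟨eD⟩ := nonempty_push_iso_quotMod i
  haveI : ModSite.HasSheafHom (O := X.sheaf) (ClSub.quotMod i.ker) := Groth.L17.Duality.hasSheafHom _
  haveI : HasInjectiveResolutions X.Modules := ‹HasInjectiveResolutions (ModSite.Mod X.sheaf)›
  obtain ⟨e⟩ := nonempty_extSh_one_seq eL (ClSub.idealModι i.ker) (ClSub.toSubscheme i.ker)
    (kernel.condition _) (shortExact_idealSeq i.ker) ω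
  exact ⟨(Groth.L10.SiteCoh.rightDerivedCongr (Groth.L17.Duality.homCongr eD) 1).app ω ≪≫ e ≪≫
    tensorIso eD.symm (Iso.refl _)⟩

end Groth.L29.ExtDivisor
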