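import Groth.Agent.L00.KFlatPull
import Groth.Agent.L00.TensorRestrict
import Groth.Agent.L29.DCoh.TensorPerfect
import Groth.Agent.L29.DCoh.QCohTensor
import Groth.Prelude.Def_CxOX
import Mathlib.CategoryTheory.Adjunction.Triple

/-!
Extension by zero along an open immersion: stalks, exactness, projection formula.
-/

set_option autoImplicit false
set_option backward.isDefEq.respectTransparency false
set_option backward.isDefEq.respectTransparency.types false

universe u

open CategoryTheory CategoryTheory.Limits AlgebraicGeometry Opposite MonoidalCategory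

namespace Groth.L29.DC.ExtZero

open Groth.L00 Groth.L00.Tensor

variable {X U : Scheme.{u}} (j : U ⟶ X) [IsOpenImmersion j]

/-- restriction -/
noncomputable abbrev res : X.Modules ⥤ U.Modules := Scheme.Modules.restrictFunctor j

instance isIso_unit : IsIso (CxOX.extZeroAdj j).unit := by
  let t : Adjunction.Triple (CxOX.extZero j) (res j) (Scheme.Modules.pushforward j) :=
    ⟨CxOX.extZeroAdj j, Scheme.Modules.restrictAdjunction j⟩
  exact t.isIso_unit_iff_isIso_counit.2 inferInstance

/-- restricting an extension by zero -/
noncomputable def unitIso : 𝟭 U.Modules ≅ CxOX.extZero j ⋙ res j := asIso (CxOX.extZeroAdj j).unit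

/-- extensions by zero vanish outside -/
theorem isZero_stalk {x : X} (hx : x ∉ Set.range j.base) (A : U.Modules) :
    IsZero ((Stk.F X x).obj ((CxOX.extZero j).obj A)) := by
  have hz : ∀ N : ModuleCat.{u} (X.presheaf.stalk x), IsZero ((res j).obj ((Sky.skyF x).obj N)) := fun N => by
    rw [IsZero.iff_id_eq_zero]
    refine Scheme.Modules.hom_ext _ _ fun V => ?_
    ext s
    exact funext fun h => absurd (by
      obtain ⟨y, -, hy⟩ := h.down
      exact ⟨y, hy⟩) hx
  let adj := (CxOX.extZeroAdj j).comp ((Sky.adj x).comp (Adjunction.id))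
  rw [IsZero.iff_id_eq_zero]
  exact (((CxOX.extZeroAdj j).comp (Sky.adj x)).homEquiv A _).injective ((hz _).eq_of_tgt _ _)

/-- a module with vanishing restriction and vanishing outside is zero -/
theorem isZero_of (M : X.Modules) (h : IsZero ((res j).obj M))
    (h' : ∀ x, x ∉ Set.range j.base → IsZero ((Stk.F X x).obj M)) : IsZero M := by
  refine (Stk.isZero_iff M).2 fun x => ?_
  by_cases hx : x ∈ Set.range j.base
  · obtain ⟨y, rfl⟩ := hx
    have h1 := (Stk.F U y).map_isZero (h.of_iso ((Scheme.Modules.restrictFunctorIsoPullback j).app M).symm)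
    have h2 : IsZero ((ModuleCat.extendScalars (PullStalk.φ j y)).obj ((Stk.F X (j y)).obj M)) :=
      h1.of_iso ((PullStalk.stalkIso j y).app M).symm
    letI := (PullStalk.φ j y).toAlgebra
    have hs : Subsingleton (TensorProduct (X.presheaf.stalk (j y)) (U.presheaf.stalk y) ((Stk.F X (j y)).obj M)) :=
      ModuleCat.subsingleton_of_isZero h2
    haveI : Subsingleton ((Stk.F X (j y)).obj M) :=
      (Equiv.subsingleton_congr ((TensorProduct.lid (X.presheaf.stalk (j y)) ((Stk.F X (j y)).obj M)).symm.trans
        (TensorProduct.congr (LinearEquiv.ofBijective (Algebra.linearMap (X.presheaf.stalk (j y)) (U.presheaf.stalk y))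
          (ConcreteCategory.bijective_of_isIso (j.stalkMap y))) (LinearEquiv.refl _ _))).toEquiv).2 hs
    exact ModuleCat.isZero_of_subsingleton _
  · exact h' x hx

/-- isomorphism criterion -/
theorem isIso_of {M N : X.Modules} (f : M ⟶ N) [IsIso ((res j).map f)]
    (hM : ∀ x, x ∉ Set.range j.base → IsZero ((Stk.F X x).obj M))
    (hN : ∀ x, x ∉ Set.range j.base → IsZero ((Stk.F X x).obj N)) : IsIso f := by
  haveI : Mono f := Preadditive.mono_of_isZero_kernel f <| isZero_of j _
    ((isZero_kernel_of_mono ((res j).map f)).of_iso (PreservesKernel.iso (res j) f))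
    fun x hx => (hM x hx).of_mono ((Stk.F X x).map (kernel.ι f))
  haveI : Epi f := Preadditive.epi_of_isZero_cokernel f <| isZero_of j _
    ((isZero_cokernel_of_epi ((res j).map f)).of_iso (PreservesCokernel.iso (res j) f))
    fun x hx => (hN x hx).of_epi ((Stk.F X x).map (cokernel.π f))
  exact isIso_of_mono_of_epi f

theorem preservesFiniteLimits : PreservesFiniteLimits (CxOX.extZero j) := by
  haveI : (CxOX.extZero j).PreservesMonomorphisms := ⟨fun {A B} f _ => by
    haveI : Mono ((res j).map ((CxOX.extZero j).map f)) := by
      haveI : Mono (f ≫ (unitIso j).hom.app B) := mono_comp _ _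
      haveI : Mono ((unitIso j).hom.app A ≫ (res j).map ((CxOX.extZero j).map f)) := by
        rw [show (unitIso j).hom.app A ≫ (res j).map ((CxOX.extZero j).map f) = f ≫ (unitIso j).hom.app B from
          ((unitIso j).hom.naturality f).symm]
        infer_instance
      exact (mono_comp_iff_of_isIso ((unitIso j).hom.app A) _).1 inferInstance
    exact Preadditive.mono_of_isZero_kernel _ <| isZero_of j _
      ((isZero_kernel_of_mono ((res j).map ((CxOX.extZero j).map f))).of_iso (PreservesKernel.iso (res j) _))
      fun x hx => (isZero_stalk j hx A).of_mono ((Stk.F X x).map (kernel.ι _))⟩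
  haveI : (CxOX.extZero j).PreservesHomology :=
    Functor.preservesHomology_of_preservesMonos_and_cokernels _
  exact Functor.preservesFiniteLimits_of_preservesHomology _

/-- the comparison of the projection formula -/
noncomputable def proj (A : U.Modules) (B : X.Modules) :
    (CxOX.extZero j).obj (CohB1.tensorMod A ((res j).obj B)) ⟶ CohB1.tensorMod ((CxOX.extZero j).obj A) B :=
  ((CxOX.extZeroAdj j).homEquiv _ _).symm
    ((tensorIso ((unitIso j).app A) (Iso.refl ((res j).obj B))).hom ≫ (tensorRestrict j _ B).hom)

instance isIso_proj (A : U.Modules) (B : X.Modules) : IsIso (proj j A B) := by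
  haveI : IsIso ((res j).map (proj j A B)) := by
    have h : (unitIso j).hom.app (CohB1.tensorMod A ((res j).obj B)) ≫ (res j).map (proj j A B) =
        (tensorIso ((unitIso j).app A) (Iso.refl ((res j).obj B))).hom ≫ (tensorRestrict j _ B).hom :=
      ((CxOX.extZeroAdj j).homEquiv_unit (f := proj j A B)).symm.trans
        (((CxOX.extZeroAdj j).homEquiv _ _).apply_symm_apply _)
    exact (isIso_comp_left_iff ((unitIso j).hom.app _) _).1 (h ▸ inferInstance)
  refine isIso_of j _ (fun x hx => isZero_stalk j hx _) fun x hx => ?_
  refine IsZero.of_iso ?_ (Stk.τ x ((CxOX.extZero j).obj A) B).symm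
  haveI : Subsingleton ((Stk.F X x).obj ((CxOX.extZero j).obj A)) :=
    ModuleCat.subsingleton_of_isZero (isZero_stalk j hx A)
  haveI : Subsingleton (StalkTensor.St (pre ((CxOX.extZero j).obj A)) x) :=
    ModuleCat.subsingleton_of_isZero (isZero_stalk j hx A)
  haveI : Subsingleton (TensorProduct (StalkTensor.Ox X x) (StalkTensor.St (pre ((CxOX.extZero j).obj A)) x)
      (StalkTensor.St (pre B) x)) := by
    refine subsingleton_of_forall_eq 0 fun z => ?_
    induction z with
    | zero => rfl
    | tmul a b => rw [Subsingleton.elim a 0, TensorProduct.zero_tmul]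
    | add a b ha hb => rw [ha, hb, add_zero]
  exact ModuleCat.isZero_of_subsingleton _

/-- the projection formula -/
noncomputable def projIso (A : U.Modules) (B : X.Modules) :
    CohB1.tensorMod ((CxOX.extZero j).obj A) B ≅ (CxOX.extZero j).obj (CohB1.tensorMod A ((res j).obj B)) :=
  (asIso (proj j A B)).symm

theorem proj_natural {A A' : U.Modules} {B B' : X.Modules} (f : A ⟶ A') (g : B ⟶ B') :
    (CxOX.extZero j).map (tensorMap f ((res j).map g)) ≫ proj j A' B' =
      proj j A B ≫ tensorMap ((CxOX.extZero j).map f) g := by
  unfold proj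
  rw [← Adjunction.homEquiv_naturality_left_symm, ← Adjunction.homEquiv_naturality_right_symm]
  refine congrArg _ ?_
  have h : tensorMap f ((res j).map g) ≫ (tensorIso ((unitIso j).app A') (Iso.refl ((res j).obj B'))).hom =
      (tensorIso ((unitIso j).app A) (Iso.refl ((res j).obj B))).hom ≫
        tensorMap ((res j).map ((CxOX.extZero j).map f)) ((res j).map g) := by
    change tensorMap f ((res j).map g) ≫ tensorMap ((unitIso j).hom.app A') (𝟙 _) =
      tensorMap ((unitIso j).hom.app A) (𝟙 _) ≫ _
    rw [← tensorMap_comp, ← tensorMap_comp, Category.comp_id, Category.id_comp]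
    exact congrArg (fun t => tensorMap t ((res j).map g)) ((unitIso j).hom.naturality f)
  rw [← Category.assoc, h, Category.assoc, Category.assoc, tensorRestrict_natural j ((CxOX.extZero j).map f) g]

theorem projIso_natural {A A' : U.Modules} {B B' : X.Modules} (f : A ⟶ A') (g : B ⟶ B') :
    tensorMap ((CxOX.extZero j).map f) g ≫ (projIso j A' B').hom =
      (projIso j A B).hom ≫ (CxOX.extZero j).map (tensorMap f ((res j).map g)) :=
  (Iso.eq_inv_comp (asIso (proj j A B))).2 (by
    rw [← Category.assoc]
    exact (Iso.comp_inv_eq (asIso (proj j A' B'))).2 (proj_natural j f g).symm)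

end Groth.L29.DC.ExtZero
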