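import Groth.Agent.S11919
import Groth.Agent.L22.ExtSh.Coherence
import Groth.Agent.L22.ExtSh.Vanish
import Groth.Agent.L22.Inter.Fga
import Groth.Agent.L17.AffinePush
import Groth.Agent.L10.SpSeq.Abstract
import Groth.Agent.L13.ModFibre
import Groth.Agent.L04.RegularPd
import Groth.Agent.L16.SchSupport
import Groth.Agent.L10.DerTrunc
import Groth.Agent.L17.Duality
import Groth.Prelude.Def_DCoh2
import Groth.Prelude.Def_Models

/-! Ext between coherent modules on a regular scheme vanishes above the dimension. -/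

set_option autoImplicit false
set_option backward.isDefEq.respectTransparency false
set_option backward.isDefEq.respectTransparency.types false
set_option backward.defeqAttrib.useBackward true
set_option linter.style.haveILetI false
universe u

open CategoryTheory CategoryTheory.Limits AlgebraicGeometry TopologicalSpace
open CategoryTheory.Pretriangulated

attribute [local instance] HasDerivedCategory.standard

noncomputable section

namespace Groth.L29.DC.RegExt

variable {X : Scheme.{u}}

section Dim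

attribute [local instance] specializationOrder

/-- the dimension of a closed subscheme is bounded by the codimensions of its points -/
theorem dim_le_sub {Z : Scheme.{u}} (i : Z ⟶ X) [IsClosedImmersion i] {d q : ℕ}
    (hd : topologicalKrullDim X ≤ d) (hq : ∀ z : Z, (q : WithBot ℕ∞) ≤ ringKrullDim (X.presheaf.stalk (i z))) :
    topologicalKrullDim Z ≤ ((d - q : ℕ) : WithBot ℕ∞) := by
  rw [Groth.L13.ModFibre.topologicalKrullDim_eq_points] at hd ⊢
  refine iSup_le fun p => ?_
  have hmono : StrictMono (i : Z → X) := fun a b hab => by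
    have h : ∀ a b : Z, a ≤ b → i a ≤ i b := fun a b h => Specializes.map h i.continuous
    refine lt_of_le_of_ne (h a b hab.le) fun e => hab.ne (i.isClosedEmbedding.injective e)
  have h1 : (p.length : ℕ∞) ≤ Order.height (i p.last) :=
    Order.length_le_height (p := p.map i hmono) le_rfl
  have h2 : (q : ℕ∞) ≤ Order.coheight (i p.last) := by
    have := hq p.last
    rw [ringKrullDim_stalk_eq_coheight] at this
    exact_mod_cast this
  have h3 : ((Order.height (i p.last) + Order.coheight (i p.last) : ℕ∞) : WithBot ℕ∞) ≤ (d : WithBot ℕ∞) := by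
    haveI : Nonempty X := ⟨i p.last⟩
    refine le_trans ?_ hd
    rw [Order.krullDim_eq_iSup_height_add_coheight_of_nonempty]
    exact_mod_cast le_iSup (fun a : X => Order.height a + Order.coheight a) (i p.last)
  have h4 : ((p.length + q : ℕ) : ℕ∞) ≤ (d : ℕ∞) := by
    push_cast
    exact (add_le_add h1 h2).trans (WithBot.coe_le_coe.1 h3)
  have h5 : p.length ≤ d - q := by have := ENat.coe_le_coe.1 h4; omega
  exact WithBot.coe_le_coe.2 (ENat.coe_le_coe.2 h5)

end Dim

/-- the sheaf Ext terms contribute nothing above the dimension -/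
theorem subsingleton_HH_extSh [AlgebraicGeometry.IsNoetherian X] (hreg : Models.IsRegularScheme X) {d : ℕ}
    (hd : topologicalKrullDim X ≤ d) {F G : X.Modules} (hF : Coh.IsCoh F) (hG : Coh.IsCoh G)
    [ModSite.HasSheafHom (O := X.sheaf) F] [HasInjectiveResolutions (ModSite.Mod X.sheaf)]
    (p q : ℕ) (hpq : d < p + q) :
    Subsingleton (Coh.HH X ((ModSite.extSh (O := X.sheaf) F q).obj G) p) := by
  set E := (ModSite.extSh (O := X.sheaf) F q).obj G
  have hE : Coh.IsCoh E := Groth.L22.ExtSh.isCoh_extSh hF hG q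
  have hq : ∀ x ∈ CohB1.support E, (q : WithBot ℕ∞) ≤ ringKrullDim (X.presheaf.stalk x) := by
    intro x hx
    by_contra hlt
    haveI := hreg x
    obtain ⟨m, hm⟩ : ∃ m : ℕ, ringKrullDim (X.presheaf.stalk x) = m :=
      ⟨_, (isRegularLocalRing_iff _).1 (hreg x) |>.symm⟩
    refine hx ?_
    obtain ⟨e⟩ := Groth.L22.ExtSh.nonempty_stalk_extSh F hF G x q
    haveI := Groth.L04.hasProjectiveDimensionLE_of_regularLocal hm
      ((Groth.L00.Stk.F X x).obj F)
    haveI hsub : Subsingleton (Abelian.Ext ((Groth.L00.Stk.F X x).obj F) ((Groth.L00.Stk.F X x).obj G) q) :=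
      HasProjectiveDimensionLT.subsingleton ((Groth.L00.Stk.F X x).obj F) (m + 1) q (by
        rw [hm] at hlt
        have : m < q := ENat.coe_lt_coe.1 (WithBot.coe_lt_coe.1 (not_le.1 hlt))
        omega) _
    haveI : Subsingleton (Abelian.Ext ((Groth.L22.ExtSh.stkS x).obj F) ((Groth.L22.ExtSh.stkS x).obj G) q) :=
      (Groth.L22.ExtSh.ext_restr_iff (Groth.L22.ExtSh.ringIso x).commRingCatIsoToRingEquiv
      ((Groth.L00.Stk.F X x).obj F) ((Groth.L00.Stk.F X x).obj G) q).2 hsub
    exact e.toEquiv.subsingleton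
  haveI := hE.1
  let J := Groth.L16.SchSupport.annIdeal hE
  haveI := Groth.L16.SchSupport.isIso_unit_annIdeal hE
  let i := J.subschemeι
  haveI : IsLocallyNoetherian J.subscheme := LocallyOfFiniteType.isLocallyNoetherian i
  haveI : CompactSpace J.subscheme := QuasiCompact.compactSpace_of_compactSpace i
  haveI : AlgebraicGeometry.IsNoetherian J.subscheme := { }
  rcases isEmpty_or_nonempty J.subscheme with hem | hne
  · refine Groth.L03.Euler.subsingleton_HH_of_isZero
      ((Groth.L21.Mod.isZero_iff_stalk_subsingleton _).2 fun x => ?_) p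
    by_contra hx
    have hx' : x ∈ CohB1.support E := hx
    rw [← Groth.L16.SchSupport.coe_support_annIdeal hE, ← J.range_subschemeι] at hx'
    obtain ⟨z, -⟩ := hx'
    exact hem.false z
  · have hdim : topologicalKrullDim J.subscheme ≤ ((d - q : ℕ) : WithBot ℕ∞) := by
      refine dim_le_sub i hd fun z => hq _ ?_
      rw [← Groth.L16.SchSupport.coe_support_annIdeal hE]
      exact J.range_subschemeι.le ⟨z, rfl⟩
    obtain ⟨z⟩ := hne
    have hqd : q ≤ d := by
      have hz := hq (i z) (by rw [← Groth.L16.SchSupport.coe_support_annIdeal hE]; exact J.range_subschemeι.le ⟨z, rfl⟩)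
      exact_mod_cast hz.trans ((Groth.L13.ModFibre.ringKrullDim_stalk_le_topologicalKrullDim (i z)).trans hd)
    haveI := Groth.L22.Inter.subsingleton_HH_of_dim hdim ((Scheme.Modules.pullback i).obj E) (n := p) (by omega)
    obtain ⟨e⟩ := Groth.L17.nonempty_HH_push_of_isClosedImmersion i ((Scheme.Modules.pullback i).obj E) p
    haveI := e.symm.toEquiv.subsingleton
    exact Groth.L16.ProjSpace.subsingleton_of_iso
      (asIso ((Scheme.Modules.pullbackPushforwardAdjunction i).unit.app E)) p this

/-- an abutment with vanishing second page in a degree vanishes in that degree -/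
theorem isZero_abutment {E : E₂CohomologicalSpectralSequence AddCommGrpCat.{u}} {H : ℤ → AddCommGrpCat.{u}}
    (a : SpSeq.Abutment E H) (n : ℤ) (hfin : a.IsFinite n)
    (h2 : ∀ p q : ℤ, p + q = n → IsZero ((E.page 2 le_rfl).X (p, q))) : IsZero (H n) := by
  obtain ⟨⟨lo, hlo⟩, hi', hhi⟩ := hfin
  have hgr : ∀ p, IsZero (SpSeq.grPiece (a.fil n) (a.anti n) p) := fun p => by
    have hrk := (a.stat (p, n - p)).1
    have hpi : p + (n - p) = n := by omega
    have h := Groth.L10.SpSeqAbs.isZero_le E 2 (a.rk (p, n - p)) hrk le_rfl (p, n - p) (h2 p (n - p) hpi)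
    have h' := IsZero.of_iso h (a.β (p, n - p)).symm
    exact IsZero.of_iso h' (eqToIso (congrArg (fun m => SpSeq.grPiece (a.fil m) (a.anti m) p) hpi)).symm
  have hstep : ∀ (k : ℕ) (p : ℤ), hi' ≤ p + k → a.fil n p = ⊥ := by
    intro k
    induction k with
    | zero => intro p hp; exact le_bot_iff.1 ((a.anti n (by omega : hi' ≤ p)).trans (le_of_eq hhi))
    | succ k ih =>
      intro p hp
      have hle : a.fil n (p + 1) ≤ a.fil n p := a.anti n (Int.le_add_one le_rfl)
      have hb := ih (p + 1) (by omega)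
      haveI : Epi (Subobject.ofLE _ _ hle) := Abelian.epi_of_cokernel_π_eq_zero _ ((hgr p).eq_of_tgt _ _)
      haveI : IsIso (Subobject.ofLE _ _ hle) := isIso_of_mono_of_epi _
      refine le_bot_iff.1 (le_of_le_of_eq ?_ hb)
      exact Subobject.le_of_comm (inv (Subobject.ofLE _ _ hle)) (by
        rw [IsIso.inv_comp_eq, Subobject.ofLE_arrow])
  have h := hstep (hi' - lo).toNat lo (by omega)
  have hlo' : a.fil n lo = ⊤ := hlo
  rw [hlo'] at h
  exact IsZero.of_iso ((isZero_zero _).of_iso Subobject.botCoeIsoZero)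
    ((Subobject.isoOfEq _ _ h).symm ≪≫ asIso (⊤ : Subobject (H n)).arrow).symm

theorem subsingleton_ext [AlgebraicGeometry.IsNoetherian X] [HasExt.{u} X.Modules]
    (hreg : Models.IsRegularScheme X) {d : ℕ} (hd : topologicalKrullDim X ≤ d) {F G : X.Modules}
    (hF : Coh.IsCoh F) (hG : Coh.IsCoh G) (n : ℕ) (hn : d < n) : Subsingleton (Abelian.Ext F G n) := by
  haveI := Groth.L17.Duality.hasSheafHom F
  haveI : HasInjectiveResolutions X.Modules := Groth.L17.PushQCoh.hasInjectiveResolutions X
  haveI : HasInjectiveResolutions (ModSite.Mod X.sheaf) := ‹HasInjectiveResolutions X.Modules›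
  obtain ⟨E, a, hfin, -, hpage⟩ := Groth.Agent.S11919.result X F G
  have h := isZero_abutment a (n : ℤ) (hfin n) fun p q hpq => by
    obtain ⟨e⟩ := hpage p q
    refine IsZero.of_iso ?_ e
    by_cases hc : 0 ≤ p ∧ 0 ≤ q
    · rw [if_pos hc]
      haveI := subsingleton_HH_extSh hreg hd hF hG p.toNat q.toNat (by omega)
      exact AddCommGrpCat.isZero_of_subsingleton _
    · rw [if_neg hc]
      exact isZero_zero _
  rw [if_pos (by simp), Int.toNat_natCast] at h
  exact AddCommGrpCat.subsingleton_of_isZero h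

theorem hom_inD_eq_zero [AlgebraicGeometry.IsNoetherian X] (hreg : Models.IsRegularScheme X) {d : ℕ}
    (hd : topologicalKrullDim X ≤ d) {F G : X.Modules} (hF : Coh.IsCoh F) (hG : Coh.IsCoh G) (n : ℤ)
    (hn : (d : ℤ) < n) (φ : DCoh.inD X F ⟶ (shiftFunctor (DCoh.D X) n).obj (DCoh.inD X G)) : φ = 0 := by
  haveI : HasInjectiveResolutions X.Modules := Groth.L17.PushQCoh.hasInjectiveResolutions X
  haveI : EnoughInjectives X.Modules := inferInstance
  haveI : HasExt.{u} X.Modules := CategoryTheory.hasExt_of_enoughInjectives.{u} X.Modules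
  obtain ⟨m, rfl⟩ := Int.eq_ofNat_of_zero_le (show 0 ≤ n by omega)
  haveI := subsingleton_ext hreg hd hF hG m (by omega)
  exact (Abelian.Ext.homEquiv (X := F) (Y := G) (n := m)).symm.injective (Subsingleton.elim _ _)

/-- maps between cohomology in degrees far apart vanish -/
theorem hom_single_eq_zero [AlgebraicGeometry.IsNoetherian X] (hreg : Models.IsRegularScheme X) {d : ℕ}
    (hd : topologicalKrullDim X ≤ d) {F G : X.Modules} (hF : Coh.IsCoh F) (hG : Coh.IsCoh G) (i j : ℤ)
    (h : j + d < i) (φ : (DerivedCategory.singleFunctor X.Modules i).obj F ⟶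
      (DerivedCategory.singleFunctor X.Modules j).obj G) : φ = 0 := by
  let S := DerivedCategory.singleFunctors X.Modules
  apply (shiftFunctor (DCoh.D X) i).map_injective
  rw [Functor.map_zero]
  have h0 := hom_inD_eq_zero hreg hd hF hG (i - j) (by omega)
    ((S.shiftIso i 0 i (by omega)).inv.app F ≫ φ⟦i⟧' ≫ (S.shiftIso i (j - i) j (by omega)).hom.app G ≫
      ((S.shiftIso (i - j) (j - i) 0 (by omega)).inv.app G))
  rw [← cancel_epi ((S.shiftIso i 0 i (by omega)).inv.app F),
    ← cancel_mono ((S.shiftIso i (j - i) j (by omega)).hom.app G ≫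
      ((S.shiftIso (i - j) (j - i) 0 (by omega)).inv.app G))]
  simp only [zero_comp, comp_zero, Category.assoc] at h0 ⊢
  exact h0

local notation "tt" => DerivedCategory.TStructure.t

theorem isCoh_of_isZero' [AlgebraicGeometry.IsNoetherian X] {M : X.Modules} (h : IsZero M) : Coh.IsCoh M :=
  Groth.L16.Devissage.isCoh_of_isZero h

theorem isCohD_trunc [AlgebraicGeometry.IsNoetherian X] {K : DCoh.D X} (hK : DCoh.IsCohD K) (a : ℤ) :
    DCoh.IsCohD ((tt).truncLT a |>.obj K) ∧ DCoh.IsCohD ((tt).truncGE a |>.obj K) := by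
  constructor <;> intro m <;> by_cases h : m < a
  · haveI := Groth.L10.isIso_H_ι a m h K
    exact Groth.L16.CohSupport.isCoh_of_iso
      (asIso ((DerivedCategory.homologyFunctor X.Modules m).map (((tt).truncLTι a).app K))).symm (hK m)
  · exact isCoh_of_isZero' (Groth.L10.isZero_H_LT a m (by omega) K)
  · exact isCoh_of_isZero' (Groth.L10.isZero_H_GE a m h K)
  · haveI := Groth.L10.isIso_H_π a m (by omega) K
    exact Groth.L16.CohSupport.isCoh_of_iso
      (asIso ((DerivedCategory.homologyFunctor X.Modules m).map (((tt).truncGEπ a).app K))) (hK m)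

theorem eq_zero_of_trunc {Y L : DCoh.D X} (m : ℤ)
    (h1 : ∀ ψ : ((tt).truncLT m).obj Y ⟶ L, ψ = 0) (h2 : ∀ ψ : ((tt).truncGE m).obj Y ⟶ L, ψ = 0)
    (φ : Y ⟶ L) : φ = 0 := by
  obtain ⟨ψ, hψ⟩ := Triangle.yoneda_exact₂ _ ((tt).triangleLTGE_distinguished m Y) φ (h1 _)
  have h0 : ψ = 0 := h2 ψ
  rw [hψ, h0, comp_zero]

theorem eq_zero_of_trunc' {Y L : DCoh.D X} (m : ℤ)
    (h1 : ∀ ψ : Y ⟶ ((tt).truncLT m).obj L, ψ = 0) (h2 : ∀ ψ : Y ⟶ ((tt).truncGE m).obj L, ψ = 0)
    (φ : Y ⟶ L) : φ = 0 := by
  obtain ⟨ψ, hψ⟩ := Triangle.coyoneda_exact₂ _ ((tt).triangleLTGE_distinguished m L) φ (h2 _)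
  have h0 : ψ = 0 := h1 ψ
  rw [hψ, h0, zero_comp]

variable [AlgebraicGeometry.IsNoetherian X]

theorem hom_single_bounded (hreg : Models.IsRegularScheme X) {d : ℕ} (hd : topologicalKrullDim X ≤ d)
    {F : X.Modules} (hF : Coh.IsCoh F) (i : ℤ) : ∀ (k : ℕ) (L : DCoh.D X) (lo hi : ℤ), DCoh.IsCohD L →
    L.IsGE lo → L.IsLE hi → hi < lo + k → hi + d < i →
    ∀ φ : (DerivedCategory.singleFunctor X.Modules i).obj F ⟶ L, φ = 0
  | 0, L, lo, hi, _, hge, hle, hk, _, φ => by
    haveI := hge; haveI := hle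
    exact ((tt).isZero L hi lo (by omega)).eq_of_tgt _ _
  | k + 1, L, lo, hi, hL, hge, hle, hk, hi', φ => by
    haveI := hge; haveI := hle
    refine eq_zero_of_trunc' hi (fun ψ => ?_) (fun ψ => ?_) φ
    · haveI : ((tt).truncLT hi).obj L |>.IsGE lo := inferInstance
      haveI : ((tt).truncLT hi).obj L |>.IsLE (hi - 1) := inferInstance
      exact hom_single_bounded hreg hd hF i k _ lo (hi - 1) (isCohD_trunc hL hi).1 inferInstance inferInstance
        (by omega) (by omega) ψ
    · haveI : ((tt).truncGE hi).obj L |>.IsGE hi := inferInstance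
      haveI : ((tt).truncGE hi).obj L |>.IsLE hi := inferInstance
      obtain ⟨e⟩ := Groth.L10.exists_iso_single_H (((tt).truncGE hi).obj L) hi
      have := hom_single_eq_zero hreg hd hF ((isCohD_trunc hL hi).2 hi) i hi hi' (ψ ≫ e.hom)
      exact (cancel_mono e.hom).1 (this.trans zero_comp.symm)

theorem hom_bounded (hreg : Models.IsRegularScheme X) {d : ℕ} (hd : topologicalKrullDim X ≤ d)
    (L : DCoh.D X) (lo hi : ℤ) (hL : DCoh.IsCohD L) [L.IsGE lo] [L.IsLE hi] :
    ∀ (k : ℕ) (K : DCoh.D X) (a b : ℤ), DCoh.IsCohD K → K.IsGE a → K.IsLE b → b < a + k → hi + d < a →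
    ∀ φ : K ⟶ L, φ = 0
  | 0, K, a, b, _, hge, hle, hk, _, φ => by
    haveI := hge; haveI := hle
    exact ((tt).isZero K b a (by omega)).eq_of_src _ _
  | k + 1, K, a, b, hK, hge, hle, hk, ha, φ => by
    haveI := hge; haveI := hle
    by_cases hab : b < a
    · exact ((tt).isZero K b a hab).eq_of_src _ _
    refine eq_zero_of_trunc b (fun ψ => ?_) (fun ψ => ?_) φ
    · exact hom_bounded hreg hd L lo hi hL k _ a (b - 1) (isCohD_trunc hK b).1 inferInstance inferInstance
        (by omega) ha ψ
    · haveI : ((tt).truncGE b).obj K |>.IsGE b := inferInstance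
      haveI : ((tt).truncGE b).obj K |>.IsLE b := inferInstance
      obtain ⟨e⟩ := Groth.L10.exists_iso_single_H (((tt).truncGE b).obj K) b
      have := hom_single_bounded hreg hd ((isCohD_trunc hK b).2 b) b (hi + 1 - lo).toNat L lo hi hL
        inferInstance inferInstance (by omega) (by omega) (e.inv ≫ ψ)
      exact (cancel_epi e.inv).1 (this.trans comp_zero.symm)

end Groth.L29.DC.RegExt
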