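import Groth.Agent.S11919
import Groth.Agent.L29.DCoh.RegExtVanish
import Groth.Agent.L22.ExtSh.Coherence
import Groth.Agent.L22.ExtSh.RestrictHom
import Groth.Agent.L22.ExtSh.DualSheaf
import Groth.Agent.L22.ExtSh.Vanish
import Groth.Agent.L29.LocFree
import Groth.Agent.L04.SupportSh.Restrict
import Groth.Agent.L14.Quot.Scalar
import Groth.Agent.L07.WRegLimit
import Groth.Agent.L17.Duality
import Groth.Prelude.Def_RegImm
import Mathlib.RingTheory.Regular.Flat

/-! Ext out of modules on a regularly immersed closed subscheme vanishes below the codimension. -/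

set_option autoImplicit false
set_option backward.isDefEq.respectTransparency false
set_option backward.isDefEq.respectTransparency.types false
set_option linter.style.haveILetI false
universe u

open CategoryTheory CategoryTheory.Limits AlgebraicGeometry TopologicalSpace Opposite RingTheory.Sequence Pointwise

noncomputable section

namespace Groth.L29.DC.ExtRegImm

open Groth.L14.Quot (smulMod smulMod_app stMapₗ stMapₗ_smulMod)

variable {Y : Scheme.{u}}

theorem smulMod_nat {M N : Y.Modules} (f : M ⟶ N) (r : Γ(Y, ⊤)) :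
    smulMod M r ≫ f = f ≫ smulMod N r :=
  Scheme.Modules.hom_ext _ _ fun U => by
    ext m
    show f.app U ((smulMod M r).app U m) = (smulMod N r).app U (f.app U m)
    rw [smulMod_app, smulMod_app]
    exact f.app_smul _ _

theorem ext_smul_comm [HasExt.{u} Y.Modules] [EnoughInjectives Y.Modules] (r : Γ(Y, ⊤)) :
    ∀ (q : ℕ) (G E : Y.Modules) (z : Abelian.Ext G E q),
    z.comp (Abelian.Ext.mk₀ (smulMod E r)) (add_zero q) = (Abelian.Ext.mk₀ (smulMod G r)).comp z (zero_add q)
  | 0, G, E, z => by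
    obtain ⟨φ, rfl⟩ := (Abelian.Ext.mk₀_bijective G E).2 z
    rw [Abelian.Ext.mk₀_comp_mk₀, Abelian.Ext.mk₀_comp_mk₀, smulMod_nat]
  | q + 1, G, E, z => by
    let S := ShortComplex.mk (Injective.ι E) (cokernel.π (Injective.ι E)) (cokernel.condition _)
    have hS : S.ShortExact :=
      { exact := ShortComplex.exact_of_g_is_cokernel S (cokernelIsCokernel _)
        mono_f := inferInstanceAs (Mono (Injective.ι E))
        epi_g := inferInstanceAs (Epi (cokernel.π _)) }
    obtain ⟨w, rfl⟩ := Abelian.Ext.covariant_sequence_exact₁ G hS z (Abelian.Ext.eq_zero_of_injective _) rfl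
    let τ : S ⟶ S := ShortComplex.homMk (smulMod S.X₁ r) (smulMod S.X₂ r) (smulMod S.X₃ r)
      (smulMod_nat S.f r) (smulMod_nat S.g r)
    have hn := ShortComplex.ShortExact.extClass_naturality hS hS τ
    rw [Abelian.Ext.comp_assoc_of_third_deg_zero, show (smulMod E r) = τ.τ₁ from rfl, hn,
      ← Abelian.Ext.comp_assoc_of_second_deg_zero, show τ.τ₃ = smulMod S.X₃ r from rfl, ext_smul_comm r q]
    exact Abelian.Ext.comp_assoc _ _ _ (zero_add q) rfl (by omega)

/-- a chain of injective scalars -/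
def Chn : List Γ(Y, ⊤) → Y.Modules → Prop
  | [], _ => True
  | r :: rs, E => Mono (smulMod E r) ∧ Chn rs (cokernel (smulMod E r))

theorem subsingleton_ext_chn [HasExt.{u} Y.Modules] [EnoughInjectives Y.Modules] :
    ∀ (rs : List Γ(Y, ⊤)) (E : Y.Modules), Chn rs E → ∀ G : Y.Modules, (∀ r ∈ rs, smulMod G r = 0) →
    ∀ q : ℕ, q < rs.length → Subsingleton (Abelian.Ext G E q)
  | [], _, _, _, _, q, hq => absurd hq (Nat.not_lt_zero q)
  | r :: rs, E, ⟨hm, hc⟩, G, hG, q, hq => by
    refine subsingleton_of_forall_eq 0 fun z => ?_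
    have hz : z.comp (Abelian.Ext.mk₀ (smulMod E r)) (add_zero q) = 0 := by
      rw [ext_smul_comm r q G E z, hG r (List.mem_cons_self), Abelian.Ext.mk₀_zero, Abelian.Ext.zero_comp]
    cases q with
    | zero =>
      obtain ⟨φ, rfl⟩ := (Abelian.Ext.mk₀_bijective G E).2 z
      rw [Abelian.Ext.mk₀_comp_mk₀, Abelian.Ext.mk₀_eq_zero_iff] at hz
      haveI := hm
      rw [(cancel_mono (smulMod E r)).1 (hz.trans zero_comp.symm), Abelian.Ext.mk₀_zero]
    | succ p =>
      let S := ShortComplex.mk (smulMod E r) (cokernel.π (smulMod E r)) (cokernel.condition _)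
      have hS : S.ShortExact :=
        { exact := ShortComplex.exact_of_g_is_cokernel S (cokernelIsCokernel _)
          mono_f := hm
          epi_g := inferInstanceAs (Epi (cokernel.π _)) }
      obtain ⟨w, rfl⟩ := Abelian.Ext.covariant_sequence_exact₁ G hS z hz rfl
      haveI := subsingleton_ext_chn rs (cokernel (smulMod E r)) hc G
        (fun r' h' => hG r' (List.mem_cons_of_mem r h')) p (by simpa using hq)
      rw [show w = 0 from Subsingleton.elim (α := Abelian.Ext G (cokernel (smulMod E r)) p) w 0]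
      simp only [Abelian.Ext.zero_comp]

/-- germs of global functions -/
abbrev gm (y : Y) (r : Γ(Y, ⊤)) : Y.presheaf.stalk y := Y.presheaf.germ ⊤ y trivial r

theorem chn_of_stalk : ∀ (rs : List Γ(Y, ⊤)) (E : Y.Modules),
    (∀ y : Y, IsWeaklyRegular ((Groth.L00.Stk.F Y y).obj E) (rs.map (gm y))) → Chn rs E
  | [], _, _ => trivial
  | r :: rs, E, h => by
    have h' : ∀ y : Y, IsSMulRegular ((Groth.L00.Stk.F Y y).obj E) (gm y r) ∧
        IsWeaklyRegular (QuotSMulTop (gm y r) ((Groth.L00.Stk.F Y y).obj E)) (rs.map (gm y)) :=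
      fun y => (isWeaklyRegular_cons_iff _ _ _).1 (h y)
    refine ⟨(Groth.L21.Mod.mono_iff_stalk_injective _).2 fun y (a b : (Groth.L00.Stk.F Y y).obj E) hab => (h' y).1 ?_,
      chn_of_stalk rs _ fun y => ?_⟩
    · show gm y r • a = gm y r • b
      rw [← stMapₗ_smulMod E r y a, ← stMapₗ_smulMod E r y b]
      exact hab
    · let S := ShortComplex.mk (smulMod E r) (cokernel.π (smulMod E r)) (cokernel.condition _)
      have hS : S.Exact := ShortComplex.exact_of_g_is_cokernel S (cokernelIsCokernel _)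
      haveI : Epi S.g := inferInstanceAs (Epi (cokernel.π _))
      have hmap := hS.map (Groth.L00.Stk.F Y y)
      rw [ShortComplex.moduleCat_exact_iff] at hmap
      have hzero : ∀ w, stMapₗ (cokernel.π (smulMod E r)) y (stMapₗ (smulMod E r) y w) = 0 := fun w => by
        have := congr(($((S.map (Groth.L00.Stk.F Y y)).zero)).hom w)
        exact this
      have hsurj : Function.Surjective (stMapₗ (cokernel.π (smulMod E r)) y) :=
        (ModuleCat.epi_iff_surjective _).1 (inferInstanceAs (Epi ((Groth.L00.Stk.F Y y).map S.g)))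
      have hker : gm y r • (⊤ : Submodule (Y.presheaf.stalk y) ((Groth.L00.Stk.F Y y).obj E)) =
          LinearMap.ker (stMapₗ (cokernel.π (smulMod E r)) y) := by
        ext v
        rw [Submodule.mem_smul_pointwise_iff_exists, LinearMap.mem_ker]
        constructor
        · rintro ⟨w, -, rfl⟩
          exact (congrArg _ (stMapₗ_smulMod E r y w).symm).trans (hzero w)
        · intro hv
          obtain ⟨w, hw⟩ := hmap v hv
          exact ⟨w, trivial, (stMapₗ_smulMod E r y w).symm.trans hw⟩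
      exact (((Submodule.quotEquivOfEq _ _ hker).trans
        ((stMapₗ (cokernel.π (smulMod E r)) y).quotKerEquivOfSurjective hsurj)).isWeaklyRegular_congr _).1 (h' y).2

theorem weaklyRegular_stalk_free (E : Y.Modules) (hE : FlatMod.IsFinLocFree E) (y : Y)
    (rs : List (Y.presheaf.stalk y)) (h : IsWeaklyRegular (Y.presheaf.stalk y) rs) :
    IsWeaklyRegular ((Groth.L00.Stk.F Y y).obj E) rs := by
  haveI : Module.Finite (Y.presheaf.stalk y) ((Groth.L00.Stk.F Y y).obj E) :=
    Groth.L18.LFP.finite_stalk E (Groth.L18.LFP.isFP_of_isFinLocFree E hE) y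
  haveI : Module.Free (Y.presheaf.stalk y) ((Groth.L00.Stk.F Y y).obj E) :=
    Groth.L18.LFP.free_stalk E hE y
  exact ((Module.finBasis (Y.presheaf.stalk y) ((Groth.L00.Stk.F Y y).obj E)).equivFun.isWeaklyRegular_congr rs).2
    (Groth.L07.RegSeq.isWeaklyRegular_pi h _)

variable {X : Scheme.{u}}

/-- a section of `X` over `U`, on a smaller open subscheme -/
abbrev rV {U V : X.Opens} (h : V ≤ U) (r : Γ(X, U)) : Γ((V : Scheme.{u}), ⊤) :=
  V.ι.appLE U ⊤ (fun x _ => h x.2) r

theorem chn_open {U V : X.Opens} (hU : IsAffineOpen U) (h : V ≤ U) {rs : List Γ(X, U)}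
    (hrs : IsWeaklyRegular Γ(X, U) rs) (E : (V : Scheme.{u}).Modules) (hE : FlatMod.IsFinLocFree E) :
    Chn (rs.map (rV h)) E := by
  refine chn_of_stalk _ E fun y => weaklyRegular_stalk_free E hE y _ ?_
  have hy : (V.ι y) ∈ U := h y.2
  letI := X.presheaf.algebra_section_stalk (⟨V.ι y, hy⟩ : U)
  haveI := hU.isLocalization_stalk ⟨V.ι y, hy⟩
  have h1 : IsWeaklyRegular (X.presheaf.stalk (V.ι y))
      (rs.map (algebraMap Γ(X, U) (X.presheaf.stalk (V.ι y)))) :=
    hrs.of_isLocalization _ (hU.primeIdealOf ⟨V.ι y, hy⟩).asIdeal.primeCompl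
  let e := (asIso (V.ι.stalkMap y)).commRingCatIsoToRingEquiv
  refine (e.toAddEquiv.isWeaklyRegular_congr ?_).1 h1
  rw [List.map_map, List.forall₂_map_left_iff, List.forall₂_map_right_iff, List.forall₂_same]
  intro r _ x
  show (V.ι.stalkMap y) (X.presheaf.germ U (V.ι y) hy r * x) = gm y (rV h r) * (V.ι.stalkMap y) x
  rw [map_mul, Scheme.Hom.germ_stalkMap_apply]
  congr 1
  have i : (⊤ : (V : Scheme.{u}).Opens) ⟶ V.ι ⁻¹ᵁ U := homOfLE fun x _ => h x.2
  exact (TopCat.Presheaf.germ_res_apply (V : Scheme.{u}).presheaf i y (Opens.mem_top y) _).symm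

theorem smulMod_push_restrict_eq_zero {Z : Scheme.{u}} (i : Z ⟶ X) (F : Z.Modules) {U V : X.Opens} (h : V ≤ U)
    (r : Γ(X, U)) (hr : i.app U r = 0) :
    smulMod (((Scheme.Modules.pushforward i).obj F).restrict V.ι) (rV h r) = 0 := by
  refine Scheme.Modules.hom_ext _ _ fun W => ?_
  ext m
  rw [smulMod_app]
  show _ = (0 : Γ(((Scheme.Modules.pushforward i).obj F).restrict V.ι, W))
  refine (Groth.L22.ExtSh.restrict_smul_inv V.ι _ W _ m).trans ?_
  have hle : V.ι ''ᵁ W ≤ U := by rintro _ ⟨x, -, rfl⟩; exact h x.2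
  have e1 : (V.ι.appIso W).inv ((V : Scheme.{u}).presheaf.map (homOfLE le_top).op (rV h r)) =
      X.presheaf.map (homOfLE hle).op r := by
    refine Eq.trans ?_ (congr($(Scheme.Hom.appLE_appIso_inv V.ι (U := U) (V := W) (fun x _ => h x.2)) r))
    exact congrArg _ (congr($(V.ι.appLE_map (U := U) (fun x _ => h x.2) (homOfLE (le_top (a := W))).op) r))
  rw [e1]
  show i.app (V.ι ''ᵁ W) (X.presheaf.map (homOfLE hle).op r) • (show Γ(F, i ⁻¹ᵁ V.ι ''ᵁ W) from m) = _
  rw [show i.app (V.ι ''ᵁ W) (X.presheaf.map (homOfLE hle).op r) =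
    Z.presheaf.map _ (i.app U r) from congr($(i.naturality (homOfLE hle).op) r), hr, map_zero, zero_smul]

section Sec

open Groth.L16.HomSh
open Groth.L22.ExtSh (resSecHom bijective_resSecHom)

variable {M N N' : X.Modules} (V : X.Opens)

/-- global families are morphisms -/
def homOfSec {P Q : Y.Modules} (φ : Sec P Q ⊤) : P ⟶ Q :=
  ⟨PresheafOfModules.homMk
    { app := fun W => AddCommGrpCat.ofHom (ev φ (le_top : W.unop ≤ ⊤))
      naturality := fun W W' f => by
        ext x
        exact (ev_rs φ le_top f.unop.le x).symm }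
    (fun W a x => ev_smul φ le_top _ x)⟩

theorem homOfSec_bijective {P Q : Y.Modules} : Function.Bijective (homOfSec (P := P) (Q := Q)) := by
  refine ⟨fun φ ψ e => sec_ext fun W h x => congrArg (fun f : P ⟶ Q => f.app W x) e, fun f => ?_⟩
  refine ⟨⟨fun W => (f.app W.1).hom, fun W W' h h' x => (hom_app_rs f h' x).symm, fun W h a x => f.app_smul a x⟩, ?_⟩
  exact Scheme.Modules.hom_ext _ _ fun W => rfl

theorem ι_image_top : V.ι ''ᵁ (⊤ : (V : Scheme.{u}).Opens) = V := V.ι_image_top

/-- families on an open are morphisms on the open subscheme -/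
def toHom (s : Sec M N V) : M.restrict V.ι ⟶ N.restrict V.ι :=
  homOfSec (resSecHom V.ι ⊤ (resSec (ι_image_top V).le s))

theorem toHom_bijective : Function.Bijective (toHom V (M := M) (N := N)) := by
  refine homOfSec_bijective.comp ((bijective_resSecHom V.ι ⊤).comp ⟨fun a b e => sec_ext fun W h x => ?_, fun t => ?_⟩)
  · exact congrArg (fun φ : Sec M N (V.ι ''ᵁ ⊤) => ev φ (h.trans (ι_image_top V).ge) x) e
  · exact ⟨resSec (ι_image_top V).ge t, sec_ext fun W h x => rfl⟩

theorem toHom_post (g : N ⟶ N') (s : Γ(homMod M N, V)) :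
    toHom V (secEquiv V ((post M g).app V s)) =
      toHom V (secEquiv V s) ≫ (Scheme.Modules.restrictFunctor V.ι).map g :=
  Scheme.Modules.hom_ext _ _ fun W => by
    ext x
    rfl

theorem toHom_zero : toHom V (0 : Sec M N V) = 0 := Scheme.Modules.hom_ext _ _ fun W => by ext x; rfl

end Sec

/-- exactness from local lifting of sections -/
theorem exact_of_local (S : ShortComplex X.Modules)
    (h : ∀ (x : X) (U : X.Opens), x ∈ U → ∀ s : Γ(S.X₂, U), S.g.app U s = 0 →
      ∃ (V : X.Opens) (i : V ≤ U), x ∈ V ∧ ∃ t : Γ(S.X₁, V),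
        S.f.app V t = S.X₂.presheaf.map (homOfLE i).op s) : S.Exact := by
  rw [Groth.L21.Mod.exact_iff_stalk]
  intro x
  rw [ShortComplex.ab_exact_iff]
  intro z hz
  obtain ⟨U, hx, s, rfl⟩ := TopCat.Presheaf.exists_germ_eq (F := S.X₂.presheaf) z
  have h0 : S.X₃.presheaf.germ U x hx (S.g.app U s) = S.X₃.presheaf.germ U x hx 0 := by
    rw [map_zero]
    exact (TopCat.Presheaf.stalkFunctor_map_germ_apply U x hx _ s).symm.trans hz
  obtain ⟨W, hxW, iU, iU', e⟩ := TopCat.Presheaf.germ_eq _ x hx hx _ _ h0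
  obtain ⟨V, iV, hxV, t, ht⟩ := h x W hxW (S.X₂.presheaf.map iU.op s) (by
    rw [map_zero] at e
    exact (congr($(S.g.mapPresheaf.naturality iU.op) s)).trans e)
  refine ⟨S.X₁.presheaf.germ V x hxV t, ?_⟩
  refine (TopCat.Presheaf.stalkFunctor_map_germ_apply V x hxV _ t).trans ?_
  refine (congrArg _ ht).trans ?_
  exact (TopCat.Presheaf.germ_res_apply S.X₂.presheaf (homOfLE iV) x hxV _).trans
    (TopCat.Presheaf.germ_res_apply S.X₂.presheaf iU x hxW s)

theorem isFinLocFree_restrict {E : X.Modules} (hE : FlatMod.IsFinLocFree E) (V : X.Opens) :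
    FlatMod.IsFinLocFree (E.restrict V.ι) := by
  intro v
  obtain ⟨U, n, hx, ⟨e⟩⟩ := hE (V.ι v)
  exact ⟨V.ι ⁻¹ᵁ U, n, hx, ⟨(Scheme.Modules.restrictFunctorIsoPullback _).app _ ≪≫
    (Scheme.Modules.pullback _).mapIso ((Scheme.Modules.restrictFunctorIsoPullback _).app E) ≪≫
    (Scheme.Modules.pullbackComp (V.ι ⁻¹ᵁ U).ι V.ι).app E ≪≫
    (Scheme.Modules.pullbackCongr (morphismRestrict_ι V.ι U).symm).app E ≪≫
    ((Scheme.Modules.pullbackComp (V.ι ∣_ U) U.ι).app E).symm ≪≫
    (Scheme.Modules.pullback _).mapIso (((Scheme.Modules.restrictFunctorIsoPullback U.ι).app E).symm ≪≫ e) ≪≫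
    Groth.L29.LocFree.pullbackFreeIso (V.ι ∣_ U) n⟩⟩

theorem subsingleton_ext_restrict {Z : Scheme.{u}} (i : Z ⟶ X) (F : Z.Modules) {U V : X.Opens}
    (hU : IsAffineOpen U) (h : V ≤ U) {rs : List Γ(X, U)} (hrs : IsWeaklyRegular Γ(X, U) rs)
    (hker : ∀ r ∈ rs, i.app U r = 0) (E : X.Modules) (hE : FlatMod.IsFinLocFree E)
    [HasExt.{u} (V : Scheme.{u}).Modules] [EnoughInjectives (V : Scheme.{u}).Modules]
    (q : ℕ) (hq : q < rs.length) :
    Subsingleton (Abelian.Ext (((Scheme.Modules.pushforward i).obj F).restrict V.ι) (E.restrict V.ι) q) :=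
  subsingleton_ext_chn (rs.map (rV h)) _ (chn_open hU h hrs _ (isFinLocFree_restrict hE V)) _
    (fun r hr => by
      obtain ⟨r', hr', rfl⟩ := List.mem_map.1 hr
      exact smulMod_push_restrict_eq_zero i F h r' (hker r' hr'))
    q (by simpa using hq)

open Groth.L16.HomSh in
theorem exact_homModF_of_ext {M Eb : X.Modules} (R : InjectiveResolution Eb) (q : ℕ)
    (hloc : ∀ x : X, ∃ U : X.Opens, x ∈ U ∧ ∀ V : X.Opens, V ≤ U →
      ∀ [HasExt.{u} (V : Scheme.{u}).Modules], Subsingleton (Abelian.Ext (M.restrict V.ι) (Eb.restrict V.ι) q)) :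
    haveI := Groth.L22.ExtSh.additive_homModF M
    (((homModF M).mapHomologicalComplex _).obj R.cocomplex).ExactAt q := by
  haveI := Groth.L22.ExtSh.additive_homModF M
  rw [HomologicalComplex.exactAt_iff' _ ((ComplexShape.up ℕ).prev q) q (q + 1) rfl (CochainComplex.next ℕ q)]
  refine exact_of_local _ fun x W hx s hs => ?_
  obtain ⟨U, hxU, hU⟩ := hloc x
  refine ⟨W ⊓ U, inf_le_left, ⟨hx, hxU⟩, ?_⟩
  let V := W ⊓ U
  haveI : HasInjectiveResolutions (V : Scheme.{u}).Modules := Groth.L17.PushQCoh.hasInjectiveResolutions _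
  haveI : EnoughInjectives (V : Scheme.{u}).Modules := inferInstance
  haveI : HasExt.{u} (V : Scheme.{u}).Modules := CategoryTheory.hasExt_of_enoughInjectives.{u} _
  haveI := hU V inf_le_right
  let Rj := Scheme.Modules.restrictFunctor V.ι
  let R' := Groth.L04.FunctorLES.mapResolution Rj R
  let σ : Γ(homMod M (R.cocomplex.X q), V) :=
    Groth.L18.Frame.rs (homMod M (R.cocomplex.X q)) (inf_le_left : V ≤ W) s
  let φ : M.restrict V.ι ⟶ R'.cocomplex.X q := toHom V (secEquiv V σ)
  have hφ : φ ≫ R'.cocomplex.d q (q + 1) = 0 := by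
    refine (toHom_post V (R.cocomplex.d q (q + 1)) σ).symm.trans ?_
    have hs' : (post M (R.cocomplex.d q (q + 1))).app W s = 0 := hs
    rw [show (post M (R.cocomplex.d q (q + 1))).app V σ = 0 from
      (hom_app_rs _ inf_le_left s).trans ((congrArg _ hs').trans (map_zero _)), map_zero]
    exact toHom_zero V
  obtain ⟨p, g, hg⟩ := (Groth.L22.DualSheaf.extMk_eq_zero_iff' R' φ hφ).1 (Subsingleton.elim _ _)
  obtain ⟨t, ht⟩ := (toHom_bijective V).2 (show M.restrict V.ι ⟶ (R.cocomplex.X p).restrict V.ι from g)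
  have key : (post M (R.cocomplex.d p q)).app V ((secEquiv V).symm t) = σ := by
    refine (secEquiv V).injective ((toHom_bijective V).1 ?_)
    refine (toHom_post V _ _).trans ?_
    rw [LinearEquiv.apply_symm_apply, ht]
    exact hg
  by_cases hp : (ComplexShape.up ℕ).prev q = p
  · subst hp
    exact ⟨(secEquiv V).symm t, key⟩
  · refine ⟨0, (map_zero _).trans (Eq.trans ?_ key)⟩
    rw [R.cocomplex.shape p q (fun hr => hp ((ComplexShape.up ℕ).prev_eq' hr)), post_zero]
    rfl

/-- Ext sheaves out of a module on a regularly immersed closed subscheme vanish below the codimension -/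
theorem isZero_extSh_push [HasInjectiveResolutions X.Modules] {Z : Scheme.{u}} (i : Z ⟶ X) [IsClosedImmersion i]
    (c : ℕ) (hi : RegImm.IsRegularImmersionOfCodim RegImm.Kind.regular c i) (E : X.Modules)
    (hE : FlatMod.IsFinLocFree E) (F : Z.Modules) (q : ℕ) (hq : q < c) :
    IsZero (Groth.L22.ExtSh.E ((Scheme.Modules.pushforward i).obj F) E q) := by
  haveI := Groth.L22.ExtSh.additive_homModF ((Scheme.Modules.pushforward i).obj F)
  let R := injectiveResolution E
  refine IsZero.of_iso ?_ (R.isoRightDerivedObj _ q)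
  refine (HomologicalComplex.exactAt_iff_isZero_homology _ _).1 (exact_homModF_of_ext R q fun x => ?_)
  by_cases hx : x ∈ Set.range i
  · obtain ⟨z, rfl⟩ := hx
    obtain ⟨U, hxU, -, rs, hlen, hreg, hker⟩ := hi.2 z
    refine ⟨U.1, hxU, fun V hV => ?_⟩
    intro
    haveI : HasInjectiveResolutions (V : Scheme.{u}).Modules := Groth.L17.PushQCoh.hasInjectiveResolutions _
    haveI : EnoughInjectives (V : Scheme.{u}).Modules := inferInstance
    exact subsingleton_ext_restrict i F U.2 hV hreg.toIsWeaklyRegular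
      (fun r hr => (hker.ge (Ideal.subset_span hr) : _)) E hE q (hlen ▸ hq)
  · let U : X.Opens := ⟨(Set.range i)ᶜ, i.isClosedEmbedding.isClosed_range.isOpen_compl⟩
    refine ⟨U, hx, fun V hV => ?_⟩
    intro
    have hz : IsZero (((Scheme.Modules.pushforward i).obj F).restrict V.ι) := by
      refine (Groth.L21.Mod.isZero_iff_stalk_subsingleton _).2 fun v => ?_
      haveI : Subsingleton ((Groth.L21.Mod.stalkF X (V.ι v)).obj ((Scheme.Modules.pushforward i).obj F)) :=
        Groth.L17.ClosedPush.subsingleton_stalk_push i F (p := V.ι v) (hV v.2)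
      exact ((Groth.L21.Mod.restrictStalkF V.ι v).app _).addCommGroupIsoToAddEquiv.toEquiv.subsingleton
    refine subsingleton_of_forall_eq 0 fun w => ?_
    rw [← w.mk₀_id_comp, hz.eq_of_src (𝟙 _) 0, Abelian.Ext.mk₀_zero, Abelian.Ext.zero_comp]

end Groth.L29.DC.ExtRegImm
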