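import Groth.Agent.L29.DCoh.PCDescent
import Groth.Agent.L29.DCoh.TildeAlg
import Groth.Agent.L29.DCoh.TildeD
import Groth.Agent.L29.DCoh.PCQCoh
import Groth.Agent.L29.DCoh.RHomCoh
import Groth.Agent.L10.DRing.Modules
import Groth.Agent.S6942

/-!
Pseudo-coherence on locally Noetherian schemes is coherence of cohomology.
-/

set_option autoImplicit false
set_option backward.isDefEq.respectTransparency false
set_option backward.isDefEq.respectTransparency.types false

universe u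

open CategoryTheory CategoryTheory.Limits AlgebraicGeometry

attribute [local instance] HasDerivedCategory.standard

noncomputable section

namespace Groth.L29.DC.PCNoeth

variable {X : Scheme.{u}}

theorem exists_affine_repr (E : DCoh.D X) (hE : DCoh.IsQCohD E) (x : X) :
    ∃ (U : X.Opens) (hU : IsAffineOpen U) (K : Dual.D Γ(X, U)), x ∈ hU.fromSpec.opensRange ∧
      Nonempty ((DCoh.tildeD Γ(X, U)).obj K ≅ (DCoh.restrictD hU.fromSpec).obj E) := by
  obtain ⟨_, ⟨U, hU, rfl⟩, hxU, -⟩ :=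
    X.isBasis_affineOpens.exists_subset_of_mem_open (Set.mem_univ x) isOpen_univ
  obtain ⟨K, hK⟩ := (TildeD.isQCohD_iff _).1 (isQCohD_restrictD hU.fromSpec hE)
  exact ⟨U, hU, K, hU.opensRange_fromSpec.ge hxU, hK⟩

/-- cohomology of the algebraic representative -/
def hdResIso (E : DCoh.D X) {R : CommRingCat.{u}} (j : Spec R ⟶ X) [IsOpenImmersion j] {K : Dual.D R}
    (e : (DCoh.tildeD R).obj K ≅ (DCoh.restrictD j).obj E) (i : ℤ) :
    (DCoh.HD E i).restrict j ≅ (tilde.functor R).obj ((Groth.L02.PC.HH i).obj K) :=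
  (HDResIso j E i).symm ≪≫ (DerivedCategory.homologyFunctor _ i).mapIso e.symm ≪≫ TildeAlg.hdIso K i

/-- coherent cohomology, bounded above: pseudo-coherent -/
theorem pc_of_coh [IsLocallyNoetherian X] {E : DCoh.D X} (hE : DCoh.IsQCohD E) (m b : ℤ) [E.IsLE b]
    (h : ∀ i, m ≤ i → Coh.IsCoh (DCoh.HD E i)) : DCoh.IsPseudoCoherentD m E := by
  refine PCDesc.pc_of_local fun x => ?_
  obtain ⟨U, hU, K, hx, ⟨e⟩⟩ := exists_affine_repr E hE x
  haveI : IsNoetherianRing Γ(X, U) := IsLocallyNoetherian.component_noetherian ⟨U, hU⟩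
  refine exists_opens_of_on (fun {Z} => DCoh.IsPseudoCoherentD m) (fun k _ _ h => PCStalk.pc_res k h)
    (fun e h => isPseudoCoherentD_of_iso e h) hU.fromSpec hx (isPseudoCoherentD_of_iso e (TildeAlg.pc_tilde ?_))
  refine (Groth.Agent.S6942.result Γ(X, U) m K PUnit.{u + 1}).1.2 ⟨⟨b, fun i hi => ?_⟩, fun i hi => ?_⟩
  · exact ModuleCat.subsingleton_of_isZero (TildeAlg.isZero_of_isZero_tilde
      (((Scheme.Modules.restrictFunctor hU.fromSpec).map_isZero (DerivedCategory.isZero_of_isLE E b i hi)).of_iso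
        (hdResIso E hU.fromSpec e i).symm))
  · haveI : Coh.IsQCoh (DCoh.HD E i) := hE i
    exact Groth.L16.CohKernel.finite_of_tilde_iso _ (h i hi).2 hU.fromSpec _ (hdResIso E hU.fromSpec e i)

/-- pseudo-coherent: coherent cohomology in the range -/
theorem coh_of_pc [IsLocallyNoetherian X] {E : DCoh.D X} (hE : DCoh.IsQCohD E) {m : ℤ}
    (h : DCoh.IsPseudoCoherentD m E) (i : ℤ) (hi : m ≤ i) : Coh.IsCoh (DCoh.HD E i) := by
  refine Groth.L16.CohKernel.isCoh_of_tilde_charts _ fun x => ?_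
  obtain ⟨U, hU, K, hx, ⟨e⟩⟩ := exists_affine_repr E hE x
  haveI : IsNoetherianRing Γ(X, U) := IsLocallyNoetherian.component_noetherian ⟨U, hU⟩
  have hK := TildeAlg.pc_of_tilde (isPseudoCoherentD_of_iso e.symm (PCStalk.pc_res hU.fromSpec h))
  exact ⟨_, hU.fromSpec, inferInstance, _, hx,
    ((Groth.Agent.S6942.result Γ(X, U) m K PUnit.{u + 1}).1.1 hK).2 i hi, ⟨hdResIso E hU.fromSpec e i⟩⟩

theorem pc_iff [IsNoetherian X] (E : DCoh.D X) (hE : DCoh.IsQCohD E) (m : ℤ) :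
    DCoh.IsPseudoCoherentD m E ↔ (∀ i : ℤ, m ≤ i → Coh.IsCoh (DCoh.HD E i)) ∧ ∃ b : ℤ, E.IsLE b := by
  refine ⟨fun h => ⟨fun i hi => coh_of_pc hE h i hi, ?_⟩, fun ⟨h, b, hb⟩ => haveI := hb; pc_of_coh hE m b h⟩
  obtain ⟨N, hN⟩ := TildeAlg.exists_isZero h
  exact ⟨N, (E.isLE_iff N).2 fun i hi => hN i hi.le⟩

/-- internal Hom of coherent objects -/
theorem isCohD_RSheafHom [IsLocallyNoetherian X] (K : CochainComplex X.Modules ℤ) (b : ℤ)
    [(DCoh.toD X K).IsLE b] (hK : DCoh.IsCohD (DCoh.toD X K)) [DCoh.HasLTensorCx K] [DCoh.HasRSheafHom K]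
    (L : DCoh.D X) (a : ℤ) [L.IsGE a] (hL : DCoh.IsCohD L) :
    DCoh.IsCohD ((DCoh.RSheafHom K).obj L) ∧ ∃ a' : ℤ, ((DCoh.RSheafHom K).obj L).IsGE a' :=
  ⟨fun j => RHomC.isCoh_HD_of_pseudoCoherent K (a - j - 1) (pc_of_coh (fun i => (hK i).1) _ b fun i _ => hK i)
      L hL a inferInstance j (by omega),
    a - b, RHom.isGE_RSheafHom K b inferInstance L a inferInstance⟩

end Groth.L29.DC.PCNoeth
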