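import Groth.Agent.L29.DCoh.PullTensor
import Mathlib.Algebra.Homology.BifunctorHomotopy

/-!
Total complexes of bifunctors related by a projection-formula isomorphism, for abstract categories.
-/

set_option autoImplicit false
set_option backward.isDefEq.respectTransparency false
set_option backward.isDefEq.respectTransparency.types false

open CategoryTheory CategoryTheory.Limits

namespace Groth.L29.DC.BiNat

universe v₁ v₂ v₃ v₄

variable {B : Type*} [Category.{v₁} B] {C : Type*} [Category.{v₂} C] [Preadditive B] [Preadditive C]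
  (T : C ⥤ C ⥤ C) [T.Additive] [∀ X, (T.obj X).Additive]
  (S : B ⥤ B ⥤ B) [S.Additive] [∀ X, (S.obj X).Additive]
  (e : B ⥤ C) (r : C ⥤ B) [e.Additive] [r.Additive]
  [HasCountableCoproducts B] [HasCountableCoproducts C] [PreservesColimitsOfSize.{0, 0} e]

/-- the bifunctor `A, B ↦ A ⊗ r B` -/
abbrev bi : B ⥤ C ⥤ B := S ⋙ (Functor.whiskeringLeft C B B).obj r

instance additive_bi : (bi S r).Additive where
  map_add {M N f g} := by
    refine NatTrans.ext (funext fun P => ?_)
    change (S.map (f + g)).app _ = _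
    rw [S.map_add]
    rfl

instance additive_bi_obj (M : B) : ((bi S r).obj M).Additive :=
  inferInstanceAs ((r ⋙ S.obj M).Additive)

variable (β : ∀ X Y, (T.obj (e.obj X)).obj Y ≅ e.obj ((S.obj X).obj (r.obj Y)))
  (h₁ : ∀ {X X' : B} (g : X ⟶ X') (Y : C),
    (T.map (e.map g)).app Y ≫ (β X' Y).hom = (β X Y).hom ≫ e.map ((S.map g).app (r.obj Y)))
  (h₂ : ∀ (X : B) {Y Y' : C} (g : Y ⟶ Y'),
    (T.obj (e.obj X)).map g ≫ (β X Y').hom = (β X Y).hom ≫ e.map ((S.obj X).map (r.map g)))

include h₁ h₂

/-- the projection formula for complexes, naturally in the first variable -/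
noncomputable def funIso (L : CochainComplex C ℤ) :
    e.mapHomologicalComplex (ComplexShape.up ℤ) ⋙ T.map₂CochainComplex.flip.obj L ≅
      S.map₂CochainComplex.flip.obj ((r.mapHomologicalComplex (ComplexShape.up ℤ)).obj L) ⋙
        e.mapHomologicalComplex (ComplexShape.up ℤ) :=
  haveI : ∀ K : CochainComplex B ℤ, HomologicalComplex.HasMapBifunctor K L (bi S r) (ComplexShape.up ℤ) :=
    fun _ _ => inferInstance
  let e₁ : e.mapHomologicalComplex (ComplexShape.up ℤ) ⋙ T.map₂CochainComplex.flip.obj L ≅
      (bi S r).map₂CochainComplex.flip.obj L ⋙ e.mapHomologicalComplex (ComplexShape.up ℤ) :=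
    NatIso.ofComponents (fun K => Groth.L00.FunctorTotal.totalIso (bi S r) T e (𝟭 C) e β h₁ h₂
        (c := ComplexShape.up ℤ) K L)
      (fun a => HomologicalComplex.hom_ext _ _ fun n =>
        PullTensor.compX_natural₁ (bi S r) T e (𝟭 C) e β h₁ a L n)
  let e₂ : S.map₂CochainComplex.flip.obj ((r.mapHomologicalComplex (ComplexShape.up ℤ)).obj L) ≅
      (bi S r).map₂CochainComplex.flip.obj L :=
    NatIso.ofComponents (fun K => Groth.L00.FunctorTotal.totalIso (bi S r) S (𝟭 B) r (𝟭 B)
        (fun X Y => Iso.refl _) (fun g Y => by exact (Category.comp_id _).trans (Category.id_comp _).symm)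
        (fun X _ _ g => by exact (Category.comp_id _).trans (Category.id_comp _).symm) (c := ComplexShape.up ℤ) K L)
      (fun a => HomologicalComplex.hom_ext _ _ fun n =>
        PullTensor.compX_natural₁ (bi S r) S (𝟭 B) r (𝟭 B) (fun X Y => Iso.refl _)
          (fun g Y => by exact (Category.comp_id _).trans (Category.id_comp _).symm) a L n)
  e₁ ≪≫ Functor.isoWhiskerRight e₂.symm _

end Groth.L29.DC.BiNat
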