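import Groth.Agent.L29.DCoh.ExtZero
import Groth.Agent.L29.DCoh.TensorAssoc
import Groth.Agent.L29.DCoh.BiNat
import Groth.Agent.L29.DCoh.DerAdj
import Mathlib.CategoryTheory.Localization.Adjunction

/-!
Extension by zero on derived categories, and restriction of internal Hom.
-/

set_option autoImplicit false
set_option backward.isDefEq.respectTransparency false
set_option backward.isDefEq.respectTransparency.types false

universe u

open CategoryTheory CategoryTheory.Limits AlgebraicGeometry MonoidalCategory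

attribute [local instance] HasDerivedCategory.standard

namespace Groth.L29.DC.ExtZero

open Groth.L00 Groth.L00.Tensor

variable {X U : Scheme.{u}} (j : U ⟶ X) [IsOpenImmersion j]

/-- extension by zero of complexes -/
noncomputable abbrev eCx : CochainComplex U.Modules ℤ ⥤ CochainComplex X.Modules ℤ :=
  (CxOX.extZero j).mapHomologicalComplex (ComplexShape.up ℤ)

/-- restriction of complexes -/
noncomputable abbrev rCx : CochainComplex X.Modules ℤ ⥤ CochainComplex U.Modules ℤ :=
  (res j).mapHomologicalComplex (ComplexShape.up ℤ)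

/-- the adjunction on complexes -/
noncomputable def adjCx : eCx j ⊣ rCx j :=
  Adjunction.mkOfHomEquiv
    { homEquiv := fun K I =>
        { toFun := fun g => DerAdj.ηI (CxOX.extZeroAdj j) K ≫ (rCx j).map g
          invFun := fun u => (eCx j).map u ≫ DerAdj.εI (CxOX.extZeroAdj j) I
          left_inv := fun g => DerAdj.map_η_ε (CxOX.extZeroAdj j) g
          right_inv := fun u => DerAdj.η_map_ε (CxOX.extZeroAdj j) u }
      homEquiv_naturality_left_symm := fun f g => by simp
      homEquiv_naturality_right := fun f g => by simp }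

/-- the adjunction on derived categories -/
noncomputable def adjD [PreservesFiniteLimits (CxOX.extZero j)] [PreservesFiniteLimits (res j)] :
    CxOX.extZeroD j ⊣ DCoh.restrictD j :=
  letI : CatCommSq (eCx j) DerivedCategory.Q DerivedCategory.Q (CxOX.extZeroD j) :=
    ⟨(CxOX.extZero j).mapDerivedCategoryFactors.symm⟩
  letI : CatCommSq (rCx j) DerivedCategory.Q DerivedCategory.Q (DCoh.restrictD j) :=
    ⟨(res j).mapDerivedCategoryFactors.symm⟩
  (adjCx j).localization DerivedCategory.Q (HomologicalComplex.quasiIso U.Modules (ComplexShape.up ℤ))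
    DerivedCategory.Q (HomologicalComplex.quasiIso X.Modules (ComplexShape.up ℤ))
    (CxOX.extZeroD j) (DCoh.restrictD j)

theorem hp₁ {A A' : U.Modules} (g : A ⟶ A') (B : X.Modules) :
    ((DCoh.tensorBi (X := X)).map ((CxOX.extZero j).map g)).app B ≫ (projIso j A' B).hom =
      (projIso j A B).hom ≫ (CxOX.extZero j).map (((DCoh.tensorBi (X := U)).map g).app ((res j).obj B)) := by
  rw [Assoc.map_app_eq, Assoc.map_app_eq, projIso_natural, CategoryTheory.Functor.map_id]

theorem hp₂ (A : U.Modules) {B B' : X.Modules} (g : B ⟶ B') :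
    ((DCoh.tensorBi (X := X)).obj ((CxOX.extZero j).obj A)).map g ≫ (projIso j A B').hom =
      (projIso j A B).hom ≫ (CxOX.extZero j).map (((BiNat.bi (DCoh.tensorBi (X := U)) (res j)).obj A).map g) :=
  (congrArg (fun t => t ≫ (projIso j A B').hom) (tensorBi_obj_map ((CxOX.extZero j).obj A) g)).trans
    (((congrArg (fun t => tensorMap t g ≫ (projIso j A B').hom)
        (CategoryTheory.Functor.map_id (CxOX.extZero j) A).symm).trans (projIso_natural j (𝟙 A) g)).trans
      (congrArg (fun t => (projIso j A B).hom ≫ (CxOX.extZero j).map t)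
        (tensorBi_obj_map A ((res j).map g)).symm))

/-- the projection formula for complexes, naturally in the complex on the open subscheme -/
noncomputable def projFunctor (L : CochainComplex X.Modules ℤ) :
    eCx j ⋙ (DCoh.tensorCx (X := X)).flip.obj L ≅
      (DCoh.tensorCx (X := U)).flip.obj ((rCx j).obj L) ⋙ eCx j :=
  haveI : PreservesColimitsOfSize.{u, u} (CxOX.extZero j) := (CxOX.extZeroAdj j).leftAdjoint_preservesColimits
  haveI : PreservesColimitsOfSize.{0, 0} (CxOX.extZero j) := preservesColimitsOfSize_shrink.{0, u, 0, u} _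
  BiNat.funIso (DCoh.tensorBi (X := X)) (DCoh.tensorBi (X := U)) (CxOX.extZero j) (res j)
    (fun A B => projIso j A B) (fun g B => hp₁ j g B) (fun A _ _ g => hp₂ j A g) L

/-- extension by zero keeps K-flatness -/
theorem isKFlat_eCx {P : CochainComplex U.Modules ℤ} (hP : DCoh.IsKFlat P) : DCoh.IsKFlat ((eCx j).obj P) := by
  haveI := preservesFiniteLimits j
  intro L hL i
  have hL' : ∀ k, IsZero (((rCx j).obj L).homology k) := fun k =>
    ((res j).map_isZero (hL k)).of_iso ((L.sc k).mapHomologyIso (res j))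
  have h : IsZero (((eCx j).obj ((DCoh.tensorCx.obj P).obj ((rCx j).obj L))).homology i) :=
    ((CxOX.extZero j).map_isZero ((hP _ hL' i).of_iso
      ((HomologicalComplex.homologyFunctor _ _ i).mapIso (KFlat.commIso P ((rCx j).obj L))).symm)).of_iso
      ((((DCoh.tensorCx.obj P).obj ((rCx j).obj L)).sc i).mapHomologyIso (CxOX.extZero j))
  exact h.of_iso ((HomologicalComplex.homologyFunctor _ _ i).mapIso (KFlat.commIso _ _ ≪≫ (projFunctor j L).app P))

/-- restriction intertwines internal Homs -/
theorem nonempty_res_RSheafHom [PreservesFiniteLimits (res j)] (K : CochainComplex X.Modules ℤ)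
    [DCoh.HasLTensorCx K] [DCoh.HasRSheafHom K]
    [DCoh.HasLTensorCx ((rCx j).obj K)] [DCoh.HasRSheafHom ((rCx j).obj K)] :
    Nonempty (DCoh.RSheafHom K ⋙ DCoh.restrictD j ≅ DCoh.restrictD j ⋙ DCoh.RSheafHom ((rCx j).obj K)) := by
  haveI := preservesFiniteLimits j
  let q := DerivedCategory.Q (C := U.Modules)
  haveI : ∀ P, IsIso ((Functor.whiskerRight (KFlat.rF U) q).app P) := fun P =>
    (DerivedCategory.isIso_Q_map_iff_quasiIso _ _).2 (KFlat.quasiIso_rF P)
  haveI := NatIso.isIso_of_isIso_app (Functor.whiskerRight (KFlat.rF U) q)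
  let r : KFlat.RF U ⋙ q ≅ q := asIso (Functor.whiskerRight (KFlat.rF U) q) ≪≫ q.leftUnitor
  haveI : ∀ P, IsIso ((Functor.whiskerLeft (KFlat.RF U ⋙ eCx j) ((DCoh.tensorCxQ K).totalLeftDerivedCounit
      DerivedCategory.Q (HomologicalComplex.quasiIso X.Modules (ComplexShape.up ℤ)))).app P) :=
    fun P => Assoc.isIso_counit K _ (isKFlat_eCx j (KFlat.isKFlat_RF P))
  haveI := NatIso.isIso_of_isIso_app (Functor.whiskerLeft (KFlat.RF U ⋙ eCx j) ((DCoh.tensorCxQ K).totalLeftDerivedCounit
      DerivedCategory.Q (HomologicalComplex.quasiIso X.Modules (ComplexShape.up ℤ))))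
  let fac := (CxOX.extZero j).mapDerivedCategoryFactors
  let e : q ⋙ (DCoh.LTensorCx ((rCx j).obj K) ⋙ CxOX.extZeroD j) ≅ q ⋙ (CxOX.extZeroD j ⋙ DCoh.LTensorCx K) :=
    (Functor.associator _ _ _).symm ≪≫ Functor.isoWhiskerRight (Functor.isoWhiskerRight r.symm _) _ ≪≫
      Functor.isoWhiskerRight (Functor.associator _ _ _ ≪≫ Assoc.RFIso ((rCx j).obj K)) (CxOX.extZeroD j) ≪≫
      Functor.isoWhiskerLeft (KFlat.RF U ⋙ (DCoh.tensorCx (X := U)).flip.obj ((rCx j).obj K)) fac ≪≫
      Functor.isoWhiskerLeft (KFlat.RF U) (Functor.isoWhiskerRight (projFunctor j K).symm DerivedCategory.Q) ≪≫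
      (asIso (Functor.whiskerLeft (KFlat.RF U ⋙ eCx j) ((DCoh.tensorCxQ K).totalLeftDerivedCounit
        DerivedCategory.Q (HomologicalComplex.quasiIso X.Modules (ComplexShape.up ℤ))))).symm ≪≫
      Functor.isoWhiskerLeft (KFlat.RF U) (Functor.isoWhiskerRight fac.symm (DCoh.LTensorCx K)) ≪≫
      Functor.isoWhiskerRight r (CxOX.extZeroD j ⋙ DCoh.LTensorCx K)
  let E : DCoh.LTensorCx ((rCx j).obj K) ⋙ CxOX.extZeroD j ≅ CxOX.extZeroD j ⋙ DCoh.LTensorCx K :=
    Localization.liftNatIso q (HomologicalComplex.quasiIso U.Modules (ComplexShape.up ℤ)) _ _ _ _ e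
  exact ⟨((((adjD j).comp (DCoh.RSheafHomAdj K)).ofNatIsoLeft E.symm).rightAdjointUniq
    ((DCoh.RSheafHomAdj ((rCx j).obj K)).comp (adjD j)))⟩

end Groth.L29.DC.ExtZero
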