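import Groth.Agent.L29.DCoh.DerRight
import Groth.Agent.L29.DCoh.TensorAssoc
import Groth.Agent.L29.DCoh.TensorPerfect
import Groth.Agent.L29.DCoh.QRlim
import Groth.Agent.L00.DerivedApi
import Groth.Agent.L00.SheafHom

/-!
The derived tensor product is natural in the fixed factor and has a right adjoint.
-/

set_option autoImplicit false
set_option backward.isDefEq.respectTransparency false
set_option backward.isDefEq.respectTransparency.types false

universe u

open CategoryTheory CategoryTheory.Limits AlgebraicGeometry CochainComplex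

attribute [local instance] HasDerivedCategory.standard

namespace Groth.L29.DC.RHom

open Groth.L00

variable {X : Scheme.{u}}

/-- `- ⊗ E ≅ E ⊗ -` -/
noncomputable def flipIso (E : CochainComplex X.Modules ℤ) :
    KFlat.T E ≅ (DCoh.tensorCx (X := X)).flip.obj E :=
  NatIso.ofComponents (fun L => KFlat.commIso L E) (fun a => KFlat.commIso_natural a E)

theorem exists_retraction (E : CochainComplex X.Modules ℤ) {A B : CochainComplex X.Modules ℤ} (ι : A ⟶ B)
    (r : ∀ n, B.X n ⟶ A.X n) (hr : ∀ n, ι.f n ≫ r n = 𝟙 _) :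
    ∃ r' : ∀ n, (((DCoh.tensorCx (X := X)).flip.obj E).obj B).X n ⟶ (((DCoh.tensorCx (X := X)).flip.obj E).obj A).X n,
      ∀ n, (((DCoh.tensorCx (X := X)).flip.obj E).map ι).f n ≫ r' n = 𝟙 _ := by
  let F := DCoh.tensorBi (X := X)
  let ρ : ∀ n, ((KFlat.T E).obj B).X n ⟶ ((KFlat.T E).obj A).X n := fun n =>
    HomologicalComplex.mapBifunctorDesc fun p q h =>
      (F.obj (E.X p)).map (r q) ≫ HomologicalComplex.ιMapBifunctor E A F (ComplexShape.up ℤ) p q n h
  have hρ : ∀ n, ((KFlat.T E).map ι).f n ≫ ρ n = 𝟙 _ := fun n => by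
    refine HomologicalComplex.mapBifunctor.hom_ext fun p q h => ?_
    rw [BifExact.ι_T_map_assoc, HomologicalComplex.ι_mapBifunctorDesc, ← Category.assoc, ← Functor.map_comp,
      hr, CategoryTheory.Functor.map_id, Category.id_comp]
    exact (Category.comp_id _).symm
  refine ⟨fun n => ((flipIso E).inv.app B).f n ≫ ρ n ≫ ((flipIso E).hom.app A).f n, fun n => ?_⟩
  have h : ((DCoh.tensorCx (X := X)).flip.obj E).map ι ≫ (flipIso E).inv.app B =
      (flipIso E).inv.app A ≫ (KFlat.T E).map ι := (flipIso E).inv.naturality ι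
  rw [← Category.assoc, ← HomologicalComplex.comp_f, h, HomologicalComplex.comp_f, Category.assoc,
    reassoc_of% (hρ n), ← HomologicalComplex.comp_f, Iso.inv_hom_id_app, HomologicalComplex.id_f]

theorem isLeftAdjoint_flip (E : CochainComplex X.Modules ℤ) :
    ((DCoh.tensorCx (X := X)).flip.obj E).IsLeftAdjoint := by
  haveI := Groth.L00.Tensor.grothendieckAbelian_modules X
  haveI : IsGrothendieckAbelian.{u} (CochainComplex X.Modules ℤ) := inferInstance
  haveI : WellPowered.{u} (CochainComplex X.Modules ℤ) := IsGrothendieckAbelian.wellPowered _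
  haveI : WellPowered.{u} (CochainComplex X.Modules ℤ)ᵒᵖ := CategoryTheory.Abelian.wellPowered_opposite
  haveI : ∀ p, PreservesColimitsOfSize.{u, u} ((DCoh.tensorBi (X := X)).obj (E.X p)) := fun p =>
    preservesColimits_of_natIso (NatIso.ofComponents (fun N => Iso.refl _) (fun {N N'} f => by
      simp only [Iso.refl_hom, Category.id_comp, Category.comp_id]) : Groth.L00.Tensor.tensorLeftF (E.X p) ≅ _)
  haveI : PreservesColimitsOfSize.{u, u} (KFlat.T E) := ⟨fun {J} _ => inferInstance⟩
  haveI : PreservesColimitsOfSize.{u, u} ((DCoh.tensorCx (X := X)).flip.obj E) :=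
    preservesColimits_of_natIso (flipIso E)
  exact isLeftAdjoint_of_preservesColimits_of_isSeparating
    (isSeparator_separator (CochainComplex X.Modules ℤ)) _

theorem acyclic_flip {E : CochainComplex X.Modules ℤ} (hE : DCoh.IsKFlat E) (P : CochainComplex X.Modules ℤ)
    (hP : P.Acyclic) : HomologicalComplex.Acyclic (((DCoh.tensorCx (X := X)).flip.obj E).obj P) := fun i =>
  (HomologicalComplex.exactAt_iff_isZero_homology _ _).2
    (hE P (fun j => (HomologicalComplex.exactAt_iff_isZero_homology _ _).1 (hP j)) i)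

/-- internal Hom out of a K-flat complex exists -/
theorem hasRSheafHom_of_kflat {E : CochainComplex X.Modules ℤ} (hE : DCoh.IsKFlat E) [DCoh.HasLTensorCx E] :
    DCoh.HasRSheafHom E := by
  haveI := Groth.L29.DC.QRlim.enoughKInj X
  haveI := isLeftAdjoint_flip E
  let adj := Adjunction.ofIsLeftAdjoint ((DCoh.tensorCx (X := X)).flip.obj E)
  haveI : ((DCoh.tensorCx (X := X)).flip.obj E).Additive := Functor.additive_of_iso (flipIso E)
  exact DerRight.isLeftAdjoint adj
    (fun P => exists_retraction E _ (fun n => (mappingCone.snd (𝟙 P)).v n n (add_zero n))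
      (fun n => mappingCone.inr_f_snd_v (𝟙 P) n))
    (acyclic_flip hE) (DCoh.LTensorCx E) (Assoc.allIso E hE)

variable {E E' : CochainComplex X.Modules ℤ} [DCoh.HasLTensorCx E] [DCoh.HasLTensorCx E']

/-- functoriality in the fixed factor -/
noncomputable def ltMap (g : E' ⟶ E) : DCoh.LTensorCx E' ⟶ DCoh.LTensorCx E :=
  (DCoh.LTensorCx E).leftDerivedLift ((DCoh.tensorCxQ E).totalLeftDerivedCounit DerivedCategory.Q
      (HomologicalComplex.quasiIso X.Modules (ComplexShape.up ℤ)))
    (HomologicalComplex.quasiIso X.Modules (ComplexShape.up ℤ)) _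
    ((DCoh.tensorCxQ E').totalLeftDerivedCounit DerivedCategory.Q
      (HomologicalComplex.quasiIso X.Modules (ComplexShape.up ℤ)) ≫
      Functor.whiskerRight ((DCoh.tensorCx (X := X)).flip.map g) DerivedCategory.Q)

theorem ltMap_fac (g : E' ⟶ E) (P : CochainComplex X.Modules ℤ) :
    (ltMap g).app (DerivedCategory.Q.obj P) ≫ ((DCoh.tensorCxQ E).totalLeftDerivedCounit DerivedCategory.Q
        (HomologicalComplex.quasiIso X.Modules (ComplexShape.up ℤ))).app P =
      ((DCoh.tensorCxQ E').totalLeftDerivedCounit DerivedCategory.Q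
        (HomologicalComplex.quasiIso X.Modules (ComplexShape.up ℤ))).app P ≫
        DerivedCategory.Q.map (((DCoh.tensorCx (X := X)).obj P).map g) :=
  Functor.leftDerived_fac_app (DCoh.LTensorCx E) _ (HomologicalComplex.quasiIso X.Modules (ComplexShape.up ℤ)) _ _ P

theorem isIso_ltMap (g : E' ⟶ E) [QuasiIso g] : IsIso (ltMap g) := by
  have hk : ∀ P, DCoh.IsKFlat P → IsIso ((ltMap g).app (DerivedCategory.Q.obj P)) := fun P hP => by
    haveI := Assoc.isIso_counit E P hP
    haveI := Assoc.isIso_counit E' P hP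
    haveI := Groth.L00.KFlat.quasiIso_tensor_of_kflat P hP g
    haveI : QuasiIso (((DCoh.tensorCx (X := X)).obj P).map g) := by
      have h : QuasiIso ((KFlat.commIso E' P).hom ≫ ((DCoh.tensorCx (X := X)).map g).app P) := inferInstance
      rw [← KFlat.commIso_natural] at h
      exact quasiIso_of_comp_right (((DCoh.tensorCx (X := X)).obj P).map g) (KFlat.commIso E P).hom
    haveI : IsIso (DerivedCategory.Q.map (((DCoh.tensorCx (X := X)).obj P).map g)) :=
      (DerivedCategory.isIso_Q_map_iff_quasiIso _ _).2 inferInstance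
    have hi : IsIso ((ltMap g).app (DerivedCategory.Q.obj P) ≫ ((DCoh.tensorCxQ E).totalLeftDerivedCounit
        DerivedCategory.Q (HomologicalComplex.quasiIso X.Modules (ComplexShape.up ℤ))).app P) := by
      rw [ltMap_fac]; infer_instance
    exact (isIso_comp_right_iff _ (((DCoh.tensorCxQ E).totalLeftDerivedCounit DerivedCategory.Q
      (HomologicalComplex.quasiIso X.Modules (ComplexShape.up ℤ))).app P)).1 hi
  haveI : ∀ M, IsIso ((ltMap g).app M) := fun M => by
    let G := DerivedCategory.Q.objPreimage M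
    haveI : IsIso (DerivedCategory.Q.map ((KFlat.rF X).app G)) :=
      (DerivedCategory.isIso_Q_map_iff_quasiIso _ _).2 (KFlat.quasiIso_rF G)
    haveI := hk ((KFlat.RF X).obj G) (KFlat.isKFlat_RF G)
    exact (NatTrans.isIso_app_iff_of_iso (ltMap g)
      (asIso (DerivedCategory.Q.map ((KFlat.rF X).app G)) ≪≫ DerivedCategory.Q.objObjPreimageIso M)).1 inferInstance
  exact NatIso.isIso_of_isIso_app _

/-- internal Hom out of any complex exists -/
theorem hasRSheafHom (E : CochainComplex X.Modules ℤ) [DCoh.HasLTensorCx E] : DCoh.HasRSheafHom E := by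
  let E' := (KFlat.RF X).obj E
  haveI := KFlat.hasLTensorCx E'
  haveI : (DCoh.LTensorCx E').IsLeftAdjoint := hasRSheafHom_of_kflat (KFlat.isKFlat_RF E)
  haveI := KFlat.quasiIso_rF E
  haveI : QuasiIso (show E' ⟶ E from (KFlat.rF X).app E) := KFlat.quasiIso_rF E
  haveI := isIso_ltMap (show E' ⟶ E from (KFlat.rF X).app E)
  exact ((Adjunction.ofIsLeftAdjoint (DCoh.LTensorCx E')).ofNatIsoLeft
    (asIso (ltMap (show E' ⟶ E from (KFlat.rF X).app E)))).isLeftAdjoint

end Groth.L29.DC.RHom
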