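import Groth.Agent.L29.DCoh.FiveRight
import Groth.Agent.L29.DCoh.RHomExists
import Groth.Agent.L29.DCoh.ExtZeroD
import Groth.Agent.L29.DCoh.QCohOps
import Groth.Agent.L00.SingleTotal

/-!
Internal Hom out of a perfect complex keeps quasi-coherent cohomology.
-/

set_option autoImplicit false
set_option backward.isDefEq.respectTransparency false
set_option backward.isDefEq.respectTransparency.types false

universe u

open CategoryTheory CategoryTheory.Limits MonoidalCategory AlgebraicGeometry CochainComplex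
open scoped ZeroObject

attribute [local instance] HasDerivedCategory.standard

namespace Groth.L29.DC.RHom

open Groth.L00

variable {X : Scheme.{u}}

theorem isZero_Q {C : Type*} [Category C] [Abelian C] [HasDerivedCategory C] [HasZeroObject (DerivedCategory C)] {K : CochainComplex C ℤ}
    (h : ∀ i, IsZero (K.homology i)) : IsZero (DerivedCategory.Q.obj K) := by
  haveI : IsIso (0 : DerivedCategory.Q.obj K ⟶ 0) := (DerivedCategory.isIso_iff C _).2 fun i =>
    (((h i).of_iso ((DerivedCategory.homologyFunctorFactors C i).app K))).isIso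
      ((DerivedCategory.homologyFunctor C i).map_isZero (isZero_zero _)) _
  exact (isZero_zero (DerivedCategory C)).of_iso (asIso (0 : DerivedCategory.Q.obj K ⟶ 0))

theorem singleTotal_natural {C₁ C₂ D : Type*} [Category C₁] [Category C₂] [Category D]
    [Abelian C₁] [Abelian C₂] [Abelian D] (F : C₁ ⥤ C₂ ⥤ D) [F.Additive] [∀ X₁, (F.obj X₁).Additive]
    [∀ (K₁ : CochainComplex C₁ ℤ) (K₂ : CochainComplex C₂ ℤ), CochainComplex.HasMapBifunctor K₁ K₂ F]
    (M : C₁) {L L' : CochainComplex C₂ ℤ} (a : L ⟶ L') :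
    (BifExact.T F ((HomologicalComplex.single C₁ (ComplexShape.up ℤ) 0).obj M)).map a ≫
        (SingleTotal.iso F M L').inv =
      (SingleTotal.iso F M L).inv ≫ ((F.obj M).mapHomologicalComplex (ComplexShape.up ℤ)).map a := by
  rw [Iso.eq_inv_comp, ← Category.assoc, Iso.comp_inv_eq]
  ext n
  change (SingleTotal.XIso F M L n).hom ≫ ((BifExact.T F _).map a).f n =
    (F.obj M).map (a.f n) ≫ (SingleTotal.XIso F M L' n).hom
  dsimp only [SingleTotal.XIso]
  rw [Category.assoc, BifExact.ι_T_map, ← Category.assoc, ← Category.assoc]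
  exact congrArg (fun t => t ≫ _) ((F.map _).naturality (a.f n)).symm

/-- internal Hom out of `E` keeps quasi-coherent cohomology -/
structure RPres (E : CochainComplex X.Modules ℤ) : Prop where
  pres : ∀ [DCoh.HasLTensorCx E] [DCoh.HasRSheafHom E] (L : DCoh.D X),
    DCoh.IsQCohD L → DCoh.IsQCohD ((DCoh.RSheafHom E).obj L)

/-- invariance under quasi-isomorphisms -/
theorem rPres_iff_qis {E E' : CochainComplex X.Modules ℤ} (g : E' ⟶ E) [QuasiIso g] : RPres E' ↔ RPres E := by
  haveI := KFlat.hasLTensorCx E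
  haveI := KFlat.hasLTensorCx E'
  haveI := hasRSheafHom E
  haveI := hasRSheafHom E'
  haveI := isIso_ltMap g
  let i : DCoh.RSheafHom E ≅ DCoh.RSheafHom E' :=
    ((DCoh.RSheafHomAdj E).ofNatIsoLeft (asIso (ltMap g)).symm).rightAdjointUniq (DCoh.RSheafHomAdj E')
  exact ⟨fun h => ⟨fun L hL => isQCohD_of_iso (i.app L).symm (h.pres L hL)⟩,
    fun h => ⟨fun L hL => isQCohD_of_iso (i.app L) (h.pres L hL)⟩⟩

/-- invariance under isomorphisms in the derived category -/
theorem rPres_of_toD_iso {E E' : CochainComplex X.Modules ℤ} (e : DCoh.toD X E ≅ DCoh.toD X E') (h : RPres E) :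
    RPres E' := by
  obtain ⟨R, s, hs, g, hg⟩ := DerivedCategory.right_fac e.hom
  haveI : IsIso (DerivedCategory.Q.map g) := by
    rw [show DerivedCategory.Q.map g = DerivedCategory.Q.map s ≫ e.hom by rw [hg, IsIso.hom_inv_id_assoc]]
    infer_instance
  haveI : QuasiIso s := (DerivedCategory.isIso_Q_map_iff_quasiIso _ s).1 inferInstance
  haveI : QuasiIso g := (DerivedCategory.isIso_Q_map_iff_quasiIso _ g).1 inferInstance
  exact (rPres_iff_qis g).1 ((rPres_iff_qis s).2 h)

/-- acyclic complexes -/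
theorem isZero_RSheafHom {E : CochainComplex X.Modules ℤ} (hE : E.Acyclic) [DCoh.HasLTensorCx E]
    [DCoh.HasRSheafHom E] (L : DCoh.D X) : IsZero ((DCoh.RSheafHom E).obj L) := by
  have hz : ∀ M : DCoh.D X, IsZero ((DCoh.LTensorCx E).obj M) := fun M => by
    let G := DerivedCategory.Q.objPreimage M
    let P := (KFlat.RF X).obj G
    haveI : IsIso (DerivedCategory.Q.map ((KFlat.rF X).app G)) :=
      (DerivedCategory.isIso_Q_map_iff_quasiIso _ _).2 (KFlat.quasiIso_rF G)
    have hP : DCoh.IsKFlat P := KFlat.isKFlat_RF G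
    haveI := Assoc.isIso_counit E P hP
    have ha : IsZero (DerivedCategory.Q.obj ((DCoh.tensorCx.obj P).obj E)) :=
      isZero_Q fun i => (hP E (fun j => (HomologicalComplex.exactAt_iff_isZero_homology _ _).1 (hE j)) i).of_iso
        ((HomologicalComplex.homologyFunctor _ _ i).mapIso (KFlat.commIso P E).symm)
    exact ((ha.of_iso (asIso (((DCoh.tensorCxQ E).totalLeftDerivedCounit DerivedCategory.Q
      (HomologicalComplex.quasiIso X.Modules (ComplexShape.up ℤ))).app P)))).of_iso
      ((DCoh.LTensorCx E).mapIso (asIso (DerivedCategory.Q.map ((KFlat.rF X).app G)) ≪≫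
        DerivedCategory.Q.objObjPreimageIso M)).symm
  exact (IsZero.iff_id_eq_zero _).2
    (((DCoh.RSheafHomAdj E).homEquiv _ L).symm.injective ((hz _).eq_of_src _ _))

theorem rPres_of_acyclic {E : CochainComplex X.Modules ℤ} (hE : E.Acyclic) : RPres E :=
  ⟨fun L _ => isQCohD_of_isZero (isZero_RSheafHom hE L)⟩

section Split

variable (S : ShortComplex (CochainComplex X.Modules ℤ))

theorem flip_comp_zero (P : CochainComplex X.Modules ℤ) :
    ((DCoh.tensorCx (X := X)).flip.map S.f).app P ≫ ((DCoh.tensorCx (X := X)).flip.map S.g).app P = 0 := by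
  change (KFlat.T P).map S.f ≫ (KFlat.T P).map S.g = 0
  rw [← Functor.map_comp, S.zero, Functor.map_zero]

variable (σ : ∀ n, (S.map (HomologicalComplex.eval X.Modules (ComplexShape.up ℤ) n)).Splitting)

include σ

theorem flip_shortExact (P : CochainComplex X.Modules ℤ) :
    (ShortComplex.mk (((DCoh.tensorCx (X := X)).flip.map S.f).app P)
      (((DCoh.tensorCx (X := X)).flip.map S.g).app P) (flip_comp_zero S P)).ShortExact :=
  BifExact.shortExact_T_of_splitting (DCoh.tensorBi (X := X)) P S σ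

theorem exists_good (M : DCoh.D X) :
    ∃ P : CochainComplex X.Modules ℤ, DCoh.IsKFlat P ∧ Nonempty (DerivedCategory.Q.obj P ≅ M) := by
  let G := DerivedCategory.Q.objPreimage M
  haveI : IsIso (DerivedCategory.Q.map ((KFlat.rF X).app G)) :=
    (DerivedCategory.isIso_Q_map_iff_quasiIso _ _).2 (KFlat.quasiIso_rF G)
  exact ⟨_, KFlat.isKFlat_RF G,
    ⟨asIso (DerivedCategory.Q.map ((KFlat.rF X).app G)) ≪≫ DerivedCategory.Q.objObjPreimageIso M⟩⟩

/-- two out of three, first term -/
theorem rPres_first (h₂ : RPres S.X₂) (h₃ : RPres S.X₃) : RPres S.X₁ := by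
  refine ⟨fun {_} {_} L hL => ?_⟩
  haveI := KFlat.hasLTensorCx S.X₂
  haveI := KFlat.hasLTensorCx S.X₃
  haveI := hasRSheafHom S.X₂
  haveI := hasRSheafHom S.X₃
  haveI := QRlim.enoughKInj X
  exact FiveRight.first_of (fun N : X.Modules => Coh.IsQCoh N) (fun e h => isQCoh_of_iso' e h)
    (fun φ a b => isQCoh_kernel' φ a b) (fun φ a b => isQCoh_cokernel' φ a b)
    (fun T hT a b => Groth.L17.QCohExtension.isQCoh_extension T hT a b)
    ((DCoh.tensorCx (X := X)).flip.map S.f) ((DCoh.tensorCx (X := X)).flip.map S.g)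
    (flip_comp_zero S) (flip_shortExact S σ)
    (DCoh.RSheafHomAdj S.X₁) (DCoh.RSheafHomAdj S.X₂) (DCoh.RSheafHomAdj S.X₃)
    ((DCoh.tensorCxQ S.X₁).totalLeftDerivedCounit DerivedCategory.Q _)
    ((DCoh.tensorCxQ S.X₂).totalLeftDerivedCounit DerivedCategory.Q _)
    ((DCoh.tensorCxQ S.X₃).totalLeftDerivedCounit DerivedCategory.Q _)
    DCoh.IsKFlat (fun P hP => Assoc.isIso_counit _ P hP) (fun P hP => Assoc.isIso_counit _ P hP)
    (fun P hP => Assoc.isIso_counit _ P hP) (exists_good S σ) (ltMap S.f) (ltMap S.g)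
    (fun P => ltMap_fac S.f P) (fun P => ltMap_fac S.g P) h₂.pres h₃.pres L hL

/-- outer terms around an acyclic complex -/
theorem rPres_outer (hz : S.X₂.Acyclic) : RPres S.X₁ ↔ RPres S.X₃ := by
  haveI := KFlat.hasLTensorCx S.X₁
  haveI := KFlat.hasLTensorCx S.X₂
  haveI := KFlat.hasLTensorCx S.X₃
  haveI := hasRSheafHom S.X₁
  haveI := hasRSheafHom S.X₂
  haveI := hasRSheafHom S.X₃
  haveI := QRlim.enoughKInj X
  have key := FiveRight.iso_of_zero ((DCoh.tensorCx (X := X)).flip.map S.f) ((DCoh.tensorCx (X := X)).flip.map S.g)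
    (flip_comp_zero S) (flip_shortExact S σ)
    (DCoh.RSheafHomAdj S.X₁) (DCoh.RSheafHomAdj S.X₂) (DCoh.RSheafHomAdj S.X₃)
    ((DCoh.tensorCxQ S.X₁).totalLeftDerivedCounit DerivedCategory.Q _)
    ((DCoh.tensorCxQ S.X₂).totalLeftDerivedCounit DerivedCategory.Q _)
    ((DCoh.tensorCxQ S.X₃).totalLeftDerivedCounit DerivedCategory.Q _)
    DCoh.IsKFlat (fun P hP => Assoc.isIso_counit _ P hP) (fun P hP => Assoc.isIso_counit _ P hP)
    (fun P hP => Assoc.isIso_counit _ P hP) (exists_good S σ) (ltMap S.f) (ltMap S.g)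
    (fun P => ltMap_fac S.f P) (fun P => ltMap_fac S.g P) (fun L => isZero_RSheafHom hz L)
  have hsh : ∀ {L : DCoh.D X}, DCoh.IsQCohD L → ∀ n : ℤ, DCoh.IsQCohD (L⟦n⟧) := fun h n =>
    FiveRight.PD_shift (fun N : X.Modules => Coh.IsQCoh N) (fun e h => isQCoh_of_iso' e h) h n
  refine ⟨fun h => ⟨fun L hL => ?_⟩, fun h => ⟨fun L hL => ?_⟩⟩
  · obtain ⟨i⟩ := key (L⟦(-1 : ℤ)⟧)
    exact isQCohD_of_iso (i ≪≫ (DCoh.RSheafHom S.X₃).mapIso
      ((shiftEquiv' (DCoh.D X) (-1 : ℤ) 1 (by omega)).unitIso.app L).symm) (h.pres _ (hsh hL (-1)))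
  · obtain ⟨i⟩ := key L
    exact isQCohD_of_iso i.symm (h.pres _ (hsh hL 1))

end Split

/-- shifting by one -/
theorem rPres_shift_one (E : CochainComplex X.Modules ℤ) : RPres E ↔ RPres (E⟦(1 : ℤ)⟧) :=
  rPres_outer (mappingCone.triangleRotateShortComplex (𝟙 E)) (mappingCone.triangleRotateShortComplexSplitting (𝟙 E))
    (fun i => (HomologicalComplex.exactAt_iff_isZero_homology _ _).2 (ConeTransfer.acyclic_cone (𝟙 E) i))

theorem rPres_of_iso {E E' : CochainComplex X.Modules ℤ} (e : E ≅ E') (h : RPres E) : RPres E' :=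
  (rPres_iff_qis e.hom).1 h

/-- shifting -/
theorem rPres_shift (E : CochainComplex X.Modules ℤ) (n : ℤ) : RPres (E⟦n⟧) ↔ RPres E := by
  have step : ∀ m : ℤ, RPres (E⟦m⟧) ↔ RPres (E⟦m + 1⟧) := fun m => (rPres_shift_one _).trans
    ⟨rPres_of_iso ((shiftFunctorAdd _ m 1).app E).symm, rPres_of_iso ((shiftFunctorAdd _ m 1).app E)⟩
  induction n using Int.induction_on with
  | zero => exact ⟨rPres_of_iso ((shiftFunctorZero _ ℤ).app E), rPres_of_iso ((shiftFunctorZero _ ℤ).app E).symm⟩
  | succ m ih => exact (step m).symm.trans ih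
  | pred m ih => exact (by have := step (-(m : ℤ) - 1); rwa [sub_add_cancel] at this : RPres _ ↔ RPres _).trans ih

/-- two out of three, middle term -/
theorem rPres_middle (S : ShortComplex (CochainComplex X.Modules ℤ))
    (σ : ∀ n, (S.map (HomologicalComplex.eval X.Modules (ComplexShape.up ℤ) n)).Splitting)
    (h₁ : RPres S.X₁) (h₃ : RPres S.X₃) : RPres S.X₂ := by
  have hS : S.ShortExact := HomologicalComplex.shortExact_of_degreewise_shortExact _ fun n => (σ n).shortExact
  haveI := mappingCone.quasiIso_descShortComplex hS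
  exact rPres_first (mappingCone.triangleRotateShortComplex S.f)
    (mappingCone.triangleRotateShortComplexSplitting S.f)
    ((rPres_iff_qis (mappingCone.descShortComplex S)).2 h₃) ((rPres_shift _ 1).2 h₁)

section Single

open Groth.L00.Tensor in
/-- naturality of the unit -/
theorem tensorUnitLeft_natural {M N : X.Modules} (f : M ⟶ N) :
    tensorMap (𝟙 (Coh.structureModule X)) f ≫ (tensorUnitLeft N).hom = (tensorUnitLeft M).hom ≫ f := by
  have hc : (shf X).map ((preF X).map f) ≫ (counitIso N).hom = (counitIso M).hom ≫ f :=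
    (PresheafOfModules.sheafificationAdjunction (𝟙 X.ringCatSheaf.obj)).counit.naturality f
  have h0 : (𝟙 (𝟙_ (PX X)) ⊗ₘ (preF X).map f) ≫ (λ_ (pre N)).hom = (λ_ (pre M)).hom ≫ (preF X).map f := by
    rw [id_tensorHom, leftUnitor_naturality]
    rfl
  have h1 := congrArg (shf X).map h0
  rw [Functor.map_comp, Functor.map_comp] at h1
  have h2 : tensorMap (𝟙 (Coh.structureModule X)) f = (shf X).map (𝟙 (𝟙_ (PX X)) ⊗ₘ (preF X).map f) :=
    congrArg (fun t => (shf X).map (t ⊗ₘ (preF X).map f)) ((preF X).map_id _)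
  calc tensorMap (𝟙 (Coh.structureModule X)) f ≫ (tensorUnitLeft N).hom
      = ((shf X).map (𝟙 (𝟙_ (PX X)) ⊗ₘ (preF X).map f) ≫ (shf X).map (λ_ (pre N)).hom) ≫ (counitIso N).hom :=
        (congrArg (fun t => t ≫ (tensorUnitLeft N).hom) h2).trans (Category.assoc _ _ _).symm
    _ = (shf X).map (λ_ (pre M)).hom ≫ ((shf X).map ((preF X).map f) ≫ (counitIso N).hom) := by
        rw [h1]; exact Category.assoc _ _ _
    _ = (shf X).map (λ_ (pre M)).hom ≫ ((counitIso M).hom ≫ f) := by rw [hc]
    _ = (tensorUnitLeft M).hom ≫ f := (Category.assoc _ _ _).symm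
open Groth.L00.Tensor in
theorem bi_unit_natural {M N : X.Modules} (f : M ⟶ N)
    (h : tensorMap (𝟙 (Coh.structureModule X)) f ≫ (tensorUnitLeft N).hom = (tensorUnitLeft M).hom ≫ f) :
    ((DCoh.tensorBi (X := X)).obj (Coh.structureModule X)).map f ≫ (tensorUnitLeft N).hom =
      (tensorUnitLeft M).hom ≫ f := by
  refine Eq.trans ?_ h
  exact congrArg (fun t => t ≫ (tensorUnitLeft N).hom) (tensorBi_obj_map (Coh.structureModule X) f)

/-- the unit of the tensor product, naturally -/
noncomputable def unitNatIso : (DCoh.tensorBi (X := X)).obj (Coh.structureModule X) ≅ 𝟭 X.Modules :=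
  NatIso.ofComponents (fun M => (Groth.L00.Tensor.tensorUnitLeft M :
      ((DCoh.tensorBi (X := X)).obj (Coh.structureModule X)).obj M ≅ M))
    (fun {M N} f => bi_unit_natural f (tensorUnitLeft_natural f))

/-- the structure sheaf in degree zero -/
noncomputable abbrev O0 (X : Scheme.{u}) : CochainComplex X.Modules ℤ :=
  (HomologicalComplex.single X.Modules (ComplexShape.up ℤ) 0).obj (Coh.structureModule X)

/-- tensoring with the unit complex -/
noncomputable def unitCxIso : (DCoh.tensorCx (X := X)).flip.obj (O0 X) ≅ 𝟭 _ :=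
  (flipIso (O0 X)).symm ≪≫ NatIso.ofComponents
    (fun L => (SingleTotal.iso (DCoh.tensorBi (X := X)) (Coh.structureModule X) L).symm)
    (fun {L L'} a => singleTotal_natural (DCoh.tensorBi (X := X)) (Coh.structureModule X) a) ≪≫
    NatIso.mapHomologicalComplex unitNatIso (ComplexShape.up ℤ) ≪≫
    Functor.mapHomologicalComplexIdIso X.Modules (ComplexShape.up ℤ)

theorem isStrictlyPerfect_O0 : DCoh.IsStrictlyPerfect (O0 X) :=
    ⟨⟨0, 0, fun i hi => HomologicalComplex.isZero_single_obj_X _ _ _ _ (by omega)⟩, fun i => by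
      by_cases h : i = 0
      · subst h
        exact Groth.L29.LocFree.of_iso (HomologicalComplex.singleObjXSelf _ _ _).symm
          (fun _ => ⟨⊤, 1, trivial, ⟨(Scheme.Modules.restrictFunctor (⊤ : X.Opens).ι).mapIso
            (coproductUniqueIso fun _ : Fin 1 => Coh.structureModule X).symm ≪≫
              (Scheme.Modules.restrictFunctorIsoPullback _).app _ ≪≫ Groth.L29.LocFree.pullbackFreeIso _ 1⟩⟩)
      · exact Groth.L29.LocFree.of_isZero (HomologicalComplex.isZero_single_obj_X _ _ _ _ h)⟩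

/-- internal Hom out of the unit is the identity -/
theorem nonempty_RSheafHom_O0 [DCoh.HasLTensorCx (O0 X)] [DCoh.HasRSheafHom (O0 X)] :
    Nonempty (DCoh.RSheafHom (O0 X) ≅ 𝟭 (DCoh.D X)) := by
  have hE : DCoh.IsKFlat (O0 X) := isKFlat_of_isStrictlyPerfect isStrictlyPerfect_O0
  let e : DerivedCategory.Q ⋙ DCoh.LTensorCx (O0 X) ≅ DerivedCategory.Q ⋙ 𝟭 (DCoh.D X) :=
    Assoc.allIso _ hE ≪≫ Functor.isoWhiskerRight unitCxIso _ ≪≫ Functor.leftUnitor _ ≪≫ (Functor.rightUnitor _).symm
  let i : DCoh.LTensorCx (O0 X) ≅ 𝟭 _ := Localization.liftNatIso DerivedCategory.Q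
    (HomologicalComplex.quasiIso X.Modules (ComplexShape.up ℤ)) _ _ _ _ e
  exact ⟨((DCoh.RSheafHomAdj (O0 X)).ofNatIsoLeft i).rightAdjointUniq Adjunction.id⟩

theorem rPres_O0 : RPres (O0 X) := by
  refine ⟨fun {_} {_} L hL => ?_⟩
  obtain ⟨i⟩ := nonempty_RSheafHom_O0 (X := X)
  exact isQCohD_of_iso (i.app L).symm hL

/-- `RPres` for a module in degree zero -/
abbrev RPres₀ (M : X.Modules) : Prop :=
  RPres ((HomologicalComplex.single X.Modules (ComplexShape.up ℤ) 0).obj M)

theorem rPres_single_iff (M : X.Modules) (n : ℤ) :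
    RPres ((HomologicalComplex.single X.Modules (ComplexShape.up ℤ) n).obj M) ↔ RPres₀ M := by
  let e := ((CochainComplex.singleFunctors X.Modules).shiftIso (-n) n 0 (by omega)).app M
  exact ⟨fun h => (rPres_shift _ (-n)).1 (rPres_of_iso e.symm h),
    fun h => rPres_of_iso e ((rPres_shift _ (-n)).2 h)⟩

theorem rPres₀_biprod {M N : X.Modules} (hM : RPres₀ M) (hN : RPres₀ N) : RPres₀ (M ⊞ N) :=
  let s := HomologicalComplex.single X.Modules (ComplexShape.up ℤ) 0
  rPres_middle ((ShortComplex.mk (biprod.inl : M ⟶ M ⊞ N) biprod.snd (by simp)).map s)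
    (fun n => ((ShortComplex.Splitting.ofHasBinaryBiproduct M N).map
      (s ⋙ HomologicalComplex.eval X.Modules (ComplexShape.up ℤ) n))) hM hN

theorem rPres₀_coprod : ∀ (n : ℕ) (M : Fin n → X.Modules), (∀ i, RPres₀ (M i)) → RPres₀ (∐ M) := by
  intro n
  induction n with
  | zero =>
    intro M _
    refine rPres_of_acyclic fun i => ?_
    exact ShortComplex.exact_of_isZero_X₂ _ ((HomologicalComplex.eval X.Modules _ i).map_isZero
      ((HomologicalComplex.single X.Modules (ComplexShape.up ℤ) 0).map_isZero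
        ((IsZero.iff_id_eq_zero _).2 (Sigma.hom_ext _ _ fun i => i.elim0))))
  | succ n ih =>
    intro M h
    exact rPres_of_iso ((HomologicalComplex.single X.Modules (ComplexShape.up ℤ) 0).mapIso (coprodFinSuccIso M).symm)
      (rPres₀_biprod (h 0) (ih _ fun i => h i.succ))

theorem rPres₀_freeMod (n : ℕ) : RPres₀ (FlatMod.freeMod X n) :=
  rPres₀_coprod n _ fun _ => rPres_O0

end Single

/-- locality -/
theorem rPres_of_local {E : CochainComplex X.Modules ℤ}
    (h : ∀ x : X, ∃ V : X.Opens, x ∈ V ∧ RPres ((DCoh.restrictCx V).obj E)) : RPres E := by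
  refine ⟨fun {_} {_} L hL => isQCohD_of_cover fun x => ?_⟩
  obtain ⟨V, hx, hV⟩ := h x
  haveI := KFlat.hasLTensorCx ((ExtZero.rCx V.ι).obj E)
  haveI := hasRSheafHom ((ExtZero.rCx V.ι).obj E)
  obtain ⟨i⟩ := ExtZero.nonempty_res_RSheafHom V.ι E
  exact ⟨V, hx, isQCohD_of_iso (i.app L).symm (hV.pres _ (isQCohD_restrictD V.ι hL))⟩

/-- locally free modules -/
theorem rPres₀_of_isFinLocFree {M : X.Modules} (hM : FlatMod.IsFinLocFree M) : RPres₀ M :=
  rPres_of_local fun x => by
    obtain ⟨V, n, hx, ⟨i⟩⟩ := hM x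
    exact ⟨V, hx, rPres_of_iso
      ((HomologicalComplex.singleMapHomologicalComplex (Scheme.Modules.restrictFunctor V.ι)
        (ComplexShape.up ℤ) 0).app M ≪≫ (HomologicalComplex.single _ (ComplexShape.up ℤ) 0).mapIso i).symm
      (rPres₀_freeMod n)⟩

section Perfect

/-- the brutal truncation as a degreewise split sequence -/
noncomputable abbrev brutalSC (E : CochainComplex X.Modules ℤ) (n : ℤ) :
    ShortComplex (CochainComplex X.Modules ℤ) :=
  ShortComplex.mk (brutalι E n) (cokernel.π _) (cokernel.condition _)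

theorem brutalSC_shortExact (E : CochainComplex X.Modules ℤ) (n : ℤ) : (brutalSC E n).ShortExact :=
  haveI : ∀ i, Mono ((brutalι E n).f i) := fun i => inferInstanceAs (Mono (kernel.ι _))
  haveI : Mono (brutalSC E n).f := HomologicalComplex.mono_of_mono_f (brutalι E n) inferInstance
  haveI : Epi (brutalSC E n).g := inferInstanceAs (Epi (cokernel.π _))
  { exact := ShortComplex.exact_cokernel _ }

theorem exists_retraction_brutal (E : CochainComplex X.Modules ℤ) (n i : ℤ) :
    ∃ r : E.X i ⟶ (brutal E n).X i, (brutalι E n).f i ≫ r = 𝟙 _ := by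
  rcases lt_or_ge i n with h | h
  · exact ⟨0, (isZero_brutal_X E n h).eq_of_src _ _⟩
  · haveI := isIso_brutalι E n h
    exact ⟨inv ((brutalι E n).f i), IsIso.hom_inv_id _⟩

/-- splittings -/
noncomputable def brutalSplit (E : CochainComplex X.Modules ℤ) (n i : ℤ) :
    ((brutalSC E n).map (HomologicalComplex.eval X.Modules (ComplexShape.up ℤ) i)).Splitting :=
  let hS := (brutalSC_shortExact E n).map_of_exact (HomologicalComplex.eval X.Modules (ComplexShape.up ℤ) i)
  ShortComplex.Splitting.ofExactOfRetraction _ hS.exact (exists_retraction_brutal E n i).choose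
    (exists_retraction_brutal E n i).choose_spec hS.epi_g

/-- the quotient of a brutal truncation is a single locally free module -/
theorem brutal_quotient (E : CochainComplex X.Modules ℤ) (a b : ℤ) (hv : DCoh.VanishesOutside E a b)
    (hf : ∀ i, FlatMod.IsFinLocFree (E.X i)) :
    ∃ M : X.Modules, FlatMod.IsFinLocFree M ∧
      Nonempty ((brutalSC E (a + 1)).X₃ ≅ (HomologicalComplex.single X.Modules (ComplexShape.up ℤ) a).obj M) := by
  let Qc := (brutalSC E (a + 1)).X₃
  have hz : ∀ i, i ≠ a → IsZero (Qc.X i) := fun i hi => by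
    haveI := ((brutalSC_shortExact E (a + 1)).map_of_exact (HomologicalComplex.eval X.Modules (ComplexShape.up ℤ) i)).epi_g
    rcases lt_or_gt_of_ne hi with h | h
    · exact (hv i (by omega)).of_epi ((brutalSC E (a + 1)).g.f i)
    · haveI := isIso_brutalι E (a + 1) (show a + 1 ≤ i by omega)
      refine IsZero.of_epi_eq_zero ((brutalSC E (a + 1)).g.f i) ?_
      rw [← cancel_epi ((brutalι E (a + 1)).f i), comp_zero]
      exact (HomologicalComplex.comp_f _ _ i).symm.trans
        (congrArg (fun t => HomologicalComplex.Hom.f t i) (brutalSC E (a + 1)).zero)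
  haveI : Qc.IsStrictlyGE a := (CochainComplex.isStrictlyGE_iff _ _).2 fun i hi => hz i (by omega)
  haveI : Qc.IsStrictlyLE a := (CochainComplex.isStrictlyLE_iff _ _).2 fun i hi => hz i (by omega)
  obtain ⟨M, ⟨e⟩⟩ := CochainComplex.exists_iso_single Qc a
  refine ⟨M, ?_, ⟨e⟩⟩
  haveI : IsIso ((brutalSC E (a + 1)).g.f a) := by
    have hS := (brutalSC_shortExact E (a + 1)).map_of_exact (HomologicalComplex.eval X.Modules (ComplexShape.up ℤ) a)
    haveI := hS.epi_g
    haveI : Mono ((brutalSC E (a + 1)).g.f a) :=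
      hS.exact.mono_g ((isZero_brutal_X E (a + 1) (by omega)).eq_of_src _ _)
    exact isIso_of_mono_of_epi _
  exact Groth.L29.LocFree.of_iso (asIso ((brutalSC E (a + 1)).g.f a) ≪≫
    (HomologicalComplex.eval X.Modules (ComplexShape.up ℤ) a).mapIso e ≪≫
    HomologicalComplex.singleObjXSelf (ComplexShape.up ℤ) a M) (hf a)

theorem rPres_of_bounded : ∀ (k : ℕ) (E : CochainComplex X.Modules ℤ) (a b : ℤ), b - a < k →
    DCoh.VanishesOutside E a b → (∀ i, FlatMod.IsFinLocFree (E.X i)) → RPres E := by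
  intro k
  induction k with
  | zero =>
    intro E a b hab hv _
    exact rPres_of_acyclic fun i => ShortComplex.exact_of_isZero_X₂ _ (hv i (by omega))
  | succ k ih =>
    intro E a b hab hv hf
    refine rPres_middle (brutalSC E (a + 1)) (brutalSplit E (a + 1)) (ih _ (a + 1) b (by omega) ?_ ?_) ?_
    · intro i hi
      rcases lt_or_ge i (a + 1) with h | h
      · exact isZero_brutal_X E _ h
      · haveI : Mono ((brutalι E (a + 1)).f i) := inferInstanceAs (Mono (kernel.ι _))
        exact (hv i (by omega)).of_mono ((brutalι E (a + 1)).f i)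
    · intro i
      rcases lt_or_ge i (a + 1) with h | h
      · exact Groth.L29.LocFree.of_isZero (isZero_brutal_X E _ h)
      · haveI := isIso_brutalι E (a + 1) h
        exact Groth.L29.LocFree.of_iso (asIso ((brutalι E (a + 1)).f i)).symm (hf i)
    · obtain ⟨M, hM, ⟨e⟩⟩ := brutal_quotient E a b hv hf
      exact rPres_of_iso e.symm ((rPres_single_iff M a).2 (rPres₀_of_isFinLocFree hM))

theorem rPres_of_isStrictlyPerfect {E : CochainComplex X.Modules ℤ} (hE : DCoh.IsStrictlyPerfect E) : RPres E := by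
  obtain ⟨⟨a, b, hv⟩, hf⟩ := hE
  exact rPres_of_bounded ((b - a).toNat + 1) E a b (by omega) hv hf

/-- internal Hom out of a perfect complex keeps quasi-coherent cohomology -/
theorem rPres_of_isPerfect {K : CochainComplex X.Modules ℤ} (hK : DCoh.IsPerfect (DCoh.toD X K)) : RPres K :=
  rPres_of_local fun x => by
    obtain ⟨V, hx, h⟩ := hK x
    obtain ⟨E, hE, ⟨e⟩⟩ := h K ⟨Iso.refl _⟩
    exact ⟨V, hx, rPres_of_toD_iso e.symm (rPres_of_isStrictlyPerfect hE)⟩

end Perfect

end Groth.L29.DC.RHom
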