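import Groth.Agent.L29.DCoh.RpushColim
import Groth.Agent.L10.HomotopyProd
import Mathlib.CategoryTheory.Limits.Constructions.Filtered

/-!
`Rf_*` commutes with coproducts of uniformly bounded below objects.
-/

set_option autoImplicit false
set_option backward.defeqAttrib.useBackward true
set_option backward.isDefEq.respectTransparency false
set_option backward.isDefEq.respectTransparency.types false

universe u

open CategoryTheory CategoryTheory.Limits AlgebraicGeometry TopologicalSpace
open CoproductsFromFiniteFiltered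

attribute [local instance] HasDerivedCategory.standard

namespace Groth.L29.DC.RpushColim

variable {X S : Scheme.{u}} (f : X ⟶ S)

theorem additive_Rpush [DCoh.HasRpush f] : (DCoh.Rpush f).Additive := by
  haveI := QRlim.enoughKInj X
  haveI := Groth.L17.PushQCoh.additive_push f
  let ι := (Groth.L10.KInjDerived.kInj X.Modules).ι
  let η := (DCoh.pushKh f).totalRightDerivedUnit DerivedCategory.Qh (HomotopyCategory.quasiIso X.Modules (ComplexShape.up ℤ))
  haveI : ∀ P, IsIso ((Functor.whiskerLeft ι η).app P) := fun P =>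
    Groth.L10.KInjDerived.isIso_app_of_isKInjective η P.obj P.property
  haveI := NatIso.isIso_of_isIso_app (Functor.whiskerLeft ι η)
  haveI : ((ι ⋙ DerivedCategory.Qh).asEquivalence).inverse.Additive :=
    haveI : ((ι ⋙ DerivedCategory.Qh).asEquivalence).functor.Additive := inferInstanceAs (ι ⋙ DerivedCategory.Qh).Additive
    Equivalence.inverse_additive _
  let E := (ι ⋙ DerivedCategory.Qh).asEquivalence
  exact Functor.additive_of_iso
    (F := E.inverse ⋙ ι ⋙ DCoh.pushKh f)
    (Functor.isoWhiskerLeft E.inverse (asIso (Functor.whiskerLeft ι η)) ≪≫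
      (Functor.associator _ _ _).symm ≪≫ Functor.isoWhiskerRight E.counitIso _ ≪≫ Functor.leftUnitor _)

end Groth.L29.DC.RpushColim

namespace Groth.L29.DC.Coprod

/-- an additive functor preserving the colimit of finite subsums preserves the coproduct -/
theorem isColimit_cofan_of_finite {A : Type*} [Category A] [Preadditive A] [HasFiniteCoproducts A]
    {B : Type*} [Category B] [Preadditive B] (G : A ⥤ B) [G.Additive] {α : Type u} (c : α → A)
    [HasCoproduct c] (h : IsColimit (G.mapCocone (finiteSubcoproductsCocone c))) :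
    Nonempty (IsColimit (Cofan.mk (G.obj (∐ c)) fun i => G.map (Sigma.ι c i))) := by
  haveI : PreservesFiniteCoproducts G := inferInstance
  let hS : ∀ S : Finset (Discrete α), IsColimit (Cofan.mk (G.obj (∐ fun x : S => c x.1.as))
      fun x => G.map (Sigma.ι (fun x : S => c x.1.as) x)) := fun S =>
    isColimitOfHasCoproductOfPreservesColimit G (fun x : S => c x.1.as)
  let dS : ∀ (s : Cofan fun i => G.obj (c i)) (S : Finset (Discrete α)),
      G.obj (∐ fun x : S => c x.1.as) ⟶ s.pt := fun s S =>
    Cofan.IsColimit.desc (hS S) fun x => s.inj x.1.as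
  have hd : ∀ (s : Cofan fun i => G.obj (c i)) (S : Finset (Discrete α)) (x : S),
      G.map (Sigma.ι (fun x : S => c x.1.as) x) ≫ dS s S = s.inj x.1.as := fun s S x =>
    Cofan.IsColimit.fac (hS S) _ x
  let T : ∀ s : Cofan fun i => G.obj (c i), Cocone (liftToFinsetObj (Discrete.functor c) ⋙ G) := fun s =>
    { pt := s.pt
      ι :=
        { app := dS s
          naturality := fun S S' g => by
            refine Cofan.IsColimit.hom_ext (hS S) _ _ fun x => ?_
            change G.map (Sigma.ι (fun x : S => c x.1.as) x) ≫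
              G.map ((liftToFinsetObj (Discrete.functor c)).map g) ≫ dS s S' =
              G.map (Sigma.ι (fun x : S => c x.1.as) x) ≫ dS s S ≫ 𝟙 _
            rw [← Category.assoc, ← G.map_comp, Category.comp_id, hd]
            simp only [liftToFinsetObj_map, Discrete.functor_obj_eq_as, Sigma.ι_desc]
            exact hd s S' _ } }
  refine ⟨mkCofanColimit _ (fun s => h.desc (T s)) (fun s i => ?_) fun s m hm => ?_⟩
  · simp only [cofan_mk_inj]
    have hf := h.fac (T s) {Discrete.mk i}
    rw [← hd s {Discrete.mk i} ⟨Discrete.mk i, Finset.mem_singleton_self _⟩]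
    change _ = _ ≫ (T s).ι.app {Discrete.mk i}
    rw [← hf, ← Category.assoc, Functor.mapCocone_ι_app, ← G.map_comp]
    simp [finiteSubcoproductsCocone]
  · refine h.hom_ext fun S => ?_
    rw [h.fac]
    refine Cofan.IsColimit.hom_ext (hS S) _ _ fun x => ?_
    change G.map (Sigma.ι (fun x : S => c x.1.as) x) ≫ G.map ((finiteSubcoproductsCocone c).ι.app S) ≫ m =
      G.map (Sigma.ι (fun x : S => c x.1.as) x) ≫ dS s S
    rw [← Category.assoc, ← G.map_comp, hd]
    simp only [finiteSubcoproductsCocone, Sigma.ι_desc]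
    exact hm x.1.as

end Groth.L29.DC.Coprod

namespace Groth.L29.DC.RpushColim

variable {X : Scheme.{u}} {ι : Type u} (C : ι → CochainComplex X.Modules ℤ)

/-- coproducts of complexes are coproducts in the derived category -/
theorem isColimit_Q_cofan [HasCoproduct C] [HasCoproductsOfShape ι X.Modules] :
    Nonempty (IsColimit (Cofan.mk (DerivedCategory.Q.obj (∐ C)) fun i => DerivedCategory.Q.map (Sigma.ι C i))) := by
  haveI := QRlim.enoughKInj X
  let q := DerivedCategory.quotientCompQhIso X.Modules
  have hb := fun Y => Groth.L10.DerivedProd.hom_from_coproduct_bijective C Y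
  refine ⟨mkCofanColimit _ (fun s => q.inv.app _ ≫ ((hb s.pt).surjective fun i => q.hom.app _ ≫ s.inj i).choose)
    (fun s i => ?_) fun s m hm => ?_⟩
  · simp only [cofan_mk_inj]
    have hn : DerivedCategory.Q.map (Sigma.ι C i) ≫ q.inv.app (∐ C) =
        q.inv.app (C i) ≫ DerivedCategory.Qh.map ((HomotopyCategory.quotient X.Modules (ComplexShape.up ℤ)).map (Sigma.ι C i)) :=
      q.inv.naturality (Sigma.ι C i)
    rw [reassoc_of% hn]
    have := congrFun ((hb s.pt).surjective fun i => q.hom.app _ ≫ s.inj i).choose_spec i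
    rw [this, Iso.inv_hom_id_app_assoc]
  · rw [← cancel_epi (q.hom.app _), Iso.hom_inv_id_app_assoc]
    refine (hb s.pt).injective (funext fun i => ?_)
    rw [congrFun ((hb s.pt).surjective fun i => q.hom.app _ ≫ s.inj i).choose_spec i, ← hm i, cofan_mk_inj]
    exact (q.hom.naturality_assoc (Sigma.ι C i) m).trans rfl

/-- cohomology commutes with coproducts in the derived category -/
theorem isColimit_H_cofan (K : ι → DCoh.D X) (c : Cofan K) (hc : IsColimit c) (j : ℤ) :
    Nonempty (IsColimit (Cofan.mk ((DerivedCategory.homologyFunctor X.Modules j).obj c.pt)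
      fun i => (DerivedCategory.homologyFunctor X.Modules j).map (c.inj i))) := by
  haveI := Groth.L00.Tensor.grothendieckAbelian_modules X
  let C : ι → CochainComplex X.Modules ℤ := fun i => DerivedCategory.Q.objPreimage (K i)
  haveI := HomologyColim.preservesColimitsOfShape_homology (A := X.Modules) (J := Discrete ι) (ComplexShape.up ℤ) j
  let H := DerivedCategory.homologyFunctor X.Modules j
  obtain ⟨h1⟩ := isColimit_Q_cofan C
  let c' : Cofan K := Cofan.mk (DerivedCategory.Q.obj (∐ C)) fun i =>
    (DerivedCategory.Q.objObjPreimageIso (K i)).inv ≫ DerivedCategory.Q.map (Sigma.ι C i)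
  have hc' : IsColimit c' := (IsColimit.precomposeHomEquiv
    (Discrete.natIso fun i => (DerivedCategory.Q.objObjPreimageIso (K i.as))) _).1
      (h1.ofIsoColimit (Cocone.ext (Iso.refl _) fun i => by simp [c']))
  let h2 := isColimitOfHasCoproductOfPreservesColimit (HomologicalComplex.homologyFunctor X.Modules (ComplexShape.up ℤ) j) C
  let φ := DerivedCategory.homologyFunctorFactors X.Modules j
  have h3 : IsColimit (Cofan.mk (H.obj c'.pt) fun i => H.map (c'.inj i)) :=
    (IsColimit.precomposeHomEquiv (Discrete.natIso fun i =>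
      (φ.app (C i.as)).symm ≪≫ H.mapIso (DerivedCategory.Q.objObjPreimageIso (K i.as))) _).1
      (h2.ofIsoColimit (Cocone.ext (φ.app (∐ C)).symm fun i => by
        simp only [Cofan.mk_ι_app, Cocone.precompose_obj_ι, NatTrans.comp_app, Discrete.natIso_hom_app,
          Iso.trans_hom, Functor.mapIso_hom, Iso.symm_hom, Iso.app_inv, Category.assoc, c', cofan_mk_inj,
          ← Functor.map_comp, Iso.hom_inv_id_assoc]
        exact φ.inv.naturality (Sigma.ι C i.as)))
  refine ⟨h3.ofIsoColimit (Cocone.ext (H.mapIso (hc'.coconePointUniqueUpToIso hc)) fun i => ?_)⟩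
  simp only [Cofan.mk_ι_app, Functor.mapIso_hom, ← Functor.map_comp]
  exact congrArg H.map (hc'.comp_coconePointUniqueUpToIso_hom hc i)

variable {S : Scheme.{u}} (f : X ⟶ S) [QuasiCompact f] [QuasiSeparated f] [DCoh.HasRpush f]

/-- coproducts of uniformly bounded below objects -/
theorem isColimit_G0_coprod [HasCoproduct C] (n : ℤ) (hC : ∀ i, (DCoh.toD X (C i)).IsGE n) (j : ℤ) :
    Nonempty (IsColimit (Cofan.mk ((G0 f j).obj (∐ C)) fun i => (G0 f j).map (Sigma.ι C i))) := by
  haveI := Groth.L00.Tensor.grothendieckAbelian_modules X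
  haveI := additive_Rpush f
  haveI : (G0 f j).Additive := inferInstance
  have hJ : ∀ s : Finset (Discrete ι), (DCoh.toD X ((liftToFinsetObj (Discrete.functor C)).obj s)).IsGE n := fun s => by
    refine (DerivedCategory.isGE_iff _ _).2 fun i hi => ?_
    haveI : PreservesFiniteCoproducts (DerivedCategory.Q ⋙ DerivedCategory.homologyFunctor X.Modules i) :=
      inferInstance
    refine IsColimit.isZero_pt (isColimitOfHasCoproductOfPreservesColimit
      (DerivedCategory.Q ⋙ DerivedCategory.homologyFunctor X.Modules i) (fun x : s => C x.1.as))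
      (Functor.isZero _ fun x => ?_)
    exact DerivedCategory.isZero_of_isGE (DCoh.toD X (C x.as.1.as)) n i hi
  obtain ⟨h⟩ := isColimit_G0 f (liftToFinsetObj (Discrete.functor C)) _ (isColimitFiniteSubproductsCocone C) n hJ j
  exact Coprod.isColimit_cofan_of_finite (G0 f j) C h

omit [QuasiCompact f] [QuasiSeparated f] in
theorem isIso_sigma_desc_of (K : ι → DCoh.D X) [HasCoproduct fun i => DerivedCategory.Q.objPreimage (K i)]
    (hG : ∀ j : ℤ, Nonempty (IsColimit (Cofan.mk ((G0 f j).obj (∐ fun i => DerivedCategory.Q.objPreimage (K i)))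
      fun i => (G0 f j).map (Sigma.ι (fun i => DerivedCategory.Q.objPreimage (K i)) i))))
    [HasCoproduct K] [HasCoproduct (fun i => (DCoh.Rpush f).obj (K i))] :
    IsIso (Sigma.desc (fun i => (DCoh.Rpush f).map (Sigma.ι K i))) := by
  haveI := Groth.L00.Tensor.grothendieckAbelian_modules X
  rw [DerivedCategory.isIso_iff]
  intro j
  let C : ι → CochainComplex X.Modules ℤ := fun i => DerivedCategory.Q.objPreimage (K i)
  let e := fun i => DerivedCategory.Q.objObjPreimageIso (K i)
  obtain ⟨h0⟩ := hG j
  obtain ⟨h1⟩ := isColimit_Q_cofan C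
  let a : DerivedCategory.Q.obj (∐ C) ⟶ ∐ K :=
    Cofan.IsColimit.desc h1 fun i => (e i).hom ≫ Sigma.ι K i
  let b : ∐ K ⟶ DerivedCategory.Q.obj (∐ C) :=
    Sigma.desc fun i => (e i).inv ≫ DerivedCategory.Q.map (Sigma.ι C i)
  have ha : ∀ i, DerivedCategory.Q.map (Sigma.ι C i) ≫ a = (e i).hom ≫ Sigma.ι K i := fun i =>
    Cofan.IsColimit.fac h1 _ i
  have hab : a ≫ b = 𝟙 _ := Cofan.IsColimit.hom_ext h1 _ _ fun i => by
    simp [reassoc_of% (ha i), b]
  have hba : b ≫ a = 𝟙 _ := Sigma.hom_ext _ _ fun i => by simp [b, ha i]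
  let θ : DerivedCategory.Q.obj (∐ C) ≅ ∐ K := ⟨a, b, hab, hba⟩
  let H := DerivedCategory.homologyFunctor S.Modules j
  obtain ⟨h2⟩ := isColimit_H_cofan _ _ (coproductIsCoproduct fun i => (DCoh.Rpush f).obj (K i)) j
  let ν : Discrete.functor (fun i => H.obj ((DCoh.Rpush f).obj (K i))) ≅ Discrete.functor (fun i => (G0 f j).obj (C i)) :=
    Discrete.natIso fun i => H.mapIso ((DCoh.Rpush f).mapIso (e i.as).symm)
  have heq : H.map (Sigma.desc (fun i => (DCoh.Rpush f).map (Sigma.ι K i))) =
      (h2.coconePointsIsoOfNatIso h0 ν).hom ≫ H.map ((DCoh.Rpush f).map θ.hom) := by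
    refine Cofan.IsColimit.hom_ext h2 _ _ fun i => ?_
    simp only [cofan_mk_inj]
    refine Eq.trans ?_ ((IsColimit.comp_coconePointsIsoOfNatIso_hom h2 h0 ν ⟨i⟩) =≫ H.map ((DCoh.Rpush f).map θ.hom)).symm
    simp only [ν, Discrete.natIso_hom_app, Functor.mapIso_hom, Iso.symm_hom, Cofan.mk_ι_app, Category.assoc]
    change H.map _ ≫ _ = H.map _ ≫ (G0 f j).map _ ≫ _
    simp only [G0, Functor.comp_map, ← Functor.map_comp, θ, ha, Iso.inv_hom_id_assoc, Sigma.ι_desc]
    simp [H, ← Functor.map_comp, ha]
    exact congrArg _ (congrArg _ ((congrArg ((e i).inv ≫ ·) (ha i)).trans (Iso.inv_hom_id_assoc _ _)).symm)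
  change IsIso (H.map _)
  rw [heq]
  exact IsIso.comp_isIso' inferInstance
    (H.mapIso ((DCoh.Rpush f).mapIso θ)).isIso_hom

theorem isIso_sigma_desc (K : ι → DCoh.D X) (n : ℤ) (hK : ∀ i, (K i).IsGE n)
    [HasCoproduct K] [HasCoproduct (fun i => (DCoh.Rpush f).obj (K i))] :
    IsIso (Sigma.desc (fun i => (DCoh.Rpush f).map (Sigma.ι K i))) := by
  haveI := Groth.L00.Tensor.grothendieckAbelian_modules X
  refine isIso_sigma_desc_of f K fun j => isColimit_G0_coprod _ f n (fun i => ?_) j
  haveI : DerivedCategory.TStructure.t.IsGE (K i) n := hK i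
  exact DerivedCategory.TStructure.t.isGE_of_iso (DerivedCategory.Q.objObjPreimageIso (K i)).symm n

end Groth.L29.DC.RpushColim
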