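import Groth.Agent.L29.DCoh.RpushQC
import Groth.Agent.L29.DCoh.RpushRestrict
import Groth.Agent.L29.DCoh.QCohLocal

/-!
`Rf_*` preserves `D_QCoh` for quasi-compact quasi-separated `f`.
-/

set_option autoImplicit false
set_option backward.isDefEq.respectTransparency false
set_option backward.isDefEq.respectTransparency.types false

universe u

open CategoryTheory CategoryTheory.Limits AlgebraicGeometry

attribute [local instance] HasDerivedCategory.standard

namespace Groth.L29.DC.RpushQC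

variable {X S : Scheme.{u}}

theorem hasRpush (f : X ⟶ S) : DCoh.HasRpush f :=
  haveI := QRlim.enoughKInj X
  Groth.L10.KInjDerived.hasRightDerivedFunctor _

theorem isQCohD_Rpush (f : X ⟶ S) [QuasiCompact f] [QuasiSeparated f] [DCoh.HasRpush f] (K : DCoh.D X)
    (hK : DCoh.IsQCohD K) : DCoh.IsQCohD ((DCoh.Rpush f).obj K) := by
  refine isQCohD_of_cover fun y => ?_
  obtain ⟨_, ⟨(V : S.Opens), hV, rfl⟩, hyV, -⟩ := S.isBasis_affineOpens.exists_subset_of_mem_open (Set.mem_univ y) isOpen_univ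
  haveI : IsAffine (V : Scheme.{u}) := hV
  haveI := hasRpush (f ∣_ V)
  obtain ⟨e⟩ := RpushRes.nonempty_iso f V.ι (f ⁻¹ᵁ V).ι (f ∣_ V)
    (by rw [Scheme.Opens.opensRange_ι, Scheme.Opens.opensRange_ι]) (morphismRestrict_ι f V)
  exact ⟨V, hyV, isQCohD_of_iso (e.app K).symm
    (isQCohD_Rpush_of_compact (f ∣_ V) _ (isQCohD_restrictD (f ⁻¹ᵁ V).ι hK))⟩

end Groth.L29.DC.RpushQC
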