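import Groth.Agent.L29.DCoh.RpushQC
import Groth.Agent.L29.DCoh.RpushQCoh
import Groth.Agent.L10.RDerCohIn
import Groth.Agent.L17.CohClass
import Groth.Agent.L29.DCoh.RHomCoh
import Groth.Agent.L29.DCoh.RpushCoprod
import Groth.Agent.S0795

/-!
Coherence and boundedness of `Rf_*` for proper supports.
-/

set_option autoImplicit false
set_option backward.defeqAttrib.useBackward true
set_option backward.isDefEq.respectTransparency false
set_option backward.isDefEq.respectTransparency.types false

universe u

open CategoryTheory CategoryTheory.Limits CategoryTheory.Pretriangulated AlgebraicGeometry DerivedCategory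

attribute [local instance] HasDerivedCategory.standard

namespace Groth.L29.DC.RpushCoh

open Groth.L10

variable {X S : Scheme.{u}}

/-- coherent modules -/
abbrev CohP (S : Scheme.{u}) : ObjectProperty S.Modules := fun M => Coh.IsCoh M

instance isWeakSerre_coh (S : Scheme.{u}) [IsLocallyNoetherian S] : WSerre.IsWeakSerre (CohP S) := by
  have hz : (CohP S).ContainsZero := ⟨⟨_, isZero_zero _, Groth.L29.DC.RHomC.isCoh_of_isZero (isZero_zero _)⟩⟩
  have hk : (CohP S).IsClosedUnderKernels := ⟨by
    rintro _ ⟨f, c, hc, hM, hN⟩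
    exact Groth.L16.CohSupport.isCoh_of_iso ((kernelIsKernel f).conePointUniqueUpToIso hc)
      (Groth.L16.CohKernel.isCoh_kernel_cokernel hM hN f).1⟩
  have hc : (CohP S).IsClosedUnderCokernels := ⟨by
    rintro _ ⟨f, c, hc, hM, hN⟩
    exact Groth.L16.CohSupport.isCoh_of_iso ((cokernelIsCokernel f).coconePointUniqueUpToIso hc)
      (Groth.L16.CohKernel.isCoh_kernel_cokernel hM hN f).2⟩
  have he : (CohP S).IsClosedUnderExtensions :=
    ⟨fun {T} hT h1 h3 => Groth.L17.CohClass.isCoh_of_shortExact T hT h1 h3⟩
  exact { toContainsZero := hz }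

variable (f : X ⟶ S) [LocallyOfFiniteType f]

/-- coherent modules with support proper over the base -/
abbrev ProperSupp : ObjectProperty X.Modules :=
  fun M => Coh.IsCoh M ∧ ClSub.IsProperOver f (CohB1.support M)

theorem support_congr {M N : X.Modules} (e : M ≅ N) : CohB1.support M = CohB1.support N := by
  ext x
  exact not_congr ((Groth.L00.Stk.F X x).mapIso e).toLinearEquiv.toEquiv.subsingleton_congr

instance isClosedUnderIso_properSupp [IsLocallyNoetherian X] : (ProperSupp f).IsClosedUnderIsomorphisms :=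
  ⟨fun {M N} e h => ⟨Groth.L16.CohSupport.isCoh_of_iso e h.1, support_congr e ▸ h.2⟩⟩

variable [IsLocallyNoetherian S]

/-- bounded below case -/
theorem isCohD_Rpush [DCoh.HasRpush f] (E : DCoh.D X) (a : ℤ) [E.IsGE a] (hE : DCoh.IsCohD E)
    (hs : ∀ i : ℤ, ClSub.IsProperOver f (CohB1.support (DCoh.HD E i))) :
    DCoh.IsCohD ((DCoh.Rpush f).obj E) := by
  haveI := Groth.L17.PushQCoh.hasInjectiveResolutions X
  haveI : HasInjectiveResolutions (ModSite.Mod X.sheaf) := ‹HasInjectiveResolutions X.Modules›
  haveI := QRlim.enoughKInj X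
  haveI : EnoughInjectives X.Modules := (ModRDer.insts X.sheaf).1
  haveI : IsLocallyNoetherian X := LocallyOfFiniteType.isLocallyNoetherian f
  exact RDerBound.cohIn_obj_of_isGE (F := Scheme.Modules.pushforward f)
    ((DCoh.pushKh f).totalRightDerivedUnit DerivedCategory.Qh (HomotopyCategory.quasiIso X.Modules (ComplexShape.up ℤ)))
    (ProperSupp f) (CohP S) (fun M hM p => Groth.Agent.S0795.result f M hM.1 hM.2 p) E a
    fun i => ⟨hE i, hs i⟩

/-- vanishing in high degrees for one module -/
theorem exists_bound_module [CompactSpace ↥S] [HasInjectiveResolutions X.Modules] (F : X.Modules) (hF : Coh.IsCoh F)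
    (hs : ClSub.IsProperOver f (CohB1.support F)) :
    ∃ N : ℕ, ∀ p : ℕ, N ≤ p → IsZero ((Coh.Rpush f p).obj F) := by
  haveI : IsLocallyNoetherian X := LocallyOfFiniteType.isLocallyNoetherian f
  haveI : Coh.IsQCoh F := hF.1
  let J := Groth.L17.KilledUnit.annIdeal F hF
  have hk := Groth.L17.KilledUnit.killed_subschemeι F (Groth.L17.KilledUnit.killed_annIdeal F hF)
  have hG := Groth.L17.KilledUnit.isCoh_pullback_of_killed J.subschemeι F hF hk
  haveI := Groth.L17.KilledUnit.isIso_of_killed J.subschemeι F hk
  let e := asIso ((Scheme.Modules.pullbackPushforwardAdjunction J.subschemeι).unit.app F)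
  haveI : IsProper (J.subschemeι ≫ f) :=
    Groth.L17.ProperOver.isProper_of_isProperOver hs J.subschemeι (Scheme.IdealSheafData.range_subschemeι J).le
  haveI := Groth.L17.PushQCoh.hasInjectiveResolutions J.subscheme
  obtain ⟨N, hN⟩ := Groth.L29.DC.RpushQC.exists_bound (J.subschemeι ≫ f)
  refine ⟨N, fun p hp => ?_⟩
  obtain ⟨e'⟩ := Groth.L17.PushComp.nonempty_Rpush_comp_of_isClosedImmersion J.subschemeι f
    ((Scheme.Modules.pullback J.subschemeι).obj F) p
  exact (hN _ hG.1 p hp).of_iso ((Coh.Rpush f p).mapIso e ≪≫ e')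

/-- bounded above case -/
theorem exists_isLE [CompactSpace ↥S] [DCoh.HasRpush f] (b : ℤ) : ∀ (k : ℕ) (E : DCoh.D X), E.IsGE (b + 1 - k) →
    E.IsLE b → DCoh.IsCohD E → (∀ i : ℤ, ClSub.IsProperOver f (CohB1.support (DCoh.HD E i))) →
      ∃ b' : ℤ, ((DCoh.Rpush f).obj E).IsLE b' := by
  haveI := Groth.L17.PushQCoh.hasInjectiveResolutions X
  haveI : HasInjectiveResolutions (ModSite.Mod X.sheaf) := ‹HasInjectiveResolutions X.Modules›
  haveI := QRlim.enoughKInj X
  haveI : EnoughInjectives X.Modules := (ModRDer.insts X.sheaf).1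
  haveI : IsLocallyNoetherian X := LocallyOfFiniteType.isLocallyNoetherian f
  let α := (DCoh.pushKh f).totalRightDerivedUnit DerivedCategory.Qh (HomotopyCategory.quasiIso X.Modules (ComplexShape.up ℤ))
  intro k
  induction k with
  | zero =>
    intro E hge hle _ _
    have hz : IsZero E := by
      haveI := hge
      haveI := hle
      exact DerivedCategory.TStructure.t.isZero E b (b + 1 - (0 : ℕ)) (by omega)
    haveI : (DCoh.Rpush f).Additive := Groth.L29.DC.RpushColim.additive_Rpush f
    exact ⟨0, by
      rw [DerivedCategory.isLE_iff]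
      exact fun i _ => (DerivedCategory.homologyFunctor _ i).map_isZero ((DCoh.Rpush f).map_isZero hz)⟩
  | succ k ih =>
    intro E hge hle hE hs
    let a := b + 1 - (k + 1 : ℕ)
    let tt := (DerivedCategory.TStructure.t (C := X.Modules))
    let L := (tt.truncLT (a + 1)).obj E
    let R := (tt.truncGE (a + 1)).obj E
    haveI := hge
    haveI := hle
    have hLle : L.IsLE a := tt.isLE_truncLT_obj _ _ _ (by omega)
    have hLge : L.IsGE a := by
      rw [DerivedCategory.isGE_iff]
      intro i hi
      have := isIso_H_ι (a + 1) i (by omega) E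
      exact (DerivedCategory.isZero_of_isGE E a i hi).of_iso
        (asIso ((homologyFunctor X.Modules i).map ((tt.truncLTι (a + 1)).app E)))
    obtain ⟨e⟩ := exists_iso_single_H L a
    have := isIso_H_ι (a + 1) a (by omega) E
    let e' : L ≅ (singleFunctor X.Modules a).obj ((homologyFunctor X.Modules a).obj E) :=
      e ≪≫ (singleFunctor X.Modules a).mapIso (asIso ((homologyFunctor X.Modules a).map ((tt.truncLTι (a + 1)).app E)))
    obtain ⟨N, hN⟩ := exists_bound_module f _ (hE a) (hs a)
    obtain ⟨-, hLb, -⟩ := RDerBound.single_H (F := Scheme.Modules.pushforward f) α a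
      ((homologyFunctor X.Modules a).obj E) N (fun p hp => hN p (by omega))
    have hRge : R.IsGE (b + 1 - k) := tt.isGE_of_ge R (b + 1 - k) (a + 1) (by simp only [a]; omega)
    have hRle : R.IsLE b := by
      rw [DerivedCategory.isLE_iff]
      intro i hi
      have := isIso_H_π (a + 1) i (by simp only [a]; omega) E
      exact (DerivedCategory.isZero_of_isLE E b i hi).of_iso
        (asIso ((homologyFunctor X.Modules i).map ((tt.truncGEπ (a + 1)).app E))).symm
    have hRP : ∀ i, ProperSupp f (DCoh.HD R i) := fun i => by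
      by_cases hi : a + 1 ≤ i
      · have := isIso_H_π (a + 1) i hi E
        exact (ProperSupp f).prop_of_iso (asIso ((homologyFunctor X.Modules i).map ((tt.truncGEπ (a + 1)).app E))) ⟨hE i, hs i⟩
      · exact (ProperSupp f).prop_of_iso ((DerivedCategory.isZero_of_isGE E a (a - 1) (by omega)).iso
          (isZero_H_GE (a + 1) i (by omega) E)) ⟨hE (a - 1), hs (a - 1)⟩
    obtain ⟨b', hb'⟩ := ih R hRge hRle (fun i => (hRP i).1) (fun i => (hRP i).2)
    obtain ⟨δ, hT⟩ := RDerTri.exists_triangle α _ (tt.triangleLTGE_distinguished (a + 1) E)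
    refine ⟨max b' (a + N), ?_⟩
    rw [DerivedCategory.isLE_iff]
    intro i hi
    refine (DerivedCategory.HomologySequence.exact₂ _ hT i).isZero_X₂ (IsZero.eq_of_src ?_ _ _) (IsZero.eq_of_tgt ?_ _ _)
    · exact (DerivedCategory.isZero_of_isLE _ (a + N) i (by omega)).of_iso
        ((homologyFunctor _ i).mapIso ((DCoh.Rpush f).mapIso e'))
    · haveI := hb'
      exact DerivedCategory.isZero_of_isLE ((DCoh.Rpush f).obj R) b' i (by omega)

end Groth.L29.DC.RpushCoh
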