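import Mathlib.Algebra.Homology.Homotopy
import Mathlib.Algebra.Homology.HomotopyCategory
import Mathlib.CategoryTheory.Idempotents.Basic
import Mathlib.Algebra.Homology.DerivedCategory.Basic
import Mathlib.LinearAlgebra.Matrix.Rank
import Mathlib.LinearAlgebra.Matrix.NonsingularInverse

/-!
A complex with a partial contraction away from one degree is homotopy equivalent to a single object;
pseudo-inverse of a matrix from a maximal minor.
-/

set_option autoImplicit false
set_option backward.isDefEq.respectTransparency false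
set_option backward.isDefEq.respectTransparency.types false

universe u v

open CategoryTheory CategoryTheory.Limits

namespace Groth.L29.DC.Split

section Matrix

variable {K : Type u} [Field K] {m n : ℕ}

/-- a matrix of rank `R` is recovered from an invertible `R`-minor -/
theorem submatrix_adjugate_mul (M : Matrix (Fin m) (Fin n) K) (s : Fin M.rank → Fin m)
    (t : Fin M.rank → Fin n) (h : (M.submatrix s t).det ≠ 0) :
    M.submatrix id t * (M.submatrix s t).adjugate * M.submatrix s id = (M.submatrix s t).det • M := by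
  have hu : IsUnit (M.submatrix s t) := by
    rw [Matrix.isUnit_iff_isUnit_det, isUnit_iff_ne_zero]; exact h
  have hli : LinearIndependent K (M.submatrix id t).col := by
    rw [← Matrix.mulVec_injective_iff]
    intro a b hab
    refine Matrix.mulVec_injective_of_isUnit hu (funext fun k => ?_)
    exact congrFun hab (s k)
  have hspan : Submodule.span K (Set.range (M.submatrix id t).col) = Submodule.span K (Set.range M.col) := by
    refine Submodule.eq_of_le_of_finrank_eq (Submodule.span_mono ?_) ?_
    · rintro _ ⟨k, rfl⟩; exact ⟨t k, rfl⟩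
    · rw [finrank_span_eq_card hli, Fintype.card_fin, ← Matrix.rank_eq_finrank_span_cols]
  have hc : ∀ j, ∃ c : Fin M.rank → K, (M.submatrix id t).mulVec c = M.col j := fun j => by
    have : M.col j ∈ Submodule.span K (Set.range (M.submatrix id t).col) := by
      rw [hspan]; exact Submodule.subset_span ⟨j, rfl⟩
    obtain ⟨c, hc⟩ := (Submodule.mem_span_range_iff_exists_fun K).1 this
    refine ⟨c, ?_⟩
    rw [← hc]
    funext i
    simp [Matrix.mulVec, dotProduct, Matrix.col, mul_comm]
  choose c hc using hc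
  let C : Matrix (Fin M.rank) (Fin n) K := fun k j => c j k
  have hM : M = M.submatrix id t * C := by
    ext i j
    exact (congrFun (hc j) i).symm
  have hs : M.submatrix s id = M.submatrix s t * C := by
    ext k j
    exact (congrFun (hc j) (s k)).symm
  rw [hs, Matrix.mul_assoc, ← Matrix.mul_assoc (M.submatrix s t).adjugate, Matrix.adjugate_mul,
    Matrix.smul_mul, Matrix.one_mul, Matrix.mul_smul, ← hM]

end Matrix

section Complex

variable {C : Type u} [Category.{v} C] [Abelian C]

/-- a partial contraction away from degree `i` splits the complex -/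
theorem exists_single_split (P : CochainComplex C ℤ) (i : ℤ) (h : ∀ a b : ℤ, P.X b ⟶ P.X a)
    (hu : ∀ j, j ≠ i → IsIso (P.d j (j + 1) ≫ h j (j + 1) + h (j - 1) j ≫ P.d (j - 1) j)) :
    ∃ (M M' : C), Nonempty (M ⊞ M' ≅ P.X i) ∧
      Nonempty (HomotopyEquiv P ((HomologicalComplex.single C (ComplexShape.up ℤ) i).obj M)) := by
  classical
  let uu : ∀ j, P.X j ⟶ P.X j := fun j => P.d j (j + 1) ≫ h j (j + 1) + h (j - 1) j ≫ P.d (j - 1) j
  let g : ∀ j, P.X j ⟶ P.X j := fun j => if hj : j = i then 𝟙 _ else (haveI := hu j hj; inv (uu j))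
  have hg1 : ∀ j, j ≠ i → uu j ≫ g j = 𝟙 _ := fun j hj => by simp [g, dif_neg hj, uu]
  have hg2 : ∀ j, j ≠ i → g j ≫ uu j = 𝟙 _ := fun j hj => by
    haveI : IsIso (uu j) := hu j hj
    simp only [g, dif_neg hj]
    exact IsIso.inv_hom_id _
  have hcomm : ∀ a b, a + 1 = b → uu a ≫ P.d a b = P.d a b ≫ uu b := fun a b hab => by
    subst hab
    simp only [uu, Preadditive.add_comp, Preadditive.comp_add, Category.assoc,
      HomologicalComplex.d_comp_d, comp_zero, add_zero]
    rw [HomologicalComplex.d_comp_d_assoc, zero_comp, zero_add, show a + 1 - 1 = a by omega]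
  have hgd : ∀ a b, a + 1 = b → a ≠ i → b ≠ i → g a ≫ P.d a b = P.d a b ≫ g b := fun a b hab ha hb => by
    calc g a ≫ P.d a b = g a ≫ P.d a b ≫ uu b ≫ g b := by rw [hg1 b hb, Category.comp_id]
      _ = g a ≫ (uu a ≫ P.d a b) ≫ g b := by rw [hcomm a b hab, Category.assoc]
      _ = P.d a b ≫ g b := by rw [Category.assoc, ← Category.assoc, hg2 a ha, Category.id_comp]
  let k : ∀ a b : ℤ, P.X b ⟶ P.X a := fun a b => if a < i then h a b ≫ g a else g b ≫ h a b
  have key : ∀ a j b, a + 1 = j → j + 1 = b → j ≠ i → P.d j b ≫ k j b + k a j ≫ P.d a j = 𝟙 _ := by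
    intro a j b ha hb hj
    subst hb
    obtain rfl : a = j - 1 := by omega
    rcases lt_or_gt_of_ne hj with hlt | hgt
    · simp only [k, if_pos hlt, if_pos (show j - 1 < i by omega)]
      rw [Category.assoc, hgd _ _ (by omega) (by omega) hj, ← Category.assoc, ← Category.assoc,
        ← Preadditive.add_comp]
      exact hg1 j hj
    · simp only [k, if_neg (show ¬ j < i by omega), if_neg (show ¬ j - 1 < i by omega)]
      rw [← Category.assoc, ← hgd _ _ rfl hj (by omega), Category.assoc, Category.assoc,
        ← Preadditive.comp_add]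
      exact hg2 j hj
  let Pd := P.d i (i + 1) ≫ k i (i + 1)
  let Qd := k (i - 1) i ≫ P.d (i - 1) i
  have hPd : Pd ≫ P.d i (i + 1) = P.d i (i + 1) := by
    have h1 := congrArg (fun t => P.d i (i + 1) ≫ t) (key i (i + 1) (i + 1 + 1) rfl rfl (by omega))
    simpa [Pd] using h1
  have hQd : P.d (i - 1) i ≫ Qd = P.d (i - 1) i := by
    have h1 := congrArg (fun t => t ≫ P.d (i - 1) i) (key (i - 1 - 1) (i - 1) i (by omega) (by omega) (by omega))
    simpa [Qd] using h1
  have hQP : Qd ≫ Pd = 0 := by simp [Pd, Qd]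
  have hPP : Pd ≫ Pd = Pd := by
    change Pd ≫ P.d i (i + 1) ≫ k i (i + 1) = _
    rw [← Category.assoc, hPd]
  have hQQ : Qd ≫ Qd = Qd := by
    change (k (i - 1) i ≫ P.d (i - 1) i) ≫ Qd = _
    rw [Category.assoc, hQd]
  let p : P.X i ⟶ P.X i := (𝟙 _ - Pd) ≫ (𝟙 _ - Qd)
  have hpd : p ≫ P.d i (i + 1) = 0 := by
    simp only [p, Category.assoc, Preadditive.sub_comp, Category.id_comp]
    simp only [Qd, Category.assoc, HomologicalComplex.d_comp_d, comp_zero, sub_zero]
    rw [hPd, sub_self]
  have hdp : P.d (i - 1) i ≫ p = 0 := by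
    simp only [p, Preadditive.comp_sub, Preadditive.sub_comp, Category.id_comp, Category.comp_id, Pd,
      Category.assoc, HomologicalComplex.d_comp_d_assoc, zero_comp, sub_zero, hQd, sub_self]
  have hp : p ≫ p = p := by
    have : (𝟙 _ - Qd) ≫ (𝟙 _ - Pd) = 𝟙 _ - Pd - Qd := by
      simp [hQP]; abel
    change ((𝟙 _ - Pd) ≫ (𝟙 _ - Qd)) ≫ ((𝟙 _ - Pd) ≫ (𝟙 _ - Qd)) = _
    rw [Category.assoc, reassoc_of% this]
    simp only [p, Preadditive.sub_comp, Preadditive.comp_sub, Category.id_comp, Category.comp_id, Category.assoc]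
    simp only [hPP, hQQ, reassoc_of% hPP, sub_self, sub_zero]
  obtain ⟨M, ι, π, hιπ, hπι⟩ := IsIdempotentComplete.idempotents_split _ p hp
  obtain ⟨M', ι', π', hιπ', hπι'⟩ := IsIdempotentComplete.idempotents_split _ (𝟙 _ - p)
    (by simp [hp])
  have hm : Mono ι := ⟨fun a b e => by simpa [hιπ] using e =≫ π⟩
  have hm' : Mono ι' := ⟨fun a b e => by simpa [hιπ'] using e =≫ π'⟩
  have h12 : ι ≫ π' = 0 := by
    rw [← cancel_mono ι', Category.assoc, hπι', zero_comp, Preadditive.comp_sub, Category.comp_id,
      ← hπι, reassoc_of% hιπ, sub_self]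
  have h21 : ι' ≫ π = 0 := by
    rw [← cancel_mono ι, Category.assoc, hπι, zero_comp]
    calc ι' ≫ p = ι' ≫ (π' ≫ ι') ≫ p := by simp [reassoc_of% hιπ']
      _ = 0 := by rw [hπι']; simp [hp]
  refine ⟨M, M', ⟨⟨biprod.desc ι ι', biprod.lift π π', ?_, ?_⟩⟩, ⟨?_⟩⟩
  · apply biprod.hom_ext' <;> apply biprod.hom_ext <;> simp [hιπ, hιπ', h12, h21]
  · rw [biprod.lift_desc, hπι, hπι']; abel
  have hιd : ι ≫ P.d i (i + 1) = 0 := by
    calc ι ≫ P.d i (i + 1) = ι ≫ (π ≫ ι) ≫ P.d i (i + 1) := by simp [reassoc_of% hιπ]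
      _ = 0 := by rw [hπι, hpd, comp_zero]
  have hdπ : P.d (i - 1) i ≫ π = 0 := by
    rw [← cancel_mono ι, Category.assoc, hπι, hdp, zero_comp]
  let f : P ⟶ (HomologicalComplex.single C (ComplexShape.up ℤ) i).obj M :=
    HomologicalComplex.mkHomToSingle π (fun a (ha : a + 1 = i) => by
      obtain rfl : a = i - 1 := by omega
      exact hdπ)
  let f' : (HomologicalComplex.single C (ComplexShape.up ℤ) i).obj M ⟶ P :=
    HomologicalComplex.mkHomFromSingle ι (fun b (hb : i + 1 = b) => by subst hb; exact hιd)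
  -- the homotopy
  let H : ∀ a b : ℤ, P.X b ⟶ P.X a := fun a b =>
    if hb : b = i then k a b - eqToHom (by rw [hb]) ≫ (Pd ≫ k (i - 1) i ≫ eqToHom rfl) ≫
      (if ha : a = i - 1 then eqToHom (by rw [ha]) else 0) else k a b
  refine { hom := f, inv := f', homotopyHomInvId := ?_, homotopyInvHomId := ?_ }
  · refine { hom := fun a b => if b + 1 = a then -(H b a) else 0, zero := fun a b hab => if_neg hab, comm := fun j => ?_ }
    rw [dNext_eq _ (show (ComplexShape.up ℤ).Rel j (j + 1) from rfl),
      prevD_eq _ (show (ComplexShape.up ℤ).Rel (j - 1) j from by simp)]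
    simp only [if_true, show j - 1 + 1 = j by omega, Preadditive.comp_neg, Preadditive.neg_comp,
      HomologicalComplex.comp_f, HomologicalComplex.id_f]
    have hne : j + 1 ≠ i ∨ j ≠ i := by omega
    by_cases hji : j = i
    · subst hji
      simp only [f, f', HomologicalComplex.mkHomToSingle_f, HomologicalComplex.mkHomFromSingle_f,
        Category.assoc, Iso.inv_hom_id_assoc, hπι, H, dif_neg (show j + 1 ≠ j by omega), dif_pos,
        eqToHom_refl, Category.id_comp, Category.comp_id, Preadditive.sub_comp]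
      simp only [p, Pd, Qd, Preadditive.sub_comp, Preadditive.comp_sub, Category.id_comp, Category.comp_id,
        Category.assoc]
      abel
    · have hz : (f ≫ f').f j = 0 := by
        rw [HomologicalComplex.comp_f]
        exact (HomologicalComplex.isZero_single_obj_X (ComplexShape.up ℤ) i M j hji).eq_of_tgt (f.f j) 0 ▸ zero_comp
      rw [HomologicalComplex.comp_f] at hz
      rw [hz]
      have hk1 : P.d j (j + 1) ≫ H j (j + 1) = P.d j (j + 1) ≫ k j (j + 1) := by
        simp only [H]
        split_ifs with hb ha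
        · subst hb
          simp [Preadditive.comp_sub, Pd]
        · subst hb
          simp [Preadditive.comp_sub, Pd]
        · rfl
      rw [hk1, show H (j - 1) j = k (j - 1) j from dif_neg hji]
      have := key (j - 1) j (j + 1) (by omega) rfl hji
      rw [← this]
      abel
  · refine Homotopy.ofEq (HomologicalComplex.from_single_hom_ext ?_)
    simp [f, f', HomologicalComplex.mkHomFromSingle_f, HomologicalComplex.mkHomToSingle_f, reassoc_of% hιπ]

end Complex

end Groth.L29.DC.Split
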