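import Groth.Agent.L29.DCoh.FreeIso
import Groth.Agent.L29.DCoh.SingleSplit
import Groth.Agent.L29.DCoh.TensorPerfect
import Mathlib.RingTheory.LocalRing.Module

/-!
A flat cokernel of a map between finite locally free modules is finite locally free.
-/

set_option autoImplicit false
set_option backward.isDefEq.respectTransparency false
set_option backward.isDefEq.respectTransparency.types false

universe u

open CategoryTheory CategoryTheory.Limits AlgebraicGeometry Opposite

namespace Groth.L29.DC.Fib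

variable {X : Scheme.{u}}

/-- a maximal minor of a matrix with a pseudo-inverse gives a scaled pseudo-inverse -/
theorem scaled_pseudo {R K : Type u} [CommRing R] [Field K] (ρ : R →+* K) [IsLocalHom ρ] {m n : ℕ}
    (A : Matrix (Fin m) (Fin n) R) (G : Matrix (Fin n) (Fin m) R) (hG : A * G * A = A)
    (s : Fin (A.map ρ).rank → Fin m) (t : Fin (A.map ρ).rank → Fin n)
    (h : ((A.map ρ).submatrix s t).det ≠ 0) :
    A.submatrix id t * (A.submatrix s t).adjugate * A.submatrix s id = (A.submatrix s t).det • A := by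
  classical
  set c := (A.submatrix s t).det with hc
  set D := c • A - A.submatrix id t * (A.submatrix s t).adjugate * A.submatrix s id with hD
  have hcρ : ρ c = ((A.map ρ).submatrix s t).det := by
    rw [hc, RingHom.map_det, RingHom.mapMatrix_apply, ← Matrix.submatrix_map]
  have h0 : D.map ρ = 0 := by
    rw [hD, Matrix.map_sub _ (by simp), Matrix.map_mul, Matrix.map_mul, ← RingHom.mapMatrix_apply (M := (A.submatrix s t).adjugate),
      RingHom.map_adjugate, RingHom.mapMatrix_apply, ← Matrix.submatrix_map, ← Matrix.submatrix_map,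
      ← Matrix.submatrix_map, Split.submatrix_adjugate_mul (A.map ρ) s t h, ← hcρ, sub_eq_zero]
    ext i j
    simp
  have ht : A.submatrix id t = A * (1 : Matrix (Fin n) (Fin n) R).submatrix id t := by
    ext a b
    simp [Matrix.mul_apply, Matrix.one_apply, Matrix.submatrix]
  have hAD : A * (G * D) = D := by
    rw [hD, Matrix.mul_sub, Matrix.mul_sub, Matrix.mul_smul, Matrix.mul_smul, ← Matrix.mul_assoc, hG, ht]
    simp only [← Matrix.mul_assoc]
    rw [hG]
  have hu : IsUnit (c • (1 : Matrix (Fin n) (Fin n) R) - G * D) := by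
    rw [Matrix.isUnit_iff_isUnit_det]
    refine IsUnit.of_map ρ _ ?_
    rw [RingHom.map_det, RingHom.mapMatrix_apply, Matrix.map_sub _ (by simp), Matrix.map_mul, h0,
      Matrix.mul_zero, sub_zero, show (c • (1 : Matrix (Fin n) (Fin n) R)).map ρ = ρ c • (1 : Matrix (Fin n) (Fin n) K) by
        ext i j; by_cases hij : i = j <;> simp [Matrix.one_apply, hij], Matrix.det_smul, Matrix.det_one, mul_one, isUnit_iff_ne_zero]
    exact pow_ne_zero _ (hcρ ▸ h)
  set Y := c • (1 : Matrix (Fin n) (Fin n) R) - G * D with hY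
  have h1 : A * Y = A.submatrix id t * (A.submatrix s t).adjugate * A.submatrix s id := by
    rw [hY, Matrix.mul_sub, hAD, Matrix.mul_smul, Matrix.mul_one, hD, sub_sub_cancel]
  set C := (A.submatrix s t).adjugate * A.submatrix s id * Y⁻¹
  have hA : A = A.submatrix id t * C := by
    rw [← Matrix.mul_assoc, ← Matrix.mul_assoc, ← h1, Matrix.mul_assoc,
      Matrix.mul_nonsing_inv _ ((Matrix.isUnit_iff_isUnit_det _).1 hu), Matrix.mul_one]
  have hs : A.submatrix s id = A.submatrix s t * C := by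
    ext a b
    refine (congrFun (congrFun hA (s a)) b).trans ?_
    simp [Matrix.mul_apply, Matrix.submatrix]
  rw [hs, Matrix.mul_assoc, ← Matrix.mul_assoc (A.submatrix s t).adjugate, Matrix.adjugate_mul,
    Matrix.smul_mul, Matrix.one_mul, Matrix.mul_smul, ← hA]

/-- a morphism of free modules whose matrix vanishes at a point vanishes nearby -/
theorem exists_zero_nhd {M N : X.Modules} {n m : ℕ} (e : M ≅ FlatMod.freeMod X n)
    (e' : N ≅ FlatMod.freeMod X m) (φ : M ⟶ N) (x : X)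
    (h : ∀ i j, X.presheaf.germ ⊤ x trivial (mat (e.inv ≫ φ ≫ e'.hom) i j) = 0) :
    ∃ W : X.Opens, x ∈ W ∧ (Scheme.Modules.restrictFunctor W.ι).map φ = 0 := by
  classical
  let A := mat (e.inv ≫ φ ≫ e'.hom)
  have hij : ∀ p : Fin m × Fin n, ∃ W : X.Opens, x ∈ W ∧
      X.presheaf.map (homOfLE (le_top : W ≤ ⊤)).op (A p.1 p.2) = 0 := fun p => by
    obtain ⟨W, hW, iU, iV, e⟩ := TopCat.Presheaf.germ_eq X.presheaf (U := ⊤) (V := ⊤) x trivial trivial
      (A p.1 p.2) 0 ((h p.1 p.2).trans (map_zero (X.presheaf.germ ⊤ x trivial).hom).symm)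
    refine ⟨W, hW, ?_⟩
    rw [Subsingleton.elim (homOfLE (le_top : W ≤ ⊤)) iU, e, map_zero]
  choose W hW hz using hij
  refine ⟨Finset.univ.inf W, ?_, ?_⟩
  · rw [← SetLike.mem_coe, TopologicalSpace.Opens.coe_finset_inf]
    simp only [Set.mem_iInter, SetLike.mem_coe, Finset.inf_eq_iInf, Set.iInf_eq_iInter]
    exact fun p _ => hW p
  refine Groth.L21.Mod.hom_ext_stalk fun y => ?_
  rw [Groth.L21.Mod.restrict_stalk_map, Functor.map_zero]
  set x' := (Finset.univ.inf W).ι y
  suffices h' : ((Groth.L00.Stk.F X x').map φ).hom = 0 by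
    have : (Groth.L21.Mod.stalkF X x').map φ = 0 := by
      ext v
      exact LinearMap.congr_fun h' v
    rw [this, zero_comp, comp_zero]
  let ρ : X.presheaf.stalk x' →+* X.presheaf.stalk x' := RingHom.id _
  have hA : A.map (ev ρ) = 0 := by
    ext i j
    change X.presheaf.germ ⊤ x' trivial (A i j) = 0
    have hy : x' ∈ W (i, j) := (Finset.inf_le (f := W) (Finset.mem_univ (i, j))) y.2
    rw [← TopCat.Presheaf.germ_res_apply X.presheaf (homOfLE (le_top : W (i, j) ≤ ⊤)) x' hy, hz (i, j), map_zero]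
  have hψ : ((Φ ρ).map (e.inv ≫ φ ≫ e'.hom)).hom = 0 := by
    ext v
    apply (coord ρ m).injective
    have := LinearMap.congr_fun (coord_map ρ (e.inv ≫ φ ≫ e'.hom)) (coord ρ n v)
    rw [show (mat (e.inv ≫ φ ≫ e'.hom)).map (ev ρ) = 0 from hA] at this
    rw [LinearMap.zero_apply, map_zero]
    simpa using this
  have hΦ : ((Φ ρ).map φ).hom = 0 := by
    have h2 : φ = e.hom ≫ (e.inv ≫ φ ≫ e'.hom) ≫ e'.inv := by simp
    rw [h2, Functor.map_comp, Functor.map_comp, ModuleCat.hom_comp, ModuleCat.hom_comp, hψ,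
      LinearMap.comp_zero, LinearMap.zero_comp]
  letI := ρ.toAlgebra
  ext v
  have hv : (1 : X.presheaf.stalk x') ⊗ₜ[X.presheaf.stalk x'] ((Groth.L00.Stk.F X x').map φ).hom v = 0 :=
    LinearMap.congr_fun hΦ ((1 : X.presheaf.stalk x') ⊗ₜ v)
  simpa using congrArg (TensorProduct.lid (X.presheaf.stalk x') _) hv

theorem isIso_restrict_of_le {O W : X.Opens} (hle : O ≤ W) {A B : X.Modules} (φ : A ⟶ B)
    (h : IsIso ((Scheme.Modules.restrictFunctor W.ι).map φ)) :
    IsIso ((Scheme.Modules.restrictFunctor O.ι).map φ) := by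
  haveI := h
  exact (NatIso.isIso_map_iff (resTrans W.ι (X.homOfLE hle) O.ι (X.homOfLE_ι hle)) φ).1
    (inferInstanceAs (IsIso ((Scheme.Modules.restrictFunctor (X.homOfLE hle)).map
      ((Scheme.Modules.restrictFunctor W.ι).map φ))))

theorem restrict_eq_zero_of_le {O W : X.Opens} (hle : O ≤ W) {A B : X.Modules} (φ : A ⟶ B)
    (h : (Scheme.Modules.restrictFunctor W.ι).map φ = 0) :
    (Scheme.Modules.restrictFunctor O.ι).map φ = 0 := by
  have e := (resTrans W.ι (X.homOfLE hle) O.ι (X.homOfLE_ι hle)).hom.naturality φ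
  rw [Functor.comp_map, h, Functor.map_zero, zero_comp] at e
  exact (cancel_epi ((resTrans W.ι (X.homOfLE hle) O.ι (X.homOfLE_ι hle)).hom.app A)).1 (e.symm.trans comp_zero.symm)

/-- pseudo-inverse of a linear map with flat cokernel over a local ring -/
theorem exists_pseudo_linear {R V W : Type u} [CommRing R] [IsLocalRing R] [AddCommGroup V] [AddCommGroup W]
    [Module R V] [Module R W] [Module.Finite R V] [Module.Finite R W] [Module.Free R W] (f : V →ₗ[R] W)
    [Module.Flat R (W ⧸ LinearMap.range f)] [Module.FinitePresentation R (W ⧸ LinearMap.range f)] :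
    ∃ g : W →ₗ[R] V, f ∘ₗ g ∘ₗ f = f := by
  haveI : Module.Free R (W ⧸ LinearMap.range f) := Module.free_of_flat_of_isLocalRing
  obtain ⟨s, hs⟩ := Module.projective_lifting_property (LinearMap.range f).mkQ LinearMap.id
    (Submodule.mkQ_surjective _)
  let p : W →ₗ[R] LinearMap.range f := LinearMap.codRestrict _ (LinearMap.id - s ∘ₗ (LinearMap.range f).mkQ)
    fun w => by
      rw [← Submodule.Quotient.mk_eq_zero, LinearMap.sub_apply, LinearMap.id_apply, Submodule.Quotient.mk_sub]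
      exact sub_eq_zero.2 (LinearMap.congr_fun hs ((LinearMap.range f).mkQ w)).symm
  obtain ⟨g, hg⟩ := Module.projective_lifting_property f.rangeRestrict p f.surjective_rangeRestrict
  refine ⟨g, LinearMap.ext fun v => ?_⟩
  have h1 : f (g (f v)) = (p (f v) : W) := congrArg Subtype.val (LinearMap.congr_fun hg (f v))
  rw [LinearMap.comp_apply, LinearMap.comp_apply, h1]
  change f v - s ((LinearMap.range f).mkQ (f v)) = f v
  rw [Submodule.mkQ_apply, (Submodule.Quotient.mk_eq_zero _).2 (LinearMap.mem_range_self f v), map_zero, sub_zero]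

theorem mat_add {n m : ℕ} (φ ψ : FlatMod.freeMod X n ⟶ FlatMod.freeMod X m) :
    mat (φ + ψ) = mat φ + mat ψ := by
  funext i j
  simp only [mat, Preadditive.comp_add, Preadditive.add_comp, Matrix.add_apply]
  exact val_add _ _

theorem ev_mat_comp {x : X} {K : Type u} [CommRing K] (ρ : X.presheaf.stalk x →+* K) {n m l : ℕ}
    (φ : FlatMod.freeMod X n ⟶ FlatMod.freeMod X m) (ψ : FlatMod.freeMod X m ⟶ FlatMod.freeMod X l) :
    (mat (φ ≫ ψ)).map (ev ρ) = (mat ψ).map (ev ρ) * (mat φ).map (ev ρ) := by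
  apply Matrix.toLin'.injective
  rw [Matrix.toLin'_mul]
  simp only [Matrix.toLin'_apply']
  rw [← coord_map, ← coord_map, ← coord_map]
  ext v
  simp [map_comp_apply]

theorem eq_zero_of_add_eq {x : X} {K : Type u} [CommRing K] {ρ : X.presheaf.stalk x →+* K} {n m : ℕ}
    (a b c : FlatMod.freeMod X n ⟶ FlatMod.freeMod X m) (h : a + b = c)
    (h' : (mat c).map (ev ρ) = (mat b).map (ev ρ)) : (mat a).map (ev ρ) = 0 := by
  rw [← h, mat_add, Matrix.map_add _ (map_add (ev ρ))] at h'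
  exact add_eq_right.1 h'

/-- the local pseudo-inverse of a map of free modules with flat cokernel -/
theorem exists_pseudo_nhd {n m : ℕ} (φ : FlatMod.freeMod X n ⟶ FlatMod.freeMod X m) (x : X)
    [Module.Flat (X.presheaf.stalk x) ((Groth.L00.Stk.F X x).obj (cokernel φ))] :
    ∃ (W : X.Opens) (h : (Scheme.Modules.restrictFunctor W.ι).obj (FlatMod.freeMod X m) ⟶
        (Scheme.Modules.restrictFunctor W.ι).obj (FlatMod.freeMod X n)),
      x ∈ W ∧ (Scheme.Modules.restrictFunctor W.ι).map φ ≫ h ≫ (Scheme.Modules.restrictFunctor W.ι).map φ =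
        (Scheme.Modules.restrictFunctor W.ι).map φ := by
  classical
  let F := Groth.L00.Stk.F X x
  let ρ : X.presheaf.stalk x →+* X.presheaf.stalk x := RingHom.id _
  -- pseudo-inverse on the stalk
  letI := ρ.toAlgebra
  let lidM : ∀ M : X.Modules, F.obj M ≃ₗ[X.presheaf.stalk x] (Φ ρ).obj M := fun M =>
    (TensorProduct.lid (X.presheaf.stalk x) _).symm
  haveI : Module.Finite (X.presheaf.stalk x) (F.obj (FlatMod.freeMod X n)) :=
    Module.Finite.equiv (lidM _ ≪≫ₗ coord ρ n).symm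
  haveI : Module.Finite (X.presheaf.stalk x) (F.obj (FlatMod.freeMod X m)) :=
    Module.Finite.equiv (lidM _ ≪≫ₗ coord ρ m).symm
  haveI : Module.Free (X.presheaf.stalk x) (F.obj (FlatMod.freeMod X m)) :=
    Module.Free.of_equiv (lidM _ ≪≫ₗ coord ρ m).symm
  let f := (F.map φ).hom
  haveI : Module.Flat (X.presheaf.stalk x) (F.obj (FlatMod.freeMod X m) ⧸ LinearMap.range f) :=
    Module.Flat.of_linearEquiv ((PreservesCokernel.iso F φ) ≪≫ ModuleCat.cokernelIsoRangeQuotient _).toLinearEquiv.symm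
  haveI : Module.FinitePresentation (X.presheaf.stalk x) (F.obj (FlatMod.freeMod X m)) :=
    Module.finitePresentation_of_projective _ _
  haveI : Module.FinitePresentation (X.presheaf.stalk x) (F.obj (FlatMod.freeMod X m) ⧸ LinearMap.range f) :=
    Module.finitePresentation_of_surjective _ (Submodule.mkQ_surjective _) (by
      rw [Submodule.ker_mkQ, LinearMap.range_eq_map]
      exact Submodule.FG.map _ Module.Finite.fg_top)
  obtain ⟨g, hg⟩ := exists_pseudo_linear f
  let G : Matrix (Fin n) (Fin m) (X.presheaf.stalk x) := LinearMap.toMatrix'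
    ((lidM _ ≪≫ₗ coord ρ n).toLinearMap ∘ₗ g ∘ₗ (lidM _ ≪≫ₗ coord ρ m).symm.toLinearMap)
  let A := (mat φ).map (ev ρ)
  have hA : A.mulVecLin = (lidM _ ≪≫ₗ coord ρ m).toLinearMap ∘ₗ f ∘ₗ (lidM _ ≪≫ₗ coord ρ n).symm.toLinearMap := by
    rw [← coord_map]
    refine LinearMap.ext fun v => congrArg (coord ρ m) ?_
    obtain ⟨w, hw⟩ := (lidM (FlatMod.freeMod X n)).surjective ((coord ρ n).symm v)
    simp only [LinearMap.comp_apply, LinearEquiv.coe_coe, LinearEquiv.trans_symm, LinearEquiv.trans_apply, ← hw,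
      LinearEquiv.symm_apply_apply]
    rfl
  have hAG : A * G * A = A := by
    apply Matrix.toLin'.injective
    rw [Matrix.toLin'_mul, Matrix.toLin'_mul, Matrix.toLin'_toMatrix', Matrix.toLin'_apply', hA]
    refine LinearMap.ext fun v => ?_
    simp only [LinearMap.comp_apply, LinearEquiv.coe_coe, LinearEquiv.symm_apply_apply]
    exact congrArg _ (LinearMap.congr_fun hg _)
  -- scaled pseudo-inverse near x
  haveI : IsLocalHom (IsLocalRing.residue (X.presheaf.stalk x)) := inferInstance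
  obtain ⟨s, t, hst⟩ := Groth.L00.RankSemi.exists_submatrix_det_ne_zero (A.map (IsLocalRing.residue _))
  have hid := scaled_pseudo (IsLocalRing.residue _) A G hAG s t hst
  let c := ((mat φ).submatrix s t).det
  let Pt : Matrix (Fin n) (Fin _) Γ(X, ⊤) := (1 : Matrix (Fin n) (Fin n) Γ(X, ⊤)).submatrix id t
  let Ps : Matrix (Fin _) (Fin m) Γ(X, ⊤) := (1 : Matrix (Fin m) (Fin m) Γ(X, ⊤)).submatrix s id
  let h := ofMat (Pt * ((mat φ).submatrix s t).adjugate * Ps)
  let sc : ∀ k, FlatMod.freeMod X k ⟶ FlatMod.freeMod X k := fun k => ofMat (c • (1 : Matrix (Fin k) (Fin k) Γ(X, ⊤)))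
  have hevsc : ∀ k, (mat (sc k)).map (ev ρ) = ev ρ c • (1 : Matrix (Fin k) (Fin k) (X.presheaf.stalk x)) := fun k => by
    rw [mat_ofMat]; ext i j; by_cases hij : i = j <;> simp [Matrix.one_apply, hij]
  have hc : ev ρ c = (A.submatrix s t).det := by
    rw [RingHom.map_det, RingHom.mapMatrix_apply, ← Matrix.submatrix_map]
  have hcu : IsUnit (ev ρ c) := IsUnit.of_map (IsLocalRing.residue (X.presheaf.stalk x)) _ (by
    rw [isUnit_iff_ne_zero, hc, RingHom.map_det, RingHom.mapMatrix_apply, ← Matrix.submatrix_map]; exact hst)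
  have hPt : A * Pt.map (ev ρ) = A.submatrix id t := by
    ext a b
    simp [Pt, Matrix.mul_apply, Matrix.one_apply, apply_ite, Matrix.submatrix]
  have hPs : Ps.map (ev ρ) * A = A.submatrix s id := by
    ext a b
    simp [Ps, Matrix.mul_apply, Matrix.one_apply, apply_ite, Matrix.submatrix]
  have hAh : A * (mat h).map (ev ρ) * A = ev ρ c • A := by
    rw [hc, ← hid, mat_ofMat, Matrix.map_mul, Matrix.map_mul, ← RingHom.mapMatrix_apply (M := ((mat φ).submatrix s t).adjugate),
      RingHom.map_adjugate, RingHom.mapMatrix_apply, ← Matrix.submatrix_map]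
    rw [← hPt, ← hPs]
    simp only [Matrix.mul_assoc]
    rfl
  obtain ⟨W₁, hx₁, hW₁⟩ := exists_zero_nhd (Iso.refl _) (Iso.refl _) (φ ≫ h ≫ φ + -(φ ≫ sc m)) x fun i j => by
    simp only [Iso.refl_inv, Iso.refl_hom, Category.id_comp, Category.comp_id]
    refine congrFun (congrFun (eq_zero_of_add_eq (ρ := ρ) (φ ≫ h ≫ φ + -(φ ≫ sc m)) (φ ≫ sc m) (φ ≫ h ≫ φ) (by abel) ?_) i) j
    rw [ev_mat_comp, ev_mat_comp, ev_mat_comp, hevsc, Matrix.smul_mul, Matrix.one_mul]
    exact hAh
  obtain ⟨W₃, hx₃, hW₃⟩ := exists_zero_nhd (Iso.refl _) (Iso.refl _) (φ ≫ sc m + -(sc n ≫ φ)) x fun i j => by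
    simp only [Iso.refl_inv, Iso.refl_hom, Category.id_comp, Category.comp_id]
    refine congrFun (congrFun (eq_zero_of_add_eq (ρ := ρ) (φ ≫ sc m + -(sc n ≫ φ)) (sc n ≫ φ) (φ ≫ sc m) (by abel) ?_) i) j
    rw [ev_mat_comp, ev_mat_comp, hevsc, hevsc, Matrix.smul_mul, Matrix.one_mul, Matrix.mul_smul, Matrix.mul_one]
  obtain ⟨W₂, hx₂, hW₂⟩ : ∃ W : X.Opens, x ∈ W ∧ ∀ k, k = n ∨ k = m → IsIso ((Scheme.Modules.restrictFunctor W.ι).map (sc k)) := by
    refine ⟨X.basicOpen c, (Scheme.mem_basicOpen_top _ _ _).2 hcu, fun k _ => ?_⟩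
    have hle : X.basicOpen c ≤ X.basicOpen (mat (𝟙 _ ≫ sc k ≫ 𝟙 _)).det := by
      rw [Category.id_comp, Category.comp_id, mat_ofMat, Matrix.det_smul, Matrix.det_one, mul_one]
      intro y hy
      rw [Scheme.mem_basicOpen_top] at hy ⊢
      rw [map_pow]
      exact hy.pow _
    exact isIso_restrict_of_le hle _ (isIso_restrict_of_det (Iso.refl _) (Iso.refl _) (sc k))
  let W := W₁ ⊓ W₃ ⊓ W₂
  let R := Scheme.Modules.restrictFunctor W.ι
  haveI := isIso_restrict_of_le (inf_le_right : W ≤ W₂) _ (hW₂ m (Or.inr rfl))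
  haveI := isIso_restrict_of_le (inf_le_right : W ≤ W₂) _ (hW₂ n (Or.inl rfl))
  have hz : R.map φ ≫ R.map h ≫ R.map φ = R.map φ ≫ R.map (sc m) := by
    have h0 : R.map (φ ≫ h ≫ φ + -(φ ≫ sc m)) = 0 :=
      restrict_eq_zero_of_le ((inf_le_left : W ≤ W₁ ⊓ W₃).trans inf_le_left) _ hW₁
    simpa [Functor.map_add, Functor.map_neg, add_neg_eq_zero] using h0
  have hcomm : R.map φ ≫ R.map (sc m) = R.map (sc n) ≫ R.map φ := by
    have h0 : R.map (φ ≫ sc m + -(sc n ≫ φ)) = 0 :=
      restrict_eq_zero_of_le ((inf_le_left : W ≤ W₁ ⊓ W₃).trans inf_le_right) _ hW₃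
    simpa [Functor.map_add, Functor.map_neg, add_neg_eq_zero] using h0
  refine ⟨W, inv (R.map (sc m)) ≫ R.map h, ⟨⟨hx₁, hx₃⟩, hx₂⟩, ?_⟩
  have h3 : R.map φ ≫ inv (R.map (sc m)) = inv (R.map (sc n)) ≫ R.map φ := by
    rw [IsIso.comp_inv_eq, Category.assoc, hcomm, IsIso.inv_hom_id_assoc]
  change R.map φ ≫ (inv (R.map (sc m)) ≫ R.map h) ≫ R.map φ = R.map φ
  rw [Category.assoc, reassoc_of% h3, hz, hcomm, IsIso.inv_hom_id_assoc]

attribute [local instance] preservesBinaryBiproducts_of_preservesBinaryCoproducts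

theorem cokernel_biprod_of_pseudo {C : Type*} [Category C] [Abelian C] {A B : C} (d : A ⟶ B) (h : B ⟶ A)
    (hd : d ≫ h ≫ d = d) : ∃ K : C, Nonempty (cokernel d ⊞ K ≅ B) := by
  have hp : (h ≫ d) ≫ (h ≫ d) = h ≫ d := by rw [Category.assoc, hd]
  obtain ⟨K, ι, π, hιπ, hπι⟩ := IsIdempotentComplete.idempotents_split _ _ hp
  have hc : d ≫ (𝟙 B - h ≫ d) = 0 := by rw [Preadditive.comp_sub, Category.comp_id, hd, sub_self]
  let σ : cokernel d ⟶ B := cokernel.desc d _ hc
  have hσ : σ ≫ cokernel.π d = 𝟙 _ := by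
    apply (cancel_epi (cokernel.π d)).1
    rw [cokernel.π_desc_assoc, Preadditive.sub_comp, Category.assoc, cokernel.condition, comp_zero,
      Category.id_comp, sub_zero, Category.comp_id]
  haveI : Mono ι := ⟨fun a b e => by simpa [hιπ] using e =≫ π⟩
  have h1 : σ ≫ π = 0 := by
    apply (cancel_epi (cokernel.π d)).1
    rw [cokernel.π_desc_assoc, comp_zero, ← cancel_mono ι, Category.assoc, hπι, zero_comp,
      Preadditive.sub_comp, Category.id_comp, hp, sub_self]
  have h2 : ι ≫ cokernel.π d = 0 := by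
    calc ι ≫ cokernel.π d = ι ≫ (π ≫ ι) ≫ cokernel.π d := by simp [reassoc_of% hιπ]
      _ = 0 := by rw [hπι, Category.assoc, cokernel.condition, comp_zero, comp_zero]
  refine ⟨K, ⟨⟨biprod.desc σ ι, biprod.lift (cokernel.π d) π, ?_, ?_⟩⟩⟩
  · apply biprod.hom_ext' <;> apply biprod.hom_ext <;> simp [hσ, hιπ, h1, h2]
  · rw [biprod.lift_desc, hπι, cokernel.π_desc, sub_add_cancel]

theorem isFinLocFree_cokernel_free {n m : ℕ} (φ : FlatMod.freeMod X n ⟶ FlatMod.freeMod X m)
    (hflat : FlatMod.IsFlat (cokernel φ)) : FlatMod.IsFinLocFree (cokernel φ) := by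
  refine isFinLocFree_of_local fun x => ?_
  haveI : Module.Flat (X.presheaf.stalk x) ((Groth.L00.Stk.F X x).obj (cokernel φ)) := hflat x
  obtain ⟨W, h, hx, hd⟩ := exists_pseudo_nhd φ x
  obtain ⟨K, ⟨i⟩⟩ := cokernel_biprod_of_pseudo _ h hd
  exact ⟨W, hx, Groth.L29.LocFree.of_iso (PreservesCokernel.iso (Scheme.Modules.restrictFunctor W.ι) φ).symm
    (isFinLocFree_of_biprod (i ≪≫ (Scheme.Modules.restrictFunctorIsoPullback W.ι).app _ ≪≫
      Groth.L29.LocFree.pullbackFreeIso W.ι m))⟩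

/-- a flat cokernel of a map of finite locally free modules is finite locally free -/
theorem isFinLocFree_cokernel {M N : X.Modules} (hM : FlatMod.IsFinLocFree M) (hN : FlatMod.IsFinLocFree N)
    (φ : M ⟶ N) (hflat : FlatMod.IsFlat (cokernel φ)) : FlatMod.IsFinLocFree (cokernel φ) := by
  refine isFinLocFree_of_local fun x => ?_
  obtain ⟨U, n, hxU, ⟨i⟩⟩ := hM x
  obtain ⟨V, m, hxV, ⟨j⟩⟩ := hN x
  obtain ⟨i'⟩ := Groth.L29.LocFree.restrict_le (inf_le_left : U ⊓ V ≤ U) i
  obtain ⟨j'⟩ := Groth.L29.LocFree.restrict_le (inf_le_right : U ⊓ V ≤ V) j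
  let R := Scheme.Modules.restrictFunctor (U ⊓ V).ι
  let e : R.obj (cokernel φ) ≅ cokernel (i'.inv ≫ R.map φ ≫ j'.hom) :=
    PreservesCokernel.iso R φ ≪≫ cokernel.mapIso (R.map φ) (i'.inv ≫ R.map φ ≫ j'.hom) i' j' (by simp)
  refine ⟨U ⊓ V, ⟨hxU, hxV⟩, Groth.L29.LocFree.of_iso e.symm (isFinLocFree_cokernel_free _ ?_)⟩
  exact Groth.L00.KFlat.isFlat_of_iso
    (((Scheme.Modules.restrictFunctorIsoPullback (U ⊓ V).ι).app _).symm ≪≫ e)
    (Groth.L00.TorAmp.isFlat_pullback (U ⊓ V).ι hflat)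

end Groth.L29.DC.Fib
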