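import Groth.Agent.L29.DCoh.PCDescent
import Groth.Agent.L29.DCoh.TildeAlg
import Groth.Agent.L10.DRing.TorTest
import Groth.Agent.L10.DRing.TorDim
import Groth.Agent.L29.DCoh.PerfectIff
import Groth.Agent.L18.LocFreeTilde

/-!
Tor amplitude at a point; perfectness descends along flat quotient maps; perfectness from stalks.
-/

set_option autoImplicit false
set_option backward.isDefEq.respectTransparency false
set_option backward.isDefEq.respectTransparency.types false

universe u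

open CategoryTheory CategoryTheory.Limits CategoryTheory.Pretriangulated AlgebraicGeometry HomologicalComplex

attribute [local instance] HasDerivedCategory.standard

noncomputable section

namespace Groth.L29.DC.PerfDesc

open Groth.L29.DC.PCStalk

/-- tor amplitude `≥ a` of a bounded above flat complex, elementwise -/
def GoodAlg {A : Type u} [CommRing A] (P : DRing.Cx A) (a : ℤ) : Prop :=
  (∀ i, i < a → IsZero (P.homology i)) ∧ Module.Flat A (cokernel (P.d (a - 1) a) : ModuleCat.{u} A)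

section Alg

variable {A : Type u} [CommRing A]

theorem goodAlg_of_amp {P : DRing.Cx A} {a b B : ℤ} (hP : DRing.TermwiseFlat P)
    (hB : DRing.VanishesAbove P B) {K : Dual.D A} (e : DRing.toD P ≅ K)
    (h : DRing.HasTorAmplitudeIn A a b K) : GoodAlg P a := by
  have ht := ((Groth.L10.DR.amp_iff e hB hP a b).1 h).1
  haveI := Groth.L10.DR.flat_coker_of_tz hP a (ht _ (by omega))
  exact ⟨fun i hi => Groth.L10.DR.tz_homology (ht i hi),
    Module.Flat.of_linearEquiv (ModuleCat.cokernelIsoRangeQuotient (P.d (a - 1) a)).toLinearEquiv⟩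

theorem amp_of_goodAlg {P : DRing.Cx A} {a B : ℤ} (hP : DRing.TermwiseFlat P)
    (hB : DRing.VanishesAbove P B) (h : GoodAlg P a) : DRing.HasTorAmplitudeIn A a B (DRing.toD P) :=
  TildeAlg.amp_of_flat_cokernel P hB hP (Iso.refl _)
    (fun i hi => (Groth.L02.PC.isZero_HH_Q_iff P i).2 (h.1 i hi)) h.2

theorem goodAlg_iso {P Q : DRing.Cx A} (e : P ≅ Q) {a : ℤ} (h : GoodAlg P a) : GoodAlg Q a := by
  refine ⟨fun i hi => (h.1 i hi).of_iso ((homologyFunctor _ _ i).mapIso e).symm, ?_⟩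
  haveI := h.2
  exact Module.Flat.of_linearEquiv (cokernel.mapIso (Q.d (a - 1) a) (P.d (a - 1) a)
    ((HomologicalComplex.eval _ _ (a - 1)).mapIso e.symm) ((HomologicalComplex.eval _ _ a).mapIso e.symm)
    (by simp)).toLinearEquiv

theorem flat_coker_of_approx {T P : DRing.Cx A} (β : T ⟶ P) (a : ℤ) {bT bP : ℤ}
    (hT : DRing.TermwiseFlat T) (hTb : DRing.VanishesAbove T bT) (hP : DRing.TermwiseFlat P)
    (hPb : DRing.VanishesAbove P bP) (hβ : Groth.L02.PC.IsApprox (DerivedCategory.Q.map β) (a - 2))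
    (h : GoodAlg P a) : Module.Flat A (cokernel (T.d (a - 1) a) : ModuleCat.{u} A) := by
  have hM : Groth.L02.PC.LEH (DRing.toD (CochainComplex.mappingCone β)) (a - 2 - 1) := fun i hi =>
    (Groth.L02.PC.isZero_HH_Q_iff _ i).2 ((Groth.L02.PC.isApprox_Q_map_iff β (a - 2)).1 hβ i (by omega))
  obtain ⟨Q, hQb, hQf, -, ⟨eQ⟩⟩ := Groth.L02.PC.exists_free_rep hM
  have hzM : ∀ i, a - 2 ≤ i → Groth.L10.DR.TZ (CochainComplex.mappingCone β) i := fun i hi =>
    (Groth.L10.DR.tz_iff_of_iso eQ hQb (Groth.L10.DR.flat_of_free hQf)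
      (Groth.L10.DR.vanishesAbove_cone β hTb hPb) (Groth.L10.DR.flat_coneX β hT hP) i).1
      fun N => (HomologicalComplex.exactAt_iff_isZero_homology _ i).1
        (HomologicalComplex.ExactAt.of_isZero ((MonoidalCategory.tensorRight N).map_isZero (hQb i (by omega))))
  have htzP := ((Groth.L10.DR.amp_iff (Iso.refl _) hPb hP a bP).1 (amp_of_goodAlg hP hPb h)).1 (a - 1) (by omega)
  have htzT : Groth.L10.DR.TZ T (a - 1) := fun N => by
    have happ : Groth.L02.PC.IsApprox (DerivedCategory.Q.map ((Groth.L10.DR.tF N).map β)) (a - 2) :=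
      (Groth.L02.PC.isApprox_Q_map_iff _ _).2 fun i hi => (hzM i (by omega) N).of_iso
        (asIso (HomologicalComplex.homologyMap
          (CochainComplex.mappingCone.mapHomologicalComplexIso β (MonoidalCategory.tensorRight N)).hom i)).symm
    haveI := happ.1 (a - 1) (by omega)
    exact (Groth.L02.PC.isZero_HH_Q_iff ((Groth.L10.DR.tF N).obj T) (a - 1)).1
      (((Groth.L02.PC.isZero_HH_Q_iff ((Groth.L10.DR.tF N).obj P) (a - 1)).2 (htzP N)).of_iso
        (asIso ((Groth.L02.PC.HH (a - 1)).map (DerivedCategory.Q.map ((Groth.L10.DR.tF N).map β)))))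
  haveI := Groth.L10.DR.flat_coker_of_tz hT a htzT
  exact Module.Flat.of_linearEquiv (ModuleCat.cokernelIsoRangeQuotient (T.d (a - 1) a)).toLinearEquiv

end Alg

variable {X Y : Scheme.{u}}

/-- tor amplitude `≥ a` at a point -/
def Good (P : CochainComplex X.Modules ℤ) (a : ℤ) (x : X) : Prop :=
  GoodAlg ((Groth.L00.Stk.S X x).obj P) a

/-- stalks of cohomology of a complex -/
def stkQIso (P : CochainComplex X.Modules ℤ) (i : ℤ) (x : X) :
    stk (DCoh.toD X P) i x ≅ ((Groth.L00.Stk.S X x).obj P).homology i :=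
  (Groth.L00.Stk.F X x).mapIso ((DerivedCategory.homologyFunctorFactors X.Modules i).app P) ≪≫
    ((P.sc i).mapHomologyIso (Groth.L00.Stk.F X x)).symm

theorem flat_S {P : CochainComplex X.Modules ℤ} (h : ∀ i, FlatMod.IsFlat (P.X i)) (x : X) :
    DRing.TermwiseFlat ((Groth.L00.Stk.S X x).obj P) := fun i => h i x

theorem vanishesAbove_S {P : CochainComplex X.Modules ℤ} {b : ℤ} (h : ∀ i, b < i → IsZero (P.X i)) (x : X) :
    DRing.VanishesAbove ((Groth.L00.Stk.S X x).obj P) b := fun i hi =>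
  (Groth.L00.Stk.F X x).map_isZero (h i hi)

theorem good_of_flatAmp {P : CochainComplex X.Modules ℤ} (hf : ∀ i, FlatMod.IsFlat (P.X i)) {B : ℤ}
    (hb : ∀ i, B < i → IsZero (P.X i)) {a b : ℤ} (h : DCoh.HasFlatAmplitudeIn a b (DCoh.toD X P)) (x : X) :
    Good P a x := by
  obtain ⟨E, hv, hfE, ⟨e⟩⟩ := h
  let F := Groth.L00.Stk.F X x
  refine goodAlg_of_amp (flat_S hf x) (vanishesAbove_S hb x) (K := DRing.toD ((Groth.L00.Stk.S X x).obj E))
    ((F.mapDerivedCategoryFactors.app P).symm ≪≫ F.mapDerivedCategory.mapIso e.symm ≪≫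
      F.mapDerivedCategoryFactors.app E)
    ⟨_, fun i hi => F.map_isZero (hv i hi), flat_S hfE x, ⟨Iso.refl _⟩⟩ (b := b)

/-- pullback and stalks -/
def pullSIso (f : X ⟶ Y) (Q : CochainComplex Y.Modules ℤ) (x : X) :
    (Groth.L00.Stk.S X x).obj (((Scheme.Modules.pullback f).mapHomologicalComplex (ComplexShape.up ℤ)).obj Q) ≅
      ((ModuleCat.extendScalars (Groth.L00.PullStalk.φ f x)).mapHomologicalComplex (ComplexShape.up ℤ)).obj
        ((Groth.L00.Stk.S Y (f x)).obj Q) :=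
  Hom.isoOfComponents (fun j => (Groth.L00.PullStalk.stalkIso f x).app (Q.X j))
    (fun j k _ => ((Groth.L00.PullStalk.stalkIso f x).hom.naturality (Q.d j k)).symm)

theorem good_pull_iff (f : X ⟶ Y) [Flat f] (Q : CochainComplex Y.Modules ℤ) (a : ℤ) (x : X) :
    Good (((Scheme.Modules.pullback f).mapHomologicalComplex (ComplexShape.up ℤ)).obj Q) a x ↔
      Good Q a (f x) := by
  let g := Groth.L00.PullStalk.φ f x
  have hff := AmpDesc.faithfullyFlat f x
  let C := (Groth.L00.Stk.S Y (f x)).obj Q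
  let G := ModuleCat.extendScalars.{u, u, u} g
  haveI : PreservesFiniteLimits G :=
    ModuleCat.preservesFiniteLimits_extendScalars_of_flat (AlgebraicGeometry.Flat.stalkMap f x)
  haveI : PreservesColimitsOfSize.{0, 0} G :=
    (ModuleCat.extendRestrictScalarsAdj g).leftAdjoint_preservesColimits
  haveI : PreservesFiniteColimits G := PreservesColimitsOfSize.preservesFiniteColimits.{0, 0} _
  let GC := (G.mapHomologicalComplex (ComplexShape.up ℤ)).obj C
  have hz : ∀ i, IsZero (GC.homology i) ↔ IsZero (C.homology i) := fun i =>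
    ((C.sc i).mapHomologyIso G).isZero_iff.trans (isZero_extend_iff g hff _)
  have hc : Module.Flat (X.presheaf.stalk x) (cokernel (GC.d (a - 1) a) : ModuleCat.{u} (X.presheaf.stalk x)) ↔
      Module.Flat (Y.presheaf.stalk (f x)) (cokernel (C.d (a - 1) a) : ModuleCat.{u} (Y.presheaf.stalk (f x))) := by
    let e := PreservesCokernel.iso G (C.d (a - 1) a)
    constructor
    · intro h
      have h' := Groth.L00.TorAmp.flat_of_iso e h
      letI := g.toAlgebra
      haveI : Module.FaithfullyFlat (Y.presheaf.stalk (f x)) (X.presheaf.stalk x) := hff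
      haveI : Module.Flat (X.presheaf.stalk x) (TensorProduct (Y.presheaf.stalk (f x)) (X.presheaf.stalk x)
        (cokernel (C.d (a - 1) a) : ModuleCat.{u} (Y.presheaf.stalk (f x)))) := h'
      exact Module.Flat.of_flat_tensorProduct (Y.presheaf.stalk (f x)) _ (X.presheaf.stalk x)
    · intro h
      exact Groth.L00.TorAmp.flat_of_iso e.symm (Groth.L00.TorAmp.flat_extendScalars g _ h)
  constructor
  · intro h
    have h' : GoodAlg GC a := goodAlg_iso (pullSIso f Q x) h
    exact ⟨fun i hi => (hz i).1 (h'.1 i hi), hc.1 h'.2⟩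
  · rintro ⟨h1, h2⟩
    exact goodAlg_iso (pullSIso f Q x).symm (P := GC) ⟨fun i hi => (hz i).2 (h1 i hi), hc.2 h2⟩

theorem good_res_iff (j : X ⟶ Y) [IsOpenImmersion j] (Q : CochainComplex Y.Modules ℤ) (a : ℤ) (x : X) :
    Good (((Scheme.Modules.restrictFunctor j).mapHomologicalComplex (ComplexShape.up ℤ)).obj Q) a x ↔
      Good Q a (j x) := by
  let e := (NatIso.mapHomologicalComplex (Scheme.Modules.restrictFunctorIsoPullback j) (ComplexShape.up ℤ)).app Q
  exact ⟨fun h => (good_pull_iff j Q a x).1 (goodAlg_iso ((Groth.L00.Stk.S X x).mapIso e) h),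
    fun h => goodAlg_iso ((Groth.L00.Stk.S X x).mapIso e).symm ((good_pull_iff j Q a x).2 h)⟩

/-- the cokernel of a map of finite locally free modules is locally free near points where it is flat -/
theorem exists_nhd_coker {A B : X.Modules} (d : A ⟶ B) (hA : FlatMod.IsFinLocFree A)
    (hB : FlatMod.IsFinLocFree B) (x : X)
    (h : Module.Flat (X.presheaf.stalk x)
      (cokernel ((Groth.L00.Stk.F X x).map d) : ModuleCat.{u} (X.presheaf.stalk x))) :
    ∃ O : X.Opens, x ∈ O ∧ FlatMod.IsFinLocFree ((cokernel d).restrict O.ι) := by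
  have hFP : CohB1.IsFP (cokernel d) := by
    refine Groth.L18.LFP.isFP_of_presentation _ fun y => ?_
    obtain ⟨U₁, p, hy₁, ⟨a⟩⟩ := hA y
    obtain ⟨U₂, q, hy₂, ⟨b⟩⟩ := hB y
    obtain ⟨a'⟩ := Groth.L29.LocFree.restrict_le (inf_le_left : U₁ ⊓ U₂ ≤ U₁) a
    obtain ⟨b'⟩ := Groth.L29.LocFree.restrict_le (inf_le_right : U₁ ⊓ U₂ ≤ U₂) b
    let U := U₁ ⊓ U₂
    let R := Scheme.Modules.restrictFunctor U.ι
    let ep := a' ≪≫ (Groth.L18.LFP.uliftIso U p).symm
    let eq' := b' ≪≫ (Groth.L18.LFP.uliftIso U q).symm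
    have w : R.map d ≫ R.map (cokernel.π d) = 0 := by rw [← R.map_comp, cokernel.condition, R.map_zero]
    have hR : IsColimit (CokernelCofork.ofπ (R.map (cokernel.π d)) w) :=
      CokernelCofork.mapIsColimit _ (cokernelIsCokernel d) R
    obtain ⟨hc⟩ := TopCoh.isColimit_of_iso hR ep eq' (Iso.refl _)
      (d' := ep.inv ≫ R.map d ≫ eq'.hom) (π' := eq'.inv ≫ R.map (cokernel.π d))
      (by simp only [Category.assoc, Iso.hom_inv_id_assoc, w, comp_zero]) (by simp) (by simp)
    exact ⟨U, SheafOfModules.presentationOfIsCokernelFree (M := (cokernel d).restrict U.ι) _ _ _ hc, ⟨hy₁, hy₂⟩,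
      (inferInstance : Finite (ULift.{u} (Fin q))), (inferInstance : Finite (ULift.{u} (Fin p)))⟩
  have hflat : FlatMod.IsFlatAt (cokernel d) x :=
    Groth.L00.TorAmp.flat_of_iso (PreservesCokernel.iso (Groth.L00.Stk.F X x) d) h
  obtain ⟨O, hxO, hO⟩ := (Groth.L18.LFP.isFlatAt_iff _ hFP x).1 hflat
  exact ⟨O, hxO, Groth.L29.LocFree.of_iso ((Scheme.Modules.restrictFunctorIsoPullback O.ι).app _).symm hO⟩

theorem isStrictlyPerfect_truncGE_of_coker {T : CochainComplex X.Modules ℤ} (hT : DCoh.IsStrictlyPerfect T) (a : ℤ)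
    (hC : FlatMod.IsFinLocFree (cokernel (T.d (a - 1) a))) : DCoh.IsStrictlyPerfect (T.truncGE a) := by
  obtain ⟨⟨a', b', hv⟩, hf⟩ := hT
  refine ⟨⟨a, max a b', fun n hn => ?_⟩, fun n => ?_⟩
  · rcases lt_or_ge n a with hn' | hn'
    · exact CochainComplex.isZero_of_isStrictlyGE (T.truncGE a) a n hn'
    · exact (hv n (Or.inr (by omega))).of_iso (T.truncGEXIso a n (by omega))
  · rcases lt_trichotomy n a with hn | rfl | hn
    · exact Groth.L29.LocFree.of_isZero (CochainComplex.isZero_of_isStrictlyGE (T.truncGE a) a n hn)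
    · exact Groth.L29.LocFree.of_iso ((T.truncGEXIsoOpcycles n) ≪≫ (IsColimit.coconePointUniqueUpToIso
        (T.opcyclesIsCokernel (n - 1) n (by simp)) (cokernelIsCokernel (T.d (n - 1) n)))).symm hC
    · exact Groth.L29.LocFree.of_iso (T.truncGEXIso a n hn).symm (hf n)

/-- near a point of tor amplitude `≥ a`, an approximation truncates to a strictly perfect complex -/
theorem exists_nhd_truncGE {T P : CochainComplex X.Modules ℤ} (β : T ⟶ P) (hT : DCoh.IsStrictlyPerfect T)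
    (hP : ∀ i, FlatMod.IsFlat (P.X i)) {bP : ℤ} (hPb : ∀ i, bP < i → IsZero (P.X i)) (a : ℤ)
    (hβ : Approx (DerivedCategory.Q.map β) (a - 2)) (x : X) (h : Good P a x) :
    ∃ O : X.Opens, x ∈ O ∧ DCoh.IsStrictlyPerfect (((DCoh.restrictCx O).obj T).truncGE a) := by
  obtain ⟨⟨aT, bT, hv⟩, hf⟩ := hT
  let F := Groth.L00.Stk.F X x
  have hTf : ∀ i, FlatMod.IsFlat (T.X i) := fun i => isFlat_of_isFinLocFree (hf i)
  have happ : Groth.L02.PC.IsApprox (DerivedCategory.Q.map ((Groth.L00.Stk.S X x).map β)) (a - 2) := by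
    have h1 : Approx (F.mapDerivedCategory.map (DerivedCategory.Q.map β)) (a - 2) := hβ.map_exact F
    exact approx_congr (F.mapDerivedCategoryFactors.app T) (F.mapDerivedCategoryFactors.app P)
      (F.mapDerivedCategoryFactors.hom.naturality β) h1
  obtain ⟨O, hxO, hO⟩ := exists_nhd_coker (T.d (a - 1) a) (hf _) (hf _) x
    (flat_coker_of_approx _ a (flat_S hTf x) (vanishesAbove_S (fun i hi => hv i (Or.inr hi)) x)
      (flat_S hP x) (vanishesAbove_S hPb x) happ h)
  refine ⟨O, hxO, isStrictlyPerfect_truncGE_of_coker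
    (isStrictlyPerfect_restrict O.ι ⟨⟨aT, bT, hv⟩, hf⟩) a ?_⟩
  exact Groth.L29.LocFree.of_iso (PreservesCokernel.iso (Scheme.Modules.restrictFunctor O.ι) (T.d (a - 1) a)) hO

/-- exactness of a truncation map spreads from a point -/
theorem exists_nhd_isIso_πTruncGE {T : CochainComplex X.Modules ℤ} (hT : DCoh.IsStrictlyPerfect T) (a : ℤ)
    (hτ : DCoh.IsStrictlyPerfect (T.truncGE a)) (x : X)
    (h : ∀ i, i < a → IsZero (((Groth.L00.Stk.S X x).obj T).homology i)) :
    ∃ O : X.Opens, x ∈ O ∧ IsIso ((resD O).map (DerivedCategory.Q.map (T.πTruncGE a))) := by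
  have hM := isStrictlyPerfect_cone (T.πTruncGE a) hT hτ
  obtain ⟨⟨lo, hi, hv⟩, -⟩ := hM
  let M := CochainComplex.mappingCone (T.πTruncGE a)
  have hperf : DCoh.IsPerfect (DCoh.toD X M) :=
    perfect_of_on fun y => ⟨_, (⊤ : X.Opens).ι, inferInstance, by simp,
      PWit.restrict _ ⟨M, isStrictlyPerfect_cone (T.πTruncGE a) hT hτ, ⟨Iso.refl _⟩⟩⟩
  have hlow : ∀ i, i < lo → IsZero (DCoh.HD (DCoh.toD X M) i) := fun i hi' =>
    (ShortComplex.isZero_homology_of_isZero_X₂ _ (hv i (Or.inl hi'))).of_iso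
      ((DerivedCategory.homologyFunctorFactors X.Modules i).app M)
  let O : X.Opens := ⟨van (DCoh.toD X M) lo, isOpen_van (pc_of_perfect hperf lo) le_rfl⟩
  let F := Groth.L00.Stk.F X x
  let g := (Groth.L00.Stk.S X x).map (T.πTruncGE a)
  haveI : QuasiIso g := ⟨fun j => by
    by_cases hj : a ≤ j
    · haveI := CochainComplex.quasiIsoAt_πTruncGE T a j hj
      exact quasiIsoAt_map_of_preservesHomology _ F j
    · rw [quasiIsoAt_iff_isIso_homologyMap]
      exact isIso_of_source_target_iso_zero _ (h j (by omega)).isoZero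
        (ShortComplex.isZero_homology_of_isZero_X₂ _
          (F.map_isZero (CochainComplex.isZero_of_isStrictlyGE (T.truncGE a) a j (by omega)))).isoZero⟩
  have hxO : x ∈ O := fun i _ => by
    have hz : IsZero ((CochainComplex.mappingCone g).homology i) := by
      haveI : IsIso (DerivedCategory.Q.map g) := (DerivedCategory.isIso_Q_map_iff_quasiIso _ g).2 inferInstance
      exact (Groth.L02.PC.isApprox_Q_map_iff g i).1 (Groth.L02.PC.IsApprox.of_isIso _ i) i le_rfl
    exact (hz.of_iso ((homologyFunctor _ _ i).mapIso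
      (CochainComplex.mappingCone.mapHomologicalComplexIso (T.πTruncGE a) F))).of_iso (stkQIso M i x)
  refine ⟨O, hxO, ?_⟩
  have hzero : IsZero ((resD O).obj (DCoh.toD X M)) := by
    refine AmpDesc.flatAmp_descends.isZero_of_HD _ fun i => ?_
    by_cases hi' : lo ≤ i
    · exact isZero_of_subset_van O (le_refl _) hi'
    · exact ((Scheme.Modules.restrictFunctor O.ι).map_isZero (hlow i (by omega))).of_iso (HDResIso O.ι _ i)
  exact (Triangle.isZero₃_iff_isIso₁ _ ((resD O).map_distinguished _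
    (DerivedCategory.mappingCone_triangle_distinguished (T.πTruncGE a)))).1 hzero

/-- perfectness from a local amplitude at a point, given vanishing below -/
theorem exists_pwit_of_good {P : CochainComplex X.Modules ℤ} (hP : ∀ i, FlatMod.IsFlat (P.X i)) {bP : ℤ}
    (hPb : ∀ i, bP < i → IsZero (P.X i)) (a : ℤ) (hlow : ∀ i, i < a → IsZero (DCoh.HD (DCoh.toD X P) i))
    (hpc : DCoh.IsPseudoCoherentD (a - 2) (DCoh.toD X P)) (x : X) (h : Good P a x) :
    ∃ (U : Scheme.{u}) (j : U ⟶ X) (_ : IsOpenImmersion j), x ∈ j.opensRange ∧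
      PWit ((DCoh.restrictD j).obj (DCoh.toD X P)) := by
  obtain ⟨V, hxV, T, α, hT, hα⟩ := (isPC_iff_wit _ _).1 hpc x
  let α' : DCoh.toD (↑V) T ⟶ DCoh.toD (↑V) ((DCoh.restrictCx V).obj P) := α ≫ (resQIso V P).hom
  have hα' : Approx α' (a - 2) := hα.comp (Approx.of_isIso _ _)
  obtain ⟨W, β, hxW, hβ⟩ := exists_local_chainMap hT α' ⟨x, hxV⟩
  let P' := (DCoh.restrictCx W).obj ((DCoh.restrictCx V).obj P)
  have hA : Approx (DerivedCategory.Q.map β) (a - 2) := by
    refine approx_congr (resQIso W T) (resQIso W ((DCoh.restrictCx V).obj P)) ?_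
      (Approx.map_exact (Scheme.Modules.restrictFunctor W.ι) hα')
    change (resD W).map α' ≫ _ = _
    rw [hβ]
    simp [Category.assoc]
  have hP' : ∀ i, FlatMod.IsFlat (P'.X i) := fun i =>
    Groth.L00.KFlat.isFlat_of_iso ((Scheme.Modules.restrictFunctorIsoPullback W.ι).app _).symm
      (Groth.L00.TorAmp.isFlat_pullback W.ι (Groth.L00.KFlat.isFlat_of_iso
        ((Scheme.Modules.restrictFunctorIsoPullback V.ι).app _).symm (Groth.L00.TorAmp.isFlat_pullback V.ι (hP i))))
  have hgood : Good P' a ⟨⟨x, hxV⟩, hxW⟩ :=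
    (good_res_iff W.ι _ a ⟨⟨x, hxV⟩, hxW⟩).2 ((good_res_iff V.ι P a ⟨x, hxV⟩).2 h)
  obtain ⟨O, hxO, hO⟩ := exists_nhd_truncGE β (isStrictlyPerfect_restrict W.ι hT) hP'
    (fun i hi => (Scheme.Modules.restrictFunctor W.ι).map_isZero
      ((Scheme.Modules.restrictFunctor V.ι).map_isZero (hPb i hi))) a hA _ hgood
  let β' := (DCoh.restrictCx O).map β
  let P'' := (DCoh.restrictCx O).obj P'
  have hA' : Approx (DerivedCategory.Q.map β') (a - 2) :=
    approx_congr (resQIso O _) (resQIso O P')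
      ((Scheme.Modules.restrictFunctor O.ι).mapDerivedCategoryFactors.hom.naturality β)
      (Approx.map_exact (Scheme.Modules.restrictFunctor O.ι) hA)
  haveI : P''.IsGE a := by
    rw [CochainComplex.isGE_iff]
    intro i hi
    rw [HomologicalComplex.exactAt_iff_isZero_homology]
    exact ((Scheme.Modules.restrictFunctor O.ι).map_isZero ((Scheme.Modules.restrictFunctor W.ι).map_isZero
      ((Scheme.Modules.restrictFunctor V.ι).map_isZero ((hlow i hi).of_iso
        ((DerivedCategory.homologyFunctorFactors X.Modules i).app P).symm)))).of_iso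
      ((((DCoh.restrictCx W).obj ((DCoh.restrictCx V).obj P)).sc i).mapHomologyIso
          (Scheme.Modules.restrictFunctor O.ι) ≪≫
        (Scheme.Modules.restrictFunctor O.ι).mapIso
          ((((DCoh.restrictCx V).obj P).sc i).mapHomologyIso (Scheme.Modules.restrictFunctor W.ι) ≪≫
            (Scheme.Modules.restrictFunctor W.ι).mapIso ((P.sc i).mapHomologyIso (Scheme.Modules.restrictFunctor V.ι))))
  haveI : QuasiIso (CochainComplex.truncGEMap β' a) := by
    rw [CochainComplex.quasiIso_truncGEMap_iff]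
    intro i hi
    rw [quasiIsoAt_iff_isIso_homologyMap]
    exact isIso_homologyMap_of_Q β' i (hA'.1 i (by omega))
  haveI : IsIso (DerivedCategory.Q.map (CochainComplex.truncGEMap β' a)) :=
    (DerivedCategory.isIso_Q_map_iff_quasiIso _ _).2 inferInstance
  haveI : IsIso (DerivedCategory.Q.map (P''.πTruncGE a)) :=
    (DerivedCategory.isIso_Q_map_iff_quasiIso _ _).2 inferInstance
  let j := O.ι ≫ W.ι ≫ V.ι
  refine ⟨_, j, inferInstance, ⟨⟨⟨⟨x, hxV⟩, hxW⟩, hxO⟩, rfl⟩, _, hO, ⟨?_⟩⟩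
  exact ((resTransD (W.ι ≫ V.ι) O.ι j rfl).app _).symm ≪≫
    (resD O).mapIso (((resTransD V.ι W.ι (W.ι ≫ V.ι) rfl).app _).symm ≪≫
      (resD W).mapIso (resQIso V P) ≪≫ resQIso W _) ≪≫ resQIso O P' ≪≫
    asIso (DerivedCategory.Q.map (P''.πTruncGE a)) ≪≫
    (asIso (DerivedCategory.Q.map (CochainComplex.truncGEMap β' a))).symm

/-- amplitude at a point spreads along a strictly perfect model -/
theorem exists_nhd_good {T P : CochainComplex X.Modules ℤ} (β : T ⟶ P) [IsIso (DerivedCategory.Q.map β)]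
    (hT : DCoh.IsStrictlyPerfect T) (hP : ∀ i, FlatMod.IsFlat (P.X i)) {bP : ℤ}
    (hPb : ∀ i, bP < i → IsZero (P.X i)) (a : ℤ) (x : X) (h : Good P a x) :
    ∃ O : X.Opens, x ∈ O ∧ ∀ z ∈ O, Good P a z := by
  obtain ⟨O, hxO, hO⟩ := exists_nhd_truncGE β hT hP hPb a (Approx.of_isIso _ _) x h
  let x' : (O : Scheme.{u}) := ⟨x, hxO⟩
  let T' := (DCoh.restrictCx O).obj T
  have hT' : DCoh.IsStrictlyPerfect T' := isStrictlyPerfect_restrict O.ι hT
  let eTP : DerivedCategory.Q.obj T' ≅ DerivedCategory.Q.obj ((DCoh.restrictCx O).obj P) :=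
    (resQIso O T).symm ≪≫ (resD O).mapIso (asIso (DerivedCategory.Q.map β)) ≪≫ resQIso O P
  have hx' : Good ((DCoh.restrictCx O).obj P) a x' := (good_res_iff O.ι P a x').2 h
  have hbelow : ∀ i, i < a → IsZero (((Groth.L00.Stk.S (O : Scheme.{u}) x').obj T').homology i) := fun i hi =>
    (hx'.1 i hi).of_iso ((stkQIso T' i x').symm ≪≫
      (Groth.L00.Stk.F (O : Scheme.{u}) x').mapIso ((DerivedCategory.homologyFunctor _ i).mapIso eTP) ≪≫
      stkQIso _ i x')
  obtain ⟨O', hxO', hO'⟩ := exists_nhd_isIso_πTruncGE hT' a hO x' hbelow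
  haveI := hO'
  obtain ⟨⟨lo, hi', hv⟩, hf⟩ := isStrictlyPerfect_restrict O'.ι hO
  let P' := (DCoh.restrictCx O').obj ((DCoh.restrictCx O).obj P)
  have hamp : DCoh.HasFlatAmplitudeIn a (max a hi') (DCoh.toD (O' : Scheme.{u}) P') := by
    refine ⟨(DCoh.restrictCx O').obj (T'.truncGE a), fun i hi => ?_,
      fun i => isFlat_of_isFinLocFree (hf i), ⟨?_⟩⟩
    · rcases hi with hi | hi
      · exact (Scheme.Modules.restrictFunctor O'.ι).map_isZero
          (CochainComplex.isZero_of_isStrictlyGE _ a i hi)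
      · exact hv i (Or.inr (by omega))
    · exact (resQIso O' _).symm ≪≫ (asIso ((resD O').map (DerivedCategory.Q.map (T'.πTruncGE a)))).symm ≪≫
        (resD O').mapIso eTP ≪≫ resQIso O' _
  refine ⟨O.ι ''ᵁ O', ⟨x', hxO', rfl⟩, ?_⟩
  rintro _ ⟨w, hw, rfl⟩
  let z : (O' : Scheme.{u}) := ⟨w, hw⟩
  have hg : Good P' a z := good_of_flatAmp
    (fun i => Groth.L00.KFlat.isFlat_of_iso ((Scheme.Modules.restrictFunctorIsoPullback O'.ι).app _).symm
      (Groth.L00.TorAmp.isFlat_pullback O'.ι (Groth.L00.KFlat.isFlat_of_iso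
        ((Scheme.Modules.restrictFunctorIsoPullback O.ι).app _).symm (Groth.L00.TorAmp.isFlat_pullback O.ι (hP i)))))
    (fun i hi => (Scheme.Modules.restrictFunctor O'.ι).map_isZero
      ((Scheme.Modules.restrictFunctor O.ι).map_isZero (hPb i hi))) hamp z
  exact (good_res_iff O.ι P a w).1 ((good_res_iff O'.ι _ a z).1 hg)

/-- for perfect complexes, amplitude at a point spreads -/
theorem isOpen_good {P : CochainComplex X.Modules ℤ} (hP : ∀ i, FlatMod.IsFlat (P.X i)) {bP : ℤ}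
    (hPb : ∀ i, bP < i → IsZero (P.X i)) (a : ℤ) (hperf : DCoh.IsPerfect (DCoh.toD X P)) :
    IsOpen {x | Good P a x} := by
  rw [isOpen_iff_forall_mem_open]
  intro x hx
  obtain ⟨V, hxV, T, hT, ⟨e⟩⟩ := (isPerfect_iff_wit _).1 hperf x
  let α' : DCoh.toD (↑V) T ⟶ DCoh.toD (↑V) ((DCoh.restrictCx V).obj P) := e.inv ≫ (resQIso V P).hom
  obtain ⟨W, β, hxW, hβ⟩ := exists_local_chainMap hT α' ⟨x, hxV⟩
  haveI : IsIso (DerivedCategory.Q.map β) := by
    have h2 : DerivedCategory.Q.map β =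
        (resQIso W T).inv ≫ (resD W).map α' ≫ (resQIso W ((DCoh.restrictCx V).obj P)).hom := by
      rw [hβ]; simp
    rw [h2]
    infer_instance
  let x' : (W : Scheme.{u}) := ⟨⟨x, hxV⟩, hxW⟩
  have hP' : ∀ i, FlatMod.IsFlat (((DCoh.restrictCx W).obj ((DCoh.restrictCx V).obj P)).X i) := fun i =>
    Groth.L00.KFlat.isFlat_of_iso ((Scheme.Modules.restrictFunctorIsoPullback W.ι).app _).symm
      (Groth.L00.TorAmp.isFlat_pullback W.ι (Groth.L00.KFlat.isFlat_of_iso
        ((Scheme.Modules.restrictFunctorIsoPullback V.ι).app _).symm (Groth.L00.TorAmp.isFlat_pullback V.ι (hP i))))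
  obtain ⟨O, hxO, hO⟩ := exists_nhd_good β (isStrictlyPerfect_restrict W.ι hT) hP'
    (fun i hi => (Scheme.Modules.restrictFunctor W.ι).map_isZero
      ((Scheme.Modules.restrictFunctor V.ι).map_isZero (hPb i hi))) a x'
    ((good_res_iff W.ι _ a x').2 ((good_res_iff V.ι P a ⟨x, hxV⟩).2 hx))
  refine ⟨V.ι ''ᵁ (W.ι ''ᵁ O), ?_, (V.ι ''ᵁ (W.ι ''ᵁ O)).isOpen, ⟨⟨x, hxV⟩, ⟨x', hxO, rfl⟩, rfl⟩⟩
  rintro _ ⟨_, ⟨z, hz, rfl⟩, rfl⟩
  exact (good_res_iff V.ι P a _).1 ((good_res_iff W.ι _ a z).1 (hO z hz))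

/-- perfectness descends -/
theorem perfect_descends (f : X ⟶ Y) [Flat f] (hq : Topology.IsQuotientMap f) [DCoh.HasLpull f] {E : DCoh.D Y}
    (h : DCoh.IsPerfect ((DCoh.Lpull f).obj E)) : DCoh.IsPerfect E := by
  have hpc : ∀ m, DCoh.IsPseudoCoherentD m E := fun m => PCDesc.pc_descends f hq (pc_of_perfect h m)
  refine perfect_of_on fun y => ?_
  obtain ⟨V, hyV, hV⟩ := (isPC_iff_wit 0 E).1 (hpc 0) y
  obtain ⟨N, -, hN⟩ := hV.exists_isZero
  haveI := Groth.L00.KFlat.hasLpull (f ∣_ V)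
  let g := f ∣_ V
  have hgq := PCDesc.isQuotientMap_restrict f hq V
  have hg : DCoh.IsPerfect ((DCoh.Lpull g).obj ((resD V).obj E)) := by
    haveI := Groth.L00.KFlat.hasLpull (f ⁻¹ᵁ V).ι
    exact isPerfect_of_iso (nonempty_restrict_Lpull f V E).some
      (isPerfect_of_iso (nonempty_Lpull_iso_restrictD (f ⁻¹ᵁ V).ι _).some (isPerfect_Lpull _ h))
  obtain ⟨Q, hQ, hk, hf, ⟨eQ⟩⟩ := exists_flat_representative_le ((resD V).obj E) N fun i hi => hN i hi.le
  have hQb : ∀ i, N < i → IsZero (Q.X i) := fun i hi =>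
    haveI := hQ; CochainComplex.isZero_of_isStrictlyLE Q N i hi
  let P := ((Scheme.Modules.pullback g).mapHomologicalComplex (ComplexShape.up ℤ)).obj Q
  have hP : ∀ i, FlatMod.IsFlat (P.X i) := fun i => Groth.L00.TorAmp.isFlat_pullback g (hf i)
  have hPb : ∀ i, N < i → IsZero (P.X i) := fun i hi => (Scheme.Modules.pullback g).map_isZero (hQb i hi)
  have hPperf : DCoh.IsPerfect (DCoh.toD _ P) := isPerfect_of_iso
    (((DCoh.Lpull g).mapIso eQ.symm) ≪≫
      Groth.L00.DerivedApi.objIso (Groth.L00.DerivedApi.acyclicKFlat_pullback g) Q hk) hg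
  obtain ⟨x, hx⟩ := hgq.surjective ⟨y, hyV⟩
  obtain ⟨O, a, b, hxO, -, hamp⟩ := (locFiniteTorDim_iff _).1 (locFiniteTorDim_of_perfect hPperf) x
  have hgood : Good P a x := by
    have h' : DCoh.HasFlatAmplitudeIn a b (DCoh.toD _ ((DCoh.restrictCx O).obj P)) :=
      flatAmp_of_iso (resQIso O P) hamp
    exact (good_res_iff O.ι P a ⟨x, hxO⟩).1 (good_of_flatAmp
      (fun i => Groth.L00.KFlat.isFlat_of_iso ((Scheme.Modules.restrictFunctorIsoPullback O.ι).app _).symm
        (Groth.L00.TorAmp.isFlat_pullback O.ι (hP i)))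
      (fun i hi => (Scheme.Modules.restrictFunctor O.ι).map_isZero (hPb i hi)) h' ⟨x, hxO⟩)
  let G : Set (V : Scheme.{u}) := {z | Good Q a z}
  have hG : IsOpen G := by
    rw [← hgq.isOpen_preimage]
    have : g ⁻¹' G = {z | Good P a z} := by
      ext z
      exact (good_pull_iff g Q a z).symm
    rw [this]
    exact isOpen_good hP hPb a hPperf
  let W : (V : Scheme.{u}).Opens := ⟨G, hG⟩
  have hyW : (⟨y, hyV⟩ : (V : Scheme.{u})) ∈ W := by
    rw [← hx]
    exact (good_pull_iff g Q a x).1 hgood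
  let QW := (DCoh.restrictCx W).obj Q
  have hlow : ∀ i, i < a → IsZero (DCoh.HD (DCoh.toD (W : Scheme.{u}) QW) i) := fun i hi =>
    (isZero_HD_iff_stk _ _).2 fun w =>
      (((good_res_iff W.ι Q a w).2 (show Good Q a (W.ι w) from w.2)).1 i hi).of_iso (stkQIso QW i w)
  have hpcW : DCoh.IsPseudoCoherentD (a - 2) (DCoh.toD (W : Scheme.{u}) QW) :=
    isPseudoCoherentD_of_iso ((resD W).mapIso eQ.symm ≪≫ resQIso W Q) (pc_res W.ι (pc_res V.ι (hpc _)))
  obtain ⟨U, j, _, ⟨z, hz⟩, hj⟩ := exists_pwit_of_good (P := QW)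
    (fun i => Groth.L00.KFlat.isFlat_of_iso ((Scheme.Modules.restrictFunctorIsoPullback W.ι).app _).symm
      (Groth.L00.TorAmp.isFlat_pullback W.ι (hf i)))
    (fun i hi => (Scheme.Modules.restrictFunctor W.ι).map_isZero (hQb i hi)) a hlow hpcW
    ⟨⟨y, hyV⟩, hyW⟩ ((good_res_iff W.ι Q a ⟨⟨y, hyV⟩, hyW⟩).2 hyW)
  exact ⟨U, j ≫ W.ι ≫ V.ι, inferInstance, ⟨z, congrArg (W.ι ≫ V.ι).base hz⟩,
    hj.of_iso ((DCoh.restrictD j).mapIso ((resQIso W Q).symm ≪≫ (resD W).mapIso eQ ≪≫
      (resTransD V.ι W.ι (W.ι ≫ V.ι) rfl).app E) ≪≫ (resTransD (W.ι ≫ V.ι) j _ rfl).app E)⟩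

/-- perfectness from finite tor dimension at all stalks -/
theorem perfect_of_stalks (F : CochainComplex X.Modules ℤ) (c d : ℤ) [(DCoh.toD X F).IsGE c]
    [(DCoh.toD X F).IsLE d]
    (hX : ∀ (x : X) (M : Type u) [AddCommGroup M] [Module (X.presheaf.stalk x) M],
      DRing.HasFiniteTorDim (X.presheaf.stalk x) M)
    (h : ∀ m, DCoh.IsPseudoCoherentD m (DCoh.toD X F)) : DCoh.IsPerfect (DCoh.toD X F) := by
  have hd : ∀ i, d < i → IsZero (DCoh.HD (DCoh.toD X F) i) := fun i hi =>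
    DerivedCategory.isZero_of_isLE _ d i hi
  obtain ⟨Q, hQ, -, hf, ⟨eQ⟩⟩ := exists_flat_representative_le (DCoh.toD X F) d hd
  have hQb : ∀ i, d < i → IsZero (Q.X i) := fun i hi =>
    haveI := hQ; CochainComplex.isZero_of_isStrictlyLE Q d i hi
  refine perfect_of_on fun x => ?_
  let A := X.presheaf.stalk x
  let C := (Groth.L00.Stk.S X x).obj Q
  have hz : ∀ i, i < c ∨ d < i → IsZero (DCoh.HD (DCoh.toD X Q) i) := fun i hi => by
    refine IsZero.of_iso ?_ ((DerivedCategory.homologyFunctor X.Modules i).mapIso eQ)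
    rcases hi with hi | hi
    · exact DerivedCategory.isZero_of_isGE (DCoh.toD X F) c i hi
    · exact hd i hi
  have hCz : ∀ i, i < c ∨ d < i → IsZero ((Groth.L02.PC.HH i).obj (DRing.toD C)) := fun i hi =>
    (Groth.L02.PC.isZero_HH_Q_iff C i).2 (((isZero_HD_iff_stk _ _).1 (hz i hi) x).of_iso (stkQIso Q i x).symm)
  have hn : ∀ i, ∃ n : ℕ, DRing.HasTorAmplitudeIn A (i - (n : ℤ)) i
      (Groth.L10.DR.single i ((Groth.L02.PC.HH i).obj (DRing.toD C))) := fun i => by
    obtain ⟨n, hn⟩ := hX x ((Groth.L02.PC.HH i).obj (DRing.toD C))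
    have := Groth.L10.DR.amp_shift ((Groth.L10.DR.hasTorDimLE_iff_amp n).1 hn) (-i)
    rw [sub_neg_eq_add, sub_neg_eq_add, zero_add, neg_add_eq_sub] at this
    exact ⟨n, Groth.L10.DR.amp_of_iso (Groth.L10.DR.singleShift i _) this⟩
  choose n hn using hn
  obtain ⟨M, hM⟩ := ((Finset.Icc c d).image n).finite_toSet.bddAbove
  let a : ℤ := c - M
  let P : ObjectProperty (Dual.D A) := fun K => DRing.HasTorAmplitudeIn A a (max d c) K
  haveI : P.IsClosedUnderIsomorphisms := ⟨fun e h => Groth.L10.DR.amp_of_iso e h⟩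
  have hamp : DRing.HasTorAmplitudeIn A a (max d c) (DRing.toD C) := by
    refine Groth.L10.DR.of_homology P (fun Z hZ => Groth.L10.DR.amp_of_isZero hZ _ _)
      (fun T hT h1 h3 => Groth.L10.DR.amp_second T hT h1 h3) _ c (max d c)
      ((DerivedCategory.isGE_iff _ c).2 fun i hi => hCz i (Or.inl hi))
      ((DerivedCategory.isLE_iff _ _).2 fun i hi => hCz i (Or.inr (by omega))) fun i h1 h2 => ?_
    by_cases hid : d < i
    · exact Groth.L10.DR.amp_of_isZero ((DerivedCategory.singleFunctor _ i).map_isZero (hCz i (Or.inr hid))) _ _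
    have hMi : n i ≤ M := hM (Finset.mem_coe.2 (Finset.mem_image_of_mem n (Finset.mem_Icc.2 ⟨h1, by omega⟩)))
    exact Groth.L10.DR.amp_mono (hn i) (by omega) h2
  have hgood : Good Q a x :=
    goodAlg_of_amp (flat_S hf x) (vanishesAbove_S hQb x) (Iso.refl _) hamp
  obtain ⟨U, j, hj, hxj, hw⟩ := exists_pwit_of_good hf hQb a (fun i hi => hz i (Or.inl (by omega)))
    (isPseudoCoherentD_of_iso eQ.symm (h _)) x hgood
  exact ⟨U, j, hj, hxj, hw.of_iso ((DCoh.restrictD j).mapIso eQ)⟩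

end Groth.L29.DC.PerfDesc
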