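import Groth.Agent.L29.DCoh.Flat
import Groth.Agent.L10.DerivedAdj
import Mathlib.Algebra.Homology.DerivedCategory.Fractions

/-!
Approximations in degrees `≥ m`, and their images under exact and derived functors.
-/

set_option autoImplicit false
set_option backward.isDefEq.respectTransparency false
set_option backward.isDefEq.respectTransparency.types false

universe w v u

open CategoryTheory CategoryTheory.Limits AlgebraicGeometry CochainComplex Pretriangulated

namespace Groth.L29.DC

section Generic

variable {C : Type u} [Category.{v} C] [Abelian C] [HasDerivedCategory.{w} C]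

/-- iso on `Hⁱ` for `i > m`, epi on `Hᵐ` -/
def Approx {K L : DerivedCategory C} (f : K ⟶ L) (m : ℤ) : Prop :=
  (∀ i : ℤ, m < i → IsIso ((DerivedCategory.homologyFunctor C i).map f)) ∧
    Epi ((DerivedCategory.homologyFunctor C m).map f)

variable {K L : DerivedCategory C} {m : ℤ}

theorem Approx.comp {M : DerivedCategory C} {f : K ⟶ L} {g : L ⟶ M} (hf : Approx f m) (hg : Approx g m) :
    Approx (f ≫ g) m := by
  refine ⟨fun i hi => ?_, ?_⟩
  · have := hf.1 i hi; have := hg.1 i hi
    rw [Functor.map_comp]; infer_instance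
  · have := hf.2; have := hg.2
    rw [Functor.map_comp]; exact epi_comp _ _

theorem Approx.of_isIso (f : K ⟶ L) [IsIso f] (m : ℤ) : Approx f m := ⟨fun _ _ => inferInstance, inferInstance⟩

theorem approx_congr {K' L' : DerivedCategory C} {f : K ⟶ L} {g : K' ⟶ L'} (a : K ≅ K') (b : L ≅ L')
    (w : f ≫ b.hom = a.hom ≫ g) (h : Approx f m) : Approx g m := by
  have : g = a.inv ≫ f ≫ b.hom := by rw [w, Iso.inv_hom_id_assoc]
  rw [this]
  exact (Approx.of_isIso _ m).comp (h.comp (Approx.of_isIso _ m))

theorem approx_iff_triangle (T : Triangle (DerivedCategory C)) (hT : T ∈ distTriang _) (m : ℤ) :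
    Approx T.mor₁ m ↔ DerivedCategory.IsLE T.obj₃ (m - 1) := by
  rw [DerivedCategory.isLE_iff]
  constructor
  · intro h i hi
    have he : Epi ((DerivedCategory.homologyFunctor C i).map T.mor₁) := by
      rcases eq_or_lt_of_le (show m ≤ i by omega) with rfl | hi'
      · exact h.2
      · have := h.1 i hi'; infer_instance
    have := h.1 (i + 1) (by omega)
    have h2 : Epi ((DerivedCategory.homologyFunctor C i).map T.mor₂) :=
      (DerivedCategory.HomologySequence.epi_homologyMap_mor₂_iff T hT i (i + 1) rfl).2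
        ((DerivedCategory.HomologySequence.mono_homologyMap_mor₁_iff T hT i (i + 1) rfl).1 inferInstance)
    exact IsZero.of_epi_eq_zero _
      ((DerivedCategory.HomologySequence.epi_homologyMap_mor₁_iff T hT i).1 he)
  · intro h
    have he : ∀ i, m ≤ i → Epi ((DerivedCategory.homologyFunctor C i).map T.mor₁) := fun i hi =>
      (DerivedCategory.HomologySequence.epi_homologyMap_mor₁_iff T hT i).2
        ((h i (by omega)).eq_of_tgt _ _)
    refine ⟨fun i hi => ?_, he m le_rfl⟩
    have := he i hi.le
    have : Mono ((DerivedCategory.homologyFunctor C i).map T.mor₁) :=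
      (DerivedCategory.HomologySequence.mono_homologyMap_mor₁_iff T hT (i - 1) i (by omega)).2
        ((h (i - 1) (by omega)).eq_of_src _ _)
    exact isIso_of_mono_of_epi _

theorem approx_Q_map_iff {P G : CochainComplex C ℤ} (f : P ⟶ G) (m : ℤ) :
    Approx (DerivedCategory.Q.map f) m ↔
      DerivedCategory.IsLE (DerivedCategory.Q.obj (mappingCone f)) (m - 1) :=
  approx_iff_triangle (DerivedCategory.Q.mapTriangle.obj (mappingCone.triangle f))
    ((DerivedCategory.mem_distTriang_iff _).mpr ⟨_, _, f, ⟨Iso.refl _⟩⟩) m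

variable {D : Type*} [Category D] [Abelian D] [HasDerivedCategory D]

/-- exact functors preserve approximations -/
theorem Approx.map_exact (F : C ⥤ D) [F.Additive] [PreservesFiniteLimits F] [PreservesFiniteColimits F]
    {f : K ⟶ L} (h : Approx f m) : Approx (F.mapDerivedCategory.map f) m := by
  obtain ⟨M, g, d, hT⟩ := distinguished_cocone_triangle f
  haveI : M.IsLE (m - 1) := (approx_iff_triangle _ hT m).1 h
  exact (approx_iff_triangle _ (F.mapDerivedCategory.map_distinguished _ hT) m).2
    (Groth.L10.DerivedAdj.isLE_map (w := F) M (m - 1))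

end Generic

section LG

attribute [local instance] HasDerivedCategory.standard

open Groth.L00 Groth.L00.DerivedApi

variable {X Y : Scheme.{u}} {G : Y.Modules ⥤ X.Modules} [G.Additive] (hG : AcyclicKFlat G)
  [(Kh G).HasLeftDerivedFunctor (HomotopyCategory.quasiIso Y.Modules (ComplexShape.up ℤ))]

include hG

theorem objIso_natural {P Q : CochainComplex Y.Modules ℤ} (hP : DCoh.IsKFlat P) (hQ : DCoh.IsKFlat Q)
    (b : P ⟶ Q) :
    (LG G).map (DerivedCategory.Q.map b) ≫ (objIso hG Q hQ).hom =
      (objIso hG P hP).hom ≫ DerivedCategory.Q.map ((G.mapHomologicalComplex (ComplexShape.up ℤ)).map b) := by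
  have h1 := (DerivedCategory.quotientCompQhIso Y.Modules).inv.naturality b
  have h2 := (counit G).naturality b
  have h3 := (cxqIso G).hom.naturality b
  simp only [objIso, Iso.trans_hom, Functor.mapIso_hom, Iso.symm_hom, asIso_hom, Iso.app_hom,
    Iso.app_inv, Category.assoc]
  rw [← Functor.map_comp_assoc]
  erw [h1, Functor.map_comp_assoc, reassoc_of% h2, h3]
  rfl

/-- derived functors of right exact functors preserve approximations -/
theorem Approx.map_LG {K L : DCoh.D Y} {f : K ⟶ L} {m : ℤ} (h : Approx f m) :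
    Approx ((LG G).map f) m := by
  obtain ⟨F, ⟨eF⟩⟩ : ∃ F : CochainComplex Y.Modules ℤ, Nonempty (DCoh.toD Y F ≅ K) :=
    ⟨_, ⟨DerivedCategory.Q.objObjPreimageIso K⟩⟩
  obtain ⟨F', ⟨eF'⟩⟩ : ∃ F : CochainComplex Y.Modules ℤ, Nonempty (DCoh.toD Y F ≅ L) :=
    ⟨_, ⟨DerivedCategory.Q.objObjPreimageIso L⟩⟩
  obtain ⟨X', s, hs, g, hf⟩ := DerivedCategory.right_fac (eF.hom ≫ f ≫ eF'.inv)
  obtain ⟨P, q, hP, -, hq, -⟩ := KFlat.exists_resolution X'
  obtain ⟨N, b, c, hN, hc, hbc, -, -⟩ := KFlat.exists_factor (q ≫ g) hP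
  haveI : IsIso (DerivedCategory.Q.map q) :=
    Localization.inverts DerivedCategory.Q (HomologicalComplex.quasiIso Y.Modules (ComplexShape.up ℤ)) _
      ((HomologicalComplex.mem_quasiIso_iff _).2 hq)
  haveI : IsIso (DerivedCategory.Q.map c) :=
    Localization.inverts DerivedCategory.Q (HomologicalComplex.quasiIso Y.Modules (ComplexShape.up ℤ)) _
      ((HomologicalComplex.mem_quasiIso_iff _).2 hc)
  let a : DCoh.toD Y P ≅ K := asIso (DerivedCategory.Q.map q) ≪≫ asIso (DerivedCategory.Q.map s) ≪≫ eF
  let a' : DCoh.toD Y N ≅ L := asIso (DerivedCategory.Q.map c) ≪≫ eF'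
  have w : DerivedCategory.Q.map b ≫ a'.hom = a.hom ≫ f := by
    have : eF.hom ≫ f = inv (DerivedCategory.Q.map s) ≫ DerivedCategory.Q.map g ≫ eF'.hom := by
      rw [← reassoc_of% hf, Iso.inv_hom_id, Category.comp_id]
    simp only [a, a', Iso.trans_hom, asIso_hom, Category.assoc, this, IsIso.hom_inv_id_assoc]
    rw [← Functor.map_comp_assoc, hbc, Functor.map_comp_assoc]
  have hb : Approx (DerivedCategory.Q.map b) m := approx_congr a.symm a'.symm (by
    rw [Iso.symm_hom, Iso.symm_hom, ← cancel_mono a'.hom, Category.assoc, Iso.inv_hom_id,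
      Category.comp_id, Category.assoc, w, Iso.inv_hom_id_assoc]) h
  have hcone := (approx_Q_map_iff b m).1 hb
  haveI := hcone
  haveI : DerivedCategory.IsLE (DerivedCategory.Q.obj
      ((G.mapHomologicalComplex (ComplexShape.up ℤ)).obj (mappingCone b))) (m - 1) :=
    haveI := isLE_LG hG (DCoh.toD Y (mappingCone b)) (m - 1)
    DerivedCategory.TStructure.t.isLE_of_iso (objIso hG _ (KFlat.isKFlat_cone b hP hN)) (m - 1)
  have h2 : Approx (DerivedCategory.Q.map ((G.mapHomologicalComplex (ComplexShape.up ℤ)).map b)) m :=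
    (approx_Q_map_iff _ m).2 (DerivedCategory.TStructure.t.isLE_of_iso
      (DerivedCategory.Q.mapIso (mappingCone.mapHomologicalComplexIso b G)) (m - 1))
  have h3 : Approx ((LG G).map (DerivedCategory.Q.map b)) m :=
    approx_congr (objIso hG P hP).symm (objIso hG N hN).symm (by
      rw [Iso.symm_hom, Iso.symm_hom, ← cancel_mono (objIso hG N hN).hom, Category.assoc,
        Iso.inv_hom_id, Category.comp_id, Category.assoc, objIso_natural hG hP hN b,
        Iso.inv_hom_id_assoc]) h2
  exact approx_congr ((LG G).mapIso a) ((LG G).mapIso a') (by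
    simp only [Functor.mapIso_hom, ← Functor.map_comp, w]) h3

end LG

end Groth.L29.DC
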