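import Groth.Agent.L29.DCoh.FibreSplit

/-!
The open locus where a perfect object is locally free of rank `r` placed in degree `i`.
-/

set_option autoImplicit false
set_option backward.isDefEq.respectTransparency false
set_option backward.isDefEq.respectTransparency.types false

universe u

open CategoryTheory CategoryTheory.Limits AlgebraicGeometry Opposite CochainComplex

attribute [local instance] HasDerivedCategory.standard

namespace Groth.L29.DC.Fib

variable {X : Scheme.{u}}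

/-- the rank only depends on the point -/
theorem rk_eq_of_point {U : Scheme.{u}} {x x' : U} (hxx : x = x') {K L : Type u} [Field K] [Field L]
    (ρ : U.presheaf.stalk x →+* K) [IsLocalHom ρ] (ρ' : U.presheaf.stalk x' →+* L) [IsLocalHom ρ']
    {M N : U.Modules} {n m : ℕ} (e : M ≅ FlatMod.freeMod U n) (e' : N ≅ FlatMod.freeMod U m) (φ : M ⟶ N) :
    rk ρ φ = rk ρ' φ := by
  subst hxx
  obtain ⟨O, hO, h⟩ := exists_open_rk_le ρ e e' φ
  obtain ⟨O', hO', h'⟩ := exists_open_rk_le ρ' e e' φ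
  exact le_antisymm (h x L ρ' hO) (h' x K ρ hO')

/-- fibre dimensions at an arbitrary field valued point -/
theorem bfib_eq_betti {Z : Scheme.{u}} [Subsingleton Z] (g : Z ⟶ X) [DCoh.HasLpull g] (z : Z)
    (hK : IsField (Z.presheaf.stalk z)) (E : DCoh.D X) (hE : DCoh.IsPerfect E)
    [DCoh.HasLpull (X.fromSpecResidueField (g z))] (k : ℤ) :
    bfib g z E k = PerfD.betti E (g z) k := by
  obtain ⟨U, j, _, P, n, α, hxU, hP, hα, he⟩ := exists_model_of_perfect E hE (g z)
  obtain ⟨u, hu⟩ := hxU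
  haveI := hα
  let g' : Z ⟶ U := IsOpenImmersion.lift j g (by
    rintro _ ⟨w, rfl⟩
    exact ⟨u, hu.trans (congrArg g (Subsingleton.elim z w))⟩)
  have hg : g' ≫ j = g := IsOpenImmersion.lift_fac _ _ _
  have hgu : g' z = u := j.isOpenEmbedding.injective (by
    rw [← Scheme.Hom.comp_apply, hg]; exact hu.symm)
  haveI := Groth.L00.KFlat.hasLpull g'
  have hp := isKFlat_of_isStrictlyPerfect hP
  have h1 := bfib_add_rk g' z hK P hp n (fun l => (he l).some) k
  rw [bfib_approx g' z (Approx.of_isIso α (k - 1)) (show k - 1 < k by omega), ← bfib_comp g' j g hg z] at h1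
  haveI : DCoh.HasLpull (X.fromSpecResidueField (j u)) := Groth.L00.KFlat.hasLpull _
  have h2 := betti_add_rkp j E hP n (fun l => (he l).some) (Approx.of_isIso α (k - 1)) u
    (show k - 1 < k by omega)
  have hb : PerfD.betti E (g z) k = PerfD.betti E (j u) k := by
    have : ∀ {a b : X} (hab : a = b) [DCoh.HasLpull (X.fromSpecResidueField a)]
        [DCoh.HasLpull (X.fromSpecResidueField b)], PerfD.betti E a k = PerfD.betti E b k := by
      intro a b hab _ _; subst hab; rfl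
    exact this hu.symm
  rw [hb]
  letI := stalkField z hK
  letI := stalkField (pt (j u)) (isField_stalk_pt _)
  have hr : ∀ a b, rk (Groth.L00.PullStalk.φ g' z) (P.d a b) = rkp j (P.d a b) u := fun a b =>
    rk_eq_of_point (hgu.trans (lpt_pt j u).symm) _ _ (he a).some (he b).some _
  rw [hr, hr] at h1
  omega

variable [∀ x : X, DCoh.HasLpull (X.fromSpecResidueField x)]

/-- the set of points with fibre cohomology of dimension `r` in degree `i` only -/
def locus (E : DCoh.D X) (i : ℤ) (r : ℕ) : Set X :=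
  {x | ∀ k : ℤ, PerfD.betti E x k = if k = i then r else 0}

theorem exists_single_of_mem (E : DCoh.D X) (hE : DCoh.IsPerfect E) {i : ℤ} {r : ℕ} {x : X}
    (hx : x ∈ locus E i r) :
    ∃ (U : Scheme.{u}) (j : U ⟶ X) (_ : IsOpenImmersion j), x ∈ j.opensRange ∧
      Nonempty ((DCoh.restrictD j).obj E ≅
        (DerivedCategory.singleFunctor U.Modules i).obj (FlatMod.freeMod U r)) := by
  obtain ⟨U, j, _, M, r', hxU, ⟨eM⟩, ⟨e⟩⟩ := exists_single_nhd E hE x i fun k hk => by rw [hx k, if_neg hk]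
  obtain ⟨u, rfl⟩ := hxU
  have h := betti_of_single E j eM e u i
  rw [hx i, if_pos rfl, if_pos rfl] at h
  subst h
  exact ⟨U, j, inferInstance, ⟨u, rfl⟩, ⟨e ≪≫ (DerivedCategory.singleFunctor U.Modules i).mapIso eM⟩⟩

theorem isOpen_locus (E : DCoh.D X) (hE : DCoh.IsPerfect E) (i : ℤ) (r : ℕ) : IsOpen (locus E i r) := by
  rw [isOpen_iff_mem_nhds]
  intro x hx
  obtain ⟨U, j, _, hxU, ⟨e⟩⟩ := exists_single_of_mem E hE hx
  refine Filter.mem_of_superset (j.opensRange.2.mem_nhds hxU) ?_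
  rintro _ ⟨v, rfl⟩ k
  exact betti_of_single E j (Iso.refl _) e v k

/-- pullback of a free module placed in degree `i` -/
theorem nonempty_Lpull_single {Y U : Scheme.{u}} (f : Y ⟶ U) [DCoh.HasLpull f] (i : ℤ) (r : ℕ) :
    Nonempty ((DCoh.Lpull f).obj ((DerivedCategory.singleFunctor U.Modules i).obj (FlatMod.freeMod U r)) ≅
      (DerivedCategory.singleFunctor Y.Modules i).obj (FlatMod.freeMod Y r)) := by
  have hS : DCoh.IsStrictlyPerfect ((HomologicalComplex.single U.Modules (ComplexShape.up ℤ) i).obj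
      (FlatMod.freeMod U r)) := by
    refine ⟨⟨i, i, fun l hl => HomologicalComplex.isZero_single_obj_X (ComplexShape.up ℤ) i _ l (by omega)⟩,
      fun l => ?_⟩
    rcases eq_or_ne l i with rfl | hl
    · exact Groth.L29.LocFree.of_iso (HomologicalComplex.singleObjXSelf (ComplexShape.up ℤ) l _).symm
        (isFinLocFree_freeMod U r)
    · exact Groth.L29.LocFree.of_isZero (HomologicalComplex.isZero_single_obj_X (ComplexShape.up ℤ) i _ l hl)
  exact ⟨(DCoh.Lpull f).mapIso ((DerivedCategory.singleFunctorIsoCompQ _ i).app _) ≪≫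
    Groth.L00.DerivedApi.objIso (Groth.L00.DerivedApi.acyclicKFlat_pullback f) _
      (isKFlat_of_isStrictlyPerfect hS) ≪≫
    DerivedCategory.Q.mapIso
      ((HomologicalComplex.singleMapHomologicalComplex (Scheme.Modules.pullback f) (ComplexShape.up ℤ) i).app _) ≪≫
    ((DerivedCategory.singleFunctorIsoCompQ _ i).app _).symm ≪≫
    (DerivedCategory.singleFunctor Y.Modules i).mapIso (Groth.L29.LocFree.pullbackFreeIso f r)⟩

/-- gluing: locally free in degree `i` -/
theorem exists_shift_of_local {Y : Scheme.{u}} (K : DCoh.D Y) (i : ℤ) (r : ℕ)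
    (h : ∀ y : Y, ∃ W : Y.Opens, y ∈ W ∧ Nonempty ((resD W).obj K ≅
      (DerivedCategory.singleFunctor _ i).obj (FlatMod.freeMod (↑W) r))) :
    ∃ V : Y.Modules, FlatMod.IsFinLocFreeOfRank r V ∧ Nonempty (K ≅ (DCoh.inD Y V)⟦-i⟧) := by
  choose W hW eW using h
  have hW' : iSup W = ⊤ := top_unique fun y _ => TopologicalSpace.Opens.mem_iSup.2 ⟨y, hW y⟩
  have hz : ∀ k, k ≠ i → IsZero (DCoh.HD K k) := fun k hk => by
    refine Groth.L21.Mod.isZero_of_restrict (fun y => (W y).ι) (fun y => ⟨y, ⟨y, hW y⟩, rfl⟩) _ fun y => ?_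
    refine IsZero.of_iso ?_ ((Scheme.Modules.restrictFunctor (W y).ι).mapIso (Iso.refl _))
    obtain ⟨F, ⟨eF⟩⟩ : ∃ F : CochainComplex Y.Modules ℤ, Nonempty (DCoh.toD Y F ≅ K) :=
      ⟨_, ⟨DerivedCategory.Q.objObjPreimageIso K⟩⟩
    let R := Scheme.Modules.restrictFunctor (W y).ι
    refine IsZero.of_iso ?_ (R.mapIso ((DerivedCategory.homologyFunctor _ k).mapIso eF.symm ≪≫
      (DerivedCategory.homologyFunctorFactors _ k).app F) ≪≫ ((F.sc k).mapHomologyIso R).symm ≪≫
      ((DerivedCategory.homologyFunctorFactors (↑(W y) : Scheme.{u}).Modules k).app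
        ((R.mapHomologicalComplex (ComplexShape.up ℤ)).obj F)).symm ≪≫
      (DerivedCategory.homologyFunctor _ k).mapIso (((resQIso (W y) F).symm ≪≫
        (resD (W y)).mapIso eF ≪≫ (eW y).some).trans ((DerivedCategory.singleFunctorIsoCompQ _ i).app _)) ≪≫
      (DerivedCategory.homologyFunctorFactors _ k).app _)
    exact HomologicalComplex.ExactAt.isZero_homology (HomologicalComplex.exactAt_single_obj _ _ _ _ hk)
  haveI : K.IsGE i := (K.isGE_iff i).2 fun k hk => hz k (by omega)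
  haveI : K.IsLE i := (K.isLE_iff i).2 fun k hk => hz k (by omega)
  obtain ⟨V, ⟨eV⟩⟩ := DerivedCategory.exists_iso_singleFunctor_obj_of_isGE_of_isLE K i
  refine ⟨V, fun y => ⟨W y, hW y, ⟨?_⟩⟩,
    ⟨eV ≪≫ (((DerivedCategory.singleFunctors Y.Modules).shiftIso (-i) i 0 (by omega)).app V).symm⟩⟩
  let H := DerivedCategory.singleFunctorCompHomologyFunctorIso (↑(W y) : Scheme.{u}).Modules i
  exact (H.app _).symm ≪≫ (DerivedCategory.homologyFunctor _ i).mapIso
    ((((Scheme.Modules.restrictFunctor (W y).ι).mapDerivedCategorySingleFunctor i).app V).symm ≪≫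
      (resD (W y)).mapIso eV.symm ≪≫ (eW y).some) ≪≫ H.app _

/-- the universal property of the locus -/
theorem range_subset_locus_iff (E : DCoh.D X) (hE : DCoh.IsPerfect E) (i : ℤ) (r : ℕ) {Y : Scheme.{u}}
    (f : Y ⟶ X) [DCoh.HasLpull f] :
    Set.range f.base ⊆ locus E i r ↔
      ∃ V : Y.Modules, FlatMod.IsFinLocFreeOfRank r V ∧ Nonempty ((DCoh.Lpull f).obj E ≅ (DCoh.inD Y V)⟦-i⟧) := by
  constructor
  · intro h
    refine exists_shift_of_local _ i r fun y => ?_
    obtain ⟨U, j, _, hyU, ⟨e⟩⟩ := exists_single_of_mem E hE (h ⟨y, rfl⟩)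
    let W := f ⁻¹ᵁ j.opensRange
    let f' : (W : Scheme.{u}) ⟶ U := IsOpenImmersion.lift j (W.ι ≫ f) (by
      rintro _ ⟨w, rfl⟩
      exact w.2)
    have hf : f' ≫ j = W.ι ≫ f := IsOpenImmersion.lift_fac _ _ _
    refine ⟨W, hyU, ?_⟩
    haveI := Groth.L00.KFlat.hasLpull W.ι
    haveI := Groth.L00.KFlat.hasLpull f'
    haveI := Groth.L00.KFlat.hasLpull j
    haveI := Groth.L00.KFlat.hasLpull (W.ι ≫ f)
    haveI := Groth.L00.KFlat.hasLpull (f' ≫ j)
    obtain ⟨e1⟩ := nonempty_Lpull_iso_restrictD W.ι ((DCoh.Lpull f).obj E)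
    obtain ⟨e2⟩ := Groth.L00.DerivedApi.lpull_comp W.ι f
    obtain ⟨e3⟩ := Groth.L00.DerivedApi.lpull_comp f' j
    obtain ⟨e4⟩ := nonempty_Lpull_iso_restrictD j E
    obtain ⟨e5⟩ := nonempty_Lpull_single f' i r
    exact ⟨e1.symm ≪≫ e2.app E ≪≫ eqToIso (by congr 2; exact hf.symm) ≪≫ (e3.app E).symm ≪≫
      (DCoh.Lpull f').mapIso (e4 ≪≫ e) ≪≫ e5⟩
  · rintro ⟨V, hV, ⟨e⟩⟩ _ ⟨y, rfl⟩ k
    haveI : ∀ y : Y, DCoh.HasLpull (Y.fromSpecResidueField y) := fun y => Groth.L00.KFlat.hasLpull _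
    obtain ⟨W, hy, ⟨eW⟩⟩ := hV y
    let eK : (resD W).obj ((DCoh.Lpull f).obj E) ≅ (DerivedCategory.singleFunctor _ i).obj (V.restrict W.ι) :=
      (resD W).mapIso (e ≪≫ ((DerivedCategory.singleFunctors Y.Modules).shiftIso (-i) i 0 (by omega)).app V) ≪≫
        ((Scheme.Modules.restrictFunctor W.ι).mapDerivedCategorySingleFunctor i).app V
    have h := betti_of_single _ W.ι eW eK ⟨y, hy⟩ k
    rw [← h]
    let g := Y.fromSpecResidueField y
    haveI := Groth.L00.KFlat.hasLpull (g ≫ f)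
    obtain ⟨ec⟩ := Groth.L00.DerivedApi.lpull_comp g f
    have h1 := bfib_eq_betti (g ≫ f) (pt y) (isField_stalk_pt y) E hE k
    have h2 : bfib g (pt y) ((DCoh.Lpull f).obj E) k = bfib (g ≫ f) (pt y) E k :=
      ((Groth.L00.Stk.F _ (pt y)).mapIso ((DerivedCategory.homologyFunctor _ k).mapIso (ec.app E))).toLinearEquiv.finrank_eq
    change _ = PerfD.betti ((DCoh.Lpull f).obj E) y k
    rw [betti_eq_bfib ((DCoh.Lpull f).obj E) y k, h2, h1]
    congr 1
    exact (congrArg f (fromSpec_pt y)).symm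

end Groth.L29.DC.Fib
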