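import Groth.Agent.L29.DCoh.PCStalk

/-!
Pseudo-coherence and perfectness descend along flat surjective quotient maps.
-/

set_option autoImplicit false
set_option backward.isDefEq.respectTransparency false
set_option backward.isDefEq.respectTransparency.types false

universe u

open CategoryTheory CategoryTheory.Limits CategoryTheory.Pretriangulated AlgebraicGeometry HomologicalComplex

attribute [local instance] HasDerivedCategory.standard

noncomputable section

namespace Groth.L29.DC.PCDesc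

open Groth.L29.DC.PCStalk

variable {X Y : Scheme.{u}}

/-- pseudo-coherence is local -/
theorem pc_of_local {m : ℤ} {K : DCoh.D X}
    (h : ∀ x : X, ∃ V : X.Opens, x ∈ V ∧ DCoh.IsPseudoCoherentD m ((resD V).obj K)) :
    DCoh.IsPseudoCoherentD m K := by
  refine pc_of_on fun x => ?_
  obtain ⟨V, hx, hV⟩ := h x
  obtain ⟨W, hxW, hW⟩ := (isPC_iff_wit m _).1 hV ⟨x, hx⟩
  exact ⟨_, W.ι ≫ V.ι, inferInstance, mem_opensRange_comp hx hxW,
    wit_iso ((resTransD V.ι W.ι (W.ι ≫ V.ι) rfl).app K) hW⟩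

/-- pseudo-coherence on an open of an open -/
theorem exists_pc_res {m : ℤ} {K : DCoh.D X} {W : X.Opens} {x : X} (hx : x ∈ W)
    {O : (W : Scheme.{u}).Opens} (hO : (⟨x, hx⟩ : (W : Scheme.{u})) ∈ O)
    (h : DCoh.IsPseudoCoherentD m ((resD O).obj ((resD W).obj K))) :
    ∃ V : X.Opens, x ∈ V ∧ DCoh.IsPseudoCoherentD m ((resD V).obj K) :=
  exists_opens_of_on (fun {Z} => DCoh.IsPseudoCoherentD m) (fun k _ _ h => pc_res k h)
    (fun e h => isPseudoCoherentD_of_iso e h) (O.ι ≫ W.ι) (mem_opensRange_comp hx hO)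
    (isPseudoCoherentD_of_iso ((resTransD W.ι O.ι (O.ι ≫ W.ι) rfl).app K) h)

theorem pc_pull_res (f : X ⟶ Y) [DCoh.HasLpull f] (W : Y.Opens) [DCoh.HasLpull (f ∣_ W)] {m : ℤ}
    {L : DCoh.D Y} (h : DCoh.IsPseudoCoherentD m ((DCoh.Lpull f).obj L)) :
    DCoh.IsPseudoCoherentD m ((DCoh.Lpull (f ∣_ W)).obj ((resD W).obj L)) :=
  isPseudoCoherentD_of_iso (nonempty_restrict_Lpull f W L).some (pc_res _ h)

theorem isQuotientMap_restrict (f : X ⟶ Y) (hq : Topology.IsQuotientMap f) (W : Y.Opens) :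
    Topology.IsQuotientMap (f ∣_ W) := by
  rw [morphismRestrict_base]
  exact hq.restrictPreimage_isOpen W.isOpen

theorem surjective_of_isQuotientMap (f : X ⟶ Y) (hq : Topology.IsQuotientMap f) : Surjective f :=
  ⟨hq.surjective⟩

open Groth.L00.KFlat in
/-- two out of three after a derived pullback -/
theorem pc_pull_third (f : X ⟶ Y) [DCoh.HasLpull f] {T : Triangle (DCoh.D Y)} (hT : T ∈ distTriang (DCoh.D Y))
    {m : ℤ} (h₁ : DCoh.IsPseudoCoherentD (m + 1) ((DCoh.Lpull f).obj T.obj₁))
    (h₂ : DCoh.IsPseudoCoherentD m ((DCoh.Lpull f).obj T.obj₂)) :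
    DCoh.IsPseudoCoherentD m ((DCoh.Lpull f).obj T.obj₃) := by
  have hG := Groth.L00.DerivedApi.acyclicKFlat_pullback f
  let rep : ∀ K : DCoh.D Y, { P : CochainComplex Y.Modules ℤ // DCoh.IsKFlat P ∧ Nonempty (DCoh.toD Y P ≅ K) } :=
    fun K => ⟨(RF Y).obj (DerivedCategory.Q.objPreimage K), isKFlat_RF _,
      ⟨(haveI := Groth.L00.TorAmp.isIso_Q_rF (DerivedCategory.Q.objPreimage K);
        asIso (DerivedCategory.Q.map ((rF Y).app (DerivedCategory.Q.objPreimage K)))) ≪≫
        DerivedCategory.Q.objObjPreimageIso K⟩⟩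
  obtain ⟨P₁, k₁, ⟨e₁⟩⟩ := rep T.obj₁
  obtain ⟨P₂, k₂, ⟨e₂⟩⟩ := rep T.obj₂
  obtain ⟨R, s, hs, g, hg⟩ := DerivedCategory.right_fac (e₁.hom ≫ T.mor₁ ≫ e₂.inv)
  haveI := hs
  haveI := Groth.L00.TorAmp.isIso_Q_rF R
  have kR : DCoh.IsKFlat ((RF Y).obj R) := isKFlat_RF R
  let φ : (RF Y).obj R ⟶ P₂ := (rF Y).app R ≫ g
  let eR : DCoh.toD Y ((RF Y).obj R) ≅ T.obj₁ :=
    asIso (DerivedCategory.Q.map ((rF Y).app R) ≫ DerivedCategory.Q.map s) ≪≫ e₁
  let e₃ : DCoh.toD Y (CochainComplex.mappingCone φ) ≅ T.obj₃ := Triangle.π₃.mapIso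
    (isoTriangleOfIso₁₂ _ T (DerivedCategory.mappingCone_triangle_distinguished φ) hT eR e₂ (by
      change DerivedCategory.Q.map φ ≫ e₂.hom =
        ((DerivedCategory.Q.map ((rF Y).app R) ≫ DerivedCategory.Q.map s) ≫ e₁.hom) ≫ T.mor₁
      have : e₁.hom ≫ T.mor₁ = inv (DerivedCategory.Q.map s) ≫ DerivedCategory.Q.map g ≫ e₂.hom := by
        rw [← Category.assoc, ← hg]; simp
      rw [Category.assoc, this, Functor.map_comp]
      simp))
  let GC := (Scheme.Modules.pullback f).mapHomologicalComplex (ComplexShape.up ℤ)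
  have hd := DerivedCategory.mappingCone_triangle_distinguished (GC.map φ)
  exact isPseudoCoherentD_of_iso
    ((DerivedCategory.Q.mapIso (CochainComplex.mappingCone.mapHomologicalComplexIso φ (Scheme.Modules.pullback f))).symm ≪≫
      (Groth.L00.DerivedApi.objIso hG _ (Groth.L00.KFlat.isKFlat_cone φ kR k₂)).symm ≪≫
      (DCoh.Lpull f).mapIso e₃)
    (pc_third hd (isPseudoCoherentD_of_iso ((DCoh.Lpull f).mapIso eR.symm ≪≫ Groth.L00.DerivedApi.objIso hG _ kR) h₁)
      (isPseudoCoherentD_of_iso ((DCoh.Lpull f).mapIso e₂.symm ≪≫ Groth.L00.DerivedApi.objIso hG _ k₂) h₂))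

set_option maxHeartbeats 1000000 in
theorem pc_descends_aux (m : ℤ) : ∀ (k : ℕ) {X Y : Scheme.{u}} (f : X ⟶ Y) [Flat f]
    (_ : Topology.IsQuotientMap f) [DCoh.HasLpull f] (L : DCoh.D Y),
    DCoh.IsPseudoCoherentD m ((DCoh.Lpull f).obj L) →
    (∀ i, m - 1 + k < i → IsZero (DCoh.HD L i)) → DCoh.IsPseudoCoherentD m L := by
  intro k
  induction k with
  | zero =>
    intro X Y f _ _ _ L _ hz
    exact pc_of_isZero fun i hi => hz i (by simp only [Nat.cast_zero, add_zero]; omega)
  | succ k ih =>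
    intro X Y f _ hq _ L hL hz
    let n : ℤ := m + k
    have hn : m - 1 + ((k + 1 : ℕ) : ℤ) = n := by simp only [n]; omega
    refine pc_of_local fun y => ?_
    obtain ⟨x, rfl⟩ := hq.surjective y
    have hzX : ∀ i, n < i → IsZero (DCoh.HD ((DCoh.Lpull f).obj L) i) := fun i hi =>
      (isZero_HD_iff_stk _ _).2 fun x' => (isZero_pull_iff f L i x').2
        ((isZero_HD_iff_stk _ _).1 (hz i (by omega)) _)
    have hfin := finite_of_pull f L n x (finite_stk_top (m := m) (by omega) hL hzX x)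
    haveI : L.IsLE n := (L.isLE_iff n).2 fun i hi => hz i (by omega)
    obtain ⟨G, hG, ⟨e⟩⟩ := DerivedCategory.exists_iso_Q_obj_of_isLE L n
    have hGz : ∀ i, n < i → IsZero (G.X i) := fun i hi => CochainComplex.isZero_of_isStrictlyLE G n i hi
    have hd : G.d n (n + 1) = 0 := (hGz (n + 1) (by omega)).eq_of_tgt _ _
    haveI : IsIso (G.iCycles n) := G.isIso_iCycles n (n + 1) (by simp) hd
    let π : G.X n ⟶ G.homology n := inv (G.iCycles n) ≫ G.homologyπ n
    haveI : Epi π := epi_comp _ _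
    have hfin' : Module.Finite (Y.presheaf.stalk (f x)) ((Groth.L00.Stk.F Y (f x)).obj (G.homology n)) :=
      haveI := hfin
      Module.Finite.equiv ((Groth.L00.Stk.F Y (f x)).mapIso
        ((DerivedCategory.homologyFunctor Y.Modules n).mapIso e ≪≫
          (DerivedCategory.homologyFunctorFactors Y.Modules n).app G)).toLinearEquiv
    obtain ⟨Φ, W, φ, hyW, hΦ, hepi⟩ := exists_gen π (f x) hfin'
    let E : CochainComplex Y.Modules ℤ := (HomologicalComplex.single _ (ComplexShape.up ℤ) n).obj Φ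
    let a : E ⟶ G := HomologicalComplex.mkHomFromSingle φ (fun j hj => by
      obtain rfl : n + 1 = j := hj
      rw [hd, comp_zero])
    let T := DerivedCategory.Q.mapTriangle.obj (CochainComplex.mappingCone.triangle a)
    have hT : T ∈ distTriang _ := (DerivedCategory.mem_distTriang_iff _).mpr ⟨_, _, a, ⟨Iso.refl _⟩⟩
    let H : ℤ → DCoh.D Y ⥤ Y.Modules := fun i => DerivedCategory.homologyFunctor Y.Modules i
    have hEz : ∀ i, i ≠ n → IsZero (E.X i) := fun i hi =>
      HomologicalComplex.isZero_single_obj_X _ _ _ _ hi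
    have hE1 : IsZero ((H (n + 1)).obj T.obj₁) :=
      (ShortComplex.isZero_homology_of_isZero_X₂ _ (hEz (n + 1) (by omega))).of_iso
        ((DerivedCategory.homologyFunctorFactors Y.Modules (n + 1)).app E)
    have hz3 : ∀ i, n < i → IsZero ((H i).obj T.obj₃) := fun i hi => by
      refine (ShortComplex.isZero_homology_of_isZero_X₂ _ ?_).of_iso
        ((DerivedCategory.homologyFunctorFactors Y.Modules i).app (CochainComplex.mappingCone a))
      exact (CochainComplex.mappingCone.isZero_X_iff a i).2 ⟨hEz _ (by omega), hGz i hi⟩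
    have hy : IsZero (stk T.obj₃ n (f x)) := by
      haveI : Epi ((H n).map T.mor₂) :=
        (DerivedCategory.HomologySequence.epi_homologyMap_mor₂_iff T hT n (n + 1) rfl).2
          ((DerivedCategory.HomologySequence.mono_homologyMap_mor₁_iff T hT n (n + 1) rfl).1
            ⟨fun g h _ => hE1.eq_of_tgt g h⟩)
      haveI : Epi ((Groth.L00.Stk.F Y (f x)).map ((H n).map T.mor₁)) := by
        have key : (HomologicalComplex.singleObjHomologySelfIso (ComplexShape.up ℤ) n Φ).inv ≫
            HomologicalComplex.homologyMap a n = φ ≫ π := by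
          rw [← HomologicalComplex.singleObjCyclesSelfIso_inv_homologyπ, Category.assoc,
            HomologicalComplex.homologyπ_naturality, ← Category.assoc, ← Category.assoc φ]
          refine congrArg (fun t => t ≫ G.homologyπ n) ?_
          rw [IsIso.eq_comp_inv, Category.assoc, HomologicalComplex.cyclesMap_i,
            HomologicalComplex.singleObjCyclesSelfIso_inv_iCycles_assoc,
            HomologicalComplex.mkHomFromSingle_f, Iso.inv_hom_id_assoc]
        have h1 : Epi ((Groth.L00.Stk.F Y (f x)).map (HomologicalComplex.homologyMap a n)) := by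
          haveI : Epi ((Groth.L00.Stk.F Y (f x)).map
              (HomologicalComplex.singleObjHomologySelfIso (ComplexShape.up ℤ) n Φ).inv ≫
              (Groth.L00.Stk.F Y (f x)).map (HomologicalComplex.homologyMap a n)) := by
            rw [← Functor.map_comp, key]; exact hepi
          exact epi_of_epi ((Groth.L00.Stk.F Y (f x)).map
              (HomologicalComplex.singleObjHomologySelfIso (ComplexShape.up ℤ) n Φ).inv) _
        exact ((MorphismProperty.epimorphisms _).arrow_mk_iso_iff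
          ((Groth.L00.Stk.F Y (f x)).mapArrow.mapIso
            (Arrow.isoOfNatIso (DerivedCategory.homologyFunctorFactors Y.Modules n) (Arrow.mk a)))).2 h1
      refine IsZero.of_epi_eq_zero ((Groth.L00.Stk.F Y (f x)).map ((H n).map T.mor₂))
        (zero_of_epi_comp ((Groth.L00.Stk.F Y (f x)).map ((H n).map T.mor₁)) ?_)
      rw [← Functor.map_comp, ← Functor.map_comp, comp_distTriang_mor_zero₁₂ _ hT, Functor.map_zero,
        Functor.map_zero]
    haveI := surjective_of_isQuotientMap f hq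
    let g := f ∣_ W
    haveI := Groth.L00.KFlat.hasLpull g
    let T' := (resD W).mapTriangle.obj T
    have hT' : T' ∈ distTriang _ := (resD W).map_distinguished _ hT
    have hEW : ∀ j, DCoh.IsPseudoCoherentD j T'.obj₁ := fun j => by
      have hs : DCoh.IsStrictlyPerfect ((DCoh.restrictCx W).obj E) := by
        refine ⟨⟨n, n, fun i hi => (Scheme.Modules.restrictFunctor W.ι).map_isZero (hEz i (by omega))⟩,
          fun i => ?_⟩
        by_cases hi : i = n
        · rw [hi]
          exact Groth.L29.LocFree.of_iso ((Scheme.Modules.restrictFunctor W.ι).mapIso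
            (HomologicalComplex.singleObjXSelf (ComplexShape.up ℤ) n Φ).symm) hΦ
        · exact Groth.L29.LocFree.of_isZero ((Scheme.Modules.restrictFunctor W.ι).map_isZero (hEz i hi))
      refine pc_of_perfect (perfect_of_on fun z => ⟨_, (⊤ : (W : Scheme.{u}).Opens).ι, inferInstance, by simp, ?_⟩) j
      exact (PWit.restrict _ ⟨_, hs, ⟨resQIso W E⟩⟩)
    have hg1 : DCoh.IsPseudoCoherentD (m + 1) ((DCoh.Lpull g).obj T'.obj₁) :=
      isPseudoCoherentD_Lpull g (hEW _)
    have hg2 : DCoh.IsPseudoCoherentD m ((DCoh.Lpull g).obj T'.obj₂) :=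
      isPseudoCoherentD_of_iso ((DCoh.Lpull g).mapIso ((resD W).mapIso e))
        (pc_pull_res f W hL)
    have hg3 : DCoh.IsPseudoCoherentD m ((DCoh.Lpull g).obj T'.obj₃) :=
      pc_pull_third g hT' hg1 hg2
    let O : (W : Scheme.{u}).Opens := ⟨van T'.obj₃ n, by
      rw [← (isQuotientMap_restrict f hq W).isOpen_preimage]
      have : g ⁻¹' (van T'.obj₃ n) = van ((DCoh.Lpull g).obj T'.obj₃) n := by
        ext z
        exact forall_congr' fun i => imp_congr_right fun _ => (isZero_pull_iff g T'.obj₃ i z).symm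
      rw [this]
      exact isOpen_van hg3 (by omega)⟩
    have hyO : (⟨f x, hyW⟩ : (W : Scheme.{u})) ∈ O := fun i hi => by
      refine (isZero_res_iff W.ι T.obj₃ i ⟨f x, hyW⟩).2 ?_
      rcases eq_or_lt_of_le hi with rfl | hi'
      · exact hy
      · exact (isZero_HD_iff_stk _ _).1 (hz3 i hi') _
    haveI := surjective_of_isQuotientMap g (isQuotientMap_restrict f hq W)
    haveI := Groth.L00.KFlat.hasLpull (g ∣_ O)
    have h3 : DCoh.IsPseudoCoherentD m ((resD O).obj T'.obj₃) :=
      ih (g ∣_ O) (isQuotientMap_restrict g (isQuotientMap_restrict f hq W) O) _ (pc_pull_res g O hg3)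
        fun i hi => isZero_of_subset_van O (le_refl _) (by omega)
    have h2 : DCoh.IsPseudoCoherentD m ((resD O).obj T'.obj₂) :=
      (pc_two_out_of_three ((resD O).map_distinguished _ hT') m).2.1 (pc_res O.ι (hEW m)) h3
    exact exists_pc_res hyW hyO (isPseudoCoherentD_of_iso ((resD O).mapIso ((resD W).mapIso e.symm)) h2)

/-- pseudo-coherence descends -/
theorem pc_descends (f : X ⟶ Y) [Flat f] (hq : Topology.IsQuotientMap f) [DCoh.HasLpull f] {m : ℤ}
    {L : DCoh.D Y} (h : DCoh.IsPseudoCoherentD m ((DCoh.Lpull f).obj L)) : DCoh.IsPseudoCoherentD m L := by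
  refine pc_of_local fun y => ?_
  obtain ⟨x, rfl⟩ := hq.surjective y
  obtain ⟨V, hxV, hV⟩ := (isPC_iff_wit m _).1 h x
  obtain ⟨N, hmN, hN⟩ := hV.exists_isZero
  let W : Y.Opens := ⟨van L N, by
    rw [← hq.isOpen_preimage]
    have : f ⁻¹' (van L N) = van ((DCoh.Lpull f).obj L) N := by
      ext z
      exact forall_congr' fun i => imp_congr_right fun _ => (isZero_pull_iff f L i z).symm
    rw [this]
    exact isOpen_van h hmN⟩
  refine ⟨W, fun i hi => (isZero_pull_iff f L i x).1 ?_, ?_⟩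
  · exact (isZero_res_iff V.ι _ i ⟨x, hxV⟩).1 ((isZero_HD_iff_stk _ _).1 (hN i hi) _)
  haveI := Groth.L00.KFlat.hasLpull (f ∣_ W)
  exact pc_descends_aux m (N - m + 1).toNat (f ∣_ W) (isQuotientMap_restrict f hq W) _ (pc_pull_res f W h)
    fun i hi => isZero_of_subset_van W (le_refl _) (by omega)

end Groth.L29.DC.PCDesc
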