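import Groth.Agent.L17.ClosedPush
import Groth.Agent.L29.DCoh.BiNat
import Groth.Agent.L29.DCoh.TensorAssoc
import Groth.Agent.L00.KFlatPull
import Groth.Prelude.Def_DCoh2

/-!
The projection formula for a closed immersion and a K-flat complex.
-/

set_option autoImplicit false
set_option backward.isDefEq.respectTransparency false
set_option backward.isDefEq.respectTransparency.types false

universe u

open CategoryTheory CategoryTheory.Limits MonoidalCategory AlgebraicGeometry Opposite

attribute [local instance] HasDerivedCategory.standard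

namespace Groth.L29.DC.ClosedProj

open Groth.L00 Groth.L00.Tensor Groth.L00.StalkTensor Groth.L17.ClosedPush

variable {X Y : Scheme.{u}} (f : X ⟶ Y)

theorem μ_natural₂ (M : X.Modules) {A A' : X.Modules} (h : A ⟶ A') :
    tensorMap (𝟙 ((Scheme.Modules.pushforward f).obj M)) ((Scheme.Modules.pushforward f).map h) ≫ μ f M A' =
      μ f M A ≫ (Scheme.Modules.pushforward f).map (tensorMap (𝟙 M) h) := by
  refine ((shAdj Y).homEquiv
    (pre ((Scheme.Modules.pushforward f).obj M) ⊗ pre ((Scheme.Modules.pushforward f).obj A)) _).injective ?_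
  refine ((shAdj Y).homEquiv_unit ..).trans (Eq.trans ?_ ((shAdj Y).homEquiv_unit ..).symm)
  refine PresheafOfModules.hom_ext fun V => ModuleCat.MonoidalCategory.tensor_ext fun m a => ?_
  exact ((congrArg ((μ f M A').app V.unop) (tensorMap_unit _ _ V.unop m a)).trans
    (μ_unit f M A' V.unop _ _)).trans (((congrArg (((Scheme.Modules.pushforward f).map (tensorMap (𝟙 M) h)).app V.unop)
      (μ_unit f M A V.unop m a)).trans (tensorMap_unit (𝟙 M) h (f ⁻¹ᵁ V.unop) m a)).symm)

variable [IsClosedImmersion f]

theorem θ_natural₂ (N : Y.Modules) {A A' : X.Modules} (h : A ⟶ A') :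
    tensorMap (𝟙 N) ((Scheme.Modules.pushforward f).map h) ≫ θ f A' N =
      θ f A N ≫ (Scheme.Modules.pushforward f).map (tensorMap (𝟙 ((Scheme.Modules.pullback f).obj N)) h) := by
  rw [θ, θ, ← Category.assoc, ← tensorMap_comp, Category.assoc, ← μ_natural₂, ← Category.assoc, ← tensorMap_comp,
    Category.id_comp, Category.comp_id, Category.id_comp]
  exact congrArg (fun t => tensorMap t _ ≫ _) (Category.comp_id _).symm

/-- `f_* A ⊗ N ≅ f_* (A ⊗ f^* N)` -/
noncomputable def β (A : X.Modules) (N : Y.Modules) :
    CohB1.tensorMod ((Scheme.Modules.pushforward f).obj A) N ≅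
      (Scheme.Modules.pushforward f).obj (CohB1.tensorMod A ((Scheme.Modules.pullback f).obj N)) :=
  haveI := isIso_θ f A N
  tensorComm _ _ ≪≫ asIso (θ f A N) ≪≫ (Scheme.Modules.pushforward f).mapIso (tensorComm _ _)

theorem β_natural {A A' : X.Modules} {N N' : Y.Modules} (a : A ⟶ A') (n : N ⟶ N') :
    tensorMap ((Scheme.Modules.pushforward f).map a) n ≫ (β f A' N').hom =
      (β f A N).hom ≫ (Scheme.Modules.pushforward f).map (tensorMap a ((Scheme.Modules.pullback f).map n)) := by
  haveI := isIso_θ f A N
  haveI := isIso_θ f A' N'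
  simp only [β, Iso.trans_hom, Functor.mapIso_hom, asIso_hom, Category.assoc]
  rw [← Functor.map_comp, ← Stk.tensorComm_natural, Functor.map_comp,
    reassoc_of% (Stk.tensorComm_natural ((Scheme.Modules.pushforward f).map a) n)]
  refine congrArg ((tensorComm _ _).hom ≫ ·) ?_
  rw [show tensorMap n ((Scheme.Modules.pushforward f).map a) =
      tensorMap n (𝟙 _) ≫ tensorMap (𝟙 N') ((Scheme.Modules.pushforward f).map a) by
        rw [← tensorMap_comp, Category.id_comp, Category.comp_id],
    show tensorMap ((Scheme.Modules.pullback f).map n) a =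
      tensorMap ((Scheme.Modules.pullback f).map n) (𝟙 _) ≫
        tensorMap (𝟙 ((Scheme.Modules.pullback f).obj N')) a by
        rw [← tensorMap_comp, Category.id_comp, Category.comp_id],
    Category.assoc, reassoc_of% (θ_natural₂ f N' a), reassoc_of% (θ_natural f A n), Functor.map_comp,
    Category.assoc]

/-- the projection formula on complexes -/
theorem nonempty_cx (G : CochainComplex X.Modules ℤ) (P : CochainComplex Y.Modules ℤ) :
    Nonempty ((DCoh.tensorCx.obj (((Scheme.Modules.pushforward f).mapHomologicalComplex (ComplexShape.up ℤ)).obj G)).obj P ≅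
      ((Scheme.Modules.pushforward f).mapHomologicalComplex (ComplexShape.up ℤ)).obj
        ((DCoh.tensorCx.obj G).obj (((Scheme.Modules.pullback f).mapHomologicalComplex (ComplexShape.up ℤ)).obj P))) := by
  let e := Scheme.Modules.pushforward f
  let r := Scheme.Modules.pullback f
  let T := DCoh.tensorBi (X := Y)
  let S := DCoh.tensorBi (X := X)
  haveI := preservesColimits_push f
  haveI : PreservesColimitsOfSize.{0, 0} e := preservesColimitsOfSize_shrink.{0, u, 0, u} _
  haveI : r.Additive := (Scheme.Modules.pullbackPushforwardAdjunction f).left_adjoint_additive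
  haveI : HomologicalComplex.HasMapBifunctor G P (BiNat.bi S r) (ComplexShape.up ℤ) := fun _ => inferInstance
  have h₁ : ∀ {A A' : X.Modules} (g : A ⟶ A') (N : Y.Modules),
      (T.map (e.map g)).app N ≫ (β f A' N).hom = (β f A N).hom ≫ e.map (((BiNat.bi S r).map g).app N) :=
    fun {A A'} g N =>
      (congrArg (· ≫ (β f A' N).hom) (Assoc.map_app_eq (e.map g) N)).trans ((β_natural f g (𝟙 N)).trans
        (congrArg (fun t => (β f A N).hom ≫ e.map t) ((congrArg (tensorMap g) (r.map_id N)).trans
          (Assoc.map_app_eq g (r.obj N)).symm)))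
  have h₂ : ∀ (A : X.Modules) {N N' : Y.Modules} (g : N ⟶ N'),
      (T.obj (e.obj A)).map g ≫ (β f A N').hom = (β f A N).hom ≫ e.map (((BiNat.bi S r).obj A).map g) :=
    fun A N N' g =>
      (congrArg (· ≫ (β f A N').hom) ((Assoc.obj_map_eq (e.obj A) g).trans
        (congrArg (fun t => tensorMap t g) (e.map_id A).symm))).trans ((β_natural f (𝟙 A) g).trans
        (congrArg (fun t => (β f A N).hom ≫ e.map t) (Assoc.obj_map_eq A (r.map g)).symm))
  let P' := (𝟭 Y.Modules).mapHomologicalComplex (ComplexShape.up ℤ)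
  let i₁ := FunctorTotal.totalIso (BiNat.bi S r) T e (𝟭 Y.Modules) e (fun A N => β f A N) h₁ h₂
    (c := ComplexShape.up ℤ) G P
  let i₂ := FunctorTotal.totalIso (BiNat.bi S r) S (𝟭 X.Modules) r (𝟭 X.Modules) (fun A N => Iso.refl _)
    (fun g N => by exact (Category.comp_id _).trans (Category.id_comp _).symm)
    (fun A _ _ g => by exact (Category.comp_id _).trans (Category.id_comp _).symm) (c := ComplexShape.up ℤ) G P
  exact ⟨i₁ ≪≫ (e.mapHomologicalComplex (ComplexShape.up ℤ)).mapIso i₂.symm⟩

/-- derived direct image along a closed immersion is computed termwise -/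
theorem nonempty_Rpush [DCoh.HasRpush f] [PreservesFiniteLimits (Scheme.Modules.pushforward f)]
    [PreservesFiniteColimits (Scheme.Modules.pushforward f)] (G : CochainComplex X.Modules ℤ) :
    Nonempty ((DCoh.Rpush f).obj (DerivedCategory.Q.obj G) ≅
      DerivedCategory.Q.obj (((Scheme.Modules.pushforward f).mapHomologicalComplex (ComplexShape.up ℤ)).obj G)) := by
  let F := Scheme.Modules.pushforward f
  let W := HomotopyCategory.quasiIso X.Modules (ComplexShape.up ℤ)
  let e : DerivedCategory.Qh ⋙ F.mapDerivedCategory ≅ DCoh.pushKh f := F.mapDerivedCategoryFactorsh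
  haveI : F.mapDerivedCategory.IsRightDerivedFunctor e.inv W :=
    Functor.isRightDerivedFunctor_of_inverts W _ e
  let i := Functor.rightDerivedUnique (DCoh.Rpush f) F.mapDerivedCategory
    ((DCoh.pushKh f).totalRightDerivedUnit DerivedCategory.Qh W) e.inv W
  exact ⟨i.app _ ≪≫ F.mapDerivedCategoryFactors.app G⟩

/-- the projection formula for a closed immersion -/
theorem nonempty_projection [DCoh.HasRpush f] (P : CochainComplex Y.Modules ℤ) (hP : DCoh.IsKFlat P)
    [DCoh.HasLTensorCx P]
    [DCoh.HasLTensorCx (((Scheme.Modules.pullback f).mapHomologicalComplex (ComplexShape.up ℤ)).obj P)]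
    (E : DCoh.D X) :
    Nonempty ((DCoh.LTensorCx P).obj ((DCoh.Rpush f).obj E) ≅
      (DCoh.Rpush f).obj ((DCoh.LTensorCx (((Scheme.Modules.pullback f).mapHomologicalComplex (ComplexShape.up ℤ)).obj P)).obj E)) := by
  haveI := preservesColimits_push f
  haveI : PreservesColimitsOfSize.{0, 0} (Scheme.Modules.pushforward f) := preservesColimitsOfSize_shrink.{0, u, 0, u} _
  haveI : PreservesFiniteColimits (Scheme.Modules.pushforward f) :=
    PreservesColimitsOfSize.preservesFiniteColimits _
  haveI : PreservesLimitsOfSize.{0, 0} (Scheme.Modules.pushforward f) :=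
    (Scheme.Modules.pullbackPushforwardAdjunction f).rightAdjoint_preservesLimits
  haveI : PreservesFiniteLimits (Scheme.Modules.pushforward f) :=
    PreservesLimitsOfSize.preservesFiniteLimits _
  let G := DerivedCategory.Q.objPreimage E
  let eG := DerivedCategory.Q.objObjPreimageIso E
  let f' := ((Scheme.Modules.pullback f).mapHomologicalComplex (ComplexShape.up ℤ)).obj P
  obtain ⟨a⟩ := nonempty_Rpush f G
  obtain ⟨b⟩ := nonempty_cx f G P
  obtain ⟨c⟩ := nonempty_Rpush f ((DCoh.tensorCx.obj G).obj f')
  exact ⟨(DCoh.LTensorCx P).mapIso ((DCoh.Rpush f).mapIso eG.symm ≪≫ a) ≪≫ (Assoc.allIso P hP).app _ ≪≫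
    DerivedCategory.Q.mapIso b ≪≫ c.symm ≪≫ (DCoh.Rpush f).mapIso
      (((Assoc.allIso f' (KFlat.pullback_kflat f P hP)).app G).symm ≪≫ (DCoh.LTensorCx f').mapIso eG)⟩

end Groth.L29.DC.ClosedProj
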