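import Groth.Agent.L10.RDerCohIn
import Groth.Agent.L29.DCoh.QRlim
import Groth.Agent.L29.DCoh.QCohOps
import Groth.Agent.L17.QCohExtension
import Groth.Agent.L17.PushQCoh
import Groth.Agent.S0031

/-!
The unbounded direct image on objects with quasi-coherent cohomology: truncation stability and amplitude.
-/

set_option autoImplicit false
set_option backward.defeqAttrib.useBackward true
set_option backward.isDefEq.respectTransparency false
set_option backward.isDefEq.respectTransparency.types false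

universe u

open CategoryTheory CategoryTheory.Limits AlgebraicGeometry DerivedCategory TopologicalSpace

attribute [local instance] HasDerivedCategory.standard

namespace Groth.L29.DC.RpushQC

open Groth.L10

variable {X S : Scheme.{u}}

/-- quasi-coherent modules as an object property -/
abbrev QC (X : Scheme.{u}) : ObjectProperty X.Modules := fun M => Coh.IsQCoh M

instance isWeakSerre_qcoh (X : Scheme.{u}) : WSerre.IsWeakSerre (QC X) := by
  have hz : (QC X).ContainsZero := ⟨⟨_, isZero_zero _, isQCoh_of_isZero (isZero_zero _)⟩⟩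
  have hk : (QC X).IsClosedUnderKernels := ⟨by
    rintro _ ⟨f, c, hc, hM, hN⟩
    exact isQCoh_of_iso' ((kernelIsKernel f).conePointUniqueUpToIso hc) (isQCoh_kernel' f hM hN)⟩
  have hc : (QC X).IsClosedUnderCokernels := ⟨by
    rintro _ ⟨f, c, hc, hM, hN⟩
    exact isQCoh_of_iso' ((cokernelIsCokernel f).coconePointUniqueUpToIso hc) (isQCoh_cokernel' f hM hN)⟩
  have he : (QC X).IsClosedUnderExtensions :=
    ⟨fun {T} hT h1 h3 => Groth.L17.QCohExtension.isQCoh_extension T hT h1 h3⟩
  exact { toContainsZero := hz }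

theorem unit_isRightDerived (f : X ⟶ S) [DCoh.HasRpush f] : (DCoh.Rpush f).IsRightDerivedFunctor
    ((DCoh.pushKh f).totalRightDerivedUnit DerivedCategory.Qh (HomotopyCategory.quasiIso X.Modules (ComplexShape.up ℤ)))
    (HomotopyCategory.quasiIso X.Modules (ComplexShape.up ℤ)) := inferInstance

/-- cohomological dimension bound over a quasi-compact base -/
theorem exists_bound (f : X ⟶ S) [QuasiCompact f] [QuasiSeparated f] [CompactSpace ↥S]
    [HasInjectiveResolutions X.Modules] :
    ∃ N : ℕ, ∀ (M : X.Modules), Coh.IsQCoh M → ∀ p : ℕ, N ≤ p → IsZero ((Coh.Rpush f p).obj M) := by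
  obtain ⟨n, hn⟩ := Groth.Agent.S0031.result f
  refine ⟨n, fun M hM p hp => Groth.L17.PushQCoh.isZero_of_toAb ?_⟩
  obtain ⟨e⟩ := Groth.L17.nonempty_toAb_Rpush_iso f M p
  exact (hn M hM p hp).of_iso e

/-- affine refinements of covering sieves -/
theorem exists_affine_refinement {X : Scheme.{u}} (V : X.Opens) (T : Sieve V)
    (hT : T ∈ Opens.grothendieckTopology X V) : ∃ (ι : Type u) (Y : ι → X.Opens) (g : ∀ i, Y i ⟶ V),
      (∀ i, T.arrows (g i)) ∧ Sieve.ofArrows Y g ∈ Opens.grothendieckTopology X V ∧ ∀ i, IsAffineOpen (Y i) := by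
  refine ⟨{W : X.Opens // IsAffineOpen W ∧ ∃ h : W ⟶ V, T.arrows h}, Subtype.val, fun W => W.2.2.choose,
    fun W => W.2.2.choose_spec, fun x hx => ?_, fun W => W.2.1⟩
  obtain ⟨W', h, hT', hxW⟩ := hT x hx
  obtain ⟨_, ⟨W, hW, rfl⟩, hxW, hWW'⟩ := X.isBasis_affineOpens.exists_subset_of_mem_open hxW W'.2
  let k : W ⟶ W' := homOfLE hWW'
  exact ⟨W, k ≫ h, ⟨W, 𝟙 _, _, Presieve.ofArrows.mk (⟨W, hW, ⟨k ≫ h, T.downward_closed hT' k⟩⟩ :
    {W : X.Opens // IsAffineOpen W ∧ ∃ h : W ⟶ V, T.arrows h}), Subsingleton.elim _ _⟩, hxW⟩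

/-- affine vanishing in the form used on ringed sites -/
theorem subsingleton_HU {X : Scheme.{u}} (M : X.Modules) (hM : Coh.IsQCoh M) {U : X.Opens} (hU : IsAffineOpen U)
    (k : ℕ) (hk : 0 < k) : Subsingleton (ModSite.HU X.sheaf M k U) := by
  obtain ⟨n, rfl⟩ : ∃ n, k = n + 1 := ⟨k - 1, by omega⟩
  haveI := hM
  exact subsingleton_of_forall_eq 0 (Groth.L17.hu_affine_eq_zero M hU n)

/-- truncation stability -/
theorem isIso_H_π (f : X ⟶ S) [QuasiCompact f] [QuasiSeparated f] [DCoh.HasRpush f]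
    [HasInjectiveResolutions X.Modules] (N : ℤ)
    (hN : ∀ (M : X.Modules), Coh.IsQCoh M → ∀ p : ℕ, N < (p : ℤ) → IsZero ((Coh.Rpush f p).obj M))
    (K : DCoh.D X) (hK : DCoh.IsQCohD K) (n : ℕ) (j : ℤ) (hj : N - (n : ℤ) ≤ j) :
    IsIso ((homologyFunctor S.Modules j).map
      ((DCoh.Rpush f).map ((DerivedCategory.TStructure.t.truncGEπ (-(n : ℤ))).app K))) := by
  haveI : HasInjectiveResolutions (ModSite.Mod X.sheaf) := ‹HasInjectiveResolutions X.Modules›
  haveI : (DerivedCategory.Qh (C := X.Modules)).IsLocalization (HomotopyCategory.quasiIso (ModSite.Mod X.sheaf) (ComplexShape.up ℤ)) :=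
    (inferInstance : (DerivedCategory.Qh (C := X.Modules)).IsLocalization (HomotopyCategory.quasiIso X.Modules (ComplexShape.up ℤ)))
  haveI : ((DCoh.pushKh f).totalRightDerived DerivedCategory.Qh (HomotopyCategory.quasiIso X.Modules (ComplexShape.up ℤ))).IsRightDerivedFunctor
      ((DCoh.pushKh f).totalRightDerivedUnit DerivedCategory.Qh (HomotopyCategory.quasiIso X.Modules (ComplexShape.up ℤ)))
      (HomotopyCategory.quasiIso (ModSite.Mod X.sheaf) (ComplexShape.up ℤ)) := unit_isRightDerived f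
  refine ModRDer.isIso_right (ModSite.RMor.ofScheme f)
    ((DCoh.pushKh f).totalRightDerivedUnit DerivedCategory.Qh (HomotopyCategory.quasiIso X.Modules (ComplexShape.up ℤ)))
    (QC X) {V : X.Opens | IsAffineOpen V} {V : S.Opens | IsAffineOpen V} (QRlim.exists_affine_cover X) ?_
    (QRlim.exists_affine_cover S) N hN K hK n j hj (QC S) ?_ ?_
  · intro V hV
    refine ⟨0, fun T hT => ?_⟩
    obtain ⟨ι, Y, g, h1, h2, h3⟩ := exists_affine_refinement V T hT
    refine ⟨ι, Y, g, h1, h2, fun i F hF k hk => ?_⟩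
    exact subsingleton_HU F hF (h3 i) k hk
  · intro V hV
    refine ⟨0, fun T hT => ?_⟩
    obtain ⟨ι, Y, g, h1, h2, h3⟩ := exists_affine_refinement V T hT
    exact ⟨ι, Y, g, h1, h2, fun i F hF k hk => subsingleton_HU F hF (h3 i) k hk⟩
  · intro M hM p
    haveI : Coh.IsQCoh M := hM
    exact Groth.L17.PushQCoh.isQCoh_Rpush f M p

/-- amplitude from below -/
theorem isGE_Rpush (f : X ⟶ S) [DCoh.HasRpush f] (K : DCoh.D X) (n : ℤ) [K.IsGE n] :
    ((DCoh.Rpush f).obj K).IsGE n :=
  haveI : HasInjectiveResolutions (ModSite.Mod X.sheaf) := Groth.L17.PushQCoh.hasInjectiveResolutions X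
  haveI := QRlim.enoughKInj X
  haveI : HasInjectiveResolutions X.Modules := Groth.L17.PushQCoh.hasInjectiveResolutions X
  haveI : EnoughInjectives X.Modules := (ModRDer.insts X.sheaf).1
  RDerBound.isGE_obj (F := Scheme.Modules.pushforward f)
    ((DCoh.pushKh f).totalRightDerivedUnit DerivedCategory.Qh (HomotopyCategory.quasiIso X.Modules (ComplexShape.up ℤ)))
    K n

/-- quasi-coherence over a quasi-compact base -/
theorem isQCohD_Rpush_of_compact (f : X ⟶ S) [QuasiCompact f] [QuasiSeparated f] [CompactSpace ↥S]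
    [DCoh.HasRpush f] (K : DCoh.D X) (hK : DCoh.IsQCohD K) : DCoh.IsQCohD ((DCoh.Rpush f).obj K) := by
  haveI := Groth.L17.PushQCoh.hasInjectiveResolutions X
  haveI : HasInjectiveResolutions (ModSite.Mod X.sheaf) := ‹HasInjectiveResolutions X.Modules›
  haveI : (DerivedCategory.Qh (C := X.Modules)).IsLocalization (HomotopyCategory.quasiIso (ModSite.Mod X.sheaf) (ComplexShape.up ℤ)) :=
    (inferInstance : (DerivedCategory.Qh (C := X.Modules)).IsLocalization (HomotopyCategory.quasiIso X.Modules (ComplexShape.up ℤ)))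
  haveI : ((DCoh.pushKh f).totalRightDerived DerivedCategory.Qh (HomotopyCategory.quasiIso X.Modules (ComplexShape.up ℤ))).IsRightDerivedFunctor
      ((DCoh.pushKh f).totalRightDerivedUnit DerivedCategory.Qh (HomotopyCategory.quasiIso X.Modules (ComplexShape.up ℤ)))
      (HomotopyCategory.quasiIso (ModSite.Mod X.sheaf) (ComplexShape.up ℤ)) := unit_isRightDerived f
  obtain ⟨N, hN⟩ := exists_bound f
  haveI : @WSerre.IsWeakSerre (ModSite.Mod X.sheaf) _ _ (QC X) := isWeakSerre_qcoh X
  haveI : @WSerre.IsWeakSerre (ModSite.Mod S.sheaf) _ _ (QC S) := isWeakSerre_qcoh S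
  refine ModRDer.cohIn_RF (ModSite.RMor.ofScheme f)
    ((DCoh.pushKh f).totalRightDerivedUnit DerivedCategory.Qh (HomotopyCategory.quasiIso X.Modules (ComplexShape.up ℤ)))
    (QC X) (QC S) (fun M hM p => ?_) N K hK
    (fun n j hj => isIso_H_π f N (fun M hM p hp => hN M hM p (by omega)) K hK n j hj)
  haveI : Coh.IsQCoh M := hM
  exact Groth.L17.PushQCoh.isQCoh_Rpush f M p

/-- uniform vanishing above the cohomological dimension -/
theorem isZero_HD_Rpush (f : X ⟶ S) [QuasiCompact f] [QuasiSeparated f] [DCoh.HasRpush f] (N : ℕ)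
    [HasInjectiveResolutions X.Modules]
    (hN : ∀ (M : X.Modules), Coh.IsQCoh M → ∀ p : ℕ, N ≤ p → IsZero ((Coh.Rpush f p).obj M))
    (E : DCoh.D X) (hE : DCoh.IsQCohD E) (hle : E.IsLE 0) (m : ℤ) (hm : N ≤ m) :
    IsZero (DCoh.HD ((DCoh.Rpush f).obj E) m) := by
  have := isIso_H_π f N (fun M hM p hp => hN M hM p (by omega)) E hE 0 m (by omega)
  refine IsZero.of_iso ?_ (asIso ((homologyFunctor S.Modules m).map
    ((DCoh.Rpush f).map ((DerivedCategory.TStructure.t.truncGEπ (-((0 : ℕ) : ℤ))).app E))))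
  let E' := (DerivedCategory.TStructure.t.truncGE (-((0 : ℕ) : ℤ))).obj E
  have hge : E'.IsGE 0 := by
    rw [DerivedCategory.isGE_iff]
    exact fun i hi => isZero_H_GE _ i (by omega) E
  have hle' : E'.IsLE 0 := by
    rw [DerivedCategory.isLE_iff]
    intro i hi
    have := L10.isIso_H_π (-((0 : ℕ) : ℤ)) i (by omega) E
    exact (DerivedCategory.isZero_of_isLE E 0 i hi).of_iso
      (asIso ((homologyFunctor X.Modules i).map ((DerivedCategory.TStructure.t.truncGEπ (-((0 : ℕ) : ℤ))).app E))).symm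
  obtain ⟨e⟩ := exists_iso_single_H E' 0
  haveI : HasInjectiveResolutions (ModSite.Mod X.sheaf) := ‹HasInjectiveResolutions X.Modules›
  haveI := QRlim.enoughKInj X
  haveI : EnoughInjectives X.Modules := (ModRDer.insts X.sheaf).1
  have hq : Coh.IsQCoh ((homologyFunctor X.Modules 0).obj E') := by
    have := L10.isIso_H_π (-((0 : ℕ) : ℤ)) 0 (by omega) E
    exact isQCoh_of_iso' (asIso ((homologyFunctor X.Modules 0).map
      ((DerivedCategory.TStructure.t.truncGEπ (-((0 : ℕ) : ℤ))).app E))) (hE 0)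
  obtain ⟨h1, h2, h3⟩ := RDerBound.single_H (F := Scheme.Modules.pushforward f)
    ((DCoh.pushKh f).totalRightDerivedUnit DerivedCategory.Qh (HomotopyCategory.quasiIso X.Modules (ComplexShape.up ℤ)))
    0 ((homologyFunctor X.Modules 0).obj E') N (fun p hp => hN _ hq p (by omega))
  obtain ⟨p, rfl⟩ : ∃ p : ℕ, m = (0 : ℤ) + p := ⟨m.toNat, by omega⟩
  exact ((hN _ hq p (by omega)).of_iso (h3 p).some).of_iso
    ((homologyFunctor S.Modules _).mapIso ((DCoh.Rpush f).mapIso e))

end Groth.L29.DC.RpushQC
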