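import Groth.Agent.L29.DCoh.TotalMap
import Groth.Agent.L29.DCoh.ClosedProj
import Groth.Agent.L17.ProjFormula
import Groth.Agent.L29.LocFree
import Groth.Agent.L17.PushQCoh

/-!
The projection map `f_* G ⊗ P ⟶ f_* (G ⊗ f^* P)` for complexes and an arbitrary morphism.
-/

set_option autoImplicit false
set_option backward.isDefEq.respectTransparency false
set_option backward.isDefEq.respectTransparency.types false

universe u

open CategoryTheory CategoryTheory.Limits MonoidalCategory AlgebraicGeometry Opposite

attribute [local instance] HasDerivedCategory.standard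

namespace Groth.L29.DC.Proj

open Groth.L00 Groth.L00.Tensor Groth.L00.StalkTensor Groth.L17.ClosedPush

variable {X Y : Scheme.{u}} (f : X ⟶ Y)

/-- `f_* A ⊗ N ⟶ f_* (A ⊗ f^* N)` -/
noncomputable def β₀ (A : X.Modules) (N : Y.Modules) :
    CohB1.tensorMod ((Scheme.Modules.pushforward f).obj A) N ⟶
      (Scheme.Modules.pushforward f).obj (CohB1.tensorMod A ((Scheme.Modules.pullback f).obj N)) :=
  (tensorComm _ _).hom ≫ θ f A N ≫ (Scheme.Modules.pushforward f).map (tensorComm _ _).hom

theorem isIso_β₀ (A : X.Modules) {N : Y.Modules} (hN : FlatMod.IsFinLocFree N) : IsIso (β₀ f A N) := by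
  haveI := Groth.L17.ProjFormula.isIso_θ f N A hN
  delta β₀
  infer_instance

theorem β₀_natural {A A' : X.Modules} {N N' : Y.Modules} (a : A ⟶ A') (n : N ⟶ N') :
    tensorMap ((Scheme.Modules.pushforward f).map a) n ≫ β₀ f A' N' =
      β₀ f A N ≫ (Scheme.Modules.pushforward f).map (tensorMap a ((Scheme.Modules.pullback f).map n)) := by
  simp only [β₀, Category.assoc]
  rw [← Functor.map_comp, ← Stk.tensorComm_natural, Functor.map_comp,
    reassoc_of% (Stk.tensorComm_natural ((Scheme.Modules.pushforward f).map a) n)]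
  refine congrArg ((tensorComm _ _).hom ≫ ·) ?_
  rw [show tensorMap n ((Scheme.Modules.pushforward f).map a) =
      tensorMap n (𝟙 _) ≫ tensorMap (𝟙 N') ((Scheme.Modules.pushforward f).map a) by
        rw [← tensorMap_comp, Category.id_comp, Category.comp_id],
    show tensorMap ((Scheme.Modules.pullback f).map n) a =
      tensorMap ((Scheme.Modules.pullback f).map n) (𝟙 _) ≫
        tensorMap (𝟙 ((Scheme.Modules.pullback f).obj N')) a by
        rw [← tensorMap_comp, Category.id_comp, Category.comp_id],
    Category.assoc, reassoc_of% (Groth.L17.ProjFormula.θ_natural_right f N' a), reassoc_of% (θ_natural f A n),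
    Functor.map_comp, Category.assoc]

theorem hβ₁ {A A' : X.Modules} (g : A ⟶ A') (N : Y.Modules) :
    ((DCoh.tensorBi (X := Y)).map ((Scheme.Modules.pushforward f).map g)).app N ≫ β₀ f A' N =
      β₀ f A N ≫ (Scheme.Modules.pushforward f).map
        (((DCoh.tensorBi (X := X)).map g).app ((Scheme.Modules.pullback f).obj N)) :=
  (congrArg (· ≫ β₀ f A' N) (Assoc.map_app_eq ((Scheme.Modules.pushforward f).map g) N)).trans
    ((β₀_natural f g (𝟙 N)).trans (congrArg (fun t => β₀ f A N ≫ (Scheme.Modules.pushforward f).map t)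
      ((congrArg (tensorMap g) ((Scheme.Modules.pullback f).map_id N)).trans
        (Assoc.map_app_eq g ((Scheme.Modules.pullback f).obj N)).symm)))

theorem hβ₂ (A : X.Modules) {N N' : Y.Modules} (g : N ⟶ N') :
    ((DCoh.tensorBi (X := Y)).obj ((Scheme.Modules.pushforward f).obj A)).map g ≫ β₀ f A N' =
      β₀ f A N ≫ (Scheme.Modules.pushforward f).map
        (((DCoh.tensorBi (X := X)).obj A).map ((Scheme.Modules.pullback f).map g)) :=
  (congrArg (· ≫ β₀ f A N') ((Assoc.obj_map_eq ((Scheme.Modules.pushforward f).obj A) g).trans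
    (congrArg (fun t => tensorMap t g) ((Scheme.Modules.pushforward f).map_id A).symm))).trans
    ((β₀_natural f (𝟙 A) g).trans (congrArg (fun t => β₀ f A N ≫ (Scheme.Modules.pushforward f).map t)
      (Assoc.obj_map_eq A ((Scheme.Modules.pullback f).map g)).symm))

/-- direct image of complexes -/
noncomputable abbrev pushCx : CochainComplex X.Modules ℤ ⥤ CochainComplex Y.Modules ℤ :=
  haveI := Groth.L17.PushQCoh.additive_push f
  (Scheme.Modules.pushforward f).mapHomologicalComplex (ComplexShape.up ℤ)

/-- pullback of complexes -/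
noncomputable abbrev pullCx : CochainComplex Y.Modules ℤ ⥤ CochainComplex X.Modules ℤ :=
  haveI : (Scheme.Modules.pullback f).Additive :=
    (Scheme.Modules.pullbackPushforwardAdjunction f).left_adjoint_additive
  (Scheme.Modules.pullback f).mapHomologicalComplex (ComplexShape.up ℤ)

section Tot

variable (G : CochainComplex X.Modules ℤ) (P : CochainComplex Y.Modules ℤ)

/-- the bifunctor `A, N ↦ A ⊗ f^* N` -/
noncomputable abbrev biF : X.Modules ⥤ Y.Modules ⥤ X.Modules :=
  BiNat.bi (DCoh.tensorBi (X := X)) (Scheme.Modules.pullback f)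

/-- the projection map of total complexes -/
noncomputable def proj :
    (DCoh.tensorCx.obj ((pushCx f).obj G)).obj P ⟶ (pushCx f).obj ((DCoh.tensorCx.obj G).obj ((pullCx f).obj P)) :=
  haveI := Groth.L17.PushQCoh.additive_push f
  haveI : (Scheme.Modules.pullback f).Additive :=
    (Scheme.Modules.pullbackPushforwardAdjunction f).left_adjoint_additive
  haveI : HomologicalComplex.HasMapBifunctor G P (biF f) (ComplexShape.up ℤ) := fun _ => inferInstance
  TotalMap.map (biF f) (DCoh.tensorBi (X := Y)) (Scheme.Modules.pushforward f) (𝟭 Y.Modules)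
      (Scheme.Modules.pushforward f) (fun A N => β₀ f A N) (fun g N => hβ₁ f g N) (fun A _ _ g => hβ₂ f A g) G P ≫
    (pushCx f).map (FunctorTotal.totalIso (biF f) (DCoh.tensorBi (X := X)) (𝟭 X.Modules) (Scheme.Modules.pullback f)
      (𝟭 X.Modules) (fun A N => Iso.refl _)
      (fun g N => by exact (Category.comp_id _).trans (Category.id_comp _).symm)
      (fun A _ _ g => by exact (Category.comp_id _).trans (Category.id_comp _).symm) (c := ComplexShape.up ℤ) G P).inv

theorem isIso_proj (hP : DCoh.IsStrictlyPerfect P) : IsIso (proj f G P) := by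
  haveI := Groth.L17.PushQCoh.additive_push f
  haveI : (Scheme.Modules.pullback f).Additive :=
    (Scheme.Modules.pullbackPushforwardAdjunction f).left_adjoint_additive
  haveI : HomologicalComplex.HasMapBifunctor G P (biF f) (ComplexShape.up ℤ) := fun _ => inferInstance
  obtain ⟨⟨a, b, hv⟩, hf⟩ := hP
  delta proj
  haveI : ∀ j, IsIso ((TotalMap.map (biF f) (DCoh.tensorBi (X := Y)) (Scheme.Modules.pushforward f) (𝟭 Y.Modules)
      (Scheme.Modules.pushforward f) (fun A N => β₀ f A N) (fun g N => hβ₁ f g N) (fun A _ _ g => hβ₂ f A g) G P).f j) :=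
    fun j => TotalMap.isIso_mapX (biF f) (DCoh.tensorBi (X := Y)) (Scheme.Modules.pushforward f) (𝟭 Y.Modules)
      (Scheme.Modules.pushforward f) (fun A N => β₀ f A N) G P (fun p q => isIso_β₀ f _ (hf q)) j (Finset.Icc a b)
      fun q hq => hv q (by rw [Finset.mem_Icc] at hq; omega)
  haveI := HomologicalComplex.Hom.isIso_of_components (TotalMap.map (biF f) (DCoh.tensorBi (X := Y))
    (Scheme.Modules.pushforward f) (𝟭 Y.Modules) (Scheme.Modules.pushforward f) (fun A N => β₀ f A N)
    (fun g N => hβ₁ f g N) (fun A _ _ g => hβ₂ f A g) G P)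
  exact IsIso.comp_isIso' ‹_› inferInstance

theorem proj_natural {P' : CochainComplex Y.Modules ℤ} (a : P ⟶ P') :
    (DCoh.tensorCx.obj ((pushCx f).obj G)).map a ≫ proj f G P' =
      proj f G P ≫ (pushCx f).map ((DCoh.tensorCx.obj G).map ((pullCx f).map a)) := by
  haveI := Groth.L17.PushQCoh.additive_push f
  haveI : (Scheme.Modules.pullback f).Additive :=
    (Scheme.Modules.pullbackPushforwardAdjunction f).left_adjoint_additive
  haveI : HomologicalComplex.HasMapBifunctor G P (biF f) (ComplexShape.up ℤ) := fun _ => inferInstance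
  haveI : HomologicalComplex.HasMapBifunctor G P' (biF f) (ComplexShape.up ℤ) := fun _ => inferInstance
  delta proj
  rw [Category.assoc, ← Functor.map_comp]
  let e := fun (P : CochainComplex Y.Modules ℤ) =>
    haveI : HomologicalComplex.HasMapBifunctor G P (biF f) (ComplexShape.up ℤ) := fun _ => inferInstance
    FunctorTotal.totalIso (biF f) (DCoh.tensorBi (X := X)) (𝟭 X.Modules) (Scheme.Modules.pullback f)
      (𝟭 X.Modules) (fun A N => Iso.refl _)
      (fun g N => by exact (Category.comp_id _).trans (Category.id_comp _).symm)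
      (fun A _ _ g => by exact (Category.comp_id _).trans (Category.id_comp _).symm) (c := ComplexShape.up ℤ) G P
  have hn : (DCoh.tensorCx.obj G).map ((pullCx f).map a) ≫ (e P').hom =
      (e P).hom ≫ HomologicalComplex.mapBifunctorMap (𝟙 G) a (biF f) (ComplexShape.up ℤ) := by
    refine HomologicalComplex.hom_ext _ _ fun j => ?_
    refine HomologicalComplex.mapBifunctor.hom_ext fun p q h => ?_
    simp [e, FunctorTotal.totalIso, FunctorTotal.compX]
    exact (congrArg (_ ≫ ·) (Category.id_comp _)).trans (Category.id_comp _).symm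
  refine HomologicalComplex.hom_ext _ _ fun j => ?_
  simp only [HomologicalComplex.comp_f]
  refine (Category.assoc _ _ _).symm.trans ?_
  refine Eq.trans (congrArg (· ≫ _) (TotalMap.map_natural₂ (biF f) (DCoh.tensorBi (X := Y))
    (Scheme.Modules.pushforward f) (𝟭 Y.Modules) (Scheme.Modules.pushforward f) (fun A N => β₀ f A N)
    (fun A _ _ g => hβ₂ f A g) G P a j)) ?_
  refine (Category.assoc _ _ _).trans ?_
  refine congrArg (TotalMap.mapX _ _ _ _ _ _ G P j ≫ ·) ?_
  refine ((Scheme.Modules.pushforward f).map_comp _ _).symm.trans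
    (congrArg (Scheme.Modules.pushforward f).map ?_)
  have hn' : HomologicalComplex.mapBifunctorMap (𝟙 G) a (biF f) (ComplexShape.up ℤ) ≫ (e P').inv =
      (e P).inv ≫ (DCoh.tensorCx.obj G).map ((pullCx f).map a) := by
    rw [Iso.eq_inv_comp, ← Category.assoc, Iso.comp_inv_eq]
    exact hn.symm
  exact congrArg (fun t => HomologicalComplex.Hom.f t j) hn'

end Tot

end Groth.L29.DC.Proj
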