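import Groth.Agent.L29.DCoh.PerfectTensor

/-!
`Rf_*(E ⊗ G)` is perfect for perfect `E` and coherent `G` flat over a Noetherian base with proper support.
-/

set_option autoImplicit false
set_option backward.isDefEq.respectTransparency false
set_option backward.isDefEq.respectTransparency.types false

universe u

open CategoryTheory CategoryTheory.Limits AlgebraicGeometry

attribute [local instance] HasDerivedCategory.standard

namespace Groth.L29.DC.PerfectTensor

open Groth.L00

variable {X S : Scheme.{u}} [IsNoetherian S] (f : X ⟶ S) [LocallyOfFiniteType f] [DCoh.HasRpush f]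

theorem isPerfect_Rpush_TG (P : CochainComplex X.Modules ℤ) (hPf : DCoh.IsKFlat P)
    (hP : DCoh.IsPerfect (DCoh.toD X P)) (G : X.Modules) (hG : Coh.IsCoh G)
    (hflat : FlatMod.IsFlatOver f G) (hsupp : ClSub.IsProperOver f (CohB1.support G)) :
    DCoh.IsPerfect ((DCoh.Rpush f).obj (DCoh.toD X ((TG G).obj P))) := by
  haveI : IsLocallyNoetherian X := LocallyOfFiniteType.isLocallyNoetherian f
  obtain ⟨a, b, htor, hcoh, hge, hle, hs⟩ := main f P hPf hP hG hflat hsupp
  haveI := hge
  haveI := hle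
  exact PushPerfect.isPerfect_Rpush f _ hcoh a b hs a b htor

/-- `Rf_*(E ⊗ G)` -/
theorem isPerfect_Rpush_LTensorMod (E : DCoh.D X) (hE : DCoh.IsPerfect E) (G : X.Modules) (hG : Coh.IsCoh G)
    (hflat : FlatMod.IsFlatOver f G) (hsupp : ClSub.IsProperOver f (CohB1.support G)) [DCoh.HasLTensorMod G] :
    DCoh.IsPerfect ((DCoh.Rpush f).obj ((DCoh.LTensorMod G).obj E)) := by
  obtain ⟨P, q, hPf, -, hq, -⟩ := KFlat.exists_resolution (DerivedCategory.Q.objPreimage E)
  haveI := (DerivedCategory.isIso_Q_map_iff_quasiIso _ q).2 hq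
  let eE : DCoh.toD X P ≅ E := asIso (DerivedCategory.Q.map q) ≪≫ DerivedCategory.Q.objObjPreimageIso E
  let e : DCoh.toD X ((TG G).obj P) ≅ (DCoh.LTensorMod G).obj E :=
    DerivedCategory.Q.mapIso
        ((NatIso.mapHomologicalComplex (DerivedApi.tensorRightModIso G) (ComplexShape.up ℤ)).app P).symm ≪≫
      (DerivedApi.objIso (DerivedApi.acyclicKFlat_tensorMod G) P hPf).symm ≪≫ (DCoh.LTensorMod G).mapIso eE
  exact isPerfect_of_iso ((DCoh.Rpush f).mapIso e)
    (isPerfect_Rpush_TG f P hPf (isPerfect_of_iso eE.symm hE) G hG hflat hsupp)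

end Groth.L29.DC.PerfectTensor
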