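import Groth.Agent.S1049
import Groth.Agent.L19.FPExtend.Main
import Groth.Agent.L15.Ref.FreeLocus
import Groth.Agent.L16.QcqsPush
import Groth.Agent.L19.LimMod.Lift
import Groth.Prelude.Def_DCoh2
import Mathlib.Algebra.Homology.HomologicalComplexAbelian
import Mathlib.Algebra.Homology.HomologicalComplexLimits

/-!
Bounded complexes of coherent modules extend from open subschemes.
-/

set_option autoImplicit false
set_option backward.defeqAttrib.useBackward true
set_option backward.isDefEq.respectTransparency false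
set_option backward.isDefEq.respectTransparency.types false
set_option linter.style.haveILetI false

universe v u

open CategoryTheory CategoryTheory.Limits AlgebraicGeometry

attribute [local instance] HasDerivedCategory.standard

namespace Groth.L29.DC.ExtendOpen

section Disk

variable {A : Type u} [Category.{v} A] [Abelian A] (K : CochainComplex A ℤ) (P : ℤ → A)
  (a : ∀ i, P i ⟶ K.X i)

/-- the sum of the disks on the `P i` -/
noncomputable def disks : CochainComplex A ℤ :=
  CochainComplex.of (fun i => P i ⊞ P (i - 1))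
    (fun i => biprod.fst ≫ eqToHom (congrArg P (show i = i + 1 - 1 by lia)) ≫ biprod.inr)
    (fun i => by simp)

/-- the map of the disks -/
noncomputable def disksHom : disks P ⟶ K where
  f i := biprod.desc (a i) (a (i - 1) ≫ K.d (i - 1) i)
  comm' i j hij := by
    obtain rfl : i + 1 = j := hij
    have key : ∀ (k : ℤ) (h : i = k), eqToHom (congrArg P h) ≫ a k ≫ K.d k (i + 1) = a i ≫ K.d i (i + 1) := by
      intro k h
      subst h
      simp
    simp only [disks, CochainComplex.of_d]
    apply biprod.hom_ext' <;> simp [key _ (show i = i + 1 - 1 by lia)]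

/-- the subcomplex generated by the `P i` -/
noncomputable abbrev gen : CochainComplex A ℤ := Abelian.image (disksHom K P a)

/-- the terms of the generated subcomplex are images -/
noncomputable def genXIso (i : ℤ) : (gen K P a).X i ≅ Abelian.image ((disksHom K P a).f i) :=
  PreservesKernel.iso (HomologicalComplex.eval A (ComplexShape.up ℤ) i) (cokernel.π (disksHom K P a)) ≪≫
    kernel.mapIso _ (cokernel.π ((disksHom K P a).f i)) (Iso.refl _)
      (PreservesCokernel.iso (HomologicalComplex.eval A (ComplexShape.up ℤ) i) (disksHom K P a))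
      (by
        rw [Iso.refl_hom, Category.id_comp]
        exact PreservesCokernel.π_iso_hom (HomologicalComplex.eval A (ComplexShape.up ℤ) i) (disksHom K P a))

theorem fac (i : ℤ) :
    (Abelian.factorThruImage (disksHom K P a)).f i ≫ (Abelian.image.ι (disksHom K P a)).f i =
      (disksHom K P a).f i :=
  (HomologicalComplex.comp_f _ _ i).symm.trans (congrArg (fun φ : disks P ⟶ K => φ.f i) (Abelian.image.fac _))

variable {B : Type u} [Category.{v} B] [Abelian B] (R : A ⥤ B) [R.Additive] [PreservesFiniteLimits R]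

theorem isIso_map_ι (h : ∀ i, Epi (R.map (a i))) :
    IsIso ((R.mapHomologicalComplex (ComplexShape.up ℤ)).map (Abelian.image.ι (disksHom K P a))) := by
  haveI : ∀ i, IsIso (R.map ((Abelian.image.ι (disksHom K P a)).f i)) := fun i => by
    haveI : Mono (R.map ((Abelian.image.ι (disksHom K P a)).f i)) := by
      haveI : Mono ((HomologicalComplex.eval A (ComplexShape.up ℤ) i).map (Abelian.image.ι (disksHom K P a))) :=
        inferInstance
      exact R.map_mono ((HomologicalComplex.eval A (ComplexShape.up ℤ) i).map (Abelian.image.ι (disksHom K P a)))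
    haveI : Epi (R.map ((Abelian.image.ι (disksHom K P a)).f i)) := by
      haveI := h i
      refine epi_of_epi_fac (f := R.map (biprod.inl ≫ (Abelian.factorThruImage (disksHom K P a)).f i))
        (h := R.map (a i)) ?_
      rw [← Functor.map_comp, Category.assoc, fac]
      exact congrArg R.map (biprod.inl_desc _ _)
    exact isIso_of_mono_of_epi _
  haveI : ∀ i, IsIso (((R.mapHomologicalComplex (ComplexShape.up ℤ)).map (Abelian.image.ι (disksHom K P a))).f i) :=
    fun i => this i
  exact HomologicalComplex.Hom.isIso_of_components _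

end Disk

variable {X : Scheme.{u}} [IsNoetherian X]

theorem isCoh_homology (G : CochainComplex X.Modules ℤ) (i : ℤ) (h : ∀ j, Coh.IsCoh (G.X j)) :
    Coh.IsCoh (G.homology i) := by
  let S := G.sc i
  have hc : Coh.IsCoh S.cycles := Groth.L16.CohSupport.isCoh_of_iso S.cyclesIsoKernel.symm
    (Groth.L16.CohKernel.isCoh_kernel_cokernel (h _) (h _) S.g).1
  exact Groth.L16.CohSupport.isCoh_of_iso
    ((cokernelIsCokernel S.toCycles).coconePointUniqueUpToIso S.homologyIsCokernel)
    (Groth.L16.CohKernel.isCoh_kernel_cokernel (h _) hc S.toCycles).2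

theorem isNoetherian_opens (U : X.Opens) : IsNoetherian (U : Scheme.{u}) := by
  haveI : CompactSpace ↥(U : Scheme.{u}) := isCompact_iff_compactSpace.mp
    (TopologicalSpace.NoetherianSpace.isCompact (U : Set X))
  exact { }

theorem exists_coh_extension (U : X.Opens) (M : X.Modules) [Coh.IsQCoh M] (hM : Coh.IsCoh (M.restrict U.ι)) :
    ∃ (P : X.Modules) (a : P ⟶ M), Coh.IsCoh P ∧ Epi ((Scheme.Modules.restrictFunctor U.ι).map a) := by
  haveI := isNoetherian_opens U
  obtain ⟨P, a, e, hP, he⟩ := Groth.L19.FPExtend.exists_fp_extension M U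
    (TopologicalSpace.NoetherianSpace.isCompact (U : Set X)) (M.restrict U.ι)
    (Groth.L15.Ref.isFP_of_isCoh hM) (𝟙 _)
  haveI := Groth.L05.Prufer.isQCoh_of_isFP hP
  refine ⟨P, a, ⟨inferInstance, Groth.L19.LimMod.isFT_of_isFP hP⟩, ?_⟩
  rw [← he]
  exact (inferInstance : Epi (e.hom ≫ 𝟙 (M.restrict U.ι)))

theorem exists_cx_extension (U : X.Opens) (I : CochainComplex (U : Scheme.{u}).Modules ℤ) (a b : ℤ)
    [I.IsStrictlyGE a] [I.IsStrictlyLE b] (hI : ∀ i, Coh.IsCoh (I.X i)) :
    ∃ G : CochainComplex X.Modules ℤ, (∀ i, Coh.IsCoh (G.X i)) ∧ (∀ i, (i < a ∨ b < i) → IsZero (G.X i)) ∧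
      Nonempty ((DCoh.restrictCx U).obj G ≅ I) := by
  haveI := isNoetherian_opens U
  haveI : QuasiCompact U.ι := Groth.L17.Approx.quasiCompact_ι U (TopologicalSpace.NoetherianSpace.isCompact (U : Set X))
  let push := Scheme.Modules.pushforward U.ι
  let K := (push.mapHomologicalComplex (ComplexShape.up ℤ)).obj I
  let e : (DCoh.restrictCx U).obj K ≅ I :=
    HomologicalComplex.Hom.isoOfComponents (fun i => (asIso (Scheme.Modules.restrictAdjunction U.ι).counit).app (I.X i))
      (fun i j _ => ((Scheme.Modules.restrictAdjunction U.ι).counit.naturality (I.d i j)).symm)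
  have hK : ∀ i, Coh.IsQCoh (K.X i) := fun i =>
    haveI := (hI i).1
    Groth.L16.QcqsPush.isQCoh_push (I.X i) U.ι
  have hKU : ∀ i, Coh.IsCoh ((K.X i).restrict U.ι) := fun i =>
    Groth.L16.CohSupport.isCoh_of_iso ((HomologicalComplex.eval _ _ i).mapIso e).symm (hI i)
  choose P p hP hp using fun i => haveI := hK i; exists_coh_extension U (K.X i) (hKU i)
  refine ⟨gen K P p, fun i => ?_, fun i hi => ?_, ⟨?_⟩⟩
  · refine Groth.L16.CohSupport.isCoh_of_iso (genXIso K P p i).symm ?_
    haveI := hK i
    exact Groth.L16.CohSupport.isCoh_image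
      (Groth.L17.CohClass.isCoh_of_shortExact _ (ShortComplex.Splitting.ofHasBinaryBiproduct (P i) (P (i - 1))).shortExact
        (hP i) (hP (i - 1))) _
  · have hz : IsZero (K.X i) := push.map_isZero (hi.elim (fun h => I.isZero_of_isStrictlyGE a i h)
      (fun h => I.isZero_of_isStrictlyLE b i h))
    haveI : Mono ((Abelian.image.ι (disksHom K P p)).f i) :=
      inferInstanceAs (Mono ((HomologicalComplex.eval X.Modules (ComplexShape.up ℤ) i).map
        (Abelian.image.ι (disksHom K P p))))
    exact IsZero.of_mono ((Abelian.image.ι (disksHom K P p)).f i) hz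
  · haveI := isIso_map_ι K P p (Scheme.Modules.restrictFunctor U.ι) hp
    exact asIso ((DCoh.restrictCx U).map (Abelian.image.ι (disksHom K P p))) ≪≫ e

theorem exists_extension (U : X.Opens) (F : DCoh.D (U : Scheme.{u})) (hF : DCoh.IsCohD F) (a b : ℤ)
    [F.IsGE a] [F.IsLE b] :
    ∃ (G : CochainComplex X.Modules ℤ) (a' b' : ℤ), DCoh.IsCohD (DCoh.toD X G) ∧ (DCoh.toD X G).IsGE a' ∧
      (DCoh.toD X G).IsLE b' ∧ Nonempty (DerivedCategory.Q.obj ((DCoh.restrictCx U).obj G) ≅ F) := by
  haveI := isNoetherian_opens U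
  let P : ObjectProperty (U : Scheme.{u}).Modules := fun M => Coh.IsCoh M
  haveI hWU : WSerre.IsWeakSerre P := RpushCoh.isWeakSerre_coh (U : Scheme.{u})
  obtain ⟨M, hMa, hMb, ⟨e⟩⟩ := (Groth.Agent.S1049.result (U : Scheme.{u})).2 F a b inferInstance inferInstance hF
  haveI := hMa
  haveI := hMb
  obtain ⟨M₀, hM₀a, hM₀b, ⟨e₀⟩⟩ := DerivedCategory.exists_iso_Q_obj_of_isGE_of_isLE M a b
  haveI := hM₀a
  haveI := hM₀b
  let I : CochainComplex (U : Scheme.{u}).Modules ℤ := (P.ι.mapHomologicalComplex (ComplexShape.up ℤ)).obj M₀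
  haveI : I.IsStrictlyGE a := (CochainComplex.isStrictlyGE_iff _ _).2 fun i hi =>
    P.ι.map_isZero (M₀.isZero_of_isStrictlyGE a i hi)
  haveI : I.IsStrictlyLE b := (CochainComplex.isStrictlyLE_iff _ _).2 fun i hi =>
    P.ι.map_isZero (M₀.isZero_of_isStrictlyLE b i hi)
  obtain ⟨G, hG, hGz, ⟨eG⟩⟩ := exists_cx_extension U I a b fun i => (M₀.X i).property
  haveI : G.IsStrictlyGE a := (CochainComplex.isStrictlyGE_iff _ _).2 fun i hi => hGz i (Or.inl hi)
  haveI : G.IsStrictlyLE b := (CochainComplex.isStrictlyLE_iff _ _).2 fun i hi => hGz i (Or.inr hi)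
  refine ⟨G, a, b, fun i => ?_, inferInstance, inferInstance, ⟨?_⟩⟩
  · refine Groth.L16.CohSupport.isCoh_of_iso ((DerivedCategory.homologyFunctorFactors X.Modules i).app G).symm ?_
    exact isCoh_homology G i hG
  · exact DerivedCategory.Q.mapIso eG ≪≫ (P.ι.mapDerivedCategoryFactors.app M₀).symm ≪≫
      P.ι.mapDerivedCategory.mapIso e₀.symm ≪≫ e

end Groth.L29.DC.ExtendOpen
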