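import Groth.Agent.L29.DCoh.ProjQis
import Groth.Prelude.Def_DCoh4

/-!
The projection formula `Rf_* E ⊗ P ≅ Rf_*(E ⊗ f^* P)` for perfect K-flat `P`.
-/

set_option autoImplicit false
set_option backward.isDefEq.respectTransparency false
set_option backward.isDefEq.respectTransparency.types false

universe u

open CategoryTheory CategoryTheory.Limits AlgebraicGeometry

attribute [local instance] HasDerivedCategory.standard

namespace Groth.L29.DC.ProjFormulaD

open Groth.L00

variable {X Y : Scheme.{u}} (f : X ⟶ Y)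

/-- a K-injective complex computes the direct image -/
theorem nonempty_Rpush_kinj [DCoh.HasRpush f] (J : CochainComplex X.Modules ℤ) [J.IsKInjective] :
    Nonempty ((DCoh.Rpush f).obj (DerivedCategory.Q.obj J) ≅ DerivedCategory.Q.obj ((Proj.pushCx f).obj J)) := by
  haveI := QRlim.enoughKInj X
  haveI := Groth.L17.PushQCoh.additive_push f
  let η := (DCoh.pushKh f).totalRightDerivedUnit DerivedCategory.Qh (HomotopyCategory.quasiIso X.Modules (ComplexShape.up ℤ))
  haveI := Groth.L10.KInjDerived.isIso_app_quotient (RF := DCoh.Rpush f) η J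
  exact ⟨(DCoh.Rpush f).mapIso ((DerivedCategory.quotientCompQhIso X.Modules).app J).symm ≪≫
    (asIso (η.app ((HomotopyCategory.quotient X.Modules (ComplexShape.up ℤ)).obj J))).symm ≪≫
    (DerivedCategory.quotientCompQhIso Y.Modules).app ((Proj.pushCx f).obj J)⟩

theorem exists_kinj (G : CochainComplex X.Modules ℤ) :
    ∃ (I : CochainComplex X.Modules ℤ) (i : G ⟶ I), I.IsKInjective ∧ QuasiIso i := by
  haveI := Groth.L00.Tensor.grothendieckAbelian_modules X
  exact ⟨_, Groth.L10.KInjRes.resι G, inferInstance, inferInstance⟩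

/-- the projection formula -/
theorem nonempty_projection [DCoh.HasRpush f] (P : CochainComplex Y.Modules ℤ) (hP : DCoh.IsKFlat P)
    (hperf : DCoh.IsPerfect (DerivedCategory.Q.obj P)) [DCoh.HasLTensorCx P]
    [DCoh.HasLTensorCx ((Proj.pullCx f).obj P)] (E : DCoh.D X) :
    Nonempty ((DCoh.LTensorCx P).obj ((DCoh.Rpush f).obj E) ≅
      (DCoh.Rpush f).obj ((DCoh.LTensorCx ((Proj.pullCx f).obj P)).obj E)) := by
  obtain ⟨I, i, hI, hi⟩ := exists_kinj (DerivedCategory.Q.objPreimage E)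
  obtain ⟨J, r, hJ, hr⟩ := exists_kinj (ProjQis.T f I P)
  let eI : E ≅ DerivedCategory.Q.obj I :=
    (DerivedCategory.Q.objObjPreimageIso E).symm ≪≫
      @asIso _ _ _ _ (DerivedCategory.Q.map i) ((DerivedCategory.isIso_Q_map_iff_quasiIso _ i).2 hi)
  obtain ⟨a⟩ := nonempty_Rpush_kinj f I
  obtain ⟨b⟩ := nonempty_Rpush_kinj f J
  haveI := ProjQis.isIso_cmp f I hP hperf r
  let er : DerivedCategory.Q.obj (ProjQis.T f I P) ≅ DerivedCategory.Q.obj J :=
    @asIso _ _ _ _ (DerivedCategory.Q.map r) ((DerivedCategory.isIso_Q_map_iff_quasiIso _ r).2 hr)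
  exact ⟨(DCoh.LTensorCx P).mapIso ((DCoh.Rpush f).mapIso eI ≪≫ a) ≪≫ (Assoc.allIso P hP).app _ ≪≫
    asIso (DerivedCategory.Q.map (ProjQis.cmp f I P r)) ≪≫ b.symm ≪≫
    (DCoh.Rpush f).mapIso (er.symm ≪≫ ((Assoc.allIso _ (KFlat.pullback_kflat f P hP)).app I).symm ≪≫
      (DCoh.LTensorCx ((Proj.pullCx f).obj P)).mapIso eI.symm)⟩

end Groth.L29.DC.ProjFormulaD
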