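import Mathlib.Algebra.Homology.HomologicalComplexLimits
import Mathlib.Algebra.Homology.HomologicalComplexAbelian
import Mathlib.CategoryTheory.Abelian.GrothendieckAxioms.Basic
import Mathlib.Algebra.Homology.ShortComplex.PreservesHomology
import Mathlib.Algebra.Homology.ShortComplex.FunctorEquivalence
import Mathlib.Algebra.Homology.ShortComplex.HomologicalComplex

/-! Homology commutes with exact colimits. -/

universe w v u

open CategoryTheory CategoryTheory.Limits

set_option autoImplicit false
set_option backward.defeqAttrib.useBackward true
set_option backward.isDefEq.respectTransparency false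

namespace Groth.L29.DC.HomologyColim

variable {A : Type u} [Category.{v} A] [Abelian A] {J : Type w} [Category.{w} J] [HasColimitsOfShape J A]
  [HasExactColimitsOfShape J A] {ι : Type*} (c : ComplexShape ι)

theorem preservesColimitsOfShape_homology (i : ι) :
    PreservesColimitsOfShape J (HomologicalComplex.homologyFunctor A c i) := by
  refine ⟨fun {D} => preservesColimit_of_preserves_colimit_cocone (colimit.isColimit D) ?_⟩
  let SC : ShortComplex (J ⥤ A) := (ShortComplex.functorEquivalence J A).inverse.obj
    (D ⋙ HomologicalComplex.shortComplexFunctor A c i)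
  let e := fun k => preservesColimitIso (HomologicalComplex.eval A c k) D
  have he : ∀ (k : ι) (j : J), colimit.ι (D ⋙ HomologicalComplex.eval A c k) j ≫ (e k).inv =
      (colimit.ι D j).f k := fun k j => ι_preservesColimitIso_inv _ _ _
  let f : SC.map colim ≅ (colimit D).sc i := ShortComplex.isoMk (e _).symm (e _).symm (e _).symm
    (by
      refine colimit.hom_ext fun j => ?_
      simp [e, SC, ShortComplex.functorEquivalence, ShortComplex.FunctorEquivalence.inverse]
      exact (Category.assoc _ _ _).symm.trans ((congrArg (· ≫ _) (he _ j)).trans
        (((colimit.ι D j).comm _ _).trans (congrArg (_ ≫ ·) (he _ j).symm))))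
    (by
      refine colimit.hom_ext fun j => ?_
      simp [e, SC, ShortComplex.functorEquivalence, ShortComplex.FunctorEquivalence.inverse]
      exact (Category.assoc _ _ _).symm.trans ((congrArg (· ≫ _) (he _ j)).trans
        (((colimit.ι D j).comm _ _).trans (congrArg (_ ≫ ·) (he _ j).symm))))
  let τ : ∀ j, (evaluation J A).obj j ⟶ colim := fun j => { app := fun F => colimit.ι F j }
  let g : (colim.obj SC.homology) ≅ (colimit D).homology i :=
    (SC.mapHomologyIso colim).symm ≪≫ ShortComplex.homologyMapIso f
  let ν : SC.homology ≅ D ⋙ HomologicalComplex.homologyFunctor A c i :=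
    NatIso.ofComponents (fun j => (SC.mapHomologyIso ((evaluation J A).obj j)).symm) fun {j j'} k => by
      have h1 := NatTrans.app_homology ((evaluation J A).map k) SC
      change ((evaluation J A).map k).app SC.homology ≫ _ = _
      rw [h1]
      simp only [Iso.symm_hom, Category.assoc, Iso.hom_inv_id, Category.comp_id]
      rfl
  have hτ : ∀ j, colimit.ι SC.homology j ≫ g.hom =
      ν.hom.app j ≫ HomologicalComplex.homologyMap (colimit.ι D j) i := fun j => by
    have hcomp : SC.mapNatTrans (τ j) ≫ f.hom =
        ((HomologicalComplex.shortComplexFunctor A c i).map (colimit.ι D j) :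
          SC.map ((evaluation J A).obj j) ⟶ (colimit D).sc i) := by
      ext
      · exact he _ j
      · exact he _ j
      · exact he _ j
    change (τ j).app SC.homology ≫ _ = _
    rw [NatTrans.app_homology]
    simp only [g, Iso.trans_hom, Iso.symm_hom, ShortComplex.homologyMapIso_hom, Category.assoc, Iso.hom_inv_id_assoc]
    rw [← ShortComplex.homologyMap_comp, hcomp]
    rfl
  refine (IsColimit.precomposeHomEquiv ν _).1 (IsColimit.ofIsoColimit (colimit.isColimit SC.homology)
    (Cocone.ext g fun j => ?_))
  exact hτ j

end Groth.L29.DC.HomologyColim
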