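import Mathlib.RingTheory.Localization.BaseChange
import Mathlib.RingTheory.IsTensorProduct
import Mathlib.RingTheory.Flat.Basic
import Groth.Agent.L20.ModPullback

/-!
Algebra for base change of relatively flat modules: tensoring along a localisation of a pushout.
-/

set_option autoImplicit false

universe u

open TensorProduct

noncomputable section

namespace Groth.L29.DC.RelBC

variable (A A' B B' : Type u) [CommRing A] [CommRing A'] [CommRing B] [CommRing B']
  [Algebra A A'] [Algebra A B] [Algebra A B'] [Algebra A' B'] [Algebra B B']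
  [IsScalarTower A B B'] [IsScalarTower A A' B'] [Algebra.IsPushout A A' B B']
  (S : Submonoid B) (Bx T : Type u) [CommRing Bx] [CommRing T]
  [Algebra B Bx] [IsLocalization S Bx] [Algebra B' T] [Algebra Bx T] [Algebra B T]
  [IsScalarTower B B' T] [IsScalarTower B Bx T]

section

variable (M N : Type u) [AddCommGroup M] [AddCommGroup N]
  [Module A M] [Module B M] [IsScalarTower A B M] [Module Bx M] [IsScalarTower B Bx M]
  [Module A N] [Module B N] [IsScalarTower A B N] [Module Bx N] [IsScalarTower B Bx N]

include S in
/-- the comparison isomorphism -/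
def cmp : T ⊗[B'] (B' ⊗[B] M) ≃+ T ⊗[Bx] M :=
  haveI := IsLocalization.tensorProduct_compatibleSMul S Bx T M
  (AlgebraTensorModule.cancelBaseChange B B' B' T M).toAddEquiv.trans
    (TensorProduct.equivOfCompatibleSMul B Bx Bx T M).toAddEquiv.symm

theorem cmp_tmul (t : T) (b : B') (m : M) :
    cmp B B' S Bx T M (t ⊗ₜ (b ⊗ₜ m)) = (b • t) ⊗ₜ m := by
  haveI := IsLocalization.tensorProduct_compatibleSMul S Bx T M
  simp [cmp, LinearEquiv.symm_apply_eq]
  rfl

theorem cmp_natural (f : M →ₗ[Bx] N) (z : T ⊗[B'] (B' ⊗[B] M)) :
    cmp B B' S Bx T N (((f.restrictScalars B).baseChange B').lTensor T z) =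
      f.lTensor T (cmp B B' S Bx T M z) := by
  induction z using TensorProduct.induction_on with
  | zero => simp
  | add x y hx hy => simp only [map_add, hx, hy]
  | tmul t w =>
    induction w using TensorProduct.induction_on with
    | zero => simp
    | add x y hx hy => simp only [tmul_add, map_add, hx, hy]
    | tmul b m => simp [cmp_tmul]

theorem cancel_natural (f : M →ₗ[Bx] N) (f' : M →ₗ[A] N) (hf : ∀ m, f' m = f m) (z : A' ⊗[A] M) :
    (Algebra.IsPushout.cancelBaseChange A A' B B' N).symm (f'.lTensor A' z) =
      (f.restrictScalars B).baseChange B' ((Algebra.IsPushout.cancelBaseChange A A' B B' M).symm z) := by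
  induction z using TensorProduct.induction_on with
  | zero => simp
  | add x y hx hy => simp only [map_add, hx, hy]
  | tmul s m => simp [hf]

end

section

variable {M N P : Type u} [AddCommGroup M] [AddCommGroup N] [AddCommGroup P]
  [Module A M] [Module B M] [IsScalarTower A B M] [Module Bx M] [IsScalarTower B Bx M]
  [Module A N] [Module B N] [IsScalarTower A B N] [Module Bx N] [IsScalarTower B Bx N]
  [Module A P] [Module B P] [IsScalarTower A B P] [Module Bx P] [IsScalarTower B Bx P]

include S in
/-- Exactness after `A' ⊗_A -` gives exactness after `T ⊗_{Bx} -`. -/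
theorem exact_lTensor_of_pushout [Module.Flat B' T] (f : M →ₗ[Bx] N) (g : N →ₗ[Bx] P)
    (f' : M →ₗ[A] N) (g' : N →ₗ[A] P) (hf : ∀ m, f' m = f m) (hg : ∀ m, g' m = g m)
    (h : Function.Exact (f'.lTensor A') (g'.lTensor A')) :
    Function.Exact (f.lTensor T) (g.lTensor T) := by
  have h1 : Function.Exact ((f.restrictScalars B).baseChange B') ((g.restrictScalars B).baseChange B') :=
    (Function.Exact.iff_of_ladder_addEquiv
      (f₁₂ := (f'.lTensor A').toAddMonoidHom) (f₂₃ := (g'.lTensor A').toAddMonoidHom)
      (g₁₂ := ((f.restrictScalars B).baseChange B').toAddMonoidHom)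
      (g₂₃ := ((g.restrictScalars B).baseChange B').toAddMonoidHom)
      (e₁ := (Algebra.IsPushout.cancelBaseChange A A' B B' M).symm.toAddEquiv)
      (e₂ := (Algebra.IsPushout.cancelBaseChange A A' B B' N).symm.toAddEquiv)
      (e₃ := (Algebra.IsPushout.cancelBaseChange A A' B B' P).symm.toAddEquiv)
      (AddMonoidHom.ext fun z => (cancel_natural A A' B B' Bx M N f f' hf z).symm)
      (AddMonoidHom.ext fun z => (cancel_natural A A' B B' Bx N P g g' hg z).symm)).2 h
  have h2 := Module.Flat.lTensor_exact T h1
  exact (Function.Exact.iff_of_ladder_addEquiv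
      (f₁₂ := (((f.restrictScalars B).baseChange B').lTensor T).toAddMonoidHom)
      (f₂₃ := (((g.restrictScalars B).baseChange B').lTensor T).toAddMonoidHom)
      (g₁₂ := (f.lTensor T).toAddMonoidHom) (g₂₃ := (g.lTensor T).toAddMonoidHom)
      (e₁ := cmp B B' S Bx T M) (e₂ := cmp B B' S Bx T N) (e₃ := cmp B B' S Bx T P)
      (AddMonoidHom.ext fun z => (cmp_natural B B' S Bx T M N f z).symm)
      (AddMonoidHom.ext fun z => (cmp_natural B B' S Bx T N P g z).symm)).2 h2

include S in
/-- `T ⊗_{Bx} M` is flat over `A'` when `M` is flat over `A`. -/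
theorem flat_tensor_of_pushout [Module.Flat B' T] [Module.Flat A M] [Algebra A' T] [IsScalarTower A' B' T] :
    Module.Flat A' (T ⊗[Bx] M) := by
  haveI : Module.Flat A' (B' ⊗[B] M) :=
    Module.Flat.of_linearEquiv (Algebra.IsPushout.cancelBaseChange A A' B B' M)
  haveI : Module.Flat A' (T ⊗[B'] (B' ⊗[B] M)) := Groth.L20.ModStalk.flat_tensorProduct
  refine Module.Flat.of_linearEquiv (AddEquiv.toLinearEquiv (cmp B B' S Bx T M) ?_).symm
  intro a z
  induction z using TensorProduct.induction_on with
  | zero => simp
  | add x y hx hy => simp only [smul_add, map_add, hx, hy]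
  | tmul t w =>
    induction w using TensorProduct.induction_on with
    | zero => simp
    | add x y hx hy => simp only [tmul_add, smul_add, map_add, hx, hy]
    | tmul b m =>
      rw [TensorProduct.smul_tmul', cmp_tmul, cmp_tmul, TensorProduct.smul_tmul', smul_comm]

end

end Groth.L29.DC.RelBC
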