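import Groth.Agent.L29.DCoh.DerAdj
import Mathlib.Algebra.Homology.HomotopyCategory.Pretriangulated

/-!
A functor of complexes with a right adjoint, preserving acyclic complexes and degreewise split monomorphisms,
induces a functor on derived categories with a right adjoint.
-/

set_option autoImplicit false
set_option backward.defeqAttrib.useBackward true
set_option backward.isDefEq.respectTransparency false
set_option backward.isDefEq.respectTransparency.types false

universe w v u

open CategoryTheory CategoryTheory.Limits CochainComplex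

namespace Groth.L29.DC.DerRight

variable {C : Type u} [Category.{v} C] [Abelian C]
  {F H : CochainComplex C ℤ ⥤ CochainComplex C ℤ} (adj : F ⊣ H)

/-- a map null-homotopic on a degreewise split subcomplex extends -/
theorem exists_extend {A B I : CochainComplex C ℤ} (ι : A ⟶ B) (r : ∀ n, B.X n ⟶ A.X n)
    (hr : ∀ n, ι.f n ≫ r n = 𝟙 _) {f : A ⟶ I} (h : Homotopy f 0) : ∃ g : B ⟶ I, ι ≫ g = f := by
  refine ⟨Homotopy.nullHomotopicMap' (fun i j _ => r i ≫ h.hom i j), ?_⟩
  rw [Homotopy.comp_nullHomotopicMap']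
  have : (fun i j (_ : (ComplexShape.up ℤ).Rel j i) => ι.f i ≫ r i ≫ h.hom i j) = fun i j _ => h.hom i j := by
    funext i j _
    rw [← Category.assoc, hr, Category.id_comp]
  rw [this]
  ext n
  rw [Homotopy.nullHomotopicMap'_f (show (ComplexShape.up ℤ).Rel (n - 1) n by simp)
    (show (ComplexShape.up ℤ).Rel n (n + 1) by simp), h.comm n]
  simp [dNext_eq h.hom (show (ComplexShape.up ℤ).Rel n (n + 1) by simp),
    prevD_eq h.hom (show (ComplexShape.up ℤ).Rel (n - 1) n by simp)]

/-- a map factoring through a contractible complex is null-homotopic -/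
noncomputable def homotopyOfFactor {P I : CochainComplex C ℤ} (k : mappingCone (𝟙 P) ⟶ I) :
    Homotopy (mappingCone.inr (𝟙 P) ≫ k) 0 :=
  (Homotopy.ofEq (show mappingCone.inr (𝟙 P) ≫ k = mappingCone.inr (𝟙 P) ≫ 𝟙 _ ≫ k by rw [Category.id_comp])).trans
    ((((mappingCone.homotopyToZeroOfId P).compRight k).compLeft (mappingCone.inr (𝟙 P))).trans
      (Homotopy.ofEq (by rw [zero_comp, comp_zero])))

variable [F.Additive] (hs : ∀ P : CochainComplex C ℤ,
  ∃ r : ∀ n, (F.obj (mappingCone (𝟙 P))).X n ⟶ (F.obj P).X n,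
    ∀ n, (F.map (mappingCone.inr (𝟙 P))).f n ≫ r n = 𝟙 _)
  (hF : ∀ P : CochainComplex C ℤ, P.Acyclic → (F.obj P).Acyclic)

include adj hs

theorem null_of_null {P I : CochainComplex C ℤ} (f : P ⟶ H.obj I)
    (h : Homotopy (F.map f ≫ adj.counit.app I) 0) : Nonempty (Homotopy f 0) := by
  obtain ⟨r, hr⟩ := hs P
  obtain ⟨g, hg⟩ := exists_extend _ r hr h
  have hf : f = mappingCone.inr (𝟙 P) ≫ (adj.homEquiv _ _) g := by
    rw [← adj.homEquiv_naturality_left, hg]
    exact ((adj.homEquiv _ _).apply_symm_apply f).symm.trans (congrArg _ (adj.homEquiv_counit _ _ f))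
  exact ⟨(Homotopy.ofEq hf).trans (homotopyOfFactor _)⟩

include hF

theorem isKInjective (I : CochainComplex C ℤ) [I.IsKInjective] : (H.obj I).IsKInjective :=
  ⟨fun f hP => null_of_null adj hs f (IsKInjective.homotopyZero (L := I) _ (hF _ hP))⟩

variable [HasDerivedCategory.{w} C] [Groth.L10.KInjDerived.EnoughKInjectives C]
  (G : DerivedCategory C ⥤ DerivedCategory C) (e : DerivedCategory.Q ⋙ G ≅ F ⋙ DerivedCategory.Q)

open DerivedCategory in
include adj e in
/-- maps into the image of a K-injective complex -/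
theorem bijective_comp (I : CochainComplex C ℤ) [I.IsKInjective] (M : DerivedCategory C) :
    Function.Bijective (fun ξ : M ⟶ Q.obj (H.obj I) => G.map ξ ≫ e.hom.app _ ≫ Q.map (adj.counit.app I)) := by
  haveI := isKInjective adj hs hF I
  let a := Q.objObjPreimageIso M
  haveI : ((𝟭 (CochainComplex C ℤ)).obj I).IsKInjective := inferInstanceAs I.IsKInjective
  have hcalc : ∀ f : Q.objPreimage M ⟶ H.obj I,
      G.map (Q.map f) ≫ e.hom.app _ ≫ Q.map (adj.counit.app I) =
        e.hom.app _ ≫ Q.map (F.map f ≫ adj.counit.app I) := fun f => by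
    rw [Functor.map_comp]
    exact e.hom.naturality_assoc f _
  have hb : Function.Bijective (fun ζ : Q.obj (Q.objPreimage M) ⟶ Q.obj (H.obj I) =>
      G.map ζ ≫ e.hom.app _ ≫ Q.map (adj.counit.app I)) := by
    refine ⟨fun ζ ζ' h => ?_, fun η => ?_⟩
    · obtain ⟨f, rfl⟩ := DerAdj.exists_Q_map ζ
      obtain ⟨f', rfl⟩ := DerAdj.exists_Q_map ζ'
      simp only [hcalc, cancel_epi] at h
      obtain ⟨hh⟩ := DerAdj.homotopic_of_Q_map_eq (I := I) h
      obtain ⟨h0⟩ := null_of_null adj hs (f - f') (by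
        exact (Homotopy.ofEq (by rw [F.map_sub, Preadditive.sub_comp])).trans (Homotopy.equivSubZero hh))
      exact DerivedCategory.Q_map_eq_of_homotopy C ((Homotopy.equivSubZero).symm h0)
    · obtain ⟨g, hg⟩ := DerAdj.exists_Q_map (e.inv.app _ ≫ η)
      refine ⟨Q.map ((adj.homEquiv _ _) g), ?_⟩
      change G.map (Q.map _) ≫ _ = η
      rw [hcalc]
      erw [← adj.homEquiv_counit _ _ ((adj.homEquiv _ _) g)]
      erw [Equiv.symm_apply_apply]
      rw [hg]
      simp
  have h2 : (fun ξ : M ⟶ Q.obj (H.obj I) => G.map ξ ≫ e.hom.app _ ≫ Q.map (adj.counit.app I)) =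
      (fun η => G.map a.inv ≫ η) ∘ (fun ζ : Q.obj (Q.objPreimage M) ⟶ Q.obj (H.obj I) =>
        G.map ζ ≫ e.hom.app _ ≫ Q.map (adj.counit.app I)) ∘ (fun ξ : M ⟶ Q.obj (H.obj I) => a.hom ≫ ξ) := by
    funext ξ
    simp [a]
  rw [h2]
  exact (Function.bijective_iff_has_inverse.2 ⟨fun η => G.map a.hom ≫ η,
      fun η => by simp [← Category.assoc, ← Functor.map_comp],
      fun η => by simp [← Category.assoc, ← Functor.map_comp]⟩).comp
    (hb.comp (Function.bijective_iff_has_inverse.2 ⟨fun ζ => a.inv ≫ ζ, fun ξ => by simp, fun ζ => by simp⟩))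

open DerivedCategory in
include adj hs hF e in
/-- the image of a K-injective complex computes any right adjoint -/
theorem nonempty_iso_rightAdjoint {RA : DerivedCategory C ⥤ DerivedCategory C} (b : G ⊣ RA)
    (I : CochainComplex C ℤ) [I.IsKInjective] : Nonempty (Q.obj (H.obj I) ≅ RA.obj (Q.obj I)) := by
  let ε : G.obj (Q.obj (H.obj I)) ⟶ Q.obj I := e.hom.app _ ≫ Q.map (adj.counit.app I)
  let ξ := b.homEquiv _ _ ε
  have hbij : ∀ M : DerivedCategory C, Function.Bijective (fun η : M ⟶ Q.obj (H.obj I) => η ≫ ξ) := fun M => by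
    have h' := (b.homEquiv M (Q.obj I)).bijective.comp (bijective_comp adj hs hF G e I M)
    have hf : (fun η : M ⟶ Q.obj (H.obj I) => η ≫ ξ) = (b.homEquiv M (Q.obj I)) ∘ (fun η => G.map η ≫ ε) := by
      funext η
      exact (b.homEquiv_naturality_left η ε).symm
    rw [hf]
    exact h'
  obtain ⟨inv, hinv⟩ := (hbij _).2 (𝟙 (RA.obj (Q.obj I)))
  refine ⟨⟨ξ, inv, (hbij _).1 ?_, hinv⟩⟩
  exact (Category.assoc _ _ _).trans
    ((congrArg (ξ ≫ ·) hinv).trans ((Category.comp_id _).trans (Category.id_comp _).symm))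

open DerivedCategory in
include adj e in
/-- the induced functor on derived categories has a right adjoint -/
theorem isLeftAdjoint : G.IsLeftAdjoint := by
  have key : ∀ Y : DerivedCategory C, ∃ (R : DerivedCategory C) (ε : G.obj R ⟶ Y),
      ∀ M, Function.Bijective (fun ξ : M ⟶ R => G.map ξ ≫ ε) := by
    intro Y
    obtain ⟨I, s, hI, hs'⟩ := Groth.L10.KInjDerived.EnoughKInjectives.exists_res (Q.objPreimage Y)
    haveI := hI
    haveI := hs'
    let u : Q.obj I ≅ Y := (asIso (Q.map s)).symm ≪≫ Q.objObjPreimageIso Y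
    refine ⟨Q.obj (H.obj I), (e.hom.app _ ≫ Q.map (adj.counit.app I)) ≫ u.hom, fun M => ?_⟩
    have h3 : (fun ξ : M ⟶ Q.obj (H.obj I) => G.map ξ ≫ (e.hom.app _ ≫ Q.map (adj.counit.app I)) ≫ u.hom) =
        (fun η : G.obj M ⟶ Q.obj I => η ≫ u.hom) ∘
          (fun ξ : M ⟶ Q.obj (H.obj I) => G.map ξ ≫ e.hom.app _ ≫ Q.map (adj.counit.app I)) := by
      funext ξ
      simp
    rw [h3]
    exact (Function.bijective_iff_has_inverse.2 ⟨fun η => η ≫ u.inv, fun η => by simp, fun η => by simp⟩).comp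
      (bijective_comp adj hs hF G e I M)
  choose R ε hb using key
  let eqv : ∀ M Y, (G.obj M ⟶ Y) ≃ (M ⟶ R Y) := fun M Y => (Equiv.ofBijective _ (hb Y M)).symm
  exact (Adjunction.adjunctionOfEquivRight eqv (fun M' M Y f g => by
    apply (eqv M' Y).symm.injective
    rw [Equiv.symm_apply_apply]
    change G.map f ≫ g = G.map (f ≫ eqv M Y g) ≫ ε Y
    rw [Functor.map_comp, Category.assoc]
    exact congrArg (G.map f ≫ ·) ((eqv M Y).symm_apply_apply g).symm)).isLeftAdjoint

end Groth.L29.DC.DerRight
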