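import Groth.Agent.L18.TildeFunctor
import Groth.Agent.L16.QcqsPush
import Groth.Agent.L29.DCoh.RpushAcyclic
import Groth.Agent.L29.DCoh.RpushAffine
import Groth.Agent.L29.DCoh.ModRes

/-!
Direct image of tilde along a morphism of affine schemes, on modules and on derived categories.
-/

set_option autoImplicit false
set_option backward.defeqAttrib.useBackward true
set_option backward.isDefEq.respectTransparency false
set_option backward.isDefEq.respectTransparency.types false

universe u

open CategoryTheory CategoryTheory.Limits AlgebraicGeometry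

attribute [local instance] HasDerivedCategory.standard

namespace Groth.L29.DC.PushTilde

open Groth.L18.TildeF

variable {R S : CommRingCat.{u}} (φ : R ⟶ S)

theorem isQCoh_push_tilde (N : ModuleCat.{u} S) :
    ((Scheme.Modules.pushforward (Spec.map φ)).obj ((tilde.functor S).obj N)).IsQuasicoherent :=
  haveI : Coh.IsQCoh ((tilde.functor S).obj N) := isQCoh_tilde N
  Groth.L16.QcqsPush.isQCoh_push _ (Spec.map φ)

/-- the component -/
noncomputable def pushTildeApp (N : ModuleCat.{u} S) :
    (Scheme.Modules.pushforward (Spec.map φ)).obj ((tilde.functor S).obj N) ≅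
      (tilde.functor R).obj ((ModuleCat.restrictScalars φ.hom).obj N) :=
  haveI := isQCoh_push_tilde φ N
  (counitIso _).symm ≪≫ (tilde.functor R).mapIso ((pushforwardΓIso φ).app _ ≪≫
    (ModuleCat.restrictScalars φ.hom).mapIso (tilde.toTildeΓNatIso.app N).symm)

/-- direct image of tilde is tilde of restriction of scalars -/
noncomputable def pushTildeIso :
    tilde.functor S ⋙ Scheme.Modules.pushforward (Spec.map φ) ≅
      ModuleCat.restrictScalars φ.hom ⋙ tilde.functor R :=
  (NatIso.ofComponents (fun N => (pushTildeApp φ N).symm) fun {M N} g => by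
    let F := tilde.functor S ⋙ Scheme.Modules.pushforward (Spec.map φ)
    let a : (ModuleCat.restrictScalars φ.hom) ⟶ F ⋙ moduleSpecΓFunctor :=
      { app := fun P => (ModuleCat.restrictScalars φ.hom).map (tilde.toTildeΓNatIso.hom.app P) ≫
          (pushforwardΓIso φ).inv.app ((tilde.functor S).obj P)
        naturality := fun P Q g => by
          have h1 := congrArg (ModuleCat.restrictScalars φ.hom).map (tilde.toTildeΓNatIso.hom.naturality g)
          have h2 := (pushforwardΓIso φ).inv.naturality ((tilde.functor S).map g)
          simp only [Functor.map_comp, Functor.id_map, Functor.comp_map] at h1 h2 ⊢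
          simp only [F, Functor.comp_map, Category.assoc]
          rw [reassoc_of% h1, h2] }
    have h : ∀ P, (pushTildeApp φ P).inv = (tilde.functor R).map (a.app P) ≫
        tilde.adjunction.counit.app (F.obj P) := fun P => by
      simp [pushTildeApp, a, F, counitIso]
    change (tilde.functor R).map ((ModuleCat.restrictScalars φ.hom).map g) ≫ (pushTildeApp φ N).inv =
      (pushTildeApp φ M).inv ≫ F.map g
    rw [h, h, Category.assoc, ← Functor.map_comp_assoc, a.naturality g, Functor.map_comp_assoc]
    exact congrArg ((tilde.functor R).map (a.app M) ≫ ·) (tilde.adjunction.counit.naturality (F.map g))).symm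

variable [DCoh.HasRpush (Spec.map φ)]

/-- `Rf_*` of tilde is tilde of restriction of scalars -/
theorem nonempty_tildeD_Rpush [PreservesFiniteLimits (tilde.functor R)] [PreservesFiniteLimits (tilde.functor S)] :
    Nonempty (DCoh.tildeD S ⋙ DCoh.Rpush (Spec.map φ) ≅
      (ModuleCat.restrictScalars.{u} φ.hom).mapDerivedCategory ⋙ DCoh.tildeD R) := by
  let c := ComplexShape.up ℤ
  let f := Spec.map φ
  haveI := Groth.L17.PushQCoh.additive_push f
  haveI := Groth.L17.PushQCoh.hasInjectiveResolutions (Spec S)
  let Qc := fun (C : Type (u + 1)) [Category.{u} C] [Abelian C] => DerivedCategory.quotientCompQhIso C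
  let P := Scheme.Modules.pushforward f
  let T := (tilde.functor S).mapHomologicalComplex c
  let η := (DCoh.pushKh f).totalRightDerivedUnit DerivedCategory.Qh
    (HomotopyCategory.quasiIso (Spec S).Modules c)
  let ν : P.mapHomologicalComplex c ⋙ DerivedCategory.Q ⟶ DerivedCategory.Q ⋙ DCoh.Rpush f :=
    Functor.whiskerLeft (P.mapHomologicalComplex c) (DerivedCategory.quotientCompQhIso (Spec R).Modules).inv ≫
      (Functor.associator _ _ _).inv ≫ Functor.whiskerRight (P.mapHomotopyCategoryFactors c).inv DerivedCategory.Qh ≫
      (Functor.associator _ _ _).hom ≫ Functor.whiskerLeft (HomotopyCategory.quotient _ c) η ≫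
      (Functor.associator _ _ _).inv ≫ Functor.whiskerRight (DerivedCategory.quotientCompQhIso (Spec S).Modules).hom _
  have hν : ∀ N, IsIso (ν.app (T.obj N)) := fun N => by
    have h : IsIso (η.app ((HomotopyCategory.quotient (Spec S).Modules c).obj (T.obj N))) :=
      RpushQC.isIso_unit_of_acyclic f (T.obj N) (fun n => isQCoh_tilde (N.X n))
        fun n i hi => RpushQC.isZero_Rpush_affine f _ (isQCoh_tilde (N.X n)) i hi
    simp only [ν, NatTrans.comp_app, Functor.whiskerLeft_app, Functor.whiskerRight_app, Functor.associator_inv_app,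
      Functor.associator_hom_app]
    infer_instance
  haveI : ∀ N, IsIso ((Functor.whiskerLeft T ν).app N) := hν
  haveI := NatIso.isIso_of_isIso_app (Functor.whiskerLeft T ν)
  let M := ModuleCat.restrictScalars.{u} φ.hom
  let a' : (tilde.functor S).mapHomologicalComplex c ⋙ P.mapHomologicalComplex c ≅
      M.mapHomologicalComplex c ⋙ (tilde.functor R).mapHomologicalComplex c :=
    NatIso.ofComponents (fun K => HomologicalComplex.Hom.isoOfComponents (fun n => (pushTildeIso φ).app (K.X n))
      (fun n m _ => ((pushTildeIso φ).hom.naturality (K.d n m)).symm))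
      (fun g => HomologicalComplex.hom_ext _ _ fun n => (pushTildeIso φ).hom.naturality (g.f n))
  let e : DerivedCategory.Q ⋙ (DCoh.tildeD S ⋙ DCoh.Rpush f) ≅
      DerivedCategory.Q ⋙ (M.mapDerivedCategory ⋙ DCoh.tildeD R) :=
    (Functor.associator _ _ _).symm ≪≫ Functor.isoWhiskerRight (tilde.functor S).mapDerivedCategoryFactors _ ≪≫
      Functor.associator _ _ _ ≪≫ (asIso (Functor.whiskerLeft T ν)).symm ≪≫ (Functor.associator _ _ _).symm ≪≫
      Functor.isoWhiskerRight a' _ ≪≫
      Functor.associator _ _ _ ≪≫ Functor.isoWhiskerLeft _ (tilde.functor R).mapDerivedCategoryFactors.symm ≪≫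
      (Functor.associator _ _ _).symm ≪≫ Functor.isoWhiskerRight M.mapDerivedCategoryFactors.symm _ ≪≫
      Functor.associator _ _ _
  exact ⟨Localization.liftNatIso DerivedCategory.Q (HomologicalComplex.quasiIso (ModuleCat.{u} S) c)
    (DerivedCategory.Q ⋙ (DCoh.tildeD S ⋙ DCoh.Rpush f))
    (DerivedCategory.Q ⋙ (M.mapDerivedCategory ⋙ DCoh.tildeD R)) _ _ e⟩

end Groth.L29.DC.PushTilde
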