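import Groth.Agent.L29.DCoh.ProjFormulaD
import Groth.Agent.L17.ProperOver
import Groth.Agent.L10.KInjTransfer
import Groth.Prelude.Def_ClSub2

/-!
Direct images of complexes supported in a closed subset proper over a quasi-compact base are computed on a
quasi-compact open neighbourhood.
-/

set_option autoImplicit false
set_option backward.defeqAttrib.useBackward true
set_option backward.isDefEq.respectTransparency false
set_option backward.isDefEq.respectTransparency.types false

universe u

open CategoryTheory CategoryTheory.Limits AlgebraicGeometry CochainComplex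

attribute [local instance] HasDerivedCategory.standard

namespace Groth.L29.DC.SupportReduce

open Groth.L00

variable {X Y : Scheme.{u}}

/-- direct images of acyclic K-injective complexes are acyclic -/
theorem acyclic_push {T : Scheme.{u}} (g : X ⟶ T) (J : CochainComplex X.Modules ℤ) [J.IsKInjective]
    (hJ : J.Acyclic) : ((Proj.pushCx g).obj J).Acyclic := fun i => by
  haveI := Groth.L17.PushQCoh.additive_push g
  obtain ⟨c⟩ := CochainComplex.IsKInjective.nonempty_homotopy_zero (𝟙 J) hJ
  rw [HomologicalComplex.exactAt_iff_isZero_homology, IsZero.iff_id_eq_zero, ← HomologicalComplex.homologyMap_id,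
    ← HomologicalComplex.homologyMap_zero]
  exact ((Homotopy.ofEq ((Proj.pushCx g).map_id _).symm).trans
    (((Scheme.Modules.pushforward g).mapHomotopy c).trans
      (Homotopy.ofEq ((Proj.pushCx g).map_zero _ _)))).homologyMap_eq i

/-- acyclicity of a restriction from the supports -/
theorem acyclic_res (I : CochainComplex X.Modules ℤ) {U : Scheme.{u}} (j : U ⟶ X) [IsOpenImmersion j]
    (h : ∀ i, Disjoint (CohB1.support (I.homology i)) (Set.range j.base)) :
    ((ExtZero.rCx j).obj I).Acyclic := fun i => by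
  haveI := ExtZero.preservesFiniteLimits j
  rw [HomologicalComplex.exactAt_iff_isZero_homology]
  refine IsZero.of_iso ?_ ((I.sc i).mapHomologyIso (ExtZero.res j))
  rw [Groth.L21.Mod.isZero_iff_stalk]
  intro y
  by_contra hy
  have hy' : y ∈ CohB1.support ((ExtZero.res j).obj (I.homology i)) :=
    (Groth.L21.Mod.mem_support_iff_not_isZero _ y).2 hy
  rw [show CohB1.support ((ExtZero.res j).obj (I.homology i)) = j ⁻¹' CohB1.support (I.homology i) from
    Groth.L21.Mod.support_restrict j _] at hy'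
  exact Set.disjoint_left.1 (h i) hy' ⟨y, rfl⟩

/-- `Rf_* C ≅ R(f ∘ j)_* (C|U)` when the cohomology of `C` is supported in `U` -/
theorem nonempty_iso (f : X ⟶ Y) (U : X.Opens) [DCoh.HasRpush f] [DCoh.HasRpush (U.ι ≫ f)] (C : DCoh.D X)
    (Z : Set X) (hZ : IsClosed Z) (hZU : Z ⊆ U) (hC : ∀ i, CohB1.support (DCoh.HD C i) ⊆ Z) :
    Nonempty ((DCoh.Rpush f).obj C ≅ (DCoh.Rpush (U.ι ≫ f)).obj ((DCoh.restrictD U.ι).obj C)) := by
  obtain ⟨I, i, hI, hi⟩ := ProjFormulaD.exists_kinj (DerivedCategory.Q.objPreimage C)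
  let eI : C ≅ DerivedCategory.Q.obj I :=
    (DerivedCategory.Q.objObjPreimageIso C).symm ≪≫
      @asIso _ _ _ _ (DerivedCategory.Q.map i) ((DerivedCategory.isIso_Q_map_iff_quasiIso _ i).2 hi)
  have hsup : ∀ k, CohB1.support (I.homology k) ⊆ Z := fun k => by
    refine Eq.trans_le ?_ (hC k)
    exact Groth.L21.Mod.support_congr (((DerivedCategory.homologyFunctorFactors _ k).app I).symm ≪≫
      (DerivedCategory.homologyFunctor _ k).mapIso eI.symm)
  haveI := Groth.L17.PushQCoh.additive_push U.ι
  haveI := Groth.L17.PushQCoh.additive_push f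
  haveI := Groth.L17.PushQCoh.additive_push (U.ι ≫ f)
  haveI := ExtZero.preservesFiniteLimits U.ι
  haveI : PreservesFiniteLimits (Scheme.Modules.restrictFunctor U.ι) := inferInstance
  haveI : PreservesFiniteColimits (Scheme.Modules.restrictFunctor U.ι) := inferInstance
  haveI : ((ExtZero.rCx U.ι).obj I).IsKInjective := RpushRes.isKInjective_res U.ι I
  let J := (Proj.pushCx U.ι).obj ((ExtZero.rCx U.ι).obj I)
  haveI : J.IsKInjective :=
    Groth.L10.KInjTransfer.isKInjective_map (Scheme.Modules.restrictAdjunction U.ι) _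
  let η : I ⟶ J :=
    { f := fun k => (Scheme.Modules.restrictAdjunction U.ι).unit.app (I.X k)
      comm' := fun k l _ => ((Scheme.Modules.restrictAdjunction U.ι).unit.naturality (I.d k l)).symm }
  have hη : IsIso (DerivedCategory.Q.map η) := by
    refine EvalMain.isIso_Q_of_local η fun x => ?_
    by_cases hx : x ∈ U
    · refine ⟨U, hx, ?_⟩
      haveI : ∀ k, IsIso (((ExtZero.rCx U.ι).map η).f k) := fun k => by
        have h := (Scheme.Modules.restrictAdjunction U.ι).left_triangle_components (I.X k)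
        exact @IsIso.of_isIso_fac_right _ _ _ _ _ _ _ _ inferInstance inferInstance h
      haveI := HomologicalComplex.Hom.isIso_of_components ((ExtZero.rCx U.ι).map η)
      infer_instance
    · let V : X.Opens := ⟨Zᶜ, hZ.isOpen_compl⟩
      refine ⟨V, fun hz => hx (hZU hz), ?_⟩
      have h1 : ((ExtZero.rCx V.ι).obj I).Acyclic := acyclic_res I V.ι fun k =>
        Set.disjoint_left.2 fun z hz hz' => by
          obtain ⟨v, rfl⟩ := hz'
          exact v.2 (hsup k hz)
      let ι := (U.ι ⁻¹ᵁ V).ι
      let g := U.ι ∣_ V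
      have w : g ≫ V.ι = ι ≫ U.ι := morphismRestrict_ι U.ι V
      haveI := Groth.L17.PushQCoh.additive_push g
      haveI := ExtZero.preservesFiniteLimits ι
      let e : (ExtZero.rCx V.ι).obj J ≅ (Proj.pushCx g).obj ((ExtZero.rCx ι).obj ((ExtZero.rCx U.ι).obj I)) :=
        (DerivedApi.mapCxCompIso (Scheme.Modules.pushforward U.ι) (Scheme.Modules.restrictFunctor V.ι)).app _ ≪≫
          (NatIso.mapHomologicalComplex (Groth.L17.PushQCoh.pushRestrictIso U.ι V.ι ι g
            (by rw [Scheme.Opens.opensRange_ι, Scheme.Opens.opensRange_ι]) w) (ComplexShape.up ℤ)).app _ ≪≫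
          ((DerivedApi.mapCxCompIso (Scheme.Modules.restrictFunctor ι) (Scheme.Modules.pushforward g)).app _).symm
      haveI := RpushRes.isKInjective_res ι ((ExtZero.rCx U.ι).obj I)
      have h3 : ((ExtZero.rCx ι).obj ((ExtZero.rCx U.ι).obj I)).Acyclic := by
        refine Eval.acyclic_of_iso ((resTransCx U.ι ι (ι ≫ U.ι) rfl).app I).symm ?_
        exact acyclic_res I (ι ≫ U.ι) fun k => Set.disjoint_left.2 fun z hz hz' => by
          obtain ⟨v, rfl⟩ := hz'
          exact v.2 (hsup k hz)
      exact (EvalLocal.isZero_Q_of_acyclic h1).isIso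
        (EvalLocal.isZero_Q_of_acyclic (Eval.acyclic_of_iso e.symm (acyclic_push g _ h3))) _
  obtain ⟨a⟩ := ProjFormulaD.nonempty_Rpush_kinj f J
  obtain ⟨b⟩ := ProjFormulaD.nonempty_Rpush_kinj (U.ι ≫ f) ((ExtZero.rCx U.ι).obj I)
  let p : (Proj.pushCx f).obj J ≅ (Proj.pushCx (U.ι ≫ f)).obj ((ExtZero.rCx U.ι).obj I) :=
    (DerivedApi.mapCxCompIso (Scheme.Modules.pushforward U.ι) (Scheme.Modules.pushforward f)).app _ ≪≫
      (NatIso.mapHomologicalComplex (Scheme.Modules.pushforwardComp U.ι f) (ComplexShape.up ℤ)).app _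
  exact ⟨(DCoh.Rpush f).mapIso (eI ≪≫ @asIso _ _ _ _ (DerivedCategory.Q.map η) hη) ≪≫ a ≪≫
    DerivedCategory.Q.mapIso p ≪≫ b.symm ≪≫ (DCoh.Rpush (U.ι ≫ f)).mapIso
      (((Scheme.Modules.restrictFunctor U.ι).mapDerivedCategoryFactors.app I).symm ≪≫
        (DCoh.restrictD U.ι).mapIso eI.symm)⟩

/-- a quasi-compact open containing a closed set proper over a quasi-compact base -/
theorem exists_qc_open (f : X ⟶ Y) [CompactSpace ↥Y] {Z : Set X} (hZ : ClSub.IsProperOver f Z) :
    ∃ U : X.Opens, IsCompact (U : Set X) ∧ Z ⊆ U := by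
  obtain ⟨hc, hp⟩ := hZ
  let i := (Scheme.IdealSheafData.vanishingIdeal ⟨Z, hc⟩).subschemeι
  haveI := hp
  haveI : CompactSpace ↥(Scheme.IdealSheafData.vanishingIdeal ⟨Z, hc⟩).subscheme :=
    QuasiCompact.compactSpace_of_compactSpace (i ≫ f)
  have hZc : IsCompact Z := by
    rw [show Z = Set.range i.base from (Groth.L17.ProperOver.range_ι ⟨Z, hc⟩).symm]
    exact isCompact_range i.continuous
  have hV : ∀ x : X, ∃ V : X.Opens, IsAffineOpen V ∧ x ∈ V := fun x => by
    obtain ⟨_, ⟨V, hV, rfl⟩, hxV, -⟩ :=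
      X.isBasis_affineOpens.exists_subset_of_mem_open (Set.mem_univ x) isOpen_univ
    exact ⟨V, hV, hxV⟩
  choose V hV hxV using hV
  obtain ⟨t, ht⟩ := hZc.elim_finite_subcover (fun x => (V x : Set X)) (fun x => (V x).isOpen)
    (fun x _ => Set.mem_iUnion.2 ⟨x, hxV x⟩)
  refine ⟨⨆ x ∈ t, V x, ?_, fun z hz => ?_⟩
  · simp only [TopologicalSpace.Opens.coe_iSup]
    exact t.isCompact_biUnion fun x _ => (hV x).isCompact
  · simp only [TopologicalSpace.Opens.coe_iSup]
    exact ht hz

end Groth.L29.DC.SupportReduce
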