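import Groth.Agent.L29.DCoh.GapPerfect
import Groth.Agent.L29.DCoh.SupportReduce
import Groth.Agent.L29.DCoh.RpushCoh
import Groth.Agent.L29.DCoh.PCNoeth
import Groth.Agent.L29.DCoh.RpushAcyclic
import Groth.Agent.L29.DCoh.Restrict
import Groth.Prelude.Def_DerSch

/-!
Direct images of bounded coherent complexes with proper support and finite tor amplitude over a Noetherian base
are perfect.
-/

set_option autoImplicit false
set_option backward.defeqAttrib.useBackward true
set_option backward.isDefEq.respectTransparency false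
set_option backward.isDefEq.respectTransparency.types false

universe u

open CategoryTheory CategoryTheory.Limits CategoryTheory.Pretriangulated AlgebraicGeometry

attribute [local instance] HasDerivedCategory.standard

namespace Groth.L29.DC.PushPerfect

open Groth.L00

variable {X S : Scheme.{u}} (f : X ⟶ S)

theorem isZero_iff_of_KF {A : Type u} [CommRing A] {G : CochainComplex (ModuleCat.{u} A) ℤ}
    (hG : KFlatAlg.KF G) {M Q : CochainComplex (ModuleCat.{u} A) ℤ}
    (e : DerivedCategory.Q.obj M ≅ DerivedCategory.Q.obj Q) (i : ℤ) :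
    IsZero (((GapTensor.Φ G).obj M).homology i) ↔ IsZero (((GapTensor.Φ G).obj Q).homology i) := by
  obtain ⟨R, s, hs, g, hg⟩ := DerivedCategory.right_fac e.hom
  haveI : QuasiIso s := (DerivedCategory.isIso_Q_map_iff_quasiIso _ s).1 hs
  haveI : QuasiIso g := by
    refine (DerivedCategory.isIso_Q_map_iff_quasiIso _ g).1 ?_
    rw [show DerivedCategory.Q.map g = DerivedCategory.Q.map s ≫ e.hom by rw [hg, IsIso.hom_inv_id_assoc]]
    infer_instance
  have key : ∀ {P P' : CochainComplex (ModuleCat.{u} A) ℤ} (α : P ⟶ P') [QuasiIso α],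
      QuasiIso ((GapTensor.Φ G).map α) := fun {P P'} α _ =>
    ConeTransfer.quasiIso_map (GapTensor.Φ G) (fun S σ => BifExact.shortExact_T_of_splitting _ G S σ) α
      (fun j => hG _ (ConeTransfer.acyclic_cone (𝟙 P)) j) (fun j => hG _ (ConeTransfer.acyclic_cone α) j)
  haveI := key s
  haveI := key g
  exact ((asIso (HomologicalComplex.homologyMap ((GapTensor.Φ G).map s) i)).symm ≪≫
    asIso (HomologicalComplex.homologyMap ((GapTensor.Φ G).map g) i)).isZero_iff

/-- vanishing in the gap for `F ⊗ f^* K` -/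
theorem isZero_gap {a b : ℤ} {F : CochainComplex X.Modules ℤ} (hF : DerSch.HasTorAmplitude f a b F)
    (K : CochainComplex S.Modules ℤ) (hK : DCoh.IsKFlat K) {n : ℤ} (hn : 0 < n)
    (hh : ∀ q, -n < q → q ≠ 0 → IsZero (K.homology q)) (i : ℤ) (hi : b - n < i) (hi' : i < a) :
    IsZero (((DCoh.tensorCx.obj F).obj ((Proj.pullCx f).obj K)).homology i) := by
  rw [Stk.acyclic_iff]
  intro x
  obtain ⟨E, hE, hEf, ⟨e⟩⟩ := hF x
  have hz := GapTensor.isZero_gap (E := E) hEf (fun p hp => hE p (Or.inr hp)) (fun p hp => hE p (Or.inl hp))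
    (c := 0) (G := (Stk.S S (f x)).obj K) hn (fun q hq hq0 => ((Stk.F S (f x)).map_isZero
      (hh q (by omega) hq0)).of_iso ((K.sc q).mapHomologyIso (Stk.F S (f x)))) i (by omega) (by omega)
  have hz' := hz.of_iso ((HomologicalComplex.homologyFunctor _ _ i).mapIso
    (KFlatAlg.commIso E ((Stk.S S (f x)).obj K)))
  have h1 := (isZero_iff_of_KF (KFlat.stalk_KF K hK (f x)) e i).1 hz'
  refine IsZero.of_iso ?_ ((HomologicalComplex.homologyFunctor _ _ i).mapIso
    (Stk.tensorCxIso x F ((Proj.pullCx f).obj K))).symm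
  refine (KFlatAlg.acyclic_restrictScalars (PullStalk.φ f x) _ i).1 (h1.of_iso ?_)
  exact (HomologicalComplex.homologyFunctor _ _ i).mapIso
    (((ModuleCat.restrictScalars (PullStalk.φ f x)).mapHomologicalComplex (ComplexShape.up ℤ)).mapIso
      (((MonoidalCategory.curriedTensor _).map₂CochainComplex.mapIso (KFlat.pullCxIso f K x)).app _) ≪≫
      (BaseChangeTensor.tensorIso (PullStalk.φ f x) ((Stk.S S (f x)).obj K) ((Stk.S X x).obj F)).symm)

/-- vanishing in the gap on opens -/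
theorem isZero_gap_res {a b : ℤ} {F : CochainComplex X.Modules ℤ} (hF : DerSch.HasTorAmplitude f a b F)
    {X' T : Scheme.{u}} (j : T ⟶ S) [IsOpenImmersion j] (ι : X' ⟶ X) [IsOpenImmersion ι] (g : X' ⟶ T)
    (w : g ≫ j = ι ≫ f) (K : CochainComplex T.Modules ℤ) (hK : DCoh.IsKFlat K) {n : ℤ} (hn : 0 < n)
    (hh : ∀ q, -n < q → q ≠ 0 → IsZero (K.homology q)) (i : ℤ) (hi : b - n < i) (hi' : i < a) :
    IsZero (((DCoh.tensorCx.obj ((ExtZero.rCx ι).obj F)).obj ((Proj.pullCx g).obj K)).homology i) := by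
  haveI := ExtZero.preservesFiniteLimits j
  haveI := (CxOX.extZeroAdj j).leftAdjoint_preservesColimits
  haveI : (CxOX.extZero j).Additive := (CxOX.extZeroAdj j).left_adjoint_additive
  haveI := ExtZero.preservesFiniteLimits ι
  haveI : (Scheme.Modules.pullback f).Additive :=
    (Scheme.Modules.pullbackPushforwardAdjunction f).left_adjoint_additive
  haveI : (Scheme.Modules.pullback g).Additive :=
    (Scheme.Modules.pullbackPushforwardAdjunction g).left_adjoint_additive
  let K' := (ExtZero.eCx j).obj K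
  have h := isZero_gap f hF K' (ExtZero.isKFlat_eCx j hK) hn
    (fun q hq hq0 => ((CxOX.extZero j).map_isZero (hh q hq hq0)).of_iso ((K.sc q).mapHomologyIso (CxOX.extZero j)))
    i hi hi'
  let eK : (ExtZero.rCx ι).obj ((Proj.pullCx f).obj K') ≅ (Proj.pullCx g).obj K :=
    (DerivedApi.mapCxCompIso (Scheme.Modules.pullback f) (Scheme.Modules.restrictFunctor ι)).app K' ≪≫
      (NatIso.mapHomologicalComplex (ProjQis.pullResIso f j ι g w) (ComplexShape.up ℤ)).app K' ≪≫
      ((DerivedApi.mapCxCompIso (Scheme.Modules.restrictFunctor j) (Scheme.Modules.pullback g)).app K').symm ≪≫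
      (Proj.pullCx g).mapIso (asIso ((ExtZero.adjCx j).unit.app K)).symm
  let T₀ := (DCoh.tensorCx.obj F).obj ((Proj.pullCx f).obj K')
  refine IsZero.of_iso ?_ ((HomologicalComplex.homologyFunctor _ _ i).mapIso
    ((DCoh.tensorCx.obj _).mapIso eK.symm ≪≫ restrictTensorCxIso ι F ((Proj.pullCx f).obj K')))
  exact ((Scheme.Modules.restrictFunctor ι).map_isZero h).of_iso
    ((T₀.sc i).mapHomologyIso (Scheme.Modules.restrictFunctor ι))

theorem isPerfect_of_strictly {T : Scheme.{u}} {E : CochainComplex T.Modules ℤ} (h : DCoh.IsStrictlyPerfect E) :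
    DCoh.IsPerfect (DerivedCategory.Q.obj E) :=
  (isPerfect_iff _).2 fun _ => ⟨⊤, trivial, _, isStrictlyPerfect_restrict _ h, ⟨resQIso ⊤ E⟩⟩

/-- the affine step -/
theorem isPerfect_affine {R : CommRingCat.{u}} [IsNoetherianRing R] {X' : Scheme.{u}} (g : X' ⟶ Spec R)
    [QuasiCompact g] [QuasiSeparated g] [DCoh.HasRpush g] (F : CochainComplex X'.Modules ℤ)
    (hF : DCoh.IsQCohD (DCoh.toD X' F)) (a b : ℤ)
    (hgap : ∀ K : CochainComplex (Spec R).Modules ℤ, DCoh.IsKFlat K → ∀ n : ℤ, 0 < n →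
      (∀ q, -n < q → q ≠ 0 → IsZero (K.homology q)) → ∀ i, b - n < i → i < a →
        IsZero (((DCoh.tensorCx.obj F).obj ((Proj.pullCx g).obj K)).homology i))
    (hpc : ∀ m : ℤ, DCoh.IsPseudoCoherentD m ((DCoh.Rpush g).obj (DCoh.toD X' F))) :
    DCoh.IsPerfect ((DCoh.Rpush g).obj (DCoh.toD X' F)) := by
  haveI : IsLocallyNoetherian (Spec R) := inferInstance
  haveI := Groth.L17.PushQCoh.hasInjectiveResolutions X'
  obtain ⟨K₀, ⟨e₀⟩⟩ := (TildeD.isQCohD_iff _).1 (RpushQC.isQCohD_Rpush_of_compact g _ hF)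
  have hK₀ : ∀ m, DRing.IsPseudoCoherent R m K₀ := fun m =>
    TildeAlg.pc_of_tilde (isPseudoCoherentD_of_iso e₀.symm (hpc m))
  obtain ⟨P, B, hPb, hP, ⟨eP⟩⟩ := Groth.L02.PC.pc'_of_forall hK₀
  refine isPerfect_of_iso ((DCoh.tildeD R).mapIso eP ≪≫ e₀) (TildeAlg.perfect_tilde ?_)
  obtain ⟨N, hN⟩ := RpushQC.exists_bound g
  refine GapPerfect.perfect_of_gap P hPb hP a (max ((N : ℤ) + b + 1) (a + b)) ?_
  intro G n t u hn hGv hG hGh i hi hi'
  let Gt := (TildeAlg.tC (R := R)).obj G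
  have hGs : DCoh.IsStrictlyPerfect Gt := TildeAlg.isStrictlyPerfect_tC hGv fun q =>
    ⟨(hG q).1, haveI := (hG q).2; inferInstance⟩
  have hGk : DCoh.IsKFlat Gt := isKFlat_of_isStrictlyPerfect hGs
  haveI := KFlat.hasLTensorCx Gt
  haveI := KFlat.hasLTensorCx ((Proj.pullCx g).obj Gt)
  haveI := Groth.L18.TildeF.tilde_preservesFiniteLimits (R := R)
  let D := DerivedCategory.Q.obj ((DCoh.tensorCx.obj F).obj ((Proj.pullCx g).obj Gt))
  obtain ⟨eD⟩ := ProjFormulaD.nonempty_projection g Gt hGk (isPerfect_of_strictly hGs) (DCoh.toD X' F)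
  let eT := (Assoc.allIso ((Proj.pullCx g).obj Gt) (KFlat.pullback_kflat g Gt hGk)).app F
  let eL : DerivedCategory.Q.obj ((TildeAlg.tC (R := R)).obj (HomologicalComplex.tensorObj P G)) ≅
      (DCoh.Rpush g).obj D :=
    (DerivedCategory.Q.mapIso (tildeTensorCxIso P G)).symm ≪≫ ((Assoc.allIso Gt hGk).app _).symm ≪≫
      (DCoh.LTensorCx Gt).mapIso ((TildeAlg.qIso P).symm ≪≫ (DCoh.tildeD R).mapIso eP ≪≫ e₀) ≪≫
      eD ≪≫ (DCoh.Rpush g).mapIso eT
  refine TildeAlg.isZero_of_isZero_tilde (IsZero.of_iso ?_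
    (((HomologicalComplex.tensorObj P G).sc i).mapHomologyIso (tilde.functor R)).symm)
  show IsZero (((TildeAlg.tC (R := R)).obj (HomologicalComplex.tensorObj P G)).homology i)
  refine IsZero.of_iso ?_ (((DerivedCategory.homologyFunctorFactors _ i).app
    ((TildeAlg.tC (R := R)).obj (HomologicalComplex.tensorObj P G))).symm ≪≫
    (DerivedCategory.homologyFunctor _ i).mapIso eL)
  -- the direct image of `D` in the gap
  obtain ⟨m, hm⟩ : ∃ m : ℕ, -(m : ℤ) = b - n + 1 :=
    ⟨(n - b - 1).toNat, by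
      have := le_max_right ((N : ℤ) + b + 1) (a + b); omega⟩
  have hDq : DCoh.IsQCohD D :=
    isQCohD_of_iso eT (isQCohD_LTensorCx ((Proj.pullCx g).obj Gt)
      (isQCohD_toD_pull g hGs) hF)
  let π := (DerivedCategory.TStructure.t.truncGEπ (-(m : ℤ))).app D
  let E := (DerivedCategory.TStructure.t.truncGE (-(m : ℤ))).obj D
  have hπ : ∀ k : ℤ, -(m : ℤ) ≤ k → IsIso ((DerivedCategory.homologyFunctor X'.Modules k).map π) :=
    fun k hk => Groth.L10.isIso_H_π _ k hk D
  have hD0 : ∀ k, b - n < k → k < a → IsZero (DCoh.HD D k) := fun k hk hk' =>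
    (hgap Gt hGk n hn (fun q hq hq0 => ((tilde.functor R).map_isZero (hGh q hq hq0)).of_iso
      ((G.sc q).mapHomologyIso (tilde.functor R))) k hk hk').of_iso
      ((DerivedCategory.homologyFunctorFactors _ k).app _)
  have hEge : E.IsGE a := by
    rw [DerivedCategory.isGE_iff]
    intro k hk
    by_cases hk' : -(m : ℤ) ≤ k
    · haveI := hπ k hk'
      exact (hD0 k (by omega) hk).of_iso (asIso ((DerivedCategory.homologyFunctor X'.Modules k).map π)).symm
    · exact Groth.L10.isZero_H_GE _ k (by omega) D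
  have hEq : DCoh.IsQCohD E := fun k => by
    by_cases hk' : -(m : ℤ) ≤ k
    · haveI := hπ k hk'
      exact isQCoh_of_iso' (asIso ((DerivedCategory.homologyFunctor X'.Modules k).map π)) (hDq k)
    · exact isQCoh_of_isZero (Groth.L10.isZero_H_GE _ k (by omega) D)
  haveI := RpushQC.isIso_H_map_of_bound g N hN hDq hEq π m hπ i (by
    have := le_max_left ((N : ℤ) + b + 1) (a + b); omega)
  haveI := RpushQC.isGE_Rpush g E a
  exact (DerivedCategory.isZero_of_isGE ((DCoh.Rpush g).obj E) a i hi').of_iso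
    (asIso ((DerivedCategory.homologyFunctor _ i).map ((DCoh.Rpush g).map π)))
where
  isQCohD_toD_pull {T : Scheme.{u}} {X'' : Scheme.{u}} (g : X'' ⟶ T) {E : CochainComplex T.Modules ℤ}
      (h : DCoh.IsStrictlyPerfect E) : DCoh.IsQCohD (DCoh.toD X'' ((Proj.pullCx g).obj E)) :=
    RpushQC.isQCohD_toD fun k => PCQCoh.isQCoh_of_isFinLocFree ((isStrictlyPerfect_pullback g h).2 k)

/-- `Rf_* F` is perfect -/
theorem isPerfect_Rpush [IsNoetherian S] [LocallyOfFiniteType f] [DCoh.HasRpush f]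
    (F : CochainComplex X.Modules ℤ) (hcoh : DCoh.IsCohD (DCoh.toD X F))
    (a₀ b₀ : ℤ) [(DCoh.toD X F).IsGE a₀] [(DCoh.toD X F).IsLE b₀]
    (hsupp : ∀ i : ℤ, ClSub.IsProperOver f (CohB1.support (DCoh.HD (DCoh.toD X F) i)))
    (a b : ℤ) (htor : DerSch.HasTorAmplitude f a b F) :
    DCoh.IsPerfect ((DCoh.Rpush f).obj (DCoh.toD X F)) := by
  haveI : IsLocallyNoetherian X := LocallyOfFiniteType.isLocallyNoetherian f
  let C := DCoh.toD X F
  -- the support
  let Z : Set X := ⋃ i : Set.Icc a₀ b₀, CohB1.support (DCoh.HD C i)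
  have hZ : ClSub.IsProperOver f Z := Groth.L17.ProperOver.isProperOver_iUnion _ fun i => hsupp i
  have hCZ : ∀ i, CohB1.support (DCoh.HD C i) ⊆ Z := fun i x hx => by
    by_cases hi : a₀ ≤ i ∧ i ≤ b₀
    · exact Set.mem_iUnion.2 ⟨⟨i, hi⟩, hx⟩
    · exfalso
      refine (Groth.L21.Mod.mem_support_iff_not_isZero _ x).1 hx ((Groth.L21.Mod.stalkF X x).map_isZero ?_)
      rcases not_and_or.1 hi with h | h
      · exact DerivedCategory.isZero_of_isGE C a₀ i (by omega)
      · exact DerivedCategory.isZero_of_isLE C b₀ i (by omega)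
  obtain ⟨U, hUc, hZU⟩ := SupportReduce.exists_qc_open f hZ
  haveI : CompactSpace ↥(U : Scheme.{u}) := isCompact_iff_compactSpace.1 hUc
  haveI : IsLocallyNoetherian (U : Scheme.{u}) := isLocallyNoetherian_of_isOpenImmersion U.ι
  let f₀ := U.ι ≫ f
  haveI := RpushQC.hasRpush f₀
  obtain ⟨eU⟩ := SupportReduce.nonempty_iso f U C Z hZ.choose hZU hCZ
  -- pseudo-coherence
  obtain ⟨b', hb'⟩ := RpushCoh.exists_isLE f b₀ (b₀ + 1 - a₀).toNat C
    (DerivedCategory.TStructure.t.isGE_of_ge C (b₀ + 1 - (b₀ + 1 - a₀).toNat) a₀ (by omega))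
    inferInstance hcoh hsupp
  have hM := RpushCoh.isCohD_Rpush f C a₀ hcoh hsupp
  have hpc : ∀ m : ℤ, DCoh.IsPseudoCoherentD m ((DCoh.Rpush f).obj C) := fun m =>
    (PCNoeth.pc_iff _ (fun i => (hM i).1) m).2 ⟨fun i _ => hM i, b', hb'⟩
  refine EvalMain.isPerfect_of_local fun s => ?_
  obtain ⟨_, ⟨V, hV, rfl⟩, hsV, -⟩ := S.isBasis_affineOpens.exists_subset_of_mem_open (Set.mem_univ s) isOpen_univ
  haveI : IsNoetherianRing Γ(S, V) := IsLocallyNoetherian.component_noetherian ⟨V, hV⟩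
  let g₀ := f₀ ∣_ V
  let g := g₀ ≫ hV.isoSpec.hom
  let ι' := (f₀ ⁻¹ᵁ V).ι
  let ι := ι' ≫ U.ι
  have w₀ : g ≫ hV.fromSpec = ι' ≫ f₀ := by
    simp [g, g₀, ι', IsAffineOpen.isoSpec_hom_fromSpec, morphismRestrict_ι]
  have w : g ≫ hV.fromSpec = ι ≫ f := by rw [w₀]; simp [ι, f₀]
  haveI : QuasiCompact f₀ := inferInstance
  haveI : QuasiSeparated f₀ := inferInstance
  haveI := RpushQC.hasRpush g
  obtain ⟨eV⟩ := RpushRes.nonempty_iso f₀ hV.fromSpec ι' g
    (by rw [hV.opensRange_fromSpec, Scheme.Opens.opensRange_ι]) w₀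
  let F' := (ExtZero.rCx ι).obj F
  let eF : (DCoh.restrictD ι').obj ((DCoh.restrictD U.ι).obj C) ≅ DCoh.toD _ F' :=
    (resTransD U.ι ι' ι rfl).app C ≪≫ (Scheme.Modules.restrictFunctor ι).mapDerivedCategoryFactors.app F
  let eM : (DCoh.restrictD hV.fromSpec).obj ((DCoh.Rpush f).obj C) ≅ (DCoh.Rpush g).obj (DCoh.toD _ F') :=
    (DCoh.restrictD hV.fromSpec).mapIso eU ≪≫ eV.app _ ≪≫ (DCoh.Rpush g).mapIso eF
  have hF' : DCoh.IsQCohD (DCoh.toD _ F') :=
    isQCohD_of_iso eF (isQCohD_restrictD ι' (isQCohD_restrictD U.ι fun i => (hcoh i).1))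
  have h := isPerfect_affine g F' hF' a b
    (fun K hK n hn hh i hi hi' => isZero_gap_res f htor hV.fromSpec ι g w K hK hn hh i hi hi')
    (fun m => isPseudoCoherentD_of_iso eM (PCStalk.pc_res hV.fromSpec (hpc m)))
  have h' := EvalMain.isPerfect_restrictD hV.isoSpec.hom (isPerfect_of_iso eM.symm h)
  exact ⟨V, hsV, isPerfect_of_iso ((resTransD hV.fromSpec hV.isoSpec.hom (Scheme.Opens.ι V) hV.isoSpec_hom_fromSpec).app _) h'⟩

end Groth.L29.DC.PushPerfect
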