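import Groth.Agent.L29.DCoh.Eval

/-!
Devissage on open subschemes for properties of complexes on the ambient scheme; the evaluation map out of a
perfect complex is a quasi-isomorphism and the dual of a perfect complex is perfect.
-/

set_option autoImplicit false
set_option backward.isDefEq.respectTransparency false
set_option backward.isDefEq.respectTransparency.types false

universe u

open CategoryTheory CategoryTheory.Limits AlgebraicGeometry CochainComplex Pretriangulated

attribute [local instance] HasDerivedCategory.standard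

namespace Groth.L29.DC.EvalPerf

open Groth.L00

variable {X : Scheme.{u}}

/-- properties of complexes relative to opens, local and stable in the triangulated sense -/
structure LocProp (Pr : ∀ {U : Scheme.{u}} (j : U ⟶ X) [IsOpenImmersion j],
    CochainComplex X.Modules ℤ → Prop) : Prop where
  unit : ∀ {U : Scheme.{u}} (j : U ⟶ X) [IsOpenImmersion j], Pr j (RHom.O0 X)
  acyclic : ∀ {U : Scheme.{u}} (j : U ⟶ X) [IsOpenImmersion j] (K : CochainComplex X.Modules ℤ),
    DCoh.IsKFlat K → ((ExtZero.rCx j).obj K).Acyclic → Pr j K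
  middle : ∀ {U : Scheme.{u}} (j : U ⟶ X) [IsOpenImmersion j] (S : ShortComplex (CochainComplex X.Modules ℤ))
    (_ : ∀ n, (S.map (HomologicalComplex.eval X.Modules (ComplexShape.up ℤ) n)).Splitting),
    Pr j S.X₁ → Pr j S.X₃ → Pr j S.X₂
  shift : ∀ {U : Scheme.{u}} (j : U ⟶ X) [IsOpenImmersion j] (K : CochainComplex X.Modules ℤ),
    DCoh.IsKFlat K → (Pr j K ↔ Pr j (K⟦(1 : ℤ)⟧))
  iff : ∀ {U : Scheme.{u}} (j : U ⟶ X) [IsOpenImmersion j] {K K' : CochainComplex X.Modules ℤ} (g : K ⟶ K'),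
    DCoh.IsKFlat K → DCoh.IsKFlat K' → QuasiIso ((ExtZero.rCx j).map g) → (Pr j K ↔ Pr j K')
  loc : ∀ {U : Scheme.{u}} (j : U ⟶ X) [IsOpenImmersion j] (K : CochainComplex X.Modules ℤ),
    (∀ y : U, ∃ W : U.Opens, y ∈ W ∧ Pr (W.ι ≫ j) K) → Pr j K

section Basic

variable {U : Scheme.{u}} (j : U ⟶ X) [IsOpenImmersion j]

instance isIso_unit (E : CochainComplex U.Modules ℤ) : IsIso ((ExtZero.adjCx j).unit.app E) := by
  have h : ∀ i, IsIso (((ExtZero.adjCx j).unit.app E).f i) := fun i => by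
    have e : ((ExtZero.adjCx j).unit.app E).f i = (CxOX.extZeroAdj j).unit.app (E.X i) := by
      simp [ExtZero.adjCx, DerAdj.ηI]
    rw [e]
    infer_instance
  exact HomologicalComplex.Hom.isIso_of_components ((ExtZero.adjCx j).unit.app E)

theorem quasiIso_res_adjoint {E : CochainComplex U.Modules ℤ} {K : CochainComplex X.Modules ℤ}
    (φ : E ⟶ (ExtZero.rCx j).obj K) [QuasiIso φ] :
    QuasiIso ((ExtZero.rCx j).map (((ExtZero.adjCx j).homEquiv E K).symm φ)) := by
  have h : (ExtZero.adjCx j).unit.app E ≫ (ExtZero.rCx j).map (((ExtZero.adjCx j).homEquiv E K).symm φ) = φ :=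
    ((ExtZero.adjCx j).homEquiv_unit _ _ _).symm.trans (((ExtZero.adjCx j).homEquiv E K).apply_symm_apply φ)
  haveI : QuasiIso ((ExtZero.adjCx j).unit.app E ≫
      (ExtZero.rCx j).map (((ExtZero.adjCx j).homEquiv E K).symm φ)) := by rw [h]; infer_instance
  exact quasiIso_of_comp_left ((ExtZero.adjCx j).unit.app E) _

theorem quasiIso_res_eCx {E E' : CochainComplex U.Modules ℤ} (g : E ⟶ E') [QuasiIso g] :
    QuasiIso ((ExtZero.rCx j).map ((ExtZero.eCx j).map g)) := by
  haveI : QuasiIso ((ExtZero.adjCx j).unit.app E ≫ (ExtZero.rCx j).map ((ExtZero.eCx j).map g)) := by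
    rw [show (ExtZero.adjCx j).unit.app E ≫ (ExtZero.rCx j).map ((ExtZero.eCx j).map g) =
      g ≫ (ExtZero.adjCx j).unit.app E' from ((ExtZero.adjCx j).unit.naturality g).symm]
    infer_instance
  exact quasiIso_of_comp_left ((ExtZero.adjCx j).unit.app E) _

end Basic

variable {Pr : ∀ {U : Scheme.{u}} (j : U ⟶ X) [IsOpenImmersion j], CochainComplex X.Modules ℤ → Prop}
  (d : LocProp (X := X) Pr)

include d

section Devissage

variable {U : Scheme.{u}} (j : U ⟶ X) [IsOpenImmersion j]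

theorem iff_adjoint {E : CochainComplex U.Modules ℤ} (hE : DCoh.IsKFlat E) {K : CochainComplex X.Modules ℤ}
    (hK : DCoh.IsKFlat K) (φ : E ⟶ (ExtZero.rCx j).obj K) [QuasiIso φ] :
    Pr j ((ExtZero.eCx j).obj E) ↔ Pr j K :=
  d.iff j _ (ExtZero.isKFlat_eCx j hE) hK (quasiIso_res_adjoint j φ)

theorem iff_map {E E' : CochainComplex U.Modules ℤ} (hE : DCoh.IsKFlat E) (hE' : DCoh.IsKFlat E')
    (g : E ⟶ E') [QuasiIso g] : Pr j ((ExtZero.eCx j).obj E) ↔ Pr j ((ExtZero.eCx j).obj E') :=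
  d.iff j _ (ExtZero.isKFlat_eCx j hE) (ExtZero.isKFlat_eCx j hE') (quasiIso_res_eCx j g)

theorem of_iso {E E' : CochainComplex U.Modules ℤ} (hE : DCoh.IsKFlat E) (e : E ≅ E')
    (h : Pr j ((ExtZero.eCx j).obj E)) : Pr j ((ExtZero.eCx j).obj E') :=
  (iff_map d j hE (KFlat.of_iso e hE) e.hom).1 h

theorem shift_one {E : CochainComplex U.Modules ℤ} (hE : DCoh.IsKFlat E) :
    Pr j ((ExtZero.eCx j).obj E) ↔ Pr j ((ExtZero.eCx j).obj (E⟦(1 : ℤ)⟧)) := by
  let c := ((ExtZero.eCx j).commShiftIso (1 : ℤ)).app E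
  have h1 := ExtZero.isKFlat_eCx j (KFlat.shift E 1 hE)
  have h2 := KFlat.shift _ 1 (ExtZero.isKFlat_eCx j hE)
  haveI : QuasiIso ((ExtZero.rCx j).map c.hom) := inferInstance
  exact (d.shift j _ (ExtZero.isKFlat_eCx j hE)).trans (d.iff j c.hom h1 h2 inferInstance).symm

theorem shift_int {E : CochainComplex U.Modules ℤ} (hE : DCoh.IsKFlat E) (n : ℤ) :
    Pr j ((ExtZero.eCx j).obj (E⟦n⟧)) ↔ Pr j ((ExtZero.eCx j).obj E) := by
  have hk := fun m : ℤ => KFlat.shift E m hE
  have step : ∀ m : ℤ, Pr j ((ExtZero.eCx j).obj (E⟦m⟧)) ↔ Pr j ((ExtZero.eCx j).obj (E⟦m + 1⟧)) := fun m =>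
    (shift_one d j (hk m)).trans ⟨of_iso d j (KFlat.shift _ 1 (hk m)) ((shiftFunctorAdd _ m 1).app E).symm,
      of_iso d j (hk (m + 1)) ((shiftFunctorAdd _ m 1).app E)⟩
  induction n using Int.induction_on with
  | zero => exact ⟨of_iso d j (hk 0) ((shiftFunctorZero _ ℤ).app E), of_iso d j hE ((shiftFunctorZero _ ℤ).app E).symm⟩
  | succ m ih => exact (step m).symm.trans ih
  | pred m ih =>
    exact (by have := step (-(m : ℤ) - 1); rwa [sub_add_cancel] at this :
      Pr j ((ExtZero.eCx j).obj (E⟦-(m : ℤ) - 1⟧)) ↔ _).trans ih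

/-- the property for a locally free module in degree zero -/
def Pr₀ (M : U.Modules) : Prop :=
  Pr j ((ExtZero.eCx j).obj ((HomologicalComplex.single U.Modules (ComplexShape.up ℤ) 0).obj M))

omit d in
theorem isKFlat_single {M : U.Modules} (hM : FlatMod.IsFinLocFree M) (n : ℤ) :
    DCoh.IsKFlat ((HomologicalComplex.single U.Modules (ComplexShape.up ℤ) n).obj M) :=
  KFlat.single M (isFlat_of_isFinLocFree hM) n

theorem single_iff {M : U.Modules} (hM : FlatMod.IsFinLocFree M) (n : ℤ) :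
    Pr j ((ExtZero.eCx j).obj ((HomologicalComplex.single U.Modules (ComplexShape.up ℤ) n).obj M)) ↔
      Pr₀ (Pr := Pr) j M := by
  let e := ((CochainComplex.singleFunctors U.Modules).shiftIso (-n) n 0 (by omega)).app M
  exact ⟨fun h => (shift_int d j (isKFlat_single hM 0) (-n)).1 (of_iso d j (isKFlat_single hM n) e.symm h),
    fun h => of_iso d j (KFlat.shift _ (-n) (isKFlat_single hM 0)) e ((shift_int d j (isKFlat_single hM 0) (-n)).2 h)⟩

theorem middle {S : ShortComplex (CochainComplex U.Modules ℤ)}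
    (σ : ∀ n, (S.map (HomologicalComplex.eval U.Modules (ComplexShape.up ℤ) n)).Splitting)
    (h₁ : Pr j ((ExtZero.eCx j).obj S.X₁)) (h₃ : Pr j ((ExtZero.eCx j).obj S.X₃)) :
    Pr j ((ExtZero.eCx j).obj S.X₂) :=
  d.middle j (S.map (ExtZero.eCx j)) (fun n => (σ n).map (CxOX.extZero j)) h₁ h₃

theorem of_acyclic {E : CochainComplex U.Modules ℤ} (hE : DCoh.IsKFlat E) (h : E.Acyclic) :
    Pr j ((ExtZero.eCx j).obj E) :=
  d.acyclic j _ (ExtZero.isKFlat_eCx j hE) (Eval.acyclic_of_iso (asIso ((ExtZero.adjCx j).unit.app E)) h)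

theorem unit₀ : Pr₀ (Pr := Pr) j (Coh.structureModule U) := by
  let φ := (HomologicalComplex.single U.Modules (ComplexShape.up ℤ) 0).mapIso
      (Scheme.Modules.restrictUnitIso j).symm ≪≫
    ((HomologicalComplex.singleMapHomologicalComplex (ExtZero.res j) (ComplexShape.up ℤ) 0).app
      (Coh.structureModule X)).symm
  have hU : DCoh.IsKFlat ((HomologicalComplex.single U.Modules (ComplexShape.up ℤ) 0).obj (Coh.structureModule U)) :=
    KFlat.single _ (isFlat_structureModule U) 0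
  haveI : QuasiIso φ.hom := inferInstance
  exact (iff_adjoint d j hU (KFlat.single _ (isFlat_structureModule X) 0) φ.hom).2 (d.unit j)

theorem biprod₀ {M N : U.Modules} (hM : Pr₀ (Pr := Pr) j M) (hN : Pr₀ (Pr := Pr) j N) :
    Pr₀ (Pr := Pr) j (M ⊞ N) :=
  let s := HomologicalComplex.single U.Modules (ComplexShape.up ℤ) 0
  middle d j (S := (ShortComplex.mk (biprod.inl : M ⟶ M ⊞ N) biprod.snd (by simp)).map s)
    (fun n => ((ShortComplex.Splitting.ofHasBinaryBiproduct M N).map
      (s ⋙ HomologicalComplex.eval U.Modules (ComplexShape.up ℤ) n))) hM hN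

theorem free₀ : ∀ n : ℕ, Pr₀ (Pr := Pr) j (FlatMod.freeMod U n) := by
  intro n
  induction n with
  | zero =>
    refine of_acyclic d j (isKFlat_single (isFinLocFree_freeMod U 0) 0) fun i => ?_
    exact ShortComplex.exact_of_isZero_X₂ _ ((HomologicalComplex.eval U.Modules _ i).map_isZero
      ((HomologicalComplex.single U.Modules (ComplexShape.up ℤ) 0).map_isZero
        ((IsZero.iff_id_eq_zero _).2 (Sigma.hom_ext _ _ fun i => i.elim0))))
  | succ n ih =>
    refine of_iso d j (isKFlat_single (Groth.L29.LocFree.of_iso (coprodFinSuccIso _) (isFinLocFree_freeMod U (n + 1))) 0)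
      ((HomologicalComplex.single U.Modules (ComplexShape.up ℤ) 0).mapIso
        (coprodFinSuccIso fun _ : Fin (n + 1) => Coh.structureModule U).symm)
      (biprod₀ d j (unit₀ d j) ih)

end Devissage

theorem locFree₀ {U : Scheme.{u}} (j : U ⟶ X) [IsOpenImmersion j] {M : U.Modules} (hM : FlatMod.IsFinLocFree M) :
    Pr₀ (Pr := Pr) j M := by
  refine d.loc j _ fun y => ?_
  obtain ⟨W, n, hy, ⟨i⟩⟩ := hM y
  let k := W.ι ≫ j
  let s := fun (Z : Scheme.{u}) => HomologicalComplex.single Z.Modules (ComplexShape.up ℤ) 0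
  let φ : (s (W : Scheme.{u})).obj (FlatMod.freeMod W n) ≅
      (ExtZero.rCx k).obj ((ExtZero.eCx j).obj ((s U).obj M)) :=
    (s _).mapIso i.symm ≪≫
      ((HomologicalComplex.singleMapHomologicalComplex (Scheme.Modules.restrictFunctor W.ι) (ComplexShape.up ℤ) 0).app M).symm ≪≫
      (ExtZero.rCx W.ι).mapIso (asIso ((ExtZero.adjCx j).unit.app ((s U).obj M))) ≪≫
      (resTransCx j W.ι k rfl).app _
  haveI : QuasiIso φ.hom := inferInstance
  exact ⟨W, hy, (iff_adjoint d k (isKFlat_single (isFinLocFree_freeMod _ n) 0)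
    (ExtZero.isKFlat_eCx j (isKFlat_single hM 0)) φ.hom).1 (free₀ d k n)⟩

theorem bounded {U : Scheme.{u}} (j : U ⟶ X) [IsOpenImmersion j] :
    ∀ (k : ℕ) (E : CochainComplex U.Modules ℤ) (a b : ℤ), b - a < k → DCoh.VanishesOutside E a b →
      (∀ i, FlatMod.IsFinLocFree (E.X i)) → Pr j ((ExtZero.eCx j).obj E) := by
  intro k
  induction k with
  | zero =>
    intro E a b hab hv hf
    exact of_acyclic d j (isKFlat_of_isStrictlyPerfect ⟨⟨a, b, hv⟩, hf⟩)
      fun i => ShortComplex.exact_of_isZero_X₂ _ (hv i (by omega))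
  | succ k ih =>
    intro E a b hab hv hf
    refine middle d j (RHom.brutalSplit E (a + 1)) (ih _ (a + 1) b (by omega) ?_ ?_) ?_
    · intro i hi
      rcases lt_or_ge i (a + 1) with h | h
      · exact isZero_brutal_X E _ h
      · haveI : Mono ((brutalι E (a + 1)).f i) := inferInstanceAs (Mono (kernel.ι _))
        exact (hv i (by omega)).of_mono ((brutalι E (a + 1)).f i)
    · intro i
      rcases lt_or_ge i (a + 1) with h | h
      · exact Groth.L29.LocFree.of_isZero (isZero_brutal_X E _ h)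
      · haveI := isIso_brutalι E (a + 1) h
        exact Groth.L29.LocFree.of_iso (asIso ((brutalι E (a + 1)).f i)).symm (hf i)
    · obtain ⟨M, hM, ⟨e⟩⟩ := RHom.brutal_quotient E a b hv hf
      exact of_iso d j (isKFlat_single hM a) e.symm ((single_iff d j hM a).2 (locFree₀ d j hM))

/-- the property holds near every point for a K-flat perfect complex -/
theorem of_perfect {K : CochainComplex X.Modules ℤ} (hKf : DCoh.IsKFlat K) (hK : DCoh.IsPerfect (DCoh.toD X K))
    (x : X) : ∃ V : X.Opens, x ∈ V ∧ Pr V.ι K := by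
  obtain ⟨V, hx, h⟩ := hK x
  obtain ⟨E, hE, ⟨e⟩⟩ := h K ⟨Iso.refl _⟩
  obtain ⟨R, s, hs, g, hg⟩ := DerivedCategory.right_fac e.hom
  haveI : IsIso (DerivedCategory.Q.map g) := by
    rw [show DerivedCategory.Q.map g = DerivedCategory.Q.map s ≫ e.hom by rw [hg, IsIso.hom_inv_id_assoc]]
    infer_instance
  haveI : QuasiIso s := (DerivedCategory.isIso_Q_map_iff_quasiIso _ s).1 inferInstance
  haveI : QuasiIso g := (DerivedCategory.isIso_Q_map_iff_quasiIso _ g).1 inferInstance
  haveI := KFlat.quasiIso_rF R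
  let r : (KFlat.RF _).obj R ⟶ R := (KFlat.rF _).app R
  haveI : QuasiIso r := KFlat.quasiIso_rF R
  obtain ⟨a, b, hv⟩ := hE.1
  exact ⟨V, hx, (iff_adjoint d V.ι (KFlat.isKFlat_RF R) hKf (r ≫ s)).1
    ((iff_map d V.ι (KFlat.isKFlat_RF R) (isKFlat_of_isStrictlyPerfect hE) (r ≫ g)).2
      (bounded d V.ι ((b - a).toNat + 1) E a b (by omega) hv hE.2))⟩

end Groth.L29.DC.EvalPerf
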