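import Groth.Agent.L29.DCoh.EvalAbs
import Groth.Agent.L29.DCoh.SESLift
import Groth.Agent.L00.ConeTransfer
import Mathlib.Algebra.Homology.DerivedCategory.ExactFunctor

/-!
Devissage for the evaluation map, locally, for an abstract tensor bifunctor of complexes.
-/

set_option autoImplicit false
set_option backward.defeqAttrib.useBackward true
set_option backward.isDefEq.respectTransparency false
set_option backward.isDefEq.respectTransparency.types false

universe w v u v' u'

open CategoryTheory CategoryTheory.Limits CochainComplex Pretriangulated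

namespace Groth.L29.DC.EvalLocal

section Sequences

variable {B : Type u} [Category.{v} B] [Abelian B] [HasDerivedCategory.{w} B]

theorem isIso_tri {S S' : ShortComplex (CochainComplex B ℤ)} (hS : S.ShortExact) (hS' : S'.ShortExact)
    (φ : S ⟶ S') :
    (IsIso (DerivedCategory.Q.map φ.τ₁) → IsIso (DerivedCategory.Q.map φ.τ₂) → IsIso (DerivedCategory.Q.map φ.τ₃)) ∧
    (IsIso (DerivedCategory.Q.map φ.τ₁) → IsIso (DerivedCategory.Q.map φ.τ₃) → IsIso (DerivedCategory.Q.map φ.τ₂)) ∧
    (IsIso (DerivedCategory.Q.map φ.τ₂) → IsIso (DerivedCategory.Q.map φ.τ₃) → IsIso (DerivedCategory.Q.map φ.τ₁)) := by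
  let ψ : DerivedCategory.triangleOfSES hS ⟶ DerivedCategory.triangleOfSES hS' :=
    { hom₁ := DerivedCategory.Q.map φ.τ₁
      hom₂ := DerivedCategory.Q.map φ.τ₂
      hom₃ := DerivedCategory.Q.map φ.τ₃
      comm₁ := by
        dsimp [DerivedCategory.triangleOfSES]
        rw [← Functor.map_comp, ← Functor.map_comp, φ.comm₁₂]
      comm₂ := by
        dsimp [DerivedCategory.triangleOfSES]
        rw [← Functor.map_comp, ← Functor.map_comp, φ.comm₂₃]
      comm₃ := DerivedCategory.triangleOfSESδ_naturality hS hS' φ }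
  exact ⟨fun a b => isIso₃_of_isIso₁₂ ψ (DerivedCategory.triangleOfSES_distinguished hS)
      (DerivedCategory.triangleOfSES_distinguished hS') a b,
    fun a b => isIso₂_of_isIso₁₃ ψ (DerivedCategory.triangleOfSES_distinguished hS)
      (DerivedCategory.triangleOfSES_distinguished hS') a b,
    fun a b => isIso₁_of_isIso₂₃ ψ (DerivedCategory.triangleOfSES_distinguished hS)
      (DerivedCategory.triangleOfSES_distinguished hS') a b⟩

theorem isZero_Q_of_acyclic {K : CochainComplex B ℤ} (h : K.Acyclic) : IsZero (DerivedCategory.Q.obj K) := by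
  open ZeroObject in
  haveI : IsIso (0 : DerivedCategory.Q.obj K ⟶ 0) := (DerivedCategory.isIso_iff B _).2 fun i =>
    (((((HomologicalComplex.exactAt_iff_isZero_homology _ _).1 (h i)).of_iso
      ((DerivedCategory.homologyFunctorFactors B i).app K)))).isIso
      ((DerivedCategory.homologyFunctor B i).map_isZero (isZero_zero _)) _
  exact (isZero_zero (DerivedCategory B)).of_iso
    (asIso (0 : DerivedCategory.Q.obj K ⟶ (0 : DerivedCategory B)))

theorem nonempty_iso_of_acyclic_middle {S : ShortComplex (CochainComplex B ℤ)} (hS : S.ShortExact)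
    (h : S.X₂.Acyclic) :
    Nonempty (DerivedCategory.Q.obj S.X₃ ≅ (DerivedCategory.Q.obj S.X₁)⟦(1 : ℤ)⟧) :=
  haveI : IsIso (DerivedCategory.triangleOfSES hS).mor₃ :=
    (Triangle.isZero₂_iff_isIso₃ _ (DerivedCategory.triangleOfSES_distinguished hS)).1 (isZero_Q_of_acyclic h)
  ⟨asIso (DerivedCategory.triangleOfSES hS).mor₃⟩

theorem acyclic_cone_iff {A A' : CochainComplex B ℤ} (f : A ⟶ A') :
    (mappingCone f).Acyclic ↔ IsIso (DerivedCategory.Q.map f) := by
  have hT : DerivedCategory.Q.mapTriangle.obj (mappingCone.triangle f) ∈ distTriang _ :=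
    (DerivedCategory.mem_distTriang_iff _).mpr ⟨_, _, f, ⟨Iso.refl _⟩⟩
  refine ⟨fun h => (Triangle.isZero₃_iff_isIso₁ _ hT).1 (isZero_Q_of_acyclic h), fun h i => ?_⟩
  haveI := (DerivedCategory.isIso_Q_map_iff_quasiIso _ f).1 h
  exact (HomologicalComplex.exactAt_iff_isZero_homology _ _).2 (Groth.L00.ConeTransfer.acyclic_cone f i)

end Sequences

section Main

variable {C : Type u} [Category.{v} C] [Abelian C] {B : Type u'} [Category.{v'} B] [Abelian B]
  [HasDerivedCategory.{w} B]
  (T : CochainComplex C ℤ ⥤ CochainComplex C ℤ ⥤ CochainComplex C ℤ)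
  [∀ X, (T.obj X).IsLeftAdjoint] [∀ X, (T.flip.obj X).IsLeftAdjoint]
  (α : ∀ K L, T.flip.obj K ⋙ T.flip.obj L ≅ T.flip.obj ((T.obj K).obj L))
  (R : C ⥤ B) [R.Additive] [PreservesFiniteLimits R] [PreservesFiniteColimits R] {e : B ⥤ C} (a : e ⊣ R)

/-- the restriction of complexes -/
noncomputable abbrev rr : CochainComplex C ℤ ⥤ CochainComplex B ℤ :=
  R.mapHomologicalComplex (ComplexShape.up ℤ)

/-- the standing hypotheses -/
structure Setting (KF : CochainComplex C ℤ → Prop) : Prop where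
  dataL : HomCx.Data T
  dataR : HomCx.Data T.flip
  h₂ : ∀ (P : CochainComplex C ℤ) {K K' : CochainComplex C ℤ} (g : K ⟶ K') (L : CochainComplex C ℤ),
    (T.map ((T.obj P).map g)).app L ≫ (α K' L).hom.app P = (α K L).hom.app P ≫ (T.obj P).map ((T.map g).app L)
  h₃ : ∀ (P K : CochainComplex C ℤ) {L L' : CochainComplex C ℤ} (g : L ⟶ L'),
    (T.obj ((T.obj P).obj K)).map g ≫ (α K L').hom.app P = (α K L).hom.app P ≫ (T.obj P).map ((T.obj K).map g)
  shortExact : ∀ (P : CochainComplex C ℤ) (S : ShortComplex (CochainComplex C ℤ))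
    (_ : ∀ n, (S.map (HomologicalComplex.eval C (ComplexShape.up ℤ) n)).Splitting),
    ∃ w, (ShortComplex.mk ((T.obj P).map S.f) ((T.obj P).map S.g) w).ShortExact
  test : ∀ K : CochainComplex C ℤ, ((rr R).obj K).Acyclic → ∀ Y : B, ∃ (F : B) (p : F ⟶ Y), Epi p ∧ ∀ n : ℤ,
    ((T.flip.obj K).obj ((HomologicalComplex.single C (ComplexShape.up ℤ) n).obj (e.obj F))).Acyclic ∧
    ((T.obj K).obj ((HomologicalComplex.single C (ComplexShape.up ℤ) n).obj (e.obj F))).Acyclic
  cone : ∀ {K K' : CochainComplex C ℤ} (g : K ⟶ K'), KF K → KF K' → KF (mappingCone g)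
  shift : ∀ {K : CochainComplex C ℤ}, KF K → KF (K⟦(1 : ℤ)⟧)
  tensor : ∀ P {K : CochainComplex C ℤ}, KF K → ((rr R).obj K).Acyclic → ((rr R).obj ((T.obj P).obj K)).Acyclic

variable {T α R} {KF : CochainComplex C ℤ → Prop} (s : Setting T α R (e := e) KF)
  (I J : CochainComplex C ℤ) [I.IsKInjective] [J.IsKInjective]

variable (T α R) in
/-- the evaluation map is locally a quasi-isomorphism -/
def P (K : CochainComplex C ℤ) : Prop :=
  IsIso (DerivedCategory.Q.map ((rr R).map (EvalAbs.κ T α I J K)))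

variable (T R) in
/-- the dual lies locally in a class of objects -/
def P₁ (Pf : DerivedCategory B → Prop) (K : CochainComplex C ℤ) : Prop :=
  Pf (DerivedCategory.Q.obj ((rr R).obj (EvalAbs.A T I K)))

include s a in
theorem acyclic_A {K : CochainComplex C ℤ} (h : ((rr R).obj K).Acyclic) :
    ((rr R).obj (EvalAbs.A T I K)).Acyclic :=
  HomCx.acyclic_res s.dataL I a K fun Y => by
    obtain ⟨F, p, hp, hF⟩ := s.test K h Y
    exact ⟨F, p, hp, fun n => (hF n).2⟩

include s a in
theorem P_acyclic {K : CochainComplex C ℤ} (hK : KF K) (h : ((rr R).obj K).Acyclic) : P T α R I J K := by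
  have h' : ((rr R).obj ((HomCx.H T.flip (EvalAbs.A T I K)).obj J)).Acyclic :=
    HomCx.acyclic_res s.dataR J a _ fun Y => by
      obtain ⟨F, p, hp, hF⟩ := s.test _ (acyclic_A a s I h) Y
      exact ⟨F, p, hp, fun n => (hF n).1⟩
  exact (isZero_Q_of_acyclic (s.tensor _ hK h)).isIso (isZero_Q_of_acyclic h') _

variable (S : ShortComplex (CochainComplex C ℤ))
  (σ : ∀ n, (S.map (HomologicalComplex.eval C (ComplexShape.up ℤ) n)).Splitting)

include s σ in
theorem P_two_three :
    (P T α R I J S.X₁ → P T α R I J S.X₂ → P T α R I J S.X₃) ∧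
    (P T α R I J S.X₁ → P T α R I J S.X₃ → P T α R I J S.X₂) ∧
    (P T α R I J S.X₂ → P T α R I J S.X₃ → P T α R I J S.X₁) := by
  obtain ⟨w, h1⟩ := s.shortExact (EvalAbs.Hh T I J) S σ
  let S' := HomCx.homSC s.dataL S I
  let τ := HomCx.homSplit s.dataL S σ I
  let τ' := HomCx.homSplit s.dataR S' τ J
  let row₁ := ShortComplex.mk _ _ w
  let row₂ := HomCx.homSC s.dataR S' J
  have h2 : row₂.ShortExact :=
    HomologicalComplex.shortExact_of_degreewise_shortExact _ fun n => (τ' n).shortExact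
  let φ : row₁ ⟶ row₂ :=
    { τ₁ := EvalAbs.κ T α I J S.X₁
      τ₂ := EvalAbs.κ T α I J S.X₂
      τ₃ := EvalAbs.κ T α I J S.X₃
      comm₁₂ := (EvalAbs.κ_natural T α s.h₂ s.h₃ I J S.f).symm
      comm₂₃ := (EvalAbs.κ_natural T α s.h₂ s.h₃ I J S.g).symm }
  exact isIso_tri (h1.map_of_exact (rr R)) (h2.map_of_exact (rr R))
    ((rr R).mapShortComplex.map φ)

theorem acyclic_map_cone {K K' : CochainComplex C ℤ} (g : K ⟶ K') [QuasiIso ((rr R).map g)] :
    ((rr R).obj (mappingCone g)).Acyclic := fun i =>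
  (HomologicalComplex.exactAt_iff_isZero_homology _ _).2 ((Groth.L00.ConeTransfer.acyclic_cone ((rr R).map g) i).of_iso
    ((HomologicalComplex.homologyFunctor B (ComplexShape.up ℤ) i).mapIso
      (mappingCone.mapHomologicalComplexIso g R)))

include s a in
theorem P_shift {K : CochainComplex C ℤ} (hK : KF K) : P T α R I J K ↔ P T α R I J (K⟦(1 : ℤ)⟧) := by
  haveI : QuasiIso ((rr R).map (𝟙 K)) := by rw [CategoryTheory.Functor.map_id]; infer_instance
  have hc : P T α R I J (mappingCone (𝟙 K)) := P_acyclic a s I J (s.cone _ hK hK) (acyclic_map_cone _)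
  have h := P_two_three s I J (mappingCone.triangleRotateShortComplex (𝟙 K))
    (mappingCone.triangleRotateShortComplexSplitting (𝟙 K))
  exact ⟨fun hk => h.1 hk hc, fun hk => h.2.2 hc hk⟩

include s a in
theorem P_iff {K K' : CochainComplex C ℤ} (g : K ⟶ K') (hK : KF K) (hK' : KF K') [QuasiIso ((rr R).map g)] :
    P T α R I J K ↔ P T α R I J K' := by
  have hc : P T α R I J (mappingCone g) := P_acyclic a s I J (s.cone _ hK hK') (acyclic_map_cone _)
  have h := P_two_three s I J (mappingCone.triangleRotateShortComplex g)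
    (mappingCone.triangleRotateShortComplexSplitting g)
  rw [P_shift a s I J hK]
  exact ⟨fun hk => h.2.2 hc hk, fun hk => h.1 hk hc⟩

theorem P_unit (O : CochainComplex C ℤ) (U : T.flip.obj O ≅ 𝟭 _) (V : T.obj O ≅ 𝟭 _) : P T α R I J O := by
  haveI := EvalAbs.isIso_κ_unit T α I J O U V
  exact inferInstanceAs (IsIso (DerivedCategory.Q.map ((rr R).map (EvalAbs.κ T α I J O))))

section Dual

variable (Pf : DerivedCategory B → Prop)
  (hzero : ∀ {X : DerivedCategory B}, IsZero X → Pf X)
  (htri : ∀ Δ : Triangle (DerivedCategory B), Δ ∈ distTriang _ →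
    (Pf Δ.obj₁ → Pf Δ.obj₂ → Pf Δ.obj₃) ∧ (Pf Δ.obj₁ → Pf Δ.obj₃ → Pf Δ.obj₂) ∧
      (Pf Δ.obj₂ → Pf Δ.obj₃ → Pf Δ.obj₁))

include s σ htri in
theorem P₁_two_three :
    (P₁ T R I Pf S.X₁ → P₁ T R I Pf S.X₂ → P₁ T R I Pf S.X₃) ∧
    (P₁ T R I Pf S.X₁ → P₁ T R I Pf S.X₃ → P₁ T R I Pf S.X₂) ∧
    (P₁ T R I Pf S.X₂ → P₁ T R I Pf S.X₃ → P₁ T R I Pf S.X₁) := by
  let τ := HomCx.homSplit s.dataL S σ I
  have h : (HomCx.homSC s.dataL S I).ShortExact :=
    HomologicalComplex.shortExact_of_degreewise_shortExact _ fun n => (τ n).shortExact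
  have h' := htri _ (DerivedCategory.triangleOfSES_distinguished (h.map_of_exact (rr R)))
  exact ⟨fun x y => h'.2.2 y x, fun x y => h'.2.1 y x, fun x y => h'.1 y x⟩

include s a hzero in
theorem P₁_acyclic {K : CochainComplex C ℤ} (h : ((rr R).obj K).Acyclic) : P₁ T R I Pf K :=
  hzero (isZero_Q_of_acyclic (acyclic_A a s I h))

include s a hzero htri in
theorem P₁_shift (K : CochainComplex C ℤ) : P₁ T R I Pf K ↔ P₁ T R I Pf (K⟦(1 : ℤ)⟧) := by
  haveI : QuasiIso ((rr R).map (𝟙 K)) := by rw [CategoryTheory.Functor.map_id]; infer_instance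
  have hc := P₁_acyclic a s I Pf hzero (acyclic_map_cone (R := R) (𝟙 K))
  have h := P₁_two_three s I (mappingCone.triangleRotateShortComplex (𝟙 K))
    (mappingCone.triangleRotateShortComplexSplitting (𝟙 K)) Pf htri
  exact ⟨fun hk => h.1 hk hc, fun hk => h.2.2 hc hk⟩

include s a hzero htri in
theorem P₁_iff {K K' : CochainComplex C ℤ} (g : K ⟶ K') [QuasiIso ((rr R).map g)] :
    P₁ T R I Pf K ↔ P₁ T R I Pf K' := by
  have hc := P₁_acyclic a s I Pf hzero (acyclic_map_cone (R := R) g)
  have h := P₁_two_three s I (mappingCone.triangleRotateShortComplex g)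
    (mappingCone.triangleRotateShortComplexSplitting g) Pf htri
  rw [P₁_shift a s I Pf hzero htri K]
  exact ⟨fun hk => h.2.2 hc hk, fun hk => h.1 hk hc⟩

end Dual

end Main

end Groth.L29.DC.EvalLocal
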