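import Groth.Agent.L10.KInjFunctorial
import Groth.Agent.L29.DCoh.EvalLocal
import Groth.Agent.L10.KInj2
import Groth.Agent.L10.FilKInj

/-!
K-injective resolutions of short exact sequences of complexes by degreewise split sequences.
-/

set_option autoImplicit false
set_option backward.defeqAttrib.useBackward true
set_option backward.isDefEq.respectTransparency false
set_option backward.isDefEq.respectTransparency.types false

universe w v u

open CategoryTheory CategoryTheory.Limits CochainComplex CochainComplex.HomComplex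

namespace Groth.L29.DC.ResSES

variable {A : Type u} [Category.{v} A] [Abelian A]

/-- a map to the cone of an identity extends along monomorphisms -/
theorem exists_lift_cone {P Q J : CochainComplex A ℤ} (a : P ⟶ Q) (ha : ∀ n, Mono (a.f n))
    (hJ : ∀ n, Injective (J.X n)) (r : P ⟶ J) :
    ∃ s : Q ⟶ mappingCone (𝟙 J), a ≫ s = r ≫ mappingCone.inr (𝟙 J) := by
  haveI := ha
  haveI := hJ
  let β : Cochain Q J 0 := Cochain.ofHoms fun n => Injective.factorThru (r.f n) (a.f n)
  let α : Cocycle Q J 1 := Cocycle.mk (-(δ 0 1 β)) 2 rfl (by rw [δ_neg, δ_δ, neg_zero])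
  refine ⟨mappingCone.lift (𝟙 J) α β (by simp [α]), ?_⟩
  have hβ : (Cochain.ofHom a).comp β (zero_add 0) = Cochain.ofHom r := by
    ext p
    simp [β]
  refine HomologicalComplex.hom_ext _ _ fun p => ?_
  rw [mappingCone.ext_to_iff (𝟙 J) p (p + 1) rfl]
  refine ⟨?_, ?_⟩
  · have hv : ∀ q, a.f q ≫ β.v q q (add_zero q) = r.f q := fun q => by simp [β]
    simp [α, δ_zero_cochain_v, reassoc_of% hv, hv]
  · simp [β]

variable [IsGrothendieckAbelian.{v} A] [HasDerivedCategory.{w} A]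

/-- resolution of a short exact sequence -/
theorem exists_res (S : ShortComplex (CochainComplex A ℤ)) (hS : S.ShortExact) :
    ∃ (S' : ShortComplex (CochainComplex A ℤ)) (φ : S ⟶ S'),
      (S'.X₁.IsKInjective ∧ S'.X₂.IsKInjective ∧ S'.X₃.IsKInjective) ∧
      (QuasiIso φ.τ₁ ∧ QuasiIso φ.τ₂ ∧ QuasiIso φ.τ₃) ∧
      Nonempty (∀ n, (S'.map (HomologicalComplex.eval A (ComplexShape.up ℤ) n)).Splitting) := by
  obtain ⟨N, j, hN⟩ := Groth.L10.KInjFunctorial.exists_functorial (A := A)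
  have hA := fun n => hS.map_of_exact (HomologicalComplex.eval A (ComplexShape.up ℤ) n)
  obtain ⟨s, hs⟩ := exists_lift_cone S.f (fun n => (hA n).mono_f) (hN S.X₁).2.2.2 (j.app S.X₁)
  let C := mappingCone (𝟙 (N.obj S.X₁))
  let J₂ := N.obj S.X₂ ⊞ C
  let f' : N.obj S.X₁ ⟶ J₂ := biprod.lift (N.map S.f) (mappingCone.inr _)
  let ret : ∀ n, J₂.X n ⟶ (N.obj S.X₁).X n := fun n =>
    (biprod.snd : J₂ ⟶ C).f n ≫ (mappingCone.snd (𝟙 (N.obj S.X₁))).v n n (add_zero n)
  have hret : ∀ n, f'.f n ≫ ret n = 𝟙 _ := fun n => by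
    simp only [f', ret]
    rw [← Category.assoc, ← HomologicalComplex.comp_f, biprod.lift_snd]
    exact mappingCone.inr_f_snd_v _ n
  haveI : ∀ n, Mono (f'.f n) := fun n => mono_of_mono_fac (hret n)
  haveI : Mono f' := HomologicalComplex.mono_of_mono_f f' inferInstance
  let S' := ShortComplex.mk f' (cokernel.π f') (cokernel.condition f')
  have hS' : S'.ShortExact := { exact := ShortComplex.exact_cokernel f' }
  have hS'n := fun n => hS'.map_of_exact (HomologicalComplex.eval A (ComplexShape.up ℤ) n)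
  let σ : ∀ n, (S'.map (HomologicalComplex.eval A (ComplexShape.up ℤ) n)).Splitting := fun n =>
    ShortComplex.Splitting.ofExactOfRetraction _ (hS'n n).exact (ret n) (hret n) (hS'n n).epi_g
  let r₂ : S.X₂ ⟶ J₂ := biprod.lift (j.app S.X₂) s
  have h12 : j.app S.X₁ ≫ f' = S.f ≫ r₂ := by
    apply biprod.hom_ext
    · simp only [f', r₂, Category.assoc, biprod.lift_fst]
      exact (j.naturality S.f).symm
    · simp only [f', r₂, Category.assoc, biprod.lift_snd]
      exact hs.symm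
  have hz : S.f ≫ r₂ ≫ cokernel.π f' = 0 := by
    rw [← Category.assoc, ← h12, Category.assoc, cokernel.condition, comp_zero]
  let r₃ : S.X₃ ⟶ cokernel f' := hS.gIsCokernel.desc (CokernelCofork.ofπ (r₂ ≫ cokernel.π f') hz)
  have h23 : S.g ≫ r₃ = r₂ ≫ cokernel.π f' :=
    hS.gIsCokernel.fac (CokernelCofork.ofπ (r₂ ≫ cokernel.π f') hz) WalkingParallelPair.one
  let φ : S ⟶ S' := { τ₁ := j.app S.X₁, τ₂ := r₂, τ₃ := r₃, comm₁₂ := h12, comm₂₃ := h23.symm }
  -- homotopical facts about the contractible summand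
  let ι₂ : C ⟶ J₂ := biprod.inr
  let p₂ : J₂ ⟶ C := biprod.snd
  let H : Homotopy (p₂ ≫ ι₂) 0 :=
    (Homotopy.ofEq (congrArg (p₂ ≫ ·) (Category.id_comp ι₂).symm)).trans
      ((((mappingCone.homotopyToZeroOfId (N.obj S.X₁)).compRight ι₂).compLeft p₂).trans (Homotopy.ofEq (by simp)))
  let e : HomotopyEquiv J₂ (N.obj S.X₂) :=
    { hom := biprod.fst
      inv := biprod.inl
      homotopyHomInvId := ((Homotopy.ofEq (by simp)).trans
        (((Homotopy.refl ((biprod.fst : J₂ ⟶ _) ≫ biprod.inl)).add H.symm).trans (Homotopy.ofEq biprod.total)))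
      homotopyInvHomId := Homotopy.ofEq biprod.inl_fst }
  haveI hfst : QuasiIso (biprod.fst : J₂ ⟶ N.obj S.X₂) := HomotopyEquiv.quasiIso_hom e
  haveI h2 : QuasiIso r₂ := by
    haveI : QuasiIso (j.app S.X₂) := (hN S.X₂).2.1
    haveI : QuasiIso (r₂ ≫ (biprod.fst : J₂ ⟶ N.obj S.X₂)) := by
      rw [show r₂ ≫ (biprod.fst : J₂ ⟶ N.obj S.X₂) = j.app S.X₂ from biprod.lift_fst _ _]
      infer_instance
    exact quasiIso_of_comp_right r₂ (biprod.fst : J₂ ⟶ N.obj S.X₂)
  haveI hK2 : J₂.IsKInjective := by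
    haveI := (hN S.X₂).2.2.1
    refine ⟨fun {K} u hK => ?_⟩
    obtain ⟨h⟩ := CochainComplex.IsKInjective.nonempty_homotopy_zero (u ≫ (biprod.fst : J₂ ⟶ _)) hK
    exact ⟨(Homotopy.ofEq (by rw [← Preadditive.comp_add, biprod.total, Category.comp_id])).trans
      (((Homotopy.ofEq (Category.assoc _ _ _).symm).trans (h.compRight biprod.inl)).trans
        (Homotopy.ofEq zero_comp) |>.add ((H.compLeft u).trans (Homotopy.ofEq comp_zero)) |>.trans
          (Homotopy.ofEq (add_zero _)))⟩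
  have hK3 : S'.X₃.IsKInjective := Groth.L10.FilKInj.isKInjective_X₃ S' σ (hN S.X₁).2.2.1 hK2
  have h1 : QuasiIso φ.τ₁ := (hN S.X₁).2.1
  haveI h3 : QuasiIso φ.τ₃ := (DerivedCategory.isIso_Q_map_iff_quasiIso _ _).1
    ((EvalLocal.isIso_tri hS hS' φ).1 ((DerivedCategory.isIso_Q_map_iff_quasiIso _ _).2 h1)
      ((DerivedCategory.isIso_Q_map_iff_quasiIso _ _).2 h2))
  exact ⟨S', φ, ⟨(hN S.X₁).2.2.1, hK2, hK3⟩, ⟨h1, h2, h3⟩, ⟨σ⟩⟩

end Groth.L29.DC.ResSES
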