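import Groth.Agent.L29.DCoh.ProjMap
import Groth.Agent.L29.DCoh.ResSES
import Groth.Agent.L29.DCoh.EvalMain
import Groth.Agent.L29.DCoh.RpushRestrict

/-!
The projection map into a K-injective replacement is a quasi-isomorphism for perfect K-flat complexes.
-/

set_option autoImplicit false
set_option backward.defeqAttrib.useBackward true
set_option backward.isDefEq.respectTransparency false
set_option backward.isDefEq.respectTransparency.types false

universe u

open CategoryTheory CategoryTheory.Limits AlgebraicGeometry CochainComplex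

attribute [local instance] HasDerivedCategory.standard

namespace Groth.L29.DC.ProjQis

open Groth.L00

variable {X Y : Scheme.{u}} (f : X ⟶ Y) (I : CochainComplex X.Modules ℤ)

/-- `K ↦ I ⊗ f^* K` -/
noncomputable abbrev T (K : CochainComplex Y.Modules ℤ) : CochainComplex X.Modules ℤ :=
  (DCoh.tensorCx.obj I).obj ((Proj.pullCx f).obj K)

/-- `f_* I ⊗ K → f_* J` -/
noncomputable abbrev cmp (K : CochainComplex Y.Modules ℤ) {J : CochainComplex X.Modules ℤ} (r : T f I K ⟶ J) :
    (DCoh.tensorCx.obj ((Proj.pushCx f).obj I)).obj K ⟶ (Proj.pushCx f).obj J :=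
  Proj.proj f I K ≫ (Proj.pushCx f).map r

/-- invertibility over an open -/
def Good {U : Scheme.{u}} (j : U ⟶ Y) [IsOpenImmersion j] (K : CochainComplex Y.Modules ℤ) : Prop :=
  ∀ (J : CochainComplex X.Modules ℤ) [J.IsKInjective] (r : T f I K ⟶ J) [QuasiIso r],
    IsIso (DerivedCategory.Q.map ((ExtZero.rCx j).map (cmp f I K r)))

theorem good_of {U : Scheme.{u}} (j : U ⟶ Y) [IsOpenImmersion j] (K : CochainComplex Y.Modules ℤ)
    {J : CochainComplex X.Modules ℤ} [J.IsKInjective] (r : T f I K ⟶ J) [QuasiIso r]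
    (h : IsIso (DerivedCategory.Q.map ((ExtZero.rCx j).map (cmp f I K r)))) : Good f I j K := by
  intro J' _ r' _
  let q := HomotopyCategory.quotient X.Modules (ComplexShape.up ℤ)
  have hr : HomotopyCategory.quasiIso X.Modules _ (q.map r) :=
    (HomotopyCategory.quotient_map_mem_quasiIso_iff r).2 ((HomologicalComplex.mem_quasiIso_iff r).2 inferInstance)
  have hr' : HomotopyCategory.quasiIso X.Modules _ (q.map r') :=
    (HomotopyCategory.quotient_map_mem_quasiIso_iff r').2 ((HomologicalComplex.mem_quasiIso_iff r').2 inferInstance)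
  obtain ⟨g, hg⟩ := (Groth.L10.KInjDerived.precomp_bijective (q.map r) hr ⟨q.obj J', ‹J'.IsKInjective›⟩).surjective (q.map r')
  obtain ⟨g', hg'⟩ := (Groth.L10.KInjDerived.precomp_bijective (q.map r') hr' ⟨q.obj J, ‹J.IsKInjective›⟩).surjective (q.map r)
  have e₁ : g ≫ g' = 𝟙 _ :=
    (Groth.L10.KInjDerived.precomp_bijective (q.map r) hr ⟨q.obj J, ‹J.IsKInjective›⟩).injective
      ((Category.assoc _ _ _).symm.trans ((congrArg (· ≫ g') hg).trans (hg'.trans (Category.comp_id _).symm)))
  have e₂ : g' ≫ g = 𝟙 _ :=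
    (Groth.L10.KInjDerived.precomp_bijective (q.map r') hr' ⟨q.obj J', ‹J'.IsKInjective›⟩).injective
      ((Category.assoc _ _ _).symm.trans ((congrArg (· ≫ g) hg').trans (hg.trans (Category.comp_id _).symm)))
  obtain ⟨a, rfl⟩ := q.map_surjective g
  obtain ⟨a', rfl⟩ := q.map_surjective g'
  let e : HomotopyEquiv J J' :=
    { hom := a
      inv := a'
      homotopyHomInvId := HomotopyCategory.homotopyOfEq _ _ ((q.map_comp a a').trans (e₁.trans (q.map_id J).symm))
      homotopyInvHomId := HomotopyCategory.homotopyOfEq _ _ ((q.map_comp a' a).trans (e₂.trans (q.map_id J').symm)) }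
  have H : Homotopy (r ≫ a) r' := HomotopyCategory.homotopyOfEq _ _ ((q.map_comp r a).trans hg)
  haveI := Groth.L17.PushQCoh.additive_push f
  let G := Scheme.Modules.pushforward f ⋙ Scheme.Modules.restrictFunctor j
  let H' := (ExtZero.res j).mapHomotopy
    ((((Scheme.Modules.pushforward f).mapHomotopy H)).compLeft (Proj.proj f I K))
  haveI : IsIso (DerivedCategory.Q.map ((ExtZero.rCx j).map ((Proj.pushCx f).map a))) := by
    let e' := (ExtZero.res j).mapHomotopyEquiv ((Scheme.Modules.pushforward f).mapHomotopyEquiv e)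
    exact (DerivedCategory.isIso_Q_map_iff_quasiIso _ _).2 (HomotopyEquiv.quasiIso_hom e')
  have h' := DerivedCategory.Q_map_eq_of_homotopy _ H'
  refine (congrArg IsIso h').mp ?_
  rw [Functor.map_comp (Proj.pushCx f), ← Category.assoc, Functor.map_comp, Functor.map_comp]
  exact IsIso.comp_isIso' h inferInstance

theorem shortExact_T (S : ShortComplex (CochainComplex Y.Modules ℤ))
    (σ : ∀ n, (S.map (HomologicalComplex.eval Y.Modules (ComplexShape.up ℤ) n)).Splitting) :
    ∃ w, (ShortComplex.mk (X₁ := T f I S.X₁) (X₂ := T f I S.X₂) (X₃ := T f I S.X₃)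
      ((DCoh.tensorCx.obj I).map ((Proj.pullCx f).map S.f))
      ((DCoh.tensorCx.obj I).map ((Proj.pullCx f).map S.g)) w).ShortExact := by
  haveI : (Scheme.Modules.pullback f).Additive :=
    (Scheme.Modules.pullbackPushforwardAdjunction f).left_adjoint_additive
  exact (Eval.setting (𝟙 X)).shortExact I (S.map (Proj.pullCx f))
    (fun n => (σ n).map (Scheme.Modules.pullback f))

section Open

variable {U : Scheme.{u}} (j : U ⟶ Y) [IsOpenImmersion j]

theorem two_three (S : ShortComplex (CochainComplex Y.Modules ℤ))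
    (σ : ∀ n, (S.map (HomologicalComplex.eval Y.Modules (ComplexShape.up ℤ) n)).Splitting) :
    (Good f I j S.X₁ → Good f I j S.X₂ → Good f I j S.X₃) ∧
    (Good f I j S.X₁ → Good f I j S.X₃ → Good f I j S.X₂) ∧
    (Good f I j S.X₂ → Good f I j S.X₃ → Good f I j S.X₁) := by
  haveI := Groth.L00.Tensor.grothendieckAbelian_modules X
  haveI := Groth.L17.PushQCoh.additive_push f
  haveI := ExtZero.preservesFiniteLimits j
  obtain ⟨w, hT⟩ := shortExact_T f I S σ
  obtain ⟨S', φ, ⟨k₁, k₂, k₃⟩, ⟨q₁, q₂, q₃⟩, ⟨σ'⟩⟩ := ResSES.exists_res _ hT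
  obtain ⟨w', h1⟩ := (Eval.setting j).shortExact ((Proj.pushCx f).obj I) S σ
  let row₁ := ShortComplex.mk _ _ w'
  let row₂ := S'.map (Proj.pushCx f)
  have h2 : row₂.ShortExact := HomologicalComplex.shortExact_of_degreewise_shortExact _
    fun n => ((σ' n).map (Scheme.Modules.pushforward f)).shortExact
  let Φ : row₁ ⟶ row₂ :=
    { τ₁ := cmp f I S.X₁ φ.τ₁
      τ₂ := cmp f I S.X₂ φ.τ₂
      τ₃ := cmp f I S.X₃ φ.τ₃
      comm₁₂ := by
        refine Eq.symm ?_
        refine (Category.assoc _ _ _).symm.trans ?_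
        rw [Proj.proj_natural f I S.X₁ S.f, Category.assoc]
        refine Eq.trans ?_ (Category.assoc _ _ _).symm
        exact congrArg (Proj.proj f I S.X₁ ≫ ·) (((Proj.pushCx f).map_comp _ _).symm.trans
          ((congrArg (Proj.pushCx f).map φ.comm₁₂.symm).trans ((Proj.pushCx f).map_comp _ _)))
      comm₂₃ := by
        refine Eq.symm ?_
        refine (Category.assoc _ _ _).symm.trans ?_
        rw [Proj.proj_natural f I S.X₂ S.g, Category.assoc]
        refine Eq.trans ?_ (Category.assoc _ _ _).symm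
        exact congrArg (Proj.proj f I S.X₂ ≫ ·) (((Proj.pushCx f).map_comp _ _).symm.trans
          ((congrArg (Proj.pushCx f).map φ.comm₂₃.symm).trans ((Proj.pushCx f).map_comp _ _))) }
  obtain ⟨p₁, p₂, p₃⟩ := EvalLocal.isIso_tri (h1.map_of_exact (ExtZero.rCx j)) (h2.map_of_exact (ExtZero.rCx j))
    ((ExtZero.rCx j).mapShortComplex.map Φ)
  exact ⟨fun a b => good_of f I j _ φ.τ₃ (p₁ (a _ φ.τ₁) (b _ φ.τ₂)),
    fun a b => good_of f I j _ φ.τ₂ (p₂ (a _ φ.τ₁) (b _ φ.τ₃)),
    fun a b => good_of f I j _ φ.τ₁ (p₃ (a _ φ.τ₂) (b _ φ.τ₃))⟩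

/-- pullback commutes with restriction -/
noncomputable def pullResIso {U' : Scheme.{u}} (ι : U' ⟶ X) [IsOpenImmersion ι] (g : U' ⟶ U)
    (w : g ≫ j = ι ≫ f) :
    Scheme.Modules.pullback f ⋙ Scheme.Modules.restrictFunctor ι ≅
      Scheme.Modules.restrictFunctor j ⋙ Scheme.Modules.pullback g :=
  Functor.isoWhiskerLeft _ (Scheme.Modules.restrictFunctorIsoPullback ι) ≪≫
    Scheme.Modules.pullbackComp ι f ≪≫ Scheme.Modules.pullbackCongr w.symm ≪≫
    (Scheme.Modules.pullbackComp g j).symm ≪≫
    Functor.isoWhiskerRight (Scheme.Modules.restrictFunctorIsoPullback j).symm _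

theorem good_acyclic (K : CochainComplex Y.Modules ℤ) (hK : DCoh.IsKFlat K)
    (h : ((ExtZero.rCx j).obj K).Acyclic) : Good f I j K := by
  intro J _ r _
  haveI := Groth.L17.PushQCoh.additive_push f
  let ι := (f ⁻¹ᵁ j.opensRange).ι
  let g := IsOpenImmersion.lift j (ι ≫ f) (by
    rintro _ ⟨x, rfl⟩
    exact x.2)
  have w : g ≫ j = ι ≫ f := IsOpenImmersion.lift_fac _ _ _
  haveI := Groth.L17.PushQCoh.additive_push g
  haveI : (Scheme.Modules.pullback f).Additive :=
    (Scheme.Modules.pullbackPushforwardAdjunction f).left_adjoint_additive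
  haveI : (Scheme.Modules.pullback g).Additive :=
    (Scheme.Modules.pullbackPushforwardAdjunction g).left_adjoint_additive
  haveI := ExtZero.preservesFiniteLimits ι
  let e : (ExtZero.rCx ι).obj ((Proj.pullCx f).obj K) ≅ (Proj.pullCx g).obj ((ExtZero.rCx j).obj K) :=
    (DerivedApi.mapCxCompIso (Scheme.Modules.pullback f) (Scheme.Modules.restrictFunctor ι)).app K ≪≫
      (NatIso.mapHomologicalComplex (pullResIso f j ι g w) (ComplexShape.up ℤ)).app K ≪≫
      ((DerivedApi.mapCxCompIso (Scheme.Modules.restrictFunctor j) (Scheme.Modules.pullback g)).app K).symm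
  have hp : ((ExtZero.rCx ι).obj ((Proj.pullCx f).obj K)).Acyclic :=
    Eval.acyclic_of_iso e.symm fun i => (HomologicalComplex.exactAt_iff_isZero_homology _ _).2
      (KFlat.acyclic_pullback g _ (isKFlat_restrict j hK)
        (fun k => (HomologicalComplex.exactAt_iff_isZero_homology _ _).1 (h k)) i)
  have hT : ((ExtZero.rCx ι).obj (T f I K)).Acyclic :=
    (Eval.setting ι).tensor I (KFlat.pullback_kflat f K hK) hp
  have hJ : ((ExtZero.rCx ι).obj J).Acyclic := fun i => by
    haveI : QuasiIso ((ExtZero.rCx ι).map r) := inferInstance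
    exact (quasiIsoAt_iff_exactAt ((ExtZero.rCx ι).map r) i (hT i)).1 inferInstance
  haveI : CochainComplex.IsKInjective ((ExtZero.rCx ι).obj J) := RpushRes.isKInjective_res ι J
  obtain ⟨c⟩ := CochainComplex.IsKInjective.nonempty_homotopy_zero (𝟙 ((ExtZero.rCx ι).obj J)) hJ
  have hg : ((Proj.pushCx g).obj ((ExtZero.rCx ι).obj J)).Acyclic := fun i => by
    rw [HomologicalComplex.exactAt_iff_isZero_homology, IsZero.iff_id_eq_zero, ← HomologicalComplex.homologyMap_id,
      ← HomologicalComplex.homologyMap_zero]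
    exact ((Homotopy.ofEq ((Proj.pushCx g).map_id _).symm).trans
      (((Scheme.Modules.pushforward g).mapHomotopy c).trans (Homotopy.ofEq ((Proj.pushCx g).map_zero _ _)))).homologyMap_eq i
  let e' : (ExtZero.rCx j).obj ((Proj.pushCx f).obj J) ≅ (Proj.pushCx g).obj ((ExtZero.rCx ι).obj J) :=
    (DerivedApi.mapCxCompIso (Scheme.Modules.pushforward f) (Scheme.Modules.restrictFunctor j)).app J ≪≫
      (NatIso.mapHomologicalComplex (Groth.L17.PushQCoh.pushRestrictIso f j ι g
        (by rw [Scheme.Opens.opensRange_ι]) w) (ComplexShape.up ℤ)).app J ≪≫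
      ((DerivedApi.mapCxCompIso (Scheme.Modules.restrictFunctor ι) (Scheme.Modules.pushforward g)).app J).symm
  exact (EvalLocal.isZero_Q_of_acyclic ((Eval.setting j).tensor _ hK h)).isIso
    (EvalLocal.isZero_Q_of_acyclic (Eval.acyclic_of_iso e'.symm hg)) _

theorem acyclic_map_cone {K K' : CochainComplex Y.Modules ℤ} (g : K ⟶ K') [QuasiIso ((ExtZero.rCx j).map g)] :
    ((ExtZero.rCx j).obj (mappingCone g)).Acyclic :=
  haveI := ExtZero.preservesFiniteLimits j
  EvalLocal.acyclic_map_cone g

theorem good_shift (K : CochainComplex Y.Modules ℤ) (hK : DCoh.IsKFlat K) :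
    Good f I j K ↔ Good f I j (K⟦(1 : ℤ)⟧) := by
  haveI : QuasiIso ((ExtZero.rCx j).map (𝟙 K)) := by rw [CategoryTheory.Functor.map_id]; infer_instance
  have hc : Good f I j (mappingCone (𝟙 K)) :=
    good_acyclic f I j _ (KFlat.isKFlat_cone _ hK hK) (acyclic_map_cone j _)
  have h := two_three f I j (mappingCone.triangleRotateShortComplex (𝟙 K))
    (mappingCone.triangleRotateShortComplexSplitting (𝟙 K))
  exact ⟨fun hk => h.1 hk hc, fun hk => h.2.2 hc hk⟩

theorem good_iff {K K' : CochainComplex Y.Modules ℤ} (g : K ⟶ K') (hK : DCoh.IsKFlat K) (hK' : DCoh.IsKFlat K')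
    [QuasiIso ((ExtZero.rCx j).map g)] : Good f I j K ↔ Good f I j K' := by
  have hc : Good f I j (mappingCone g) :=
    good_acyclic f I j _ (KFlat.isKFlat_cone g hK hK') (acyclic_map_cone j g)
  have h := two_three f I j (mappingCone.triangleRotateShortComplex g)
    (mappingCone.triangleRotateShortComplexSplitting g)
  rw [good_shift f I j K hK]
  exact ⟨fun hk => h.2.2 hc hk, fun hk => h.1 hk hc⟩

end Open

theorem good_unit [I.IsKInjective] {U : Scheme.{u}} (j : U ⟶ Y) [IsOpenImmersion j] :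
    Good f I j (RHom.O0 Y) := by
  haveI := Groth.L17.PushQCoh.additive_push f
  haveI : (Scheme.Modules.pullback f).Additive :=
    (Scheme.Modules.pullbackPushforwardAdjunction f).left_adjoint_additive
  let e : T f I (RHom.O0 Y) ≅ I :=
    (DCoh.tensorCx.obj I).mapIso
      ((HomologicalComplex.singleMapHomologicalComplex (Scheme.Modules.pullback f) (ComplexShape.up ℤ) 0).app _ ≪≫
        (HomologicalComplex.single X.Modules (ComplexShape.up ℤ) 0).mapIso (Groth.L29.LocFree.pullbackUnitIso f)) ≪≫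
      RHom.unitCxIso.app I
  haveI := Proj.isIso_proj f I (RHom.O0 Y) RHom.isStrictlyPerfect_O0
  refine good_of f I j _ e.hom ?_
  haveI : IsIso (cmp f I (RHom.O0 Y) e.hom) := IsIso.comp_isIso
  infer_instance

theorem locProp [I.IsKInjective] : EvalPerf.LocProp (X := Y) (fun j _ K => Good f I j K) where
  unit j _ := good_unit f I j
  acyclic j _ K hK h := good_acyclic f I j K hK h
  middle j _ S σ h₁ h₃ := (two_three f I j S σ).2.1 h₁ h₃
  shift j _ K hK := good_shift f I j K hK
  iff j _ _ _ g hK hK' hg := good_iff f I j g hK hK'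
  loc j _ K h := by
    intro J _ r _
    refine EvalMain.isIso_Q_of_local _ fun y => ?_
    obtain ⟨W, hy, hW⟩ := h y
    exact ⟨W, hy, (NatIso.isIso_map_iff
      (Functor.isoWhiskerRight (resTransCx j W.ι (W.ι ≫ j) rfl) DerivedCategory.Q) _).2 (hW J r)⟩

/-- the projection map is a quasi-isomorphism for perfect K-flat complexes -/
theorem isIso_cmp [I.IsKInjective] {P : CochainComplex Y.Modules ℤ} (hP : DCoh.IsKFlat P)
    (hperf : DCoh.IsPerfect (DerivedCategory.Q.obj P)) {J : CochainComplex X.Modules ℤ} [J.IsKInjective]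
    (r : T f I P ⟶ J) [QuasiIso r] : IsIso (DerivedCategory.Q.map (cmp f I P r)) := by
  refine EvalMain.isIso_Q_of_local _ fun y => ?_
  obtain ⟨V, hy, hV⟩ := EvalPerf.of_perfect (locProp f I) hP hperf y
  exact ⟨V, hy, hV J r⟩

end Groth.L29.DC.ProjQis
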