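import Groth.Agent.L29.DCoh.TensorAssoc

/-!
The associator of total complexes is natural in the second and third complex.
-/

set_option autoImplicit false
set_option backward.isDefEq.respectTransparency false
set_option backward.isDefEq.respectTransparency.types false

open CategoryTheory CategoryTheory.Limits CochainComplex HomologicalComplex

namespace Groth.L29.DC.AssocNat

variable {C : Type*} [Category C] [Preadditive C] {T : C ⥤ C ⥤ C} [T.Additive]
  [∀ M, (T.obj M).Additive] [∀ K L : CochainComplex C ℤ, HomologicalComplex.HasMapBifunctor K L T (ComplexShape.up ℤ)]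
  [h₁ : ∀ P K L : CochainComplex C ℤ,
    HasGoodTrifunctor₁₂Obj T T P K L (ComplexShape.up ℤ) (ComplexShape.up ℤ)]
  [h₂ : ∀ P K L : CochainComplex C ℤ,
    HasGoodTrifunctor₂₃Obj T T P K L (ComplexShape.up ℤ) (ComplexShape.up ℤ) (ComplexShape.up ℤ)]

theorem associator_natural₂ (a : bifunctorComp₁₂ T T ≅ bifunctorComp₂₃ T T)
    (K₁ : CochainComplex C ℤ) {K₂ K₂' : CochainComplex C ℤ} (f : K₂ ⟶ K₂') (K₃ : CochainComplex C ℤ) :
    mapBifunctorMap (mapBifunctorMap (𝟙 K₁) f T (ComplexShape.up ℤ)) (𝟙 K₃) T (ComplexShape.up ℤ) ≫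
        (mapBifunctorAssociator a K₁ K₂' K₃ (ComplexShape.up ℤ) (ComplexShape.up ℤ) (ComplexShape.up ℤ)).hom =
      (mapBifunctorAssociator a K₁ K₂ K₃ (ComplexShape.up ℤ) (ComplexShape.up ℤ) (ComplexShape.up ℤ)).hom ≫
        mapBifunctorMap (𝟙 K₁) (mapBifunctorMap f (𝟙 K₃) T (ComplexShape.up ℤ)) T (ComplexShape.up ℤ) := by
  refine HomologicalComplex.hom_ext _ _ fun j => ?_
  refine mapBifunctor₁₂.hom_ext fun i₁ i₂ i₃ h => ?_
  simp only [HomologicalComplex.comp_f, mapBifunctorAssociator, Hom.isoOfComponents_hom_f]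
  rw [ι_mapBifunctorAssociatorX_hom_assoc]
  rw [mapBifunctor₁₂.ι_eq _ _ _ _ _ _ _ i₁ i₂ i₃ (i₁ + i₂) j rfl h,
    mapBifunctor₂₃.ι_eq _ _ _ _ _ _ _ _ i₁ i₂ i₃ (i₂ + i₃) j rfl
      (by rw [← h]; exact (add_assoc _ _ _).symm)]
  simp only [Category.assoc, ι_mapBifunctorMap_assoc, ι_mapBifunctorMap]
  simp only [HomologicalComplex.id_f, CategoryTheory.Functor.map_id, Category.id_comp, NatTrans.id_app]
  rw [← NatTrans.comp_app_assoc, ← Functor.map_comp, ι_mapBifunctorMap]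
  simp only [HomologicalComplex.id_f, CategoryTheory.Functor.map_id, Category.id_comp, NatTrans.id_app]
  rw [Functor.map_comp, NatTrans.comp_app_assoc,
    ← reassoc_of% (mapBifunctor₁₂.ι_eq T T K₁ K₂' K₃ (ComplexShape.up ℤ) (ComplexShape.up ℤ) i₁ i₂ i₃ (i₁ + i₂) j rfl h),
    ι_mapBifunctorAssociatorX_hom,
    mapBifunctor₂₃.ι_eq _ _ _ _ _ _ _ _ i₁ i₂ i₃ (i₂ + i₃) j rfl
      (by rw [← h]; exact (add_assoc _ _ _).symm), ← Functor.map_comp_assoc, ι_mapBifunctorMap]
  simp only [HomologicalComplex.id_f, CategoryTheory.Functor.map_id, Category.id_comp, NatTrans.id_app,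
    Functor.map_comp, Category.assoc]
  exact (Category.assoc _ _ _).symm.trans
    ((congrArg (fun t => t ≫ _) (congrArg (fun t => NatTrans.app t (K₃.X i₃))
      ((a.hom.app (K₁.X i₁)).naturality (f.f i₂)))).trans
      (Category.assoc _ _ _))

theorem associator_natural₃ (a : bifunctorComp₁₂ T T ≅ bifunctorComp₂₃ T T)
    (K₁ K₂ : CochainComplex C ℤ) {K₃ K₃' : CochainComplex C ℤ} (f : K₃ ⟶ K₃') :
    mapBifunctorMap (𝟙 (mapBifunctor K₁ K₂ T (ComplexShape.up ℤ))) f T (ComplexShape.up ℤ) ≫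
        (mapBifunctorAssociator a K₁ K₂ K₃' (ComplexShape.up ℤ) (ComplexShape.up ℤ) (ComplexShape.up ℤ)).hom =
      (mapBifunctorAssociator a K₁ K₂ K₃ (ComplexShape.up ℤ) (ComplexShape.up ℤ) (ComplexShape.up ℤ)).hom ≫
        mapBifunctorMap (𝟙 K₁) (mapBifunctorMap (𝟙 K₂) f T (ComplexShape.up ℤ)) T (ComplexShape.up ℤ) := by
  refine HomologicalComplex.hom_ext _ _ fun j => ?_
  refine mapBifunctor₁₂.hom_ext fun i₁ i₂ i₃ h => ?_
  simp only [HomologicalComplex.comp_f, mapBifunctorAssociator, Hom.isoOfComponents_hom_f]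
  rw [ι_mapBifunctorAssociatorX_hom_assoc]
  rw [mapBifunctor₁₂.ι_eq _ _ _ _ _ _ _ i₁ i₂ i₃ (i₁ + i₂) j rfl h,
    mapBifunctor₂₃.ι_eq _ _ _ _ _ _ _ _ i₁ i₂ i₃ (i₂ + i₃) j rfl
      (by rw [← h]; exact (add_assoc _ _ _).symm)]
  simp only [Category.assoc, ι_mapBifunctorMap_assoc, ι_mapBifunctorMap]
  simp only [HomologicalComplex.id_f, CategoryTheory.Functor.map_id, Category.id_comp, NatTrans.id_app]
  rw [← NatTrans.naturality_assoc,
    ← reassoc_of% (mapBifunctor₁₂.ι_eq T T K₁ K₂ K₃' (ComplexShape.up ℤ) (ComplexShape.up ℤ) i₁ i₂ i₃ (i₁ + i₂) j rfl h),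
    ι_mapBifunctorAssociatorX_hom,
    mapBifunctor₂₃.ι_eq _ _ _ _ _ _ _ _ i₁ i₂ i₃ (i₂ + i₃) j rfl
      (by rw [← h]; exact (add_assoc _ _ _).symm), ← Functor.map_comp_assoc, ι_mapBifunctorMap]
  simp only [HomologicalComplex.id_f, CategoryTheory.Functor.map_id, Category.id_comp, NatTrans.id_app,
    Functor.map_comp, Category.assoc]
  exact (Category.assoc _ _ _).symm.trans
    ((congrArg (fun t => t ≫ _) (((a.hom.app (K₁.X i₁)).app (K₂.X i₂)).naturality (f.f i₃))).trans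
      (Category.assoc _ _ _))

theorem functor_natural₂ (a : bifunctorComp₁₂ T T ≅ bifunctorComp₂₃ T T)
    (P : CochainComplex C ℤ) {K K' : CochainComplex C ℤ} (g : K ⟶ K') (L : CochainComplex C ℤ) :
    (T.map₂CochainComplex.map ((T.map₂CochainComplex.obj P).map g)).app L ≫
        (Assoc.assocFunctor' a K' L (fun P => h₁ P K' L) (fun P => h₂ P K' L)).hom.app P =
      (Assoc.assocFunctor' a K L (fun P => h₁ P K L) (fun P => h₂ P K L)).hom.app P ≫
        (T.map₂CochainComplex.obj P).map ((T.map₂CochainComplex.map g).app L) :=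
  associator_natural₂ a P g L

theorem functor_natural₃ (a : bifunctorComp₁₂ T T ≅ bifunctorComp₂₃ T T)
    (P K : CochainComplex C ℤ) {L L' : CochainComplex C ℤ} (g : L ⟶ L') :
    (T.map₂CochainComplex.obj ((T.map₂CochainComplex.obj P).obj K)).map g ≫
        (Assoc.assocFunctor' a K L' (fun P => h₁ P K L') (fun P => h₂ P K L')).hom.app P =
      (Assoc.assocFunctor' a K L (fun P => h₁ P K L) (fun P => h₂ P K L)).hom.app P ≫
        (T.map₂CochainComplex.obj P).map ((T.map₂CochainComplex.obj K).map g) :=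
  associator_natural₃ a P K g

end Groth.L29.DC.AssocNat
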