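import Groth.Agent.L10.LocalDetect
import Mathlib.Algebra.Homology.DerivedCategory.HomologySequence
import Mathlib.CategoryTheory.Triangulated.Basic

/-!
Right adjoints of functors fitting into exact triangles give exact sequences of cohomology objects.
-/

set_option autoImplicit false
set_option backward.defeqAttrib.useBackward true
set_option backward.isDefEq.respectTransparency false
set_option backward.isDefEq.respectTransparency.types false

universe w v u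

open CategoryTheory CategoryTheory.Limits DerivedCategory

namespace Groth.L29.DC.RHomExact

section Mate

variable {D : Type u} [Category.{v} D] [Preadditive D] {F₁ F₂ F₃ : D ⥤ D} {R₁ R₂ R₃ : D ⥤ D}
  (a₁ : F₁ ⊣ R₁) (a₂ : F₂ ⊣ R₂) (a₃ : F₃ ⊣ R₃)

/-- the map of right adjoints induced by a map of left adjoints -/
noncomputable def mate (τ : F₁ ⟶ F₂) (L : D) : R₂.obj L ⟶ R₁.obj L :=
  a₁.homEquiv _ _ (τ.app _ ≫ a₂.counit.app L)

theorem symm_comp_mate (τ : F₁ ⟶ F₂) {M L : D} (ξ : M ⟶ R₂.obj L) :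
    (a₁.homEquiv M L).symm (ξ ≫ mate a₁ a₂ τ L) = τ.app M ≫ (a₂.homEquiv M L).symm ξ := by
  rw [Adjunction.homEquiv_naturality_left_symm, mate, Equiv.symm_apply_apply, Adjunction.homEquiv_counit,
    τ.naturality_assoc]

theorem symm_zero {F R : D ⥤ D} (a : F ⊣ R) [F.Additive] (M L : D) :
    (a.homEquiv M L).symm 0 = 0 := by
  rw [Adjunction.homEquiv_counit, F.map_zero, zero_comp]

theorem mate_comp_mate (τ : F₁ ⟶ F₂) (σ : F₂ ⟶ F₃) [F₁.Additive] (h : ∀ M, τ.app M ≫ σ.app M = 0) (L : D) :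
    mate a₂ a₃ σ L ≫ mate a₁ a₂ τ L = 0 := by
  apply (a₁.homEquiv _ _).symm.injective
  rw [symm_zero, symm_comp_mate, ← Category.id_comp (mate a₂ a₃ σ L), symm_comp_mate, ← Category.assoc, h,
    zero_comp]

theorem exact_hom (τ : F₁ ⟶ F₂) (σ : F₂ ⟶ F₃) [F₁.Additive] (L : D)
    (h : ∀ M (g : F₂.obj M ⟶ L), τ.app M ≫ g = 0 → ∃ k, σ.app M ≫ k = g) {M : D} (ξ : M ⟶ R₂.obj L)
    (hξ : ξ ≫ mate a₁ a₂ τ L = 0) : ∃ ζ, ζ ≫ mate a₂ a₃ σ L = ξ := by
  obtain ⟨k, hk⟩ := h M ((a₂.homEquiv M L).symm ξ) (by rw [← symm_comp_mate a₁ a₂ τ ξ, hξ, symm_zero])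
  refine ⟨a₃.homEquiv _ _ k, (a₂.homEquiv _ _).symm.injective ?_⟩
  rw [symm_comp_mate, Equiv.symm_apply_apply, hk]

end Mate

section Derived

variable {C : Type u} [Category.{v} C] [Abelian C] [HasDerivedCategory.{w} C]
  [Groth.L10.KInjDerived.EnoughKInjectives C]

/-- exactness on morphisms gives exactness on `H⁰` -/
theorem exact_H0 {A B E : DerivedCategory C} (f : A ⟶ B) (g : B ⟶ E) (w : f ≫ g = 0)
    (h : ∀ (M : DerivedCategory C) (ξ : M ⟶ B), ξ ≫ g = 0 → ∃ ζ, ζ ≫ f = ξ) :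
    (ShortComplex.mk ((homologyFunctor C 0).map f) ((homologyFunctor C 0).map g)
      (by rw [← Functor.map_comp, w, Functor.map_zero])).Exact := by
  rw [ShortComplex.exact_iff_exact_up_to_refinements]
  intro T y hy
  obtain ⟨T₁, p₁, hp₁, ξ, hξ⟩ := Groth.L10.LocalDetect.exists_lift y
  obtain ⟨T₂, p₂, hp₂, h₂⟩ := Groth.L10.LocalDetect.exists_eq_zero (ξ ≫ g) (by
    rw [Groth.L10.LocalDetect.cls_comp, hξ, Category.assoc]
    exact (congrArg (p₁ ≫ ·) hy).trans comp_zero)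
  obtain ⟨ζ, hζ⟩ := h _ ((singleFunctor C 0).map p₂ ≫ ξ) (by rw [Category.assoc, h₂])
  refine ⟨T₂, p₂ ≫ p₁, epi_comp _ _, Groth.L10.LocalDetect.cls ζ, ?_⟩
  refine Eq.trans ?_ (Groth.L10.LocalDetect.cls_comp ζ f)
  rw [hζ, Groth.L10.LocalDetect.cls_map, hξ, Category.assoc]

/-- exactness on morphisms gives exactness in all degrees -/
theorem exact_H {A B E : DerivedCategory C} (f : A ⟶ B) (g : B ⟶ E) (w : f ≫ g = 0)
    (h : ∀ (M : DerivedCategory C) (ξ : M ⟶ B), ξ ≫ g = 0 → ∃ ζ, ζ ≫ f = ξ) (i : ℤ) :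
    (ShortComplex.mk ((homologyFunctor C i).map f) ((homologyFunctor C i).map g)
      (by rw [← Functor.map_comp, w, Functor.map_zero])).Exact := by
  let s := shiftFunctor (DerivedCategory C) i
  have h0 := exact_H0 (s.map f) (s.map g) (by rw [← Functor.map_comp, w, Functor.map_zero]) (fun M ξ hξ => by
    obtain ⟨ζ, hζ⟩ := h _ (s.preimage ((s.objObjPreimageIso M).hom ≫ ξ))
      (s.map_injective (by rw [Functor.map_comp, Functor.map_preimage, Category.assoc, hξ, comp_zero, Functor.map_zero]))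
    refine ⟨(s.objObjPreimageIso M).inv ≫ s.map ζ, ?_⟩
    rw [Category.assoc, ← Functor.map_comp, hζ, Functor.map_preimage, Iso.inv_hom_id_assoc])
  refine (ShortComplex.exact_iff_of_iso ?_).1 h0
  exact ShortComplex.isoMk (((homologyFunctor C 0).shiftIso i 0 i (add_zero i)).app A)
    (((homologyFunctor C 0).shiftIso i 0 i (add_zero i)).app B)
    (((homologyFunctor C 0).shiftIso i 0 i (add_zero i)).app E)
    (((homologyFunctor C 0).shiftIso i 0 i (add_zero i)).hom.naturality f).symm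
    (((homologyFunctor C 0).shiftIso i 0 i (add_zero i)).hom.naturality g).symm

end Derived

section Five

variable {C : Type u} [Category.{v} C] [Abelian C]

/-- the middle of a five term exact sequence is an extension -/
theorem shortExact_middle {A₀ A₁ A₂ A₃ A₄ : C} (f₀ : A₀ ⟶ A₁) (f₁ : A₁ ⟶ A₂) (f₂ : A₂ ⟶ A₃) (f₃ : A₃ ⟶ A₄)
    (w₁ : f₀ ≫ f₁ = 0) (w₂ : f₁ ≫ f₂ = 0) (w₃ : f₂ ≫ f₃ = 0)
    (e₁ : (ShortComplex.mk f₀ f₁ w₁).Exact) (e₂ : (ShortComplex.mk f₁ f₂ w₂).Exact)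
    (e₃ : (ShortComplex.mk f₂ f₃ w₃).Exact) :
    (ShortComplex.mk (cokernel.desc f₀ f₁ w₁) (kernel.lift f₃ f₂ w₃)
      (by rw [← cancel_epi (cokernel.π f₀), ← cancel_mono (kernel.ι f₃)]; simp [w₂])).ShortExact where
  mono_f := e₁.mono_cokernelDesc
  epi_g := e₃.epi_kernelLift
  exact := by
    let S₀ := ShortComplex.mk f₁ f₂ w₂
    let S₁ := ShortComplex.mk (cokernel.desc f₀ f₁ w₁) f₂ (by rw [← cancel_epi (cokernel.π f₀)]; simp [w₂])
    let S₂ := ShortComplex.mk (cokernel.desc f₀ f₁ w₁) (kernel.lift f₃ f₂ w₃)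
      (by rw [← cancel_epi (cokernel.π f₀), ← cancel_mono (kernel.ι f₃)]; simp [w₂])
    let φ : S₀ ⟶ S₁ := { τ₁ := cokernel.π f₀, τ₂ := 𝟙 _, τ₃ := 𝟙 _ }
    let ψ : S₂ ⟶ S₁ := { τ₁ := 𝟙 _, τ₂ := 𝟙 _, τ₃ := kernel.ι f₃ }
    haveI : Epi φ.τ₁ := inferInstanceAs (Epi (cokernel.π f₀))
    haveI : IsIso φ.τ₂ := inferInstanceAs (IsIso (𝟙 A₂))
    haveI : Mono φ.τ₃ := inferInstanceAs (Mono (𝟙 A₃))
    haveI : Epi ψ.τ₁ := inferInstanceAs (Epi (𝟙 (cokernel f₀)))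
    haveI : IsIso ψ.τ₂ := inferInstanceAs (IsIso (𝟙 A₂))
    haveI : Mono ψ.τ₃ := inferInstanceAs (Mono (kernel.ι f₃))
    exact (ShortComplex.exact_iff_of_epi_of_isIso_of_mono ψ).2
      ((ShortComplex.exact_iff_of_epi_of_isIso_of_mono φ).1 e₂)

end Five

end Groth.L29.DC.RHomExact
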