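import Groth.Agent.L29.DCoh.DerRight
import Groth.Agent.L29.DCoh.RHomExact
import Mathlib.Algebra.Homology.HomotopyCategory.DegreewiseSplit
import Mathlib.Algebra.Homology.HomotopyCategory.KInjective

/-!
Internal Hom complexes into K-injective complexes, for an abstract tensor bifunctor of complexes: degreewise split
exactness in the first variable and locality of acyclicity.
-/

set_option autoImplicit false
set_option backward.defeqAttrib.useBackward true
set_option backward.isDefEq.respectTransparency false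
set_option backward.isDefEq.respectTransparency.types false

universe v u v' u'

open CategoryTheory CategoryTheory.Limits CochainComplex

namespace Groth.L29.DC.HomCx

variable {C : Type u} [Category.{v} C] [Abelian C]
  (Φ : CochainComplex C ℤ ⥤ CochainComplex C ℤ ⥤ CochainComplex C ℤ) [∀ X, (Φ.obj X).IsLeftAdjoint]

/-- properties of tensor products -/
structure Data : Prop where
  additive : ∀ X, (Φ.obj X).Additive
  map_comp_zero : ∀ (S : ShortComplex (CochainComplex C ℤ)) P, (Φ.map S.f).app P ≫ (Φ.map S.g).app P = 0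
  shortExact : ∀ (S : ShortComplex (CochainComplex C ℤ))
    (_ : ∀ n, (S.map (HomologicalComplex.eval C (ComplexShape.up ℤ) n)).Splitting) P,
    (ShortComplex.mk ((Φ.map S.f).app P) ((Φ.map S.g).app P) (map_comp_zero S P)).ShortExact
  retract : ∀ (S : ShortComplex (CochainComplex C ℤ))
    (_ : ∀ n, (S.map (HomologicalComplex.eval C (ComplexShape.up ℤ) n)).Splitting) P,
    ∃ r : ∀ n, ((Φ.obj S.X₂).obj P).X n ⟶ ((Φ.obj S.X₁).obj P).X n,
      ∀ n, ((Φ.map S.f).app P).f n ≫ r n = 𝟙 _
  retractObj : ∀ X P : CochainComplex C ℤ,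
    ∃ r : ∀ n, ((Φ.obj X).obj (mappingCone (𝟙 P))).X n ⟶ ((Φ.obj X).obj P).X n,
      ∀ n, ((Φ.obj X).map (mappingCone.inr (𝟙 P))).f n ≫ r n = 𝟙 _
  contractible : ∀ X P : CochainComplex C ℤ, ((Φ.obj X).obj (mappingCone (𝟙 P))).Acyclic

/-- the internal Hom complex -/
noncomputable abbrev H (X : CochainComplex C ℤ) : CochainComplex C ℤ ⥤ CochainComplex C ℤ :=
  (Φ.obj X).rightAdjoint

/-- the adjunction -/
noncomputable abbrev adj (X : CochainComplex C ℤ) : Φ.obj X ⊣ H Φ X := Adjunction.ofIsLeftAdjoint _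

/-- contravariance in the first variable -/
noncomputable def m {X Y : CochainComplex C ℤ} (g : X ⟶ Y) (J : CochainComplex C ℤ) :
    (H Φ Y).obj J ⟶ (H Φ X).obj J :=
  RHomExact.mate (adj Φ X) (adj Φ Y) (Φ.map g) J

theorem symm_comp_m {X Y : CochainComplex C ℤ} (g : X ⟶ Y) {P J : CochainComplex C ℤ}
    (ξ : P ⟶ (H Φ Y).obj J) :
    ((adj Φ X).homEquiv P J).symm (ξ ≫ m Φ g J) = (Φ.map g).app P ≫ ((adj Φ Y).homEquiv P J).symm ξ :=
  RHomExact.symm_comp_mate _ _ _ ξ

theorem symm_m {X Y : CochainComplex C ℤ} (g : X ⟶ Y) (J : CochainComplex C ℤ) :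
    ((adj Φ X).homEquiv _ J).symm (m Φ g J) =
      (Φ.map g).app _ ≫ (adj Φ Y).counit.app J :=
  Equiv.symm_apply_apply _ _

variable {Φ} (d : Data Φ)

include d in
theorem m_comp_zero (S : ShortComplex (CochainComplex C ℤ)) (J : CochainComplex C ℤ) :
    m Φ S.g J ≫ m Φ S.f J = 0 :=
  haveI := d.additive S.X₁
  RHomExact.mate_comp_mate _ _ _ _ _ (fun P => d.map_comp_zero S P) J

/-- the Hom sequence -/
noncomputable abbrev homSC (S : ShortComplex (CochainComplex C ℤ)) (J : CochainComplex C ℤ) :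
    ShortComplex (CochainComplex C ℤ) :=
  ShortComplex.mk (m Φ S.g J) (m Φ S.f J) (m_comp_zero d S J)

variable (S : ShortComplex (CochainComplex C ℤ))
  (σ : ∀ n, (S.map (HomologicalComplex.eval C (ComplexShape.up ℤ) n)).Splitting)
  (J : CochainComplex C ℤ)

include σ in
theorem mono_homSC_f : Mono (homSC d S J).f := by
  haveI := d.additive S.X₂
  haveI := d.additive S.X₃
  refine Preadditive.mono_of_cancel_zero _ fun {P} ξ hξ => ?_
  apply ((adj Φ S.X₃).homEquiv P J).symm.injective
  haveI := (d.shortExact S σ P).epi_g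
  rw [RHomExact.symm_zero]
  refine (cancel_epi ((Φ.map S.g).app P)).1 ?_
  rw [comp_zero, ← symm_comp_m]
  exact (congrArg _ hξ).trans (RHomExact.symm_zero _ _ _)

include σ in
theorem exact_homSC : (homSC d S J).Exact := by
  haveI := d.additive S.X₁
  haveI := mono_homSC_f d S σ J
  refine ShortComplex.exact_of_f_is_kernel _ (KernelFork.IsLimit.ofι' _ _ fun {P} ξ hξ => ?_)
  haveI := (d.shortExact S σ P).epi_g
  have h0 : (Φ.map S.f).app P ≫ ((adj Φ S.X₂).homEquiv P J).symm ξ = 0 := by
    rw [← symm_comp_m]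
    exact (congrArg _ hξ).trans (RHomExact.symm_zero _ _ _)
  let k := (d.shortExact S σ P).gIsCokernel.desc (CokernelCofork.ofπ _ h0)
  refine ⟨(adj Φ S.X₃).homEquiv P J k, ((adj Φ S.X₂).homEquiv P J).symm.injective ?_⟩
  rw [symm_comp_m, Equiv.symm_apply_apply]
  exact (d.shortExact S σ P).gIsCokernel.fac (CokernelCofork.ofπ _ h0) WalkingParallelPair.one

variable [J.IsKInjective]

include σ in
theorem exists_section (n : ℤ) :
    ∃ s : (homSC d S J).X₃.X n ⟶ (homSC d S J).X₂.X n, s ≫ (homSC d S J).g.f n = 𝟙 _ := by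
  let Y := (homSC d S J).X₃
  let P := Y⟦(-1 : ℤ)⟧
  let e : P⟦(1 : ℤ)⟧ ≅ Y := (shiftFunctorCompIsoId (CochainComplex C ℤ) (-1 : ℤ) 1 (by omega)).app Y
  let T := mappingCone.triangleRotateShortComplex (𝟙 P)
  let τ := mappingCone.triangleRotateShortComplexSplitting (𝟙 P) n
  let y : T.X₂ ⟶ (H Φ S.X₁).obj J := T.g ≫ e.hom
  obtain ⟨r, hr⟩ := d.retract S σ T.X₂
  obtain ⟨x, hx⟩ := DerRight.exists_extend ((Φ.map S.f).app T.X₂) r hr
    (f := ((adj Φ S.X₁).homEquiv T.X₂ J).symm y)
    (IsKInjective.homotopyZero (L := J) _ (d.contractible S.X₁ P))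
  let z := (adj Φ S.X₂).homEquiv T.X₂ J x
  have hz : z ≫ m Φ S.f J = y := ((adj Φ S.X₁).homEquiv T.X₂ J).symm.injective (by
    rw [symm_comp_m, Equiv.symm_apply_apply, hx])
  refine ⟨e.inv.f n ≫ τ.s ≫ z.f n, ?_⟩
  have h1 : τ.s ≫ T.g.f n = 𝟙 _ := τ.s_g
  have h2 : z.f n ≫ (homSC d S J).g.f n = T.g.f n ≫ e.hom.f n :=
    congrArg (fun t => HomologicalComplex.Hom.f t n) hz
  simp only [Category.assoc]
  rw [h2, reassoc_of% h1, ← HomologicalComplex.comp_f, e.inv_hom_id, HomologicalComplex.id_f]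

/-- the Hom sequence of a degreewise split sequence is degreewise split -/
noncomputable def homSplit (n : ℤ) :
    ((homSC d S J).map (HomologicalComplex.eval C (ComplexShape.up ℤ) n)).Splitting :=
  haveI := mono_homSC_f d S σ J
  ShortComplex.Splitting.ofExactOfSection _
    ((exact_homSC d S σ J).map_of_mono_of_preservesKernel (HomologicalComplex.eval C (ComplexShape.up ℤ) n)
      inferInstance inferInstance)
    (exists_section d S σ J n).choose (exists_section d S σ J n).choose_spec
    (inferInstanceAs (Mono ((HomologicalComplex.eval C (ComplexShape.up ℤ) n).map (homSC d S J).f)))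

section Local

variable {B : Type u'} [Category.{v'} B] [Abelian B] {e : B ⥤ C} {R : C ⥤ B} (a : e ⊣ R) [R.Additive]
  (K : CochainComplex C ℤ)
  (test : ∀ T : B, ∃ (F : B) (p : F ⟶ T), Epi p ∧
    ∀ n : ℤ, ((Φ.obj K).obj ((HomologicalComplex.single C (ComplexShape.up ℤ) n).obj (e.obj F))).Acyclic)

include d test a in
/-- acyclicity of internal Hom complexes is local -/
theorem acyclic_res : ((R.mapHomologicalComplex (ComplexShape.up ℤ)).obj ((H Φ K).obj J)).Acyclic := by
  intro n
  rw [HomologicalComplex.exactAt_iff' _ (n - 1) n (n + 1) (by simp) (by simp)]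
  rw [ShortComplex.exact_iff_exact_up_to_refinements]
  intro T y hy
  obtain ⟨F, p, hp, hF⟩ := test T
  let W := (H Φ K).obj J
  let u : e.obj F ⟶ W.X n := (a.homEquiv F (W.X n)).symm (p ≫ y)
  have hu : ∀ j, (ComplexShape.up ℤ).Rel n j → u ≫ W.d n j = 0 := fun j hj => by
    change n + 1 = j at hj
    subst hj
    rw [← a.homEquiv_naturality_right_symm, Category.assoc]
    have hy' : y ≫ R.map (W.d n (n + 1)) = 0 := hy
    rw [hy', comp_zero]
    haveI := a.left_adjoint_additive
    exact (a.homEquiv_counit _ _ _).trans (by rw [Functor.map_zero, zero_comp])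
  let f := HomologicalComplex.mkHomFromSingle u hu
  haveI := d.additive K
  obtain ⟨h⟩ := DerRight.null_of_null (adj Φ K) (d.retractObj K) f
    (IsKInjective.homotopyZero (L := J) _ (hF n))
  refine ⟨F, p, hp, a.homEquiv _ _ ((HomologicalComplex.singleObjXSelf (ComplexShape.up ℤ) n (e.obj F)).inv ≫
    h.hom n (n - 1)), ?_⟩
  change p ≫ y = _ ≫ R.map (W.d (n - 1) n)
  rw [← a.homEquiv_naturality_right]
  refine (Equiv.symm_apply_eq _).1 ?_
  change u = _
  have hc := h.comm n
  rw [dNext_eq h.hom (show (ComplexShape.up ℤ).Rel n (n + 1) by simp),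
    prevD_eq h.hom (show (ComplexShape.up ℤ).Rel (n - 1) n by simp), HomologicalComplex.single_obj_d, zero_comp,
    zero_add, HomologicalComplex.zero_f, add_zero] at hc
  rw [Category.assoc, ← hc]
  simp [f]

end Local

end Groth.L29.DC.HomCx
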