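import Groth.Agent.L29.DCoh.RHomQCoh
import Groth.Agent.L29.DCoh.HomCx
import Groth.Agent.L29.DCoh.AssocNat
import Groth.Agent.L29.DCoh.EvalLocal

/-!
The evaluation map for internal Hom complexes out of complexes that are locally perfect.
-/

set_option autoImplicit false
set_option backward.isDefEq.respectTransparency false
set_option backward.isDefEq.respectTransparency.types false

universe u

open CategoryTheory CategoryTheory.Limits MonoidalCategory AlgebraicGeometry CochainComplex

attribute [local instance] HasDerivedCategory.standard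

namespace Groth.L29.DC.Eval

open Groth.L00

variable {X : Scheme.{u}}

/-- `X, P ↦ X ⊗ P` -/
noncomputable abbrev PhiL (X : Scheme.{u}) :
    CochainComplex X.Modules ℤ ⥤ CochainComplex X.Modules ℤ ⥤ CochainComplex X.Modules ℤ :=
  DCoh.tensorCx (X := X)

/-- `X, P ↦ P ⊗ X` -/
noncomputable abbrev PhiR (X : Scheme.{u}) :
    CochainComplex X.Modules ℤ ⥤ CochainComplex X.Modules ℤ ⥤ CochainComplex X.Modules ℤ :=
  (DCoh.tensorCx (X := X)).flip

instance isLeftAdjoint_PhiR (E : CochainComplex X.Modules ℤ) : ((PhiR X).obj E).IsLeftAdjoint :=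
  RHom.isLeftAdjoint_flip E

instance isLeftAdjoint_PhiL (E : CochainComplex X.Modules ℤ) : ((PhiL X).obj E).IsLeftAdjoint := by
  haveI := RHom.isLeftAdjoint_flip E
  exact ((Adjunction.ofIsLeftAdjoint ((DCoh.tensorCx (X := X)).flip.obj E)).ofNatIsoLeft
    (RHom.flipIso E).symm).isLeftAdjoint

/-- retractions of total complexes -/
theorem retraction_T (E : CochainComplex X.Modules ℤ) {A B : CochainComplex X.Modules ℤ} (ι : A ⟶ B)
    (r : ∀ n, B.X n ⟶ A.X n) (hr : ∀ n, ι.f n ≫ r n = 𝟙 _) :
    ∃ r' : ∀ n, ((KFlat.T E).obj B).X n ⟶ ((KFlat.T E).obj A).X n,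
      ∀ n, ((KFlat.T E).map ι).f n ≫ r' n = 𝟙 _ := by
  let F := DCoh.tensorBi (X := X)
  refine ⟨fun n => HomologicalComplex.mapBifunctorDesc fun p q h =>
      (F.obj (E.X p)).map (r q) ≫ HomologicalComplex.ιMapBifunctor E A F (ComplexShape.up ℤ) p q n h, fun n => ?_⟩
  refine HomologicalComplex.mapBifunctor.hom_ext fun p q h => ?_
  rw [BifExact.ι_T_map_assoc, HomologicalComplex.ι_mapBifunctorDesc, ← Category.assoc, ← Functor.map_comp,
    hr, CategoryTheory.Functor.map_id, Category.id_comp]
  exact (Category.comp_id _).symm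

theorem acyclic_T_cone (E P : CochainComplex X.Modules ℤ) :
    ((KFlat.T E).obj (mappingCone (𝟙 P))).Acyclic := fun i => by
  have h := (KFlat.tensorHomotopy E (mappingCone.homotopyToZeroOfId P)).homologyMap_eq i
  rw [CategoryTheory.Functor.map_id, Functor.map_zero, HomologicalComplex.homologyMap_id,
    HomologicalComplex.homologyMap_zero] at h
  exact (HomologicalComplex.exactAt_iff_isZero_homology _ _).2 ((IsZero.iff_id_eq_zero _).2 h)

theorem acyclic_of_iso {C : Type*} [Category C] [Abelian C] {A B : CochainComplex C ℤ} (e : A ≅ B)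
    (h : A.Acyclic) : B.Acyclic := fun i =>
  (HomologicalComplex.exactAt_iff_isZero_homology _ _).2
    (((HomologicalComplex.exactAt_iff_isZero_homology _ _).1 (h i)).of_iso
      ((HomologicalComplex.homologyFunctor _ _ i).mapIso e).symm)

theorem dataR (X : Scheme.{u}) : HomCx.Data (PhiR X) where
  additive E := Functor.additive_of_iso (RHom.flipIso E)
  map_comp_zero S P := RHom.flip_comp_zero S P
  shortExact S σ P := RHom.flip_shortExact S σ P
  retract S σ P := retraction_T P S.f (fun n => (σ n).r) (fun n => (σ n).f_r)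
  retractObj E P := RHom.exists_retraction E _ (fun n => (mappingCone.snd (𝟙 P)).v n n (add_zero n))
    (fun n => mappingCone.inr_f_snd_v (𝟙 P) n)
  contractible E P := acyclic_of_iso ((RHom.flipIso E).app (mappingCone (𝟙 P))) (acyclic_T_cone E P)

theorem map_app_conj {A B : CochainComplex X.Modules ℤ} (g : A ⟶ B) (P : CochainComplex X.Modules ℤ) :
    ((PhiL X).map g).app P = (KFlat.commIso A P).inv ≫ (KFlat.T P).map g ≫ (KFlat.commIso B P).hom :=
  ((Iso.inv_comp_eq _).2 (KFlat.commIso_natural g P)).symm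

theorem left_comp_zero (S : ShortComplex (CochainComplex X.Modules ℤ)) (P : CochainComplex X.Modules ℤ) :
    ((PhiL X).map S.f).app P ≫ ((PhiL X).map S.g).app P = 0 := by
  rw [map_app_conj, map_app_conj, Category.assoc, Category.assoc, Iso.hom_inv_id_assoc, ← Functor.map_comp_assoc,
    S.zero, Functor.map_zero, zero_comp, comp_zero]

theorem dataL (X : Scheme.{u}) : HomCx.Data (PhiL X) where
  additive E := inferInstanceAs (KFlat.T E).Additive
  map_comp_zero := left_comp_zero
  shortExact S σ P := ShortComplex.shortExact_of_iso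
    (ShortComplex.isoMk (KFlat.commIso S.X₁ P) (KFlat.commIso S.X₂ P) (KFlat.commIso S.X₃ P)
      (KFlat.commIso_natural S.f P).symm (KFlat.commIso_natural S.g P).symm)
    (BifExact.shortExact_T_of_splitting (DCoh.tensorBi (X := X)) P S σ)
  retract S σ P := by
    obtain ⟨r, hr⟩ := retraction_T P S.f (fun n => (σ n).r) (fun n => (σ n).f_r)
    refine ⟨fun n => (KFlat.commIso S.X₂ P).inv.f n ≫ r n ≫ (KFlat.commIso S.X₁ P).hom.f n, fun n => ?_⟩
    rw [map_app_conj]
    let e₁ := (HomologicalComplex.eval X.Modules (ComplexShape.up ℤ) n).mapIso (KFlat.commIso S.X₁ P)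
    let e₂ := (HomologicalComplex.eval X.Modules (ComplexShape.up ℤ) n).mapIso (KFlat.commIso S.X₂ P)
    simp only [HomologicalComplex.comp_f, Category.assoc]
    change e₁.inv ≫ ((KFlat.T P).map S.f).f n ≫ e₂.hom ≫ e₂.inv ≫ r n ≫ e₁.hom = 𝟙 _
    rw [e₂.hom_inv_id_assoc, reassoc_of% (hr n)]
    exact e₁.inv_hom_id
  retractObj E P := retraction_T E _ (fun n => (mappingCone.snd (𝟙 P)).v n n (add_zero n))
    (fun n => mappingCone.inr_f_snd_v (𝟙 P) n)
  contractible E P := acyclic_T_cone E P

section Kappa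

theorem assoc₂ (P : CochainComplex X.Modules ℤ) {K K' : CochainComplex X.Modules ℤ} (g : K ⟶ K')
    (L : CochainComplex X.Modules ℤ) :
    ((DCoh.tensorCx (X := X)).map (((DCoh.tensorCx (X := X)).obj P).map g)).app L ≫
        (Assoc.assocFunctor K' L).hom.app P =
      (Assoc.assocFunctor K L).hom.app P ≫
        ((DCoh.tensorCx (X := X)).obj P).map (((DCoh.tensorCx (X := X)).map g).app L) :=
  AssocNat.functor_natural₂ (h₁ := fun P K L => Assoc.hasGood₁₂ P K L)
    (h₂ := fun P K L => Assoc.hasGood₂₃ P K L) (Assoc.assocNat X) P g L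

theorem assoc₃ (P K : CochainComplex X.Modules ℤ) {L L' : CochainComplex X.Modules ℤ} (g : L ⟶ L') :
    ((DCoh.tensorCx (X := X)).obj (((DCoh.tensorCx (X := X)).obj P).obj K)).map g ≫
        (Assoc.assocFunctor K L').hom.app P =
      (Assoc.assocFunctor K L).hom.app P ≫
        ((DCoh.tensorCx (X := X)).obj P).map (((DCoh.tensorCx (X := X)).obj K).map g) :=
  AssocNat.functor_natural₃ (h₁ := fun P K L => Assoc.hasGood₁₂ P K L)
    (h₂ := fun P K L => Assoc.hasGood₂₃ P K L) (Assoc.assocNat X) P K g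

instance isLeftAdjoint_flipT (E : CochainComplex X.Modules ℤ) :
    ((DCoh.tensorCx (X := X)).flip.obj E).IsLeftAdjoint := RHom.isLeftAdjoint_flip E

end Kappa

section Local

variable {U : Scheme.{u}} (j : U ⟶ X) [IsOpenImmersion j]

theorem exists_flat_cover (T : U.Modules) : ∃ (F : U.Modules) (p : F ⟶ T), Epi p ∧ FlatMod.IsFlat F := by
  obtain ⟨K, q, -, hf, -, hq⟩ := KFlat.exists_resolution ((HomologicalComplex.single U.Modules (ComplexShape.up ℤ) 0).obj T)
  haveI := hq 0
  exact ⟨K.X 0, q.f 0 ≫ (HomologicalComplex.singleObjXSelf (ComplexShape.up ℤ) 0 T).hom, epi_comp _ _, hf 0⟩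

theorem test (K : CochainComplex X.Modules ℤ) (hK : ((ExtZero.rCx j).obj K).Acyclic) (T : U.Modules) :
    ∃ (F : U.Modules) (p : F ⟶ T), Epi p ∧ ∀ n : ℤ,
      (((PhiR X).obj K).obj ((HomologicalComplex.single X.Modules (ComplexShape.up ℤ) n).obj
        ((CxOX.extZero j).obj F))).Acyclic ∧
      (((PhiL X).obj K).obj ((HomologicalComplex.single X.Modules (ComplexShape.up ℤ) n).obj
        ((CxOX.extZero j).obj F))).Acyclic := by
  haveI := ExtZero.preservesFiniteLimits j
  obtain ⟨F, p, hp, hF⟩ := exists_flat_cover T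
  refine ⟨F, p, hp, fun n => ?_⟩
  let P := (HomologicalComplex.single U.Modules (ComplexShape.up ℤ) n).obj F
  let e : (ExtZero.eCx j).obj P ≅
      (HomologicalComplex.single X.Modules (ComplexShape.up ℤ) n).obj ((CxOX.extZero j).obj F) :=
    (HomologicalComplex.singleMapHomologicalComplex (CxOX.extZero j) (ComplexShape.up ℤ) n).app F
  have h0 : ((DCoh.tensorCx.obj P).obj ((ExtZero.rCx j).obj K)).Acyclic :=
    acyclic_of_iso (KFlat.commIso P ((ExtZero.rCx j).obj K)) fun i =>
      (HomologicalComplex.exactAt_iff_isZero_homology _ _).2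
        (KFlat.single F hF n _ (fun k => (HomologicalComplex.exactAt_iff_isZero_homology _ _).1 (hK k)) i)
  have h1 : (((PhiR X).obj K).obj ((ExtZero.eCx j).obj P)).Acyclic :=
    acyclic_of_iso ((ExtZero.projFunctor j K).app P).symm fun i =>
      (HomologicalComplex.exactAt_iff_isZero_homology _ _).2
        (((CxOX.extZero j).map_isZero ((HomologicalComplex.exactAt_iff_isZero_homology _ _).1 (h0 i))).of_iso
          ((((DCoh.tensorCx.obj P).obj ((ExtZero.rCx j).obj K)).sc i).mapHomologyIso (CxOX.extZero j)))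
  exact ⟨acyclic_of_iso (((PhiR X).obj K).mapIso e) h1,
    acyclic_of_iso (((RHom.flipIso K).app _).symm) (acyclic_of_iso (((PhiR X).obj K).mapIso e) h1)⟩

theorem setting :
    EvalLocal.Setting (PhiL X) (fun K L => Assoc.assocFunctor K L) (ExtZero.res j) (e := CxOX.extZero j) DCoh.IsKFlat where
  dataL := dataL X
  dataR := dataR X
  h₂ P _ _ g L := assoc₂ P g L
  h₃ P K _ _ g := assoc₃ P K g
  shortExact P S σ := ⟨_, BifExact.shortExact_T_of_splitting (DCoh.tensorBi (X := X)) P S σ⟩
  test K hK Y := test j K hK Y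
  cone g h h' := KFlat.isKFlat_cone g h h'
  shift h := KFlat.shift _ 1 h
  tensor P {K} hK h := acyclic_of_iso (restrictTensorCxIso j P K) fun i =>
    (HomologicalComplex.exactAt_iff_isZero_homology _ _).2
      (KFlat.acyclic_tensor _ (isKFlat_restrict j hK)
        (fun k => (HomologicalComplex.exactAt_iff_isZero_homology _ _).1 (h k)) _ i)

end Local

end Groth.L29.DC.Eval
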