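import Groth.Agent.L29.DCoh.RDerLE
import Groth.Agent.L29.DCoh.RpushQC
import Groth.Agent.L29.DCoh.PCQCoh
import Groth.Agent.L16.ProjSpace.CohTwist
import Groth.Agent.L17.CohSections
import Groth.Agent.L18.TildeFunctor
import Groth.Agent.L21.Mod.Locality

/-!
Cohomological dimension of projective space over an affine base.
-/

set_option autoImplicit false
set_option backward.isDefEq.respectTransparency false
set_option backward.isDefEq.respectTransparency.types false

universe u

open CategoryTheory CategoryTheory.Limits AlgebraicGeometry Opposite TopologicalSpace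

namespace Groth.L29.DC.RpushQC

variable {X S : Scheme.{u}}

/-- an affine cover by `t` opens with affine intersections bounds `R f_*` over an affine base -/
theorem isZero_Rpush_of_cover [IsAffine S] (f : X ⟶ S) [QuasiCompact f] [QuasiSeparated f]
    [HasInjectiveResolutions X.Modules] (t : ℕ) (U : Fin t → X.Opens) (hcov : ⨆ i, U i = ⊤)
    (hU : ∀ s : Finset (Fin t), s.Nonempty → IsAffineOpen (s.inf U))
    (M : X.Modules) [Coh.IsQCoh M] (p : ℕ) (hp : t ≤ p) : IsZero ((Coh.Rpush f p).obj M) := by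
  haveI := Groth.L17.PushQCoh.isQCoh_Rpush f M p
  have hS : IsAffineOpen (⊤ : S.Opens) := isAffineOpen_top S
  have h := Groth.L17.hu_iSup_eq_zero M t U hU p hp
  rw [hcov] at h
  have h0 : ∀ y : ((Coh.toAb ((Coh.Rpush f p).obj M)).obj.obj (op (⊤ : S.Opens)) : AddCommGrpCat.{u}), y = 0 :=
    fun y => by
      have h' := h ((Groth.L17.CohSections.equiv f hS M p).symm y)
      rw [← (Groth.L17.CohSections.equiv f hS M p).apply_symm_apply y, h', map_zero]
  refine Groth.L21.Mod.isZero_of_restrict (fun _ : Unit => hS.fromSpec) (fun x => ?_) _ fun _ => ?_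
  · exact ⟨(), hS.opensRange_fromSpec.ge (TopologicalSpace.Opens.mem_top x)⟩
  · haveI : Coh.IsQCoh (((Coh.Rpush f p).obj M).restrict hS.fromSpec) :=
      Scheme.Modules.isQuasicoherent_restrictFunctor _ _
    refine (((tilde.functor _).map_isZero ?_).of_iso (Groth.L18.TildeF.counitIso _).symm)
    refine @ModuleCat.isZero_of_subsingleton _ _ _ ?_
    refine subsingleton_of_forall_eq 0 fun y => ?_
    have : ∀ W : S.Opens, W = ⊤ → ∀ z : ((Coh.toAb ((Coh.Rpush f p).obj M)).obj.obj (op W) : AddCommGrpCat.{u}), z = 0 := by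
      rintro W rfl; exact h0
    exact this _ (by rw [Scheme.Hom.image_top_eq_opensRange, IsAffineOpen.opensRange_fromSpec]) y

open Groth.L16.ProjSpace in
/-- `R^p f_* = 0` for `p > r` on `P^r` over an affine base -/
theorem isZero_Rpush_projSpace (Y : Scheme.{u}) [IsAffine Y] (r : ℕ)
    [HasInjectiveResolutions (CohB1.ProjSpaceOver r Y).Modules]
    (M : (CohB1.ProjSpaceOver r Y).Modules) [Coh.IsQCoh M] (p : ℕ) (hp : r < p) :
    IsZero ((Coh.Rpush (CohB1.ProjSpaceOver.toBase r Y) p).obj M) := by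
  let π : CohB1.ProjSpaceOver r Y ⟶ CohB1.ProjSpace r (ULift.{u} ℤ) := pullback.fst _ _
  haveI : IsAffineHom π := MorphismProperty.pullback_fst (P := @IsAffineHom) _ _ inferInstance
  let U : Fin (r + 1) → (CohB1.ProjSpaceOver r Y).Opens := fun k => π ⁻¹ᵁ stdU r (ULift.{u} ℤ) (ULift.up k)
  refine isZero_Rpush_of_cover (CohB1.ProjSpaceOver.toBase r Y) (r + 1) U ?_ (fun s hs => ?_) M p (by omega)
  · refine top_le_iff.1 fun x _ => ?_
    obtain ⟨i, hi⟩ := TopologicalSpace.Opens.mem_iSup.1
      ((iSup_stdU r (ULift.{u} ℤ)).ge (TopologicalSpace.Opens.mem_top (π.base x)))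
    exact TopologicalSpace.Opens.mem_iSup.2 ⟨i.down, hi⟩
  · obtain ⟨q, hq⟩ : ∃ q, s.card = q + 1 := ⟨s.card - 1, by have := hs.card_pos; omega⟩
    let eq := (Finset.equivFinOfCardEq hq).symm
    have e : s.inf U = π ⁻¹ᵁ (⨅ l, stdU r (ULift.{u} ℤ) (ULift.up (eq l).1)) := by
      refine TopologicalSpace.Opens.ext (Set.ext fun x => ?_)
      simp only [SetLike.mem_coe]
      have hm : ∀ t : Finset (Fin (r + 1)), x ∈ t.inf U ↔ ∀ k ∈ t, x ∈ U k := by
        intro t
        induction t using Finset.cons_induction with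
        | empty => simp
        | cons a t ha ih => simp [Finset.inf_cons, ← ih]
      rw [hm]
      have hi : π.base x ∈ (⨅ l, stdU r (ULift.{u} ℤ) (ULift.up (eq l).1)) ↔
          ∀ l, π.base x ∈ stdU r (ULift.{u} ℤ) (ULift.up (eq l).1) := by
        rw [← SetLike.mem_coe, TopologicalSpace.Opens.coe_iInf, Set.mem_iInter]
        simp only [SetLike.mem_coe]
      refine Iff.trans ⟨fun h l => ?_, fun h k hk => ?_⟩ hi.symm
      · exact h (eq l).1 (eq l).2
      · have := h (eq.symm ⟨k, hk⟩)
        rwa [Equiv.apply_symm_apply] at this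
    exact e ▸ (isAffineOpen_inf_stdU r (ULift.{u} ℤ) fun l => ULift.up (eq l).1).preimage π

end Groth.L29.DC.RpushQC
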