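import Groth.Agent.L20.ResDescent
import Groth.Agent.L18.DirImg
import Groth.Agent.L29.DCoh.QCohColim
import Groth.Agent.L00.TensorQCoh

/-! Direct images of a generating family along a finite flat surjection generate. -/

set_option autoImplicit false
set_option backward.isDefEq.respectTransparency false
set_option backward.isDefEq.respectTransparency.types false
set_option linter.style.haveILetI false
universe u

open CategoryTheory CategoryTheory.Limits AlgebraicGeometry TopologicalSpace Opposite

noncomputable section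

namespace Groth.L29.DC.GenPush

open Groth.L20.ResDescent (ψ isIso_ψ ψ_natural eq_zero_of_push eq_zero_of_pullback)

variable {X Y : Scheme.{u}} (f : X ⟶ Y)

theorem epi_push_map [IsAffineHom f] {F G : X.Modules} [Coh.IsQCoh F] [Coh.IsQCoh G] (v : F ⟶ G) [Epi v] :
    Epi ((Scheme.Modules.pushforward f).map v) := by
  refine ⟨fun {Z} a b h => Groth.L16.AffineBC.hom_ext_affine _ _ fun U hU m => ?_⟩
  obtain ⟨y, rfl⟩ := Groth.L16.AffineBC.surjective_app_of_epi v (hU.preimage f) m
  exact congr($(congrArg (fun k => Scheme.Modules.Hom.app k U) h) y)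

theorem exists_epi_push_pullback [IsAffineHom f] [Flat f] [Surjective f]
    (hA : FlatMod.IsFinLocFree ((Scheme.Modules.pushforward f).obj (Coh.structureModule X)))
    (N : Y.Modules) [Coh.IsQCoh N] :
    ∃ (P : Y.Modules) (π : (Scheme.Modules.pushforward f).obj ((Scheme.Modules.pullback f).obj P) ⟶ N),
      Coh.IsQCoh P ∧ Epi π := by
  let A := (Scheme.Modules.pushforward f).obj (Coh.structureModule X)
  haveI := Groth.L17.Duality.hasSheafHom A
  let Dd := Groth.L17.Duality.dual A
  haveI : Coh.IsQCoh Dd := Groth.L29.DC.PCQCoh.isQCoh_of_isFinLocFree (Groth.L20.ResDescent.isFinLocFree_dual A hA)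
  haveI : Coh.IsQCoh ((Scheme.Modules.pullback f).obj N) := Groth.L16.AffineBC.isQCoh_pullback f N
  haveI : Coh.IsQCoh (CohB1.tensorMod N Dd) := Groth.L00.Tensor.isQCoh_tensorMod _ _
  let G := (Scheme.Modules.pushforward f).obj ((Scheme.Modules.pullback f).obj N)
  haveI : Coh.IsQCoh G := Groth.L18.DirImg.isQCoh_push f _ inferInstance
  haveI : IsIso (ψ f N) := isIso_ψ f hA N
  haveI : IsIso (ψ f (CohB1.tensorMod N Dd)) := isIso_ψ f hA _
  let D := Groth.L17.Duality.dualAdj A hA
  haveI : (Groth.L00.Tensor.tensorRightF A).IsRightAdjoint := D.isRightAdjoint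
  let g : G ⟶ (Groth.L00.Tensor.tensorRightF A).obj N := (inv (ψ f N) :)
  let η := (D.homEquiv G N).symm g
  haveI : Coh.IsQCoh ((Groth.L00.Tensor.tensorRightF Dd).obj G) := Groth.L00.Tensor.isQCoh_tensorMod G Dd
  haveI : Coh.IsQCoh (cokernel η) := Groth.L16.Devissage.isQCoh_cokernel η
  have hη : Epi η := by
    refine Abelian.epi_of_cokernel_π_eq_zero η ?_
    let c := cokernel.π η
    have h1 : g ≫ (Groth.L00.Tensor.tensorRightF A).map c = 0 := by
      have h2 := D.homEquiv_naturality_right η c
      rw [cokernel.condition, Equiv.apply_symm_apply] at h2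
      refine h2.symm.trans ?_
      rw [Adjunction.homEquiv_unit, Functor.map_zero, comp_zero]
    have h3 : (Scheme.Modules.pushforward f).map ((Scheme.Modules.pullback f).map c) = 0 := by
      have h4 := congrArg (· ≫ ψ f (cokernel η)) h1
      simp only [zero_comp, Category.assoc] at h4
      refine Eq.trans ?_ h4
      show _ = g ≫ Groth.L00.Tensor.tensorMap c (𝟙 A) ≫ ψ f (cokernel η)
      rw [ψ_natural f c]
      show _ = inv (ψ f N) ≫ ψ f N ≫ _
      simp
    exact eq_zero_of_pullback f c (eq_zero_of_push f _ h3)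
  let e : (Scheme.Modules.pushforward f).obj ((Scheme.Modules.pullback f).obj (CohB1.tensorMod N Dd)) ≅
      CohB1.tensorMod G Dd :=
    (asIso (ψ f (CohB1.tensorMod N Dd))).symm ≪≫ Groth.L00.Tensor.tensorAssoc N Dd A ≪≫
      Groth.L00.Tensor.tensorIso (Iso.refl N) (Groth.L00.Tensor.tensorComm Dd A) ≪≫
      (Groth.L00.Tensor.tensorAssoc N A Dd).symm ≪≫
      Groth.L00.Tensor.tensorIso (asIso (ψ f N)) (Iso.refl Dd)
  exact ⟨CohB1.tensorMod N Dd, e.hom ≫ η, inferInstance, epi_comp _ _⟩

end Groth.L29.DC.GenPush
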