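import Groth.Agent.L10.KInjFunctorial
import Mathlib.Algebra.Homology.Embedding.CochainComplex
import Mathlib.Algebra.Homology.Embedding.TruncGEHomology
import Mathlib.Algebra.Homology.Factorizations.CM5a
import Mathlib.Algebra.Homology.DerivedCategory.KInjective
import Mathlib.CategoryTheory.Preadditive.Injective.Basic

/-! Functorial bounded below injective resolutions of cohomologically bounded below complexes. -/

universe v u

open CategoryTheory CategoryTheory.Limits

set_option autoImplicit false
set_option backward.defeqAttrib.useBackward true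
set_option backward.isDefEq.respectTransparency false

namespace Groth.L29.DC.BddInjRes

variable {A : Type u} [Category.{v} A] [Abelian A]

/-- above the lower bound of cohomology, the opcycles of a K-injective complex of injectives are injective -/
theorem injective_opcycles [EnoughInjectives A] (I : CochainComplex A ℤ) [I.IsKInjective]
    (hI : ∀ n, Injective (I.X n)) (b a : ℤ) (hab : a < b) (hb : ∀ i, i < b → I.ExactAt i) :
    Injective (I.opcycles a) := by
  let T := CochainComplex.truncGE I b
  haveI : QuasiIso (CochainComplex.πTruncGE I b) := by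
    refine (HomologicalComplex.quasiIso_πTruncGE_iff_isSupported _ _).2 ⟨fun i hi => hb i ?_⟩
    by_contra h
    obtain ⟨k, hk⟩ := Int.le.dest (not_lt.1 h)
    exact hi k (by simpa using hk)
  obtain ⟨J, t, ht, hJ, hJb⟩ := CochainComplex.Plus.modelCategoryQuillen.exists_quasiIso_injective T b
  have : ∀ n, Injective (J.X n) := hJ
  haveI := CochainComplex.isKInjective_of_injective J b
  obtain ⟨e, he⟩ := (CochainComplex.IsKInjective.quasiIso_iff (CochainComplex.πTruncGE I b ≫ t)).1 inferInstance
  let H := e.homotopyHomInvId
  let h : I.X a ⟶ I.X (a - 1) := H.hom a (a - 1)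
  let d : I.X (a - 1) ⟶ I.X a := I.d (a - 1) a
  have key : d ≫ h ≫ d + d = 0 := by
    have hc := H.comm (a - 1)
    rw [dNext_eq H.hom (show (ComplexShape.up ℤ).Rel (a - 1) a by simp),
      prevD_eq H.hom (show (ComplexShape.up ℤ).Rel (a - 2) (a - 1) by simp; omega),
      HomologicalComplex.comp_f, (CochainComplex.isZero_of_isStrictlyGE J b (a - 1) (by omega)).eq_of_tgt (e.hom.f (a - 1)) 0,
      zero_comp, HomologicalComplex.id_f] at hc
    have := congrArg (· ≫ d) hc
    simp only [zero_comp, Preadditive.add_comp, Category.assoc, Category.id_comp, d, I.d_comp_d, comp_zero, add_zero] at this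
    exact this.symm
  let s : I.opcycles a ⟶ I.X a := I.descOpcycles (𝟙 _ + h ≫ d) (a - 1) (by simp) (by
    change d ≫ (𝟙 _ + h ≫ d) = 0
    rw [Preadditive.comp_add, Category.comp_id, add_comm, key])
  haveI := hI a
  exact Retract.injective
    { i := s
      r := I.pOpcycles a
      retract := by
        rw [← cancel_epi (I.pOpcycles a), HomologicalComplex.p_descOpcycles_assoc, Preadditive.add_comp,
          Category.id_comp, Category.assoc, HomologicalComplex.d_pOpcycles, comp_zero, add_zero, Category.comp_id] }

/-- functorial resolution by complexes of injectives strictly above `n - 1` -/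
theorem exists_functorial [IsGrothendieckAbelian.{v} A] (n : ℤ) :
    ∃ (R : CochainComplex A ℤ ⥤ CochainComplex A ℤ) (r : 𝟭 _ ⟶ R), ∀ M : CochainComplex A ℤ,
      (R.obj M).IsStrictlyGE (n - 1) ∧
      ((∀ i, i < n → M.ExactAt i) → QuasiIso (r.app M) ∧ ∀ k, Injective ((R.obj M).X k)) := by
  haveI : EnoughInjectives A := IsGrothendieckAbelian.enoughInjectives.{v}
  obtain ⟨N, j, hN⟩ := Groth.L10.KInjFunctorial.exists_functorial (A := A)
  let e := ComplexShape.embeddingUpIntGE (n - 1)
  refine ⟨N ⋙ e.truncGEFunctor A, j ≫ Functor.whiskerLeft N (e.πTruncGENatTrans A), fun M => ⟨?_, fun hM => ?_⟩⟩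
  · exact inferInstanceAs ((HomologicalComplex.truncGE (N.obj M) e).IsStrictlySupported e)
  obtain ⟨-, hq, hK, hinj⟩ := hN M
  haveI := hq
  haveI := hK
  have hex : ∀ i, i < n → (N.obj M).ExactAt i := fun i hi =>
    (exactAt_iff_of_quasiIsoAt (j.app M) i).1 (hM i hi)
  haveI : QuasiIso (HomologicalComplex.πTruncGE (N.obj M) e) := by
    refine (HomologicalComplex.quasiIso_πTruncGE_iff_isSupported _ _).2 ⟨fun i hi => hex i ?_⟩
    by_contra h
    obtain ⟨k, hk⟩ := Int.le.dest (show n - 1 ≤ i by omega)
    exact hi k (by simpa [e] using hk)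
  refine ⟨inferInstanceAs (QuasiIso (j.app M ≫ HomologicalComplex.πTruncGE (N.obj M) e)), fun k => ?_⟩
  by_cases hk : k < n - 1
  · haveI : (HomologicalComplex.truncGE (N.obj M) e).IsStrictlySupported e := inferInstance
    exact (CochainComplex.isZero_of_isStrictlyGE (HomologicalComplex.truncGE (N.obj M) e) (n - 1) k hk).injective
  · obtain ⟨m, rfl⟩ := Int.le.dest (not_lt.1 hk)
    by_cases hm : m = 0
    · subst hm
      haveI := injective_opcycles (N.obj M) hinj n (n - 1) (by omega) hex
      refine Injective.of_iso (HomologicalComplex.truncGEXIsoOpcycles (N.obj M) e (i := 0) (by simp [e])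
        ((ComplexShape.boundaryGE_embeddingUpIntGE_iff (n - 1) 0).2 rfl)).symm ?_
      rw [show n - 1 + ((0 : ℕ) : ℤ) = n - 1 by simp]
      infer_instance
    · exact Injective.of_iso (HomologicalComplex.truncGEXIso (N.obj M) e (i := m) (by simp [e])
        (fun h => hm ((ComplexShape.boundaryGE_embeddingUpIntGE_iff (n - 1) m).1 h))).symm (hinj _)

end Groth.L29.DC.BddInjRes
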