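import Groth.Agent.L29.DCoh.RpushAcyclic
import Groth.Agent.L29.DCoh.BoundedInjRes
import Groth.Agent.L29.DCoh.HomologyColim
import Groth.Agent.L09.CohColim.Opens
import Groth.Agent.L15.KFlatSite.ToSheafColim
import Groth.Agent.L17.ToAbRpush

/-!
`Rf_*` commutes with filtered colimits of uniformly bounded below complexes.
-/

set_option autoImplicit false
set_option backward.defeqAttrib.useBackward true
set_option backward.isDefEq.respectTransparency false
set_option backward.isDefEq.respectTransparency.types false

universe u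

open CategoryTheory CategoryTheory.Limits AlgebraicGeometry TopologicalSpace

attribute [local instance] HasDerivedCategory.standard

namespace Groth.L29.DC.RpushColim

open Groth.L17 Groth.L29.DC.RpushQC

variable {X S : Scheme.{u}} (f : X ⟶ S) [QuasiCompact f] [QuasiSeparated f]
  (J : Type u) [SmallCategory J] [IsFiltered J]

theorem preservesColimitsOfShape_toAbShF (Z : Scheme.{u}) : PreservesColimitsOfShape J (toAbShF Z) :=
  haveI : PreservesColimitsOfSize.{u, u} (toAbShF Z) := Groth.L15.KFlatSite.preservesColimits_toSheaf Z.ringCatSheaf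
  inferInstance

theorem preservesColimitsOfShape_pushAb : PreservesColimitsOfShape J (Coh.pushAb f) := by
  haveI := Groth.L09.CohColim.preservesColimitsOfShape_RpushAb f 0 J
  haveI : PreservesFiniteLimits (Coh.pushAb f) :=
    inferInstanceAs (PreservesFiniteLimits (TopCat.Sheaf.pushforward AddCommGrpCat.{u} f.base))
  exact preservesColimitsOfShape_of_natIso (Coh.pushAb f).rightDerivedZeroIsoSelf

theorem preservesColimitsOfShape_push : PreservesColimitsOfShape J (Scheme.Modules.pushforward f) := by
  haveI := Groth.L00.Tensor.grothendieckAbelian_modules X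
  haveI := Groth.L00.Tensor.grothendieckAbelian_modules S
  haveI := preservesColimitsOfShape_toAbShF J X
  haveI := preservesColimitsOfShape_toAbShF J S
  haveI := preservesColimitsOfShape_pushAb f J
  haveI : (toAbShF S).Faithful := inferInstanceAs (SheafOfModules.toSheaf.{u} S.ringCatSheaf).Faithful
  haveI : Balanced S.Modules := inferInstance
  haveI : (toAbShF S).ReflectsIsomorphisms := inferInstance
  haveI : ReflectsColimitsOfShape J (toAbShF S) := reflectsColimitsOfShape_of_reflectsIsomorphisms
  haveI : PreservesColimitsOfShape J (Scheme.Modules.pushforward f ⋙ toAbShF S) :=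
    preservesColimitsOfShape_of_natIso (toAbPushIso f).symm
  exact preservesColimitsOfShape_of_reflects_of_preserves (Scheme.Modules.pushforward f) (toAbShF S)

theorem rAcyclic_colimit [HasInjectiveResolutions X.Modules] (D : J ⥤ X.Modules) (c : Cocone D) (hc : IsColimit c)
    (hD : ∀ j, Injective (D.obj j)) : GrothSS.RAcyclic (Scheme.Modules.pushforward f) c.pt := by
  intro q hq
  refine Groth.L17.PushQCoh.isZero_of_toAb ?_
  obtain ⟨e⟩ := nonempty_toAb_Rpush_iso f c.pt q
  refine IsZero.of_iso ?_ e
  haveI := preservesColimitsOfShape_toAbShF J X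
  haveI := Groth.L09.CohColim.preservesColimitsOfShape_RpushAb f q J
  refine IsColimit.isZero_pt (isColimitOfPreserves (Coh.RpushAb f q) (isColimitOfPreserves (toAbShF X) hc))
    (Functor.isZero _ fun j => ?_)
  haveI := hD j
  exact isZero_RpushAb_of_injective f (D.obj j) q hq

variable [DCoh.HasRpush f]

/-- `H^i Rf_*` on complexes -/
noncomputable abbrev G0 (i : ℤ) : CochainComplex X.Modules ℤ ⥤ S.Modules :=
  DerivedCategory.Q ⋙ DCoh.Rpush f ⋙ DerivedCategory.homologyFunctor S.Modules i

/-- `H^i f_*` on complexes -/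
noncomputable abbrev G1 [(Scheme.Modules.pushforward f).Additive] (i : ℤ) : CochainComplex X.Modules ℤ ⥤ S.Modules :=
  (Scheme.Modules.pushforward f).mapHomologicalComplex (ComplexShape.up ℤ) ⋙
    HomologicalComplex.homologyFunctor S.Modules (ComplexShape.up ℤ) i

/-- the comparison map -/
noncomputable def cmp [(Scheme.Modules.pushforward f).Additive] (i : ℤ) : G1 f i ⟶ G0 f i :=
  Functor.whiskerLeft ((Scheme.Modules.pushforward f).mapHomologicalComplex (ComplexShape.up ℤ))
      (DerivedCategory.homologyFunctorFactors S.Modules i).inv ≫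
    Functor.whiskerRight
      (Functor.whiskerLeft ((Scheme.Modules.pushforward f).mapHomologicalComplex (ComplexShape.up ℤ))
          (DerivedCategory.quotientCompQhIso S.Modules).inv ≫
        Functor.whiskerLeft (HomotopyCategory.quotient X.Modules (ComplexShape.up ℤ))
          ((DCoh.pushKh f).totalRightDerivedUnit DerivedCategory.Qh
            (HomotopyCategory.quasiIso X.Modules (ComplexShape.up ℤ))) ≫
        Functor.whiskerRight (DerivedCategory.quotientCompQhIso X.Modules).hom (DCoh.Rpush f))
      (DerivedCategory.homologyFunctor S.Modules i)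

omit [QuasiCompact f] [QuasiSeparated f] in
theorem isIso_cmp [(Scheme.Modules.pushforward f).Additive] (i : ℤ) (K : CochainComplex X.Modules ℤ)
    (h : IsIso (((DCoh.pushKh f).totalRightDerivedUnit DerivedCategory.Qh
      (HomotopyCategory.quasiIso X.Modules (ComplexShape.up ℤ))).app
        ((HomotopyCategory.quotient X.Modules (ComplexShape.up ℤ)).obj K))) : IsIso ((cmp f i).app K) := by
  haveI := h
  simp only [cmp, NatTrans.comp_app, Functor.whiskerLeft_app, Functor.whiskerRight_app, Functor.map_comp]
  infer_instance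

omit [QuasiCompact f] [QuasiSeparated f] in
theorem isIso_G0_map (i : ℤ) {K L : CochainComplex X.Modules ℤ} (g : K ⟶ L) [QuasiIso g] :
    IsIso ((G0 f i).map g) := by
  haveI : IsIso (DerivedCategory.Q.map g) := (DerivedCategory.isIso_Q_map_iff_quasiIso _ g).2 inferInstance
  exact inferInstanceAs (IsIso ((DerivedCategory.homologyFunctor S.Modules i).map
    ((DCoh.Rpush f).map (DerivedCategory.Q.map g))))

omit [QuasiCompact f] [QuasiSeparated f] in
theorem exactAt_of_isGE {K : CochainComplex X.Modules ℤ} {n : ℤ} (h : (DCoh.toD X K).IsGE n) (i : ℤ) (hi : i < n) :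
    K.ExactAt i := by
  rw [HomologicalComplex.exactAt_iff_isZero_homology]
  exact (DerivedCategory.isZero_of_isGE (DCoh.toD X K) n i hi).of_iso
    ((DerivedCategory.homologyFunctorFactors X.Modules i).app K).symm

variable {J} (C : J ⥤ CochainComplex X.Modules ℤ) (c : Cocone C) (hc : IsColimit c) (n : ℤ)
  (hC : ∀ j, (DCoh.toD X (C.obj j)).IsGE n)

include hc hC in
theorem exists_model [HasInjectiveResolutions X.Modules] :
    ∃ (D : J ⥤ CochainComplex X.Modules ℤ) (ρ : C ⟶ D) (d : Cocone D) (_ : IsColimit d) (θ : c.pt ⟶ d.pt),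
      (∀ j, c.ι.app j ≫ θ = ρ.app j ≫ d.ι.app j) ∧ (∀ j, QuasiIso (ρ.app j)) ∧ QuasiIso θ ∧
      (∀ j, IsIso (((DCoh.pushKh f).totalRightDerivedUnit DerivedCategory.Qh
        (HomotopyCategory.quasiIso X.Modules (ComplexShape.up ℤ))).app
          ((HomotopyCategory.quotient X.Modules (ComplexShape.up ℤ)).obj (D.obj j)))) ∧
      IsIso (((DCoh.pushKh f).totalRightDerivedUnit DerivedCategory.Qh
        (HomotopyCategory.quasiIso X.Modules (ComplexShape.up ℤ))).app
          ((HomotopyCategory.quotient X.Modules (ComplexShape.up ℤ)).obj d.pt)) := by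
  haveI := Groth.L00.Tensor.grothendieckAbelian_modules X
  obtain ⟨R, r, hR⟩ := BddInjRes.exists_functorial (A := X.Modules) n
  have hq : ∀ j, QuasiIso (r.app (C.obj j)) ∧ ∀ k, Injective ((R.obj (C.obj j)).X k) := fun j =>
    (hR (C.obj j)).2 (exactAt_of_isGE (hC j))
  let ρ : C ⟶ C ⋙ R := Functor.whiskerLeft C r
  let d := colimit.cocone (C ⋙ R)
  let θ : c.pt ⟶ d.pt := hc.desc ((Cocone.precompose ρ).obj d)
  have hθ : ∀ j, c.ι.app j ≫ θ = ρ.app j ≫ d.ι.app j := fun j => hc.fac _ j
  refine ⟨C ⋙ R, ρ, d, colimit.isColimit _, θ, hθ, fun j => (hq j).1, ?_, fun j => ?_, ?_⟩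
  · rw [quasiIso_iff]
    intro i
    rw [quasiIsoAt_iff_isIso_homologyMap]
    haveI := HomologyColim.preservesColimitsOfShape_homology (A := X.Modules) (J := J) (ComplexShape.up ℤ) i
    let H := HomologicalComplex.homologyFunctor X.Modules (ComplexShape.up ℤ) i
    haveI : ∀ j, IsIso ((Functor.whiskerRight ρ H).app j) := fun j => by
      haveI : QuasiIso (ρ.app j) := (hq j).1
      exact (quasiIsoAt_iff_isIso_homologyMap _ i).1 inferInstance
    haveI := NatIso.isIso_of_isIso_app (Functor.whiskerRight ρ H)
    have e : H.map θ = ((isColimitOfPreserves H hc).coconePointsIsoOfNatIso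
        (isColimitOfPreserves H (colimit.isColimit (C ⋙ R))) (asIso (Functor.whiskerRight ρ H))).hom :=
      (isColimitOfPreserves H hc).hom_ext fun j => by
        rw [IsColimit.comp_coconePointsIsoOfNatIso_hom]
        simp only [Functor.mapCocone_ι_app, asIso_hom, Functor.whiskerRight_app, ← Functor.map_comp]
        exact congrArg H.map (hθ j)
    change IsIso (H.map θ)
    rw [e]
    infer_instance
  · haveI := (hR (C.obj j)).1
    haveI : ∀ k, Injective ((R.obj (C.obj j)).X k) := (hq j).2
    exact isIso_unit_bddBelow f (R.obj (C.obj j)) (n - 1) fun k q hq' => by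
      obtain ⟨p, rfl⟩ : ∃ p, q = p + 1 := ⟨q - 1, by omega⟩
      exact (Scheme.Modules.pushforward f).isZero_rightDerived_obj_injective_succ p _
  · have he : ∀ k, IsColimit ((HomologicalComplex.eval X.Modules (ComplexShape.up ℤ) k).mapCocone d) := fun k =>
      isColimitOfPreserves _ (colimit.isColimit (C ⋙ R))
    haveI : d.pt.IsStrictlyGE (n - 1) := (CochainComplex.isStrictlyGE_iff _ _).2 fun k hk =>
      IsColimit.isZero_pt (he k) (Functor.isZero _ fun j => by
        haveI := (hR (C.obj j)).1
        exact CochainComplex.isZero_of_isStrictlyGE (R.obj (C.obj j)) (n - 1) k hk)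
    exact isIso_unit_bddBelow f d.pt (n - 1) fun k => rAcyclic_colimit f J _ _ (he k) fun j => (hq j).2 k

include hc hC in
theorem isColimit_G0 (i : ℤ) : Nonempty (IsColimit ((G0 f i).mapCocone c)) := by
  haveI := Groth.L17.PushQCoh.hasInjectiveResolutions X
  haveI := Groth.L17.PushQCoh.additive_push f
  haveI := Groth.L00.Tensor.grothendieckAbelian_modules S
  haveI := preservesColimitsOfShape_push f J
  haveI := HomologyColim.preservesColimitsOfShape_homology (A := S.Modules) (J := J) (ComplexShape.up ℤ) i
  obtain ⟨D, ρ, d, hd, θ, hθ, hρ, hθq, hDu, hdu⟩ := exists_model f C c hc n hC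
  have hDj := fun j => isIso_cmp f i (D.obj j) (hDu j)
  haveI := isIso_cmp f i d.pt hdu
  haveI : ∀ j, IsIso ((Functor.whiskerLeft D (cmp f i)).app j) := hDj
  haveI := NatIso.isIso_of_isIso_app (Functor.whiskerLeft D (cmp f i))
  have h1 : IsColimit ((G0 f i).mapCocone d) :=
    ((IsColimit.precomposeHomEquiv (asIso (Functor.whiskerLeft D (cmp f i))) _).1
      (IsColimit.ofIsoColimit (isColimitOfPreserves (G1 f i) hd)
        (Cocone.ext (asIso ((cmp f i).app d.pt)) fun j => ((cmp f i).naturality (d.ι.app j)))))
  haveI : ∀ j, IsIso ((Functor.whiskerRight ρ (G0 f i)).app j) := fun j =>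
    haveI := hρ j
    isIso_G0_map f i (ρ.app j)
  haveI := NatIso.isIso_of_isIso_app (Functor.whiskerRight ρ (G0 f i))
  haveI := isIso_G0_map f i θ
  exact ⟨IsColimit.ofIsoColimit ((IsColimit.precomposeHomEquiv (asIso (Functor.whiskerRight ρ (G0 f i))) _).symm h1)
    (Cocone.ext (asIso ((G0 f i).map θ)) fun j => by
      change (G0 f i).map (c.ι.app j) ≫ (G0 f i).map θ = (G0 f i).map (ρ.app j) ≫ (G0 f i).map (d.ι.app j)
      rw [← Functor.map_comp, ← Functor.map_comp, hθ]).symm⟩

include hc hC in
theorem isIso_unit_colimit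
    (hac : ∀ j : J, IsIso (((DCoh.pushKh f).totalRightDerivedUnit DerivedCategory.Qh
      (HomotopyCategory.quasiIso X.Modules (ComplexShape.up ℤ))).app
      ((HomotopyCategory.quotient X.Modules (ComplexShape.up ℤ)).obj (C.obj j)))) :
    IsIso (((DCoh.pushKh f).totalRightDerivedUnit DerivedCategory.Qh
      (HomotopyCategory.quasiIso X.Modules (ComplexShape.up ℤ))).app
      ((HomotopyCategory.quotient X.Modules (ComplexShape.up ℤ)).obj c.pt)) := by
  haveI := Groth.L17.PushQCoh.additive_push f
  haveI := Groth.L00.Tensor.grothendieckAbelian_modules S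
  haveI := preservesColimitsOfShape_push f J
  rw [DerivedCategory.isIso_iff]
  intro i
  haveI := HomologyColim.preservesColimitsOfShape_homology (A := S.Modules) (J := J) (ComplexShape.up ℤ) i
  haveI : ∀ j, IsIso ((Functor.whiskerLeft C (cmp f i)).app j) := fun j => isIso_cmp f i _ (hac j)
  haveI := NatIso.isIso_of_isIso_app (Functor.whiskerLeft C (cmp f i))
  obtain ⟨h0⟩ := isColimit_G0 f C c hc n hC i
  have e : (cmp f i).app c.pt = ((isColimitOfPreserves (G1 f i) hc).coconePointsIsoOfNatIso h0
      (asIso (Functor.whiskerLeft C (cmp f i)))).hom :=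
    (isColimitOfPreserves (G1 f i) hc).hom_ext fun j => by
      rw [IsColimit.comp_coconePointsIsoOfNatIso_hom]
      exact (cmp f i).naturality (c.ι.app j)
  have h : IsIso ((cmp f i).app c.pt) := by rw [e]; infer_instance
  simp only [cmp, NatTrans.comp_app, Functor.whiskerLeft_app, Functor.whiskerRight_app, Functor.map_comp,
    isIso_comp_left_iff, isIso_comp_right_iff] at h
  exact h

end Groth.L29.DC.RpushColim
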