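import Groth.Agent.L00.KFlatPull
import Groth.Agent.L00.BifunctorExact
import Mathlib.RingTheory.Flat.CategoryTheory
import Mathlib.Algebra.Homology.DerivedCategory.Fractions
import Mathlib.Algebra.Homology.HomologySequence

/-!
Tor vanishing in a gap: tensoring a bounded complex of flat modules with a complex whose cohomology is
concentrated in one degree and far below it.
-/

set_option autoImplicit false
set_option backward.defeqAttrib.useBackward true
set_option backward.isDefEq.respectTransparency false
set_option backward.isDefEq.respectTransparency.types false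

universe u

open CategoryTheory CategoryTheory.Limits MonoidalCategory HomologicalComplex

attribute [local instance] HasDerivedCategory.standard

namespace Groth.L29.DC.GapTensor

open Groth.L00 Groth.L00.KFlatAlg

variable {A : Type u} [CommRing A]

/-- `M ↦ E ⊗ M` -/
noncomputable abbrev Φ (E : CochainComplex (ModuleCat.{u} A) ℤ) :
    CochainComplex (ModuleCat.{u} A) ℤ ⥤ CochainComplex (ModuleCat.{u} A) ℤ :=
  BifExact.T (curriedTensor (ModuleCat.{u} A)) E

variable (E : CochainComplex (ModuleCat.{u} A) ℤ)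

theorem isZero_X_of_above {b c : ℤ} (hE : ∀ p, b < p → IsZero (E.X p)) {C : CochainComplex (ModuleCat.{u} A) ℤ}
    (hC : ∀ q, c < q → IsZero (C.X q)) (j : ℤ) (hj : b + c < j) : IsZero (((Φ E).obj C).X j) := by
  rw [IsZero.iff_id_eq_zero]
  refine mapBifunctor.hom_ext fun p q h => ?_
  have h' : p + q = j := h
  by_cases hp : b < p
  · exact (((curriedTensor (ModuleCat.{u} A)).map_isZero (hE p hp)).obj (C.X q)).eq_of_src _ _
  · exact (((curriedTensor (ModuleCat.{u} A)).obj (E.X p)).map_isZero (hC q (by omega))).eq_of_src _ _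

theorem isZero_X_of_below {a c : ℤ} (hE : ∀ p, p < a → IsZero (E.X p)) {C : CochainComplex (ModuleCat.{u} A) ℤ}
    (hC : ∀ q, q < c → IsZero (C.X q)) (j : ℤ) (hj : j < a + c) : IsZero (((Φ E).obj C).X j) := by
  rw [IsZero.iff_id_eq_zero]
  refine mapBifunctor.hom_ext fun p q h => ?_
  have h' : p + q = j := h
  by_cases hp : p < a
  · exact (((curriedTensor (ModuleCat.{u} A)).map_isZero (hE p hp)).obj (C.X q)).eq_of_src _ _
  · exact (((curriedTensor (ModuleCat.{u} A)).obj (E.X p)).map_isZero (hC q (by omega))).eq_of_src _ _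

variable {E} (hflat : ∀ p, Module.Flat A (E.X p))

include hflat

theorem shortExact (S : ShortComplex (CochainComplex (ModuleCat.{u} A) ℤ)) (hS : S.ShortExact) :
    (S.map (Φ E)).ShortExact := by
  refine BifExact.shortExact_T _ E S fun p q => ?_
  haveI := hflat p
  haveI : PreservesFiniteLimits ((curriedTensor (ModuleCat.{u} A)).obj (E.X p)) :=
    inferInstanceAs (PreservesFiniteLimits (tensorLeft (E.X p)))
  exact (hS.map_of_exact (HomologicalComplex.eval _ (ComplexShape.up ℤ) q)).map_of_exact _

variable {b : ℤ} (hb : ∀ p, b < p → IsZero (E.X p))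

include hb

theorem quasiIso_map {M Q : CochainComplex (ModuleCat.{u} A) ℤ} (η : M ⟶ Q) [QuasiIso η] :
    QuasiIso ((Φ E).map η) :=
  haveI := hflat
  quasiIso_of_flat_left E η b hb

theorem iso_homology {M Q : CochainComplex (ModuleCat.{u} A) ℤ} (e : DerivedCategory.Q.obj M ≅ DerivedCategory.Q.obj Q)
    (i : ℤ) : Nonempty (((Φ E).obj M).homology i ≅ ((Φ E).obj Q).homology i) := by
  obtain ⟨R, s, hs, g, hg⟩ := DerivedCategory.right_fac e.hom
  haveI : QuasiIso s := (DerivedCategory.isIso_Q_map_iff_quasiIso _ s).1 hs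
  haveI : QuasiIso g := by
    refine (DerivedCategory.isIso_Q_map_iff_quasiIso _ g).1 ?_
    rw [show DerivedCategory.Q.map g = DerivedCategory.Q.map s ≫ e.hom by rw [hg, IsIso.hom_inv_id_assoc]]
    infer_instance
  haveI := quasiIso_map hflat hb s
  haveI := quasiIso_map hflat hb g
  exact ⟨(asIso (homologyMap ((Φ E).map s) i)).symm ≪≫ asIso (homologyMap ((Φ E).map g) i)⟩

theorem isZero_iff {M Q : CochainComplex (ModuleCat.{u} A) ℤ} (e : DerivedCategory.Q.obj M ≅ DerivedCategory.Q.obj Q)
    (i : ℤ) : IsZero (((Φ E).obj M).homology i) ↔ IsZero (((Φ E).obj Q).homology i) :=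
  (iso_homology hflat hb e i).some.isZero_iff

theorem isZero_above {c : ℤ} {C : CochainComplex (ModuleCat.{u} A) ℤ} (hC : ∀ q, c < q → IsZero (C.homology q))
    (i : ℤ) (hi : b + c < i) : IsZero (((Φ E).obj C).homology i) := by
  haveI : C.IsLE c := (CochainComplex.isLE_iff C c).2 fun q hq => (exactAt_iff_isZero_homology _ _).2 (hC q hq)
  haveI := quasiIso_map hflat hb (C.ιTruncLE c)
  refine (ShortComplex.isZero_homology_of_isZero_X₂ _ ?_).of_iso (asIso (homologyMap ((Φ E).map (C.ιTruncLE c)) i)).symm
  exact isZero_X_of_above E hb (fun q hq => CochainComplex.isZero_of_isStrictlyLE _ c q hq) i hi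

variable {a : ℤ} (ha : ∀ p, p < a → IsZero (E.X p))

include ha

theorem isZero_below {c : ℤ} {C : CochainComplex (ModuleCat.{u} A) ℤ} (hC : ∀ q, q < c → IsZero (C.homology q))
    (i : ℤ) (hi : i < a + c) : IsZero (((Φ E).obj C).homology i) := by
  haveI : C.IsGE c := (CochainComplex.isGE_iff C c).2 fun q hq => (exactAt_iff_isZero_homology _ _).2 (hC q hq)
  haveI := quasiIso_map hflat hb (C.πTruncGE c)
  refine (ShortComplex.isZero_homology_of_isZero_X₂ _ ?_).of_iso (asIso (homologyMap ((Φ E).map (C.πTruncGE c)) i))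
  exact isZero_X_of_below E ha (fun q hq => CochainComplex.isZero_of_isStrictlyGE _ c q hq) i hi

/-- vanishing in the gap -/
theorem isZero_gap {c n : ℤ} (hn : 0 < n) {G : CochainComplex (ModuleCat.{u} A) ℤ}
    (hG : ∀ q, c - n < q → q ≠ c → IsZero (G.homology q))
    (i : ℤ) (hi : b + c - n < i) (hi' : i < a + c) : IsZero (((Φ E).obj G).homology i) := by
  let S := G.shortComplexTruncLE (c - n)
  have hS := shortExact hflat S (G.shortComplexTruncLE_shortExact (c - n))
  refine (hS.homology_exact₂ i).isZero_X₂ (IsZero.eq_of_src ?_ _ _) (IsZero.eq_of_tgt ?_ _ _)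
  · refine ShortComplex.isZero_homology_of_isZero_X₂ _ ?_
    exact isZero_X_of_above E hb (fun q hq => CochainComplex.isZero_of_isStrictlyLE (G.truncLE (c - n)) (c - n) q hq)
      i (by omega)
  · refine isZero_below hflat hb ha (c := c) (C := S.X₃) (fun q hq => ?_) i hi'
    haveI : QuasiIso (G.shortComplexTruncLEX₃ToTruncGE (c - n) (c - n + 1)) := inferInstance
    refine IsZero.of_iso ?_ (asIso (homologyMap (G.shortComplexTruncLEX₃ToTruncGE (c - n) (c - n + 1)) q))
    by_cases hq' : c - n < q
    · haveI : QuasiIsoAt (G.πTruncGE (c - n + 1)) q := CochainComplex.quasiIsoAt_πTruncGE _ _ _ (by omega)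
      exact (hG q hq' (by omega)).of_iso (asIso (homologyMap (G.πTruncGE (c - n + 1)) q)).symm
    · exact ShortComplex.isZero_homology_of_isZero_X₂ _
        (CochainComplex.isZero_of_isStrictlyGE (G.truncGE (c - n + 1)) (c - n + 1) q (by omega))

end Groth.L29.DC.GapTensor
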