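import Groth.Agent.L29.DCoh.ExtDivisor
import Groth.Agent.L29.DCoh.Flat
import Groth.Agent.L29.DCoh.PullTensor
import Groth.Agent.L16.RDerSerre.HomO
import Groth.Agent.L17.SingleRDer
import Groth.Prelude.Def_Dual3

/-!
`R Hom(O_D, O) = N[-1]` for an effective Cartier divisor.
-/

set_option autoImplicit false
set_option backward.isDefEq.respectTransparency false
set_option linter.style.haveILetI false
universe u

attribute [local instance] HasDerivedCategory.standard

open CategoryTheory CategoryTheory.Limits AlgebraicGeometry TopologicalSpace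

noncomputable section

namespace Groth.L29.ExtDivisor

open Groth.L00.Tensor (tensorMap tensorIso tensorAssoc tensorComm tensorUnitLeft tensorUnitRight)
open Groth.L16.RelExt (tL)

variable {X : Scheme.{u}}

/-- `Hom(O, O) ⟶ Hom(J, O)` is injective for an invertible ideal. -/
theorem mono_sheafHomMap_unit {J L : X.Modules} [ModSite.HasSheafHom (O := X.sheaf) J]
    [ModSite.HasSheafHom (O := X.sheaf) (Coh.structureModule X)]
    (eL : CohB1.tensorMod L J ≅ Coh.structureModule X) (ι : J ⟶ Coh.structureModule X) [Mono ι] :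
    Mono ((ExtSupp.sheafHomMap (O := X.sheaf) ι).app (Coh.structureModule X)) := by
  let W := Coh.structureModule X
  let T : X.Modules ⥤ X.Modules := (ModSite.tensorBi X.sheaf).flip.obj J
  let adj : T ⊣ ModSite.sheafHom (O := X.sheaf) J := ModSite.sheafHomAdj (O := X.sheaf) J
  let adjO := ModSite.sheafHomAdj (O := X.sheaf) (Coh.structureModule X)
  haveI hT : T.IsEquivalence := isEquivalence_flip (tensorComm J L ≪≫ eL)
  haveI : ((ModSite.tensorBi X.sheaf).flip.obj (Coh.structureModule X)).IsEquivalence :=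
    isEquivalence_flip (N' := Coh.structureModule X) (tensorUnitRight _)
  let h := (ExtSupp.sheafHomMap (O := X.sheaf) ι).app W
  let incl : T.obj W ⟶ W := (tL W).map ι ≫ (rIso W).hom
  let u : W ⟶ (ModSite.sheafHom (O := X.sheaf) (Coh.structureModule X)).obj W :=
    adjO.homEquiv W W (rIso W).hom
  haveI : IsIso u := by
    have : u = adjO.unit.app W ≫ (ModSite.sheafHom (O := X.sheaf) (Coh.structureModule X)).map (rIso W).hom :=
      Adjunction.homEquiv_unit ..
    rw [this]
    infer_instance
  have ha : u ≫ h = adj.homEquiv W W incl := Groth.L16.RelExt.homEquiv_comp ι (rIso W).hom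
  let a := adj.homEquiv W W incl
  have hinc : T.map a ≫ adj.counit.app W = incl :=
    (Adjunction.homEquiv_counit (adj := adj) W W a).symm.trans (Equiv.symm_apply_apply _ _)
  haveI : Mono incl := by
    haveI := Groth.L16.RelExt.mono_tL (T := W) (Groth.L29.DC.isFlat_structureModule X) ι
    exact inferInstanceAs (Mono ((tL W).map ι ≫ (rIso W).hom))
  haveI : Mono (T.map a) := by
    have : T.map a = incl ≫ inv (adj.counit.app W) := by rw [← hinc, Category.assoc, IsIso.hom_inv_id, Category.comp_id]
    rw [this]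
    infer_instance
  haveI : Mono a := T.mono_of_mono_map ‹_›
  have : h = inv u ≫ a := by rw [show a = u ≫ h from ha.symm, IsIso.inv_hom_id_assoc]
  show Mono h
  rw [this]
  infer_instance

/-- Ext sheaves out of `Q` vanish outside degree one. -/
theorem isZero_extSh_seq {J L Q : X.Modules} (eL : CohB1.tensorMod L J ≅ Coh.structureModule X)
    (ι : J ⟶ Coh.structureModule X) (π : Coh.structureModule X ⟶ Q) (w : ι ≫ π = 0)
    (hS : (ShortComplex.mk ι π w).ShortExact)
    [ModSite.HasSheafHom (O := X.sheaf) Q] [HasInjectiveResolutions (ModSite.Mod X.sheaf)] (n : ℕ) (hn : n ≠ 1) :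
    IsZero ((ModSite.extSh (O := X.sheaf) Q n).obj (Coh.structureModule X)) := by
  haveI : ModSite.HasSheafHom (O := X.sheaf) J := Groth.L17.Duality.hasSheafHom _
  haveI hO : ModSite.HasSheafHom (O := X.sheaf) (Coh.structureModule X) := Groth.L17.Duality.hasSheafHom _
  let S : ShortComplex X.Modules := ShortComplex.mk ι π w
  haveI : ModSite.HasSheafHom (O := X.sheaf) S.X₁ := ‹ModSite.HasSheafHom (O := X.sheaf) J›
  haveI : ModSite.HasSheafHom (O := X.sheaf) S.X₂ := hO
  haveI : ModSite.HasSheafHom (O := X.sheaf) S.X₃ := ‹ModSite.HasSheafHom (O := X.sheaf) Q›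
  haveI : HasInjectiveResolutions X.Modules := ‹HasInjectiveResolutions (ModSite.Mod X.sheaf)›
  haveI := (ModSite.sheafHomAdj (O := X.sheaf) J).isRightAdjoint
  haveI := (ModSite.sheafHomAdj (O := X.sheaf) (Coh.structureModule X)).isRightAdjoint
  haveI := (ModSite.sheafHomAdj (O := X.sheaf) Q).isRightAdjoint
  haveI := isEquivalence_flip (N := Coh.structureModule X) (N' := Coh.structureModule X) (tensorUnitRight _)
  haveI := isEquivalence_flip (N := J) (N' := L) (tensorComm J L ≪≫ eL)
  haveI : (ModSite.sheafHom (O := X.sheaf) (Coh.structureModule X)).IsEquivalence :=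
    (ModSite.sheafHomAdj (O := X.sheaf) (Coh.structureModule X)).isEquivalence_right_of_isEquivalence_left
  haveI : (ModSite.sheafHom (O := X.sheaf) J).IsEquivalence :=
    (ModSite.sheafHomAdj (O := X.sheaf) J).isEquivalence_right_of_isEquivalence_left
  match n, hn with
  | 0, _ =>
    haveI : Epi π := hS.epi_g
    obtain ⟨hm, -⟩ := Groth.L16.RelExt.left_exact (S := S) hS (Coh.structureModule X)
    haveI : Mono ι := hS.mono_f
    haveI := mono_sheafHomMap_unit eL ι
    refine IsZero.of_iso ?_ ((ModSite.sheafHom (O := X.sheaf) Q).rightDerivedZeroIsoSelf.app _)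
    have h0 : (ExtSupp.sheafHomMap (O := X.sheaf) π).app (Coh.structureModule X) = 0 := by
      rw [← cancel_mono ((ExtSupp.sheafHomMap (O := X.sheaf) ι).app (Coh.structureModule X)),
        Groth.L16.RelExt.w_app S, zero_comp]
    exact @IsZero.of_mono_eq_zero _ _ _ _ _ _ hm h0
  | k + 2, _ =>
    obtain ⟨δ, hδ⟩ := Groth.L04.FunctorLES.exists_δ (ExtSupp.sheafHomMap (O := X.sheaf) π)
      (ExtSupp.sheafHomMap (O := X.sheaf) ι) (Groth.L16.RelExt.w_app S)
      (fun I hI => haveI : Injective (C := X.Modules) I := hI; shortExact_sheafHomMap hS I) (k + 1)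
    obtain ⟨-, h, he⟩ := hδ (Coh.structureModule X)
    exact he.isZero_of_both_zeros ((isZero_rightDerived_exact _ k _).eq_of_src _ _)
      ((isZero_rightDerived_exact _ (k + 1) _).eq_of_tgt _ _)

section Closed

variable {D : Scheme.{u}} (i : D ⟶ X) [IsClosedImmersion i]

theorem isZero_of_isZero_push {M : D.Modules} (h : IsZero ((Scheme.Modules.pushforward i).obj M)) : IsZero M := by
  haveI := Groth.L17.ClosedPush.isIso_counit i
  exact ((Scheme.Modules.pullback i).map_isZero h).of_iso
    (asIso ((Scheme.Modules.pullbackPushforwardAdjunction i).counit.app M)).symm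

variable [Dual3.HasHomO i]

/-- `i_*` of the derived functors of `Hom(O_D, -)` are the Ext sheaves. -/
theorem nonempty_push_rightDerived [HasInjectiveResolutions (ModSite.Mod X.sheaf)] [HasInjectiveResolutions X.Modules]
    [ModSite.HasSheafHom (O := X.sheaf) ((Scheme.Modules.pushforward i).obj (Coh.structureModule D))]
    (p : ℕ) (M : X.Modules) :
    Nonempty ((Scheme.Modules.pushforward i).obj (((Dual3.homO i).rightDerived p).obj M) ≅
      (ModSite.extSh (O := X.sheaf) ((Scheme.Modules.pushforward i).obj (Coh.structureModule D)) p).obj M) := by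
  let A := (Scheme.Modules.pushforward i).obj (Coh.structureModule D)
  haveI := Groth.L22.ExtSh.additive_homModF A
  haveI : PreservesFiniteColimits (Scheme.Modules.pushforward i) :=
    haveI : (Scheme.Modules.pushforward i).IsLeftAdjoint := (Dual3.homOAdj i).isLeftAdjoint
    inferInstance
  haveI : (Scheme.Modules.pushforward i).IsRightAdjoint :=
    (Scheme.Modules.pullbackPushforwardAdjunction i).isRightAdjoint
  haveI : PreservesFiniteLimits (Scheme.Modules.pushforward i) := inferInstance
  haveI : (Scheme.Modules.pushforward i).Additive := Groth.L17.PushQCoh.additive_push i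
  obtain ⟨κ⟩ := Groth.L22.DualSheaf.nonempty_homO_push i
  obtain ⟨e⟩ := Groth.L22.ExtSh.nonempty_extSh_iso A M p
  exact ⟨(Groth.L10.SiteCoh.rightDerivedCompIso (Dual3.homO i) (Scheme.Modules.pushforward i) p M).symm ≪≫
    (Groth.L10.SiteCoh.rightDerivedCongr κ p).app M ≪≫ e.symm⟩

theorem isZero_rightDerived_divisor [HasInjectiveResolutions X.Modules] (L : X.Modules)
    (hL : ClSub.IsInverseOf L (ClSub.idealMod i.ker)) (p : ℕ) (hp : p ≠ 1) :
    IsZero (((Dual3.homO i).rightDerived p).obj (Coh.structureModule X)) := by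
  haveI : HasInjectiveResolutions (ModSite.Mod X.sheaf) := ‹HasInjectiveResolutions X.Modules›
  obtain ⟨eL⟩ := hL
  obtain ⟨eD⟩ := nonempty_push_iso_quotMod i
  haveI := Groth.L17.Duality.hasSheafHom ((Scheme.Modules.pushforward i).obj (Coh.structureModule D))
  haveI : ModSite.HasSheafHom (O := X.sheaf) (ClSub.quotMod i.ker) := Groth.L17.Duality.hasSheafHom _
  obtain ⟨e⟩ := nonempty_push_rightDerived i p (Coh.structureModule X)
  exact isZero_of_isZero_push i ((IsZero.of_iso (isZero_extSh_seq eL (ClSub.idealModι i.ker)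
    (ClSub.toSubscheme i.ker) (kernel.condition _) (shortExact_idealSeq i.ker) p hp)
    ((Groth.L10.SiteCoh.rightDerivedCongr (Groth.L17.Duality.homCongr eD) p).app _)).of_iso e)

theorem nonempty_rightDerived_one [HasInjectiveResolutions X.Modules] (L : X.Modules)
    (hL : ClSub.IsInverseOf L (ClSub.idealMod i.ker)) :
    Nonempty (((Dual3.homO i).rightDerived 1).obj (Coh.structureModule X) ≅
      (Scheme.Modules.pullback i).obj L) := by
  haveI : HasInjectiveResolutions (ModSite.Mod X.sheaf) := ‹HasInjectiveResolutions X.Modules›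
  haveI := Groth.L17.Duality.hasSheafHom ((Scheme.Modules.pushforward i).obj (Coh.structureModule D))
  haveI := Groth.L17.ClosedPush.isIso_counit i
  obtain ⟨e⟩ := nonempty_push_rightDerived i 1 (Coh.structureModule X)
  obtain ⟨c⟩ := nonempty_extSh_one i L hL (Coh.structureModule X)
  exact ⟨(asIso ((Scheme.Modules.pullbackPushforwardAdjunction i).counit.app _)).symm ≪≫
    (Scheme.Modules.pullback i).mapIso (e ≪≫ c ≪≫ tensorIso (Iso.refl _) (tensorUnitRight L)) ≪≫
    (Groth.L29.DC.PullTensor.pullTensor i _ L).symm ≪≫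
    tensorIso (asIso ((Scheme.Modules.pullbackPushforwardAdjunction i).counit.app (Coh.structureModule D))) (Iso.refl _) ≪≫
    tensorUnitLeft _⟩

variable [EnoughInjectives X.Modules]

theorem homology_RHomOPlus_divisor (L : X.Modules) (hL : ClSub.IsInverseOf L (ClSub.idealMod i.ker))
    (O : DerivedCategory.Plus X.Modules) (hO : Nonempty (O.obj ≅ DCoh.inD X (Coh.structureModule X))) :
    (∀ j : ℤ, j ≠ 1 → IsZero (DCoh.HD ((Dual3.RHomOPlus i).obj O).obj j)) ∧
      Nonempty (DCoh.HD ((Dual3.RHomOPlus i).obj O).obj 1 ≅ (Scheme.Modules.pullback i).obj L) := by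
  haveI := Groth.L17.PushQCoh.hasInjectiveResolutions X
  obtain ⟨eO⟩ := hO
  let O' : DerivedCategory.Plus X.Modules := (DerivedCategory.Plus.singleFunctor X.Modules 0).obj (Coh.structureModule X)
  let e' : O ≅ O' := DerivedCategory.Plus.ι.preimageIso eO
  have eH : ∀ j : ℤ, DCoh.HD ((Dual3.RHomOPlus i).obj O).obj j ≅
      (Groth.L17.GrothSS.HH (Dual3.homO i) j).obj O' := fun j =>
    ((Groth.L17.GrothSS.homologyRightDerivedPlusIso (Dual3.homO i) j).app O) ≪≫
      (Groth.L17.GrothSS.HH (Dual3.homO i) j).mapIso e'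
  refine ⟨fun j hj => ?_, ?_⟩
  · refine IsZero.of_iso ?_ (eH j)
    by_cases h : 0 ≤ j
    · lift j to ℕ using h
      exact (isZero_rightDerived_divisor i L hL j (by omega)).of_iso
        (Groth.L17.GrothSS.hhSingleZeroIso (Dual3.homO i) _ j)
    · exact Groth.L17.GrothSS.isZero_HH_of_isGE (Dual3.homO i) O' 0 j (by omega)
  · obtain ⟨c⟩ := nonempty_rightDerived_one i L hL
    exact ⟨eH 1 ≪≫ Groth.L17.GrothSS.hhSingleZeroIso (Dual3.homO i) _ 1 ≪≫ c⟩

end Closed

end Groth.L29.ExtDivisor
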