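import Groth.Agent.L10.RDerCohIn

/-! An upper amplitude bound for right derived functors on bounded objects. -/

universe w w' v v' u u'

open CategoryTheory CategoryTheory.Limits CategoryTheory.Pretriangulated DerivedCategory

set_option autoImplicit false
set_option backward.defeqAttrib.useBackward true
set_option backward.isDefEq.respectTransparency false

namespace Groth.L29.DC.RDerLE

open Groth.L10

variable {A : Type u} [Category.{v} A] [Abelian A] [HasDerivedCategory.{w} A] [KInjDerived.EnoughKInjectives A]
  [HasInjectiveResolutions A] [EnoughInjectives A]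
  {B : Type u'} [Category.{v'} B] [Abelian B] [HasDerivedCategory.{w'} B] {F : A ⥤ B} [F.Additive]
  {RF : DerivedCategory A ⥤ DerivedCategory B}
  (α : F.mapHomotopyCategory (ComplexShape.up ℤ) ⋙ Qh ⟶ Qh ⋙ RF)
  [RF.IsRightDerivedFunctor α (HomotopyCategory.quasiIso A (ComplexShape.up ℤ))]

local notation "tt" => DerivedCategory.TStructure.t

include α in
/-- no cohomology above `b + N` if `R^p F` of the cohomology objects vanishes above `N` -/
theorem isZero_H_above (N : ℤ) (b : ℤ) : ∀ (n : ℕ) (Y : DerivedCategory A), Y.IsGE (b + 1 - n) → Y.IsLE b →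
    (∀ i, b + 1 - n ≤ i → i ≤ b → ∀ p : ℕ, N < (p : ℤ) → IsZero ((F.rightDerived p).obj ((homologyFunctor A i).obj Y))) →
    ∀ j : ℤ, b + N < j → IsZero ((homologyFunctor B j).obj (RF.obj Y)) := by
  intro n
  induction n with
  | zero =>
    intro Y hY hle _ j hj
    have hz : IsZero Y := (IsZero.iff_id_eq_zero Y).2 <| by
      haveI : IsIso (0 : Y ⟶ Y) := by
        rw [DerivedCategory.isIso_iff]
        intro i
        have : IsZero ((homologyFunctor A i).obj Y) := by
          by_cases hi : i ≤ b
          · exact DerivedCategory.isZero_of_isGE Y (b + 1 - (0 : ℕ)) i (by omega)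
          · exact DerivedCategory.isZero_of_isLE Y b i (by omega)
        exact ⟨0, this.eq_of_src _ _, this.eq_of_src _ _⟩
      exact (IsIso.inv_hom_id (0 : Y ⟶ Y)).symm.trans comp_zero
    have hQ : Y.IsGE (j + 1) := by
      rw [DerivedCategory.isGE_iff]
      exact fun i _ => (homologyFunctor A i).map_isZero hz
    have := RDerBound.isGE_obj α Y (j + 1)
    exact DerivedCategory.isZero_of_isGE _ (j + 1) j (by omega)
  | succ n ih =>
    intro Y hY hle h j hj
    let a := b + 1 - (n + 1 : ℕ)
    let L := ((tt).truncLT (a + 1)).obj Y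
    let R := ((tt).truncGE (a + 1)).obj Y
    have hLle : L.IsLE a := (tt).isLE_truncLT_obj _ _ _ (by omega)
    have hLge : L.IsGE a := by
      rw [DerivedCategory.isGE_iff]
      intro i hi
      have := isIso_H_ι (a + 1) i (by omega) Y
      exact (DerivedCategory.isZero_of_isGE Y a i hi).of_iso
        (asIso ((homologyFunctor A i).map (((tt).truncLTι (a + 1)).app Y)))
    obtain ⟨δ, hT⟩ := RDerTri.exists_triangle α _ ((tt).triangleLTGE_distinguished (a + 1) Y)
    have hRle : R.IsLE b := by
      rw [DerivedCategory.isLE_iff]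
      intro i hi
      by_cases hi' : a + 1 ≤ i
      · have := L10.isIso_H_π (a + 1) i hi' Y
        exact (DerivedCategory.isZero_of_isLE Y b i hi).of_iso
          (asIso ((homologyFunctor A i).map (((tt).truncGEπ (a + 1)).app Y))).symm
      · exact isZero_H_GE (a + 1) i (by omega) Y
    have hRge : R.IsGE (b + 1 - n) := by
      rw [show b + 1 - (n : ℤ) = a + 1 by simp only [a]; push_cast; omega]
      infer_instance
    have hR0 : IsZero ((homologyFunctor B j).obj (RF.obj R)) := by
      refine ih R hRge hRle (fun i hge hi p hp => ?_) j hj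
      have := L10.isIso_H_π (a + 1) i (by simp only [a]; push_cast; omega) Y
      exact (h i (by push_cast; omega) hi p hp).of_iso ((F.rightDerived p).mapIso
        (asIso ((homologyFunctor A i).map (((tt).truncGEπ (a + 1)).app Y))).symm)
    have hL0 : IsZero ((homologyFunctor B j).obj (RF.obj L)) := by
      obtain ⟨e⟩ := exists_iso_single_H L a
      let M := (homologyFunctor A a).obj L
      refine IsZero.of_iso ?_ ((homologyFunctor B j).mapIso (RF.mapIso e))
      obtain ⟨e'⟩ := RDerTri.nonempty_obj_shift α ((singleFunctor A 0).obj M) (-a)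
      let E : (homologyFunctor B j).obj (RF.obj ((singleFunctor A a).obj M)) ≅
          (homologyFunctor B (j - a)).obj (RF.obj ((singleFunctor A 0).obj M)) :=
        (homologyFunctor B j).mapIso (RF.mapIso (((singleFunctors A).shiftIso (-a) a 0 (by omega)).symm.app M) ≪≫ e') ≪≫
          hShiftIso _ (-a) j (j - a) (by omega)
      refine IsZero.of_iso ?_ E
      obtain ⟨hge, hp⟩ := RDerTri.isGE_single α M
      by_cases hlt : j - a < 0
      · exact DerivedCategory.isZero_of_isGE _ 0 (j - a) hlt
      · obtain ⟨p, hp'⟩ : ∃ p : ℕ, (p : ℤ) = j - a := ⟨(j - a).toNat, by omega⟩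
        rw [← hp']
        have := isIso_H_ι (a + 1) a (by omega) Y
        exact ((h a le_rfl (by simp only [a]; omega) p (by simp only [a] at hp'; omega)).of_iso
          ((F.rightDerived p).mapIso (asIso ((homologyFunctor A a).map (((tt).truncLTι (a + 1)).app Y))))).of_iso (hp p).some
    exact (HomologySequence.exact₂ _ hT j).isZero_of_both_zeros (hL0.eq_of_src _ _) (hR0.eq_of_tgt _ _)

end Groth.L29.DC.RDerLE
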