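import Groth.Agent.L29.DCoh.TildeD
import Groth.Agent.L29.DCoh.PCQCoh
import Groth.Agent.L18.LocFreeTilde
import Groth.Agent.L20.DescLocus.Main
import Groth.Agent.L16.AffineBC.Pullback
import Groth.Agent.L09.DerivedRetract
import Mathlib.Algebra.Homology.DerivedCategory.KProjective

/-!
On an affine scheme, maps out of bounded above complexes of finite locally free modules into complexes of
quasi-coherent modules agree in `K` and in `D`.
-/

set_option autoImplicit false

universe u v w v' w' u'

open CategoryTheory CategoryTheory.Limits AlgebraicGeometry DerivedCategory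

set_option backward.defeqAttrib.useBackward true
set_option backward.isDefEq.respectTransparency false
set_option linter.style.haveILetI false

namespace Groth.L29.DC.AffineKMap

section Transfer

variable {B : Type u'} [Category.{v'} B] [Abelian B] [HasDerivedCategory.{w'} B]
  {C : Type u} [Category.{v} C] [Abelian C] [HasDerivedCategory.{w} C]
  (T : B ⥤ C) [T.Additive] [PreservesFiniteLimits T] [PreservesFiniteColimits T] [T.Full] [T.Faithful]

/-- the comparison of `K` and `D` -/
def KD {D : Type u} [Category.{v} D] [Abelian D] [HasDerivedCategory.{w} D] (K L : CochainComplex D ℤ) : Prop :=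
  Function.Bijective (fun φ : (HomotopyCategory.quotient D (ComplexShape.up ℤ)).obj K ⟶
    (HomotopyCategory.quotient D (ComplexShape.up ℤ)).obj L => Qh.map φ)

theorem kd_map_iff [T.mapDerivedCategory.Full] [T.mapDerivedCategory.Faithful] (K L : CochainComplex B ℤ) :
    KD K L ↔ KD ((T.mapHomologicalComplex (ComplexShape.up ℤ)).obj K)
      ((T.mapHomologicalComplex (ComplexShape.up ℤ)).obj L) := by
  let H := T.mapHomotopyCategory (ComplexShape.up ℤ)
  let e := T.mapDerivedCategoryFactorsh
  let a := (HomotopyCategory.quotient B (ComplexShape.up ℤ)).obj K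
  let b := (HomotopyCategory.quotient B (ComplexShape.up ℤ)).obj L
  let h₁ : (Qh.obj a ⟶ Qh.obj b) ≃ (Qh.obj (H.obj a) ⟶ Qh.obj (H.obj b)) :=
    (Functor.FullyFaithful.ofFullyFaithful T.mapDerivedCategory).homEquiv.trans
      (Iso.homCongr (e.app a) (e.app b))
  let h₀ : (a ⟶ b) ≃ (H.obj a ⟶ H.obj b) := (Functor.FullyFaithful.ofFullyFaithful H).homEquiv
  have key : (fun φ : H.obj a ⟶ H.obj b => Qh.map φ) ∘ h₀ = h₁ ∘ fun φ : a ⟶ b => Qh.map φ := by
    funext φ
    change Qh.map (H.map φ) = e.inv.app a ≫ T.mapDerivedCategory.map (Qh.map φ) ≫ e.hom.app b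
    exact (Iso.inv_hom_id_app_assoc e a _).symm.trans (congrArg (e.inv.app a ≫ ·) (e.hom.naturality φ).symm)
  change Function.Bijective (fun φ : a ⟶ b => Qh.map φ) ↔
    Function.Bijective (fun φ : H.obj a ⟶ H.obj b => Qh.map φ)
  rw [← Function.Bijective.of_comp_iff _ h₀.bijective, key, Function.Bijective.of_comp_iff' h₁.bijective]

theorem full_faithful_of_isEquivalence [T.IsEquivalence] :
    T.mapDerivedCategory.Full ∧ T.mapDerivedCategory.Faithful := by
  haveI : T.inv.Additive := Functor.additive_of_preserves_binary_products _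
  have h := Groth.L09.DerivedRetract.bijective_mapDerivedCategory T T.inv (𝟭 C) T.asEquivalence.unitIso.symm
    (𝟙 _) T.asEquivalence.counit (fun _ => inferInstance) (fun _ => inferInstance)
  exact ⟨⟨fun {X Y} g => (h X Y).2 g⟩, ⟨fun {X Y} g g' e => (h X Y).1 e⟩⟩

theorem kd_congr {D : Type u} [Category.{v} D] [Abelian D] [HasDerivedCategory.{w} D] {K K' L L' : CochainComplex D ℤ}
    (a : K ≅ K') (b : L ≅ L') (h : KD K L) : KD K' L' := by
  let q := HomotopyCategory.quotient D (ComplexShape.up ℤ)
  let h₀ := Iso.homCongr (q.mapIso a) (q.mapIso b)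
  let h₁ := Iso.homCongr (Qh.mapIso (q.mapIso a)) (Qh.mapIso (q.mapIso b))
  have key : (fun φ : q.obj K' ⟶ q.obj L' => Qh.map φ) ∘ h₀ = h₁ ∘ fun φ : q.obj K ⟶ q.obj L => Qh.map φ := by
    funext φ
    simp [h₀, h₁, Iso.homCongr]
  unfold KD
  rw [← Function.Bijective.of_comp_iff _ h₀.bijective, key, Function.Bijective.of_comp_iff' h₁.bijective]
  exact h

end Transfer

attribute [local instance] HasDerivedCategory.standard

/-- a complex of quasi-coherent modules on `Spec R` is a `tilde` -/
theorem exists_tilde {R : CommRingCat.{u}} (F : CochainComplex (Spec R).Modules ℤ) (hF : ∀ i, Coh.IsQCoh (F.X i)) :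
    ∃ M : CochainComplex (ModuleCat.{u} R) ℤ,
      Nonempty (((tilde.functor R).mapHomologicalComplex (ComplexShape.up ℤ)).obj M ≅ F) := by
  let Γ' := (moduleSpecΓFunctor (R := R))
  refine ⟨(Γ'.mapHomologicalComplex (ComplexShape.up ℤ)).obj F,
    ⟨HomologicalComplex.Hom.isoOfComponents (fun i =>
      @asIso _ _ _ _ (tilde.adjunction.counit.app (F.X i)) ?_) fun i j _ => (tilde.adjunction.counit.naturality _).symm⟩⟩
  exact Adjunction.isIso_counit_app_of_iso tilde.adjunction ((TildeD.isQCoh_iff_essImage _).1 (hF i)).getIso.symm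

/-- the statement on `Spec R` -/
theorem kd_spec {R : CommRingCat.{u}} (E F : CochainComplex (Spec R).Modules ℤ) (b : ℤ)
    (hEb : ∀ i, b < i → IsZero (E.X i)) (hE : ∀ i, FlatMod.IsFinLocFree (E.X i))
    (hF : ∀ i, Coh.IsQCoh (F.X i)) : KD E F := by
  haveI := Groth.L18.TildeF.tilde_preservesFiniteLimits (R := R)
  obtain ⟨P, ⟨eP⟩⟩ := exists_tilde E fun i => Groth.L29.DC.PCQCoh.isQCoh_of_isFinLocFree (hE i)
  obtain ⟨M, ⟨eM⟩⟩ := exists_tilde F hF
  haveI : ∀ i, Projective (P.X i) := fun i => by
    have h : FlatMod.IsFinLocFree (tilde (P.X i)) :=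
      Groth.L29.LocFree.of_iso ((HomologicalComplex.eval _ _ i).mapIso eP).symm (hE i)
    haveI := ((Groth.L18.LFP.isFinLocFree_tilde_iff (P.X i)).1 h).2
    exact IsProjective.iff_projective _ |>.1 inferInstance
  haveI : P.IsStrictlyLE b := (CochainComplex.isStrictlyLE_iff P b).2 fun i hi =>
    (IsZero.iff_id_eq_zero _).2 ((tilde.functor R).map_injective (((hEb i hi).of_iso ((HomologicalComplex.eval _ _ i).mapIso eP)).eq_of_src _ _))
  haveI : P.IsKProjective := CochainComplex.isKProjective_of_projective P b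
  obtain ⟨_, _⟩ := TildeD.fullyFaithful (R := R)
  exact kd_congr eP eM ((kd_map_iff (tilde.functor R) P M).1 (CochainComplex.IsKProjective.Qh_map_bijective _ _))

/-- the statement on an affine scheme -/
theorem kd_affine {X : Scheme.{u}} [IsAffine X] (E F : CochainComplex X.Modules ℤ) (b : ℤ)
    (hEb : ∀ i, b < i → IsZero (E.X i)) (hE : ∀ i, FlatMod.IsFinLocFree (E.X i))
    (hF : ∀ i, Coh.IsQCoh (F.X i)) : KD E F := by
  let s := X.isoSpec.inv
  let e : X.Modules ≌ (Spec Γ(X, ⊤)).Modules := CategoryTheory.Equivalence.mk (Scheme.Modules.pullback s)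
    (Scheme.Modules.pullback (inv s))
    ((Scheme.Modules.pullbackComp (inv s) s ≪≫ Scheme.Modules.pullbackCongr (IsIso.inv_hom_id s) ≪≫
      Scheme.Modules.pullbackId _).symm)
    (Scheme.Modules.pullbackComp s (inv s) ≪≫ Scheme.Modules.pullbackCongr (IsIso.hom_inv_id s) ≪≫
      Scheme.Modules.pullbackId _)
  haveI : (Scheme.Modules.pullback s).IsEquivalence := e.isEquivalence_functor
  obtain ⟨_, _⟩ := full_faithful_of_isEquivalence (Scheme.Modules.pullback s)
  refine (kd_map_iff (Scheme.Modules.pullback s) E F).2 (kd_spec _ _ b (fun i hi => ?_) (fun i => ?_) fun i => ?_)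
  · exact (Scheme.Modules.pullback s).map_isZero (hEb i hi)
  · exact Groth.L20.DescLocus.isFinLocFree_pullback s (hE i)
  · haveI := hF i
    exact Groth.L16.AffineBC.isQCoh_pullback s (F.X i)

end Groth.L29.DC.AffineKMap
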