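import Groth.Agent.L29.DCoh.Amplitude
import Groth.Agent.L00.PullStalk
import Groth.Agent.L00.DerivedApi
import Groth.Agent.L00.TorFlat
import Mathlib.AlgebraicGeometry.Morphisms.Flat
import Mathlib.RingTheory.Flat.FaithfullyFlat.Algebra

/-!
Tor amplitude descends along flat surjective morphisms.
-/

set_option autoImplicit false
set_option backward.isDefEq.respectTransparency false
set_option backward.isDefEq.respectTransparency.types false

universe u

open CategoryTheory CategoryTheory.Limits AlgebraicGeometry HomologicalComplex ZeroObject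

attribute [local instance] HasDerivedCategory.standard

noncomputable section

namespace Groth.L29.DC.AmpDesc

variable {X Y : Scheme.{u}} (f : X ⟶ Y) [Flat f] (x : X)

/-- the stalk map is faithfully flat -/
theorem faithfullyFlat : (Groth.L00.PullStalk.φ f x).FaithfullyFlat := by
  letI := (Groth.L00.PullStalk.φ f x).toAlgebra
  haveI : Module.Flat (Y.presheaf.stalk (f x)) (X.presheaf.stalk x) := AlgebraicGeometry.Flat.stalkMap f x
  haveI : IsLocalHom (algebraMap (Y.presheaf.stalk (f x)) (X.presheaf.stalk x)) :=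
    inferInstanceAs (IsLocalHom (f.stalkMap x).hom)
  exact RingHom.faithfullyFlat_algebraMap_iff.2 Module.FaithfullyFlat.of_flat_of_isLocalHom

theorem flat_of_pullback {M : Y.Modules} (h : FlatMod.IsFlat ((Scheme.Modules.pullback f).obj M)) :
    Module.Flat (Y.presheaf.stalk (f x)) ((Groth.L00.Stk.F Y (f x)).obj M) := by
  have h' := Groth.L00.TorAmp.flat_of_iso ((Groth.L00.PullStalk.stalkIso f x).app M).symm (h x)
  letI := (Groth.L00.PullStalk.φ f x).toAlgebra
  haveI : Module.FaithfullyFlat (Y.presheaf.stalk (f x)) (X.presheaf.stalk x) :=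
    RingHom.faithfullyFlat_algebraMap_iff.1 (faithfullyFlat f x)
  haveI : Module.Flat (X.presheaf.stalk x)
      (TensorProduct (Y.presheaf.stalk (f x)) (X.presheaf.stalk x) ((Groth.L00.Stk.F Y (f x)).obj M)) := h'
  exact Module.Flat.of_flat_tensorProduct (Y.presheaf.stalk (f x)) _ (X.presheaf.stalk x)

theorem isZero_of_pullback (P : CochainComplex Y.Modules ℤ) (i : ℤ)
    (h : IsZero ((((Scheme.Modules.pullback f).mapHomologicalComplex (ComplexShape.up ℤ)).obj P).homology i)) :
    IsZero (((Groth.L00.Stk.S Y (f x)).obj P).homology i) := by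
  let A := Y.presheaf.stalk (f x)
  let B := X.presheaf.stalk x
  let g := Groth.L00.PullStalk.φ f x
  letI := g.toAlgebra
  haveI hff : Module.FaithfullyFlat A B := RingHom.faithfullyFlat_algebraMap_iff.1 (faithfullyFlat f x)
  let C := (Groth.L00.Stk.S Y (f x)).obj P
  have h1 := (Groth.L00.Stk.acyclic_iff _ i).1 h x
  let e : (Groth.L00.Stk.S X x).obj
      (((Scheme.Modules.pullback f).mapHomologicalComplex (ComplexShape.up ℤ)).obj P) ≅
      ((ModuleCat.extendScalars g).mapHomologicalComplex (ComplexShape.up ℤ)).obj C :=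
    Hom.isoOfComponents (fun j => (Groth.L00.PullStalk.stalkIso f x).app (P.X j))
      (fun j k _ => ((Groth.L00.PullStalk.stalkIso f x).hom.naturality (P.d j k)).symm)
  have h2 : IsZero ((((ModuleCat.extendScalars g).mapHomologicalComplex (ComplexShape.up ℤ)).obj C).homology i) :=
    h1.of_iso ((homologyFunctor _ _ i).mapIso e).symm
  rw [← exactAt_iff_isZero_homology, exactAt_iff' _ (i - 1) i (i + 1) (by simp) (by simp),
    ShortComplex.ShortExact.moduleCat_exact_iff_function_exact] at h2 ⊢
  exact (Module.FaithfullyFlat.lTensor_exact_iff_exact A B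
    (C.d (i - 1) i).hom (C.d i (i + 1)).hom).1 h2

variable [Surjective f]

theorem flatAmp_descends [DCoh.HasLpull f] (E : DCoh.D Y) (a b : ℤ)
    (h : DCoh.HasFlatAmplitudeIn a b ((DCoh.Lpull f).obj E)) : DCoh.HasFlatAmplitudeIn a b E := by
  have hG := Groth.L00.DerivedApi.acyclicKFlat_pullback f
  obtain ⟨F, ⟨eF⟩⟩ : ∃ F, Nonempty (DCoh.toD Y F ≅ E) := ⟨_, ⟨DerivedCategory.Q.objObjPreimageIso E⟩⟩
  let P := (Groth.L00.KFlat.RF Y).obj F
  haveI := Groth.L00.TorAmp.isIso_Q_rF F
  let eP : DCoh.toD Y P ≅ E := asIso (DerivedCategory.Q.map ((Groth.L00.KFlat.rF Y).app F)) ≪≫ eF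
  have hz : ∀ i, i < a ∨ b < i → IsZero (DCoh.HD E i) := fun i hi => by
    have := (Groth.L00.DerivedApi.isZero_HD_iff hG (Groth.L00.KFlat.isKFlat_RF F) eP i).1
      (isZero_HD_of_flatAmp h hi)
    refine IsZero.of_iso ((Groth.L00.Stk.acyclic_iff P i).2 fun y => ?_)
      ((DerivedCategory.homologyFunctor Y.Modules i).mapIso eP.symm ≪≫
        (DerivedCategory.homologyFunctorFactors Y.Modules i).app P)
    obtain ⟨x, rfl⟩ := f.surjective y
    exact isZero_of_pullback f x P i this
  by_cases hab : b < a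
  · refine ⟨0, fun i _ => (HomologicalComplex.eval _ _ i).map_isZero (isZero_zero _), fun i =>
      Groth.L00.KFlat.isFlat_zero ((HomologicalComplex.eval _ _ i).map_isZero (isZero_zero _)),
      ⟨(DerivedCategory.Q.map_isZero (isZero_zero _)).iso (isZero_of_HD E fun i => hz i (by omega))⟩⟩
  obtain ⟨Q, hQ, hk, hf, ⟨eQ⟩⟩ := exists_flat_representative_le E b fun i hi => hz i (Or.inr hi)
  haveI := hQ
  haveI : Q.IsGE a := (CochainComplex.isGE_iff Q a).2 fun i hi =>
    (HomologicalComplex.exactAt_iff_isZero_homology _ _).2 ((hz i (Or.inl hi)).of_iso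
      (((DerivedCategory.homologyFunctorFactors Y.Modules i).app Q).symm ≪≫
        (DerivedCategory.homologyFunctor Y.Modules i).mapIso eQ))
  haveI : IsIso (DerivedCategory.Q.map (Q.πTruncGE a)) :=
    (DerivedCategory.isIso_Q_map_iff_quasiIso _ _).2 inferInstance
  refine ⟨Q.truncGE a, fun i hi => ?_, fun i => ?_, ⟨(asIso (DerivedCategory.Q.map (Q.πTruncGE a))).symm ≪≫ eQ⟩⟩
  · rcases hi with hi | hi
    · exact CochainComplex.isZero_of_isStrictlyGE (Q.truncGE a) a i hi
    · exact (CochainComplex.isZero_of_isStrictlyLE Q b i hi).of_iso (Q.truncGEXIso a i (by omega))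
  · rcases lt_trichotomy i a with hi | rfl | hi
    · exact Groth.L00.KFlat.isFlat_zero (CochainComplex.isZero_of_isStrictlyGE (Q.truncGE a) a i hi)
    · refine Groth.L00.KFlat.isFlat_of_iso ((Q.truncGEXIsoOpcycles i) ≪≫ (IsColimit.coconePointUniqueUpToIso
        (Q.opcyclesIsCokernel (i - 1) i (by simp)) (cokernelIsCokernel (Q.d (i - 1) i)))).symm (fun y => ?_)
      obtain ⟨x, rfl⟩ := f.surjective y
      refine flat_of_pullback f x (Groth.L00.KFlat.isFlat_of_iso
        (PreservesCokernel.iso (Scheme.Modules.pullback f) (Q.d (i - 1) i)).symm ?_)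
      obtain ⟨E', hv, hf', ⟨e'⟩⟩ := h
      exact Groth.L00.TorAmp.isFlat_cokernel_of_torAmp
        (((Scheme.Modules.pullback f).mapHomologicalComplex (ComplexShape.up ℤ)).obj Q)
        (Groth.L00.KFlat.pullback_kflat f Q hk) (fun n => Groth.L00.TorAmp.isFlat_pullback f (hf n))
        ((Groth.L00.DerivedApi.objIso hG Q hk).symm ≪≫ (DCoh.Lpull f).mapIso eQ)
        (fun G => Groth.L00.DerivedApi.hasLTensorMod G) i
        (fun G _ => Groth.L00.TorAmp.torAmp_of_flatAmp hv hf' e' G (i - 1) (Or.inl (by omega)))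
    · exact Groth.L00.KFlat.isFlat_of_iso (Q.truncGEXIso a i hi).symm (hf i)
where
  isZero_of_HD {Y : Scheme.{u}} (E : DCoh.D Y) (h : ∀ i, IsZero (DCoh.HD E i)) : IsZero E := by
    haveI : IsIso (0 : E ⟶ (0 : DCoh.D Y)) := (DerivedCategory.isIso_iff Y.Modules _).2 fun i =>
      isIso_of_source_target_iso_zero _ (h i).isoZero
        ((DerivedCategory.homologyFunctor _ i).map_isZero (Limits.isZero_zero _)).isoZero
    exact (Limits.isZero_zero _).of_iso (asIso (0 : E ⟶ (0 : DCoh.D Y)))

end Groth.L29.DC.AmpDesc
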