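import Groth.Agent.L29.DCoh.HomCx

/-!
The evaluation map for internal Homs of an associative tensor bifunctor, for an abstract category.
-/

set_option autoImplicit false
set_option backward.isDefEq.respectTransparency false
set_option backward.isDefEq.respectTransparency.types false

universe v u

open CategoryTheory CategoryTheory.Limits

namespace Groth.L29.DC.EvalAbs

variable {D : Type u} [Category.{v} D] [Preadditive D]

theorem mate_comp {F₁ F₂ F₃ R₁ R₂ R₃ : D ⥤ D} (a₁ : F₁ ⊣ R₁) (a₂ : F₂ ⊣ R₂) (a₃ : F₃ ⊣ R₃) (τ : F₁ ⟶ F₂)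
    (σ : F₂ ⟶ F₃) (L : D) :
    RHomExact.mate a₂ a₃ σ L ≫ RHomExact.mate a₁ a₂ τ L = RHomExact.mate a₁ a₃ (τ ≫ σ) L := by
  apply (a₁.homEquiv _ _).symm.injective
  rw [RHomExact.symm_comp_mate, RHomExact.mate, RHomExact.mate, Equiv.symm_apply_apply, Equiv.symm_apply_apply,
    NatTrans.comp_app, Category.assoc]

theorem mate_id {F R : D ⥤ D} (a : F ⊣ R) (L : D) : RHomExact.mate a a (𝟙 F) L = 𝟙 _ := by
  apply (a.homEquiv _ _).symm.injective
  rw [RHomExact.mate, Equiv.symm_apply_apply, Adjunction.homEquiv_counit, NatTrans.id_app,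
    CategoryTheory.Functor.map_id]

theorem isIso_mate {F₁ F₂ R₁ R₂ : D ⥤ D} (a₁ : F₁ ⊣ R₁) (a₂ : F₂ ⊣ R₂) (θ : F₁ ≅ F₂) (L : D) :
    IsIso (RHomExact.mate a₁ a₂ θ.hom L) :=
  ⟨RHomExact.mate a₂ a₁ θ.inv L, by rw [mate_comp, Iso.inv_hom_id, mate_id],
    by rw [mate_comp, Iso.hom_inv_id, mate_id]⟩

variable (T : D ⥤ D ⥤ D) [∀ X, (T.obj X).IsLeftAdjoint] [∀ X, (T.flip.obj X).IsLeftAdjoint]
  (α : ∀ K L : D, T.flip.obj K ⋙ T.flip.obj L ≅ T.flip.obj ((T.obj K).obj L))
  (h₂ : ∀ (P : D) {K K' : D} (g : K ⟶ K') (L : D),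
    (T.map ((T.obj P).map g)).app L ≫ (α K' L).hom.app P =
      (α K L).hom.app P ≫ (T.obj P).map ((T.map g).app L))
  (h₃ : ∀ (P K : D) {L L' : D} (g : L ⟶ L'),
    (T.obj ((T.obj P).obj K)).map g ≫ (α K L').hom.app P =
      (α K L).hom.app P ≫ (T.obj P).map ((T.obj K).map g))
  (I J : D)

/-- the inner Hom -/
noncomputable abbrev A (K : D) : D := (T.obj K).rightAdjoint.obj I

/-- the outer Hom -/
noncomputable abbrev Hh : D := (T.flip.obj I).rightAdjoint.obj J

/-- the map to be adjointed -/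
noncomputable def body (K : D) : (T.flip.obj (A T I K)).obj ((T.obj (Hh T I J)).obj K) ⟶ J :=
  (α K (A T I K)).hom.app (Hh T I J) ≫
    (T.obj (Hh T I J)).map ((Adjunction.ofIsLeftAdjoint (T.obj K)).counit.app I) ≫
    (Adjunction.ofIsLeftAdjoint (T.flip.obj I)).counit.app J

/-- the evaluation map -/
noncomputable def κ (K : D) : (T.obj (Hh T I J)).obj K ⟶ (T.flip.obj (A T I K)).rightAdjoint.obj J :=
  (Adjunction.ofIsLeftAdjoint (T.flip.obj (A T I K))).homEquiv _ _ (body T α I J K)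

theorem symm_κ (K : D) :
    ((Adjunction.ofIsLeftAdjoint (T.flip.obj (A T I K))).homEquiv _ _).symm (κ T α I J K) = body T α I J K :=
  Equiv.symm_apply_apply _ _

/-- contravariance of the inner Hom -/
noncomputable abbrev mA {K K' : D} (g : K ⟶ K') : A T I K' ⟶ A T I K :=
  RHomExact.mate (Adjunction.ofIsLeftAdjoint (T.obj K)) (Adjunction.ofIsLeftAdjoint (T.obj K')) (T.map g) I

include h₂ h₃ in
theorem κ_natural {K K' : D} (g : K ⟶ K') :
    (T.obj (Hh T I J)).map g ≫ κ T α I J K' =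
      κ T α I J K ≫ RHomExact.mate (Adjunction.ofIsLeftAdjoint (T.flip.obj (A T I K')))
        (Adjunction.ofIsLeftAdjoint (T.flip.obj (A T I K))) (T.flip.map (mA T I g)) J := by
  apply ((Adjunction.ofIsLeftAdjoint (T.flip.obj (A T I K'))).homEquiv _ _).symm.injective
  rw [RHomExact.symm_comp_mate, symm_κ, Adjunction.homEquiv_naturality_left_symm, symm_κ, body, body]
  change (T.map ((T.obj (Hh T I J)).map g)).app (A T I K') ≫ _ =
    (T.obj ((T.obj (Hh T I J)).obj K)).map (mA T I g) ≫ _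
  rw [reassoc_of% (h₂ (Hh T I J) g (A T I K')), reassoc_of% (h₃ (Hh T I J) K (mA T I g)),
    ← Functor.map_comp_assoc, ← Functor.map_comp_assoc]
  refine congrArg (fun t => (α K (A T I K')).hom.app _ ≫ (T.obj (Hh T I J)).map t ≫ _) ?_
  refine Eq.trans ?_ ((Adjunction.ofIsLeftAdjoint (T.obj K)).homEquiv_counit _ _ _)
  exact (((Adjunction.ofIsLeftAdjoint (T.obj K)).homEquiv _ _).symm_apply_apply _).symm

/-- on a unit object the evaluation map is invertible -/
theorem isIso_κ_unit (O : D) (U : T.flip.obj O ≅ 𝟭 D) (V : T.obj O ≅ 𝟭 D) : IsIso (κ T α I J O) := by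
  haveI : (T.obj O).IsEquivalence := Functor.isEquivalence_of_iso V.symm
  let ev : (T.obj O).obj (A T I O) ≅ I := asIso ((Adjunction.ofIsLeftAdjoint (T.obj O)).counit.app I)
  let θ : T.flip.obj (A T I O) ≅ T.flip.obj I :=
    (Functor.leftUnitor _).symm ≪≫ Functor.isoWhiskerRight U.symm _ ≪≫ α O (A T I O) ≪≫ T.flip.mapIso ev
  haveI := isIso_mate (Adjunction.ofIsLeftAdjoint (T.flip.obj (A T I O)))
    (Adjunction.ofIsLeftAdjoint (T.flip.obj I)) θ J
  have h : U.inv.app (Hh T I J) ≫ κ T α I J O = RHomExact.mate (Adjunction.ofIsLeftAdjoint (T.flip.obj (A T I O)))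
      (Adjunction.ofIsLeftAdjoint (T.flip.obj I)) θ.hom J := by
    apply ((Adjunction.ofIsLeftAdjoint (T.flip.obj (A T I O))).homEquiv _ _).symm.injective
    erw [Adjunction.homEquiv_naturality_left_symm, symm_κ]
    rw [RHomExact.mate]
    erw [Equiv.symm_apply_apply]
    simp [θ, body, ev]
  exact IsIso.of_isIso_fac_left h

end Groth.L29.DC.EvalAbs
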