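import Groth.Agent.L29.DCoh.FibreRank
import Groth.Agent.L29.DCoh.Triangle
import Groth.Prelude.Def_PerfD

/-!
Fibre dimensions of the cohomology of derived pullbacks to points.
-/

set_option autoImplicit false
set_option backward.isDefEq.respectTransparency false
set_option backward.isDefEq.respectTransparency.types false

universe u

open CategoryTheory CategoryTheory.Limits AlgebraicGeometry Opposite CochainComplex

attribute [local instance] HasDerivedCategory.standard

namespace Groth.L29.DC.Fib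

variable {X Z : Scheme.{u}}

/-- `dim Hⁱ(Lg^*E)` at a point `z` -/
noncomputable def bfib (g : Z ⟶ X) [DCoh.HasLpull g] (z : Z) (E : DCoh.D X) (i : ℤ) : ℕ :=
  Module.finrank (Z.presheaf.stalk z) ((Groth.L00.Stk.F Z z).obj (DCoh.HD ((DCoh.Lpull g).obj E) i))

theorem bfib_congr (g : Z ⟶ X) [DCoh.HasLpull g] (z : Z) {E E' : DCoh.D X} (e : E ≅ E') (i : ℤ) :
    bfib g z E i = bfib g z E' i :=
  ((Groth.L00.Stk.F Z z).mapIso ((DerivedCategory.homologyFunctor _ i).mapIso
    ((DCoh.Lpull g).mapIso e))).toLinearEquiv.finrank_eq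

theorem bfib_approx (g : Z ⟶ X) [DCoh.HasLpull g] (z : Z) {E E' : DCoh.D X} {f : E ⟶ E'} {m : ℤ}
    (h : Approx f m) {i : ℤ} (hi : m < i) : bfib g z E i = bfib g z E' i := by
  haveI := (Approx.map_LG (Groth.L00.DerivedApi.acyclicKFlat_pullback g) h).1 i hi
  exact ((Groth.L00.Stk.F Z z).mapIso
    (asIso ((DerivedCategory.homologyFunctor _ i).map ((DCoh.Lpull g).map f)))).toLinearEquiv.finrank_eq

theorem bfib_comp {V : Scheme.{u}} (g' : Z ⟶ V) (j : V ⟶ X) [IsOpenImmersion j] (g : Z ⟶ X)
    [DCoh.HasLpull g] [DCoh.HasLpull g'] (hg : g' ≫ j = g) (z : Z) (E : DCoh.D X) (i : ℤ) :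
    bfib g z E i = bfib g' z ((DCoh.restrictD j).obj E) i := by
  subst hg
  haveI := Groth.L00.KFlat.hasLpull j
  obtain ⟨e₁⟩ := Groth.L00.DerivedApi.lpull_comp g' j
  obtain ⟨e₂⟩ := nonempty_Lpull_iso_restrictD j E
  exact ((Groth.L00.Stk.F Z z).mapIso ((DerivedCategory.homologyFunctor _ i).mapIso
    ((e₁.app E).symm ≪≫ (DCoh.Lpull g').mapIso e₂))).toLinearEquiv.finrank_eq

/-- the field structure on a stalk that is a field -/
@[reducible] noncomputable def stalkField (z : Z) (hK : IsField (Z.presheaf.stalk z)) :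
    Field (Z.presheaf.stalk z) :=
  { (inferInstance : CommRing (Z.presheaf.stalk z)), hK.toField with }

/-- the fibre dimensions of a complex of finite free modules -/
theorem bfib_add_rk (g : Z ⟶ X) [DCoh.HasLpull g] (z : Z) (hK : IsField (Z.presheaf.stalk z))
    (P : CochainComplex X.Modules ℤ) (hP : DCoh.IsKFlat P) (n : ℤ → ℕ)
    (e : ∀ i, P.X i ≅ FlatMod.freeMod X (n i)) (i : ℤ) :
    letI := stalkField z hK
    bfib g z (DerivedCategory.Q.obj P) i + rk (Groth.L00.PullStalk.φ g z) (P.d (i - 1) i) +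
      rk (Groth.L00.PullStalk.φ g z) (P.d i (i + 1)) = n i := by
  letI := stalkField z hK
  let G := Groth.L00.Stk.F Z z
  haveI : G.PreservesHomology := inferInstance
  let ρ := Groth.L00.PullStalk.φ g z
  let C : CochainComplex (ModuleCat.{u} (Z.presheaf.stalk z)) ℤ :=
    ((Φ ρ).mapHomologicalComplex (ComplexShape.up ℤ)).obj P
  let gP := ((Scheme.Modules.pullback g).mapHomologicalComplex (ComplexShape.up ℤ)).obj P
  let T : (G.mapHomologicalComplex (ComplexShape.up ℤ)).obj gP ≅ C :=
    HomologicalComplex.Hom.isoOfComponents (fun k => (Groth.L00.PullStalk.stalkIso g z).app (P.X k))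
      (fun k l _ => ((Groth.L00.PullStalk.stalkIso g z).hom.naturality (P.d k l)).symm)
  have h : bfib g z (DerivedCategory.Q.obj P) i =
      Module.finrank (Z.presheaf.stalk z) (C.homology i) :=
    (G.mapIso ((DerivedCategory.homologyFunctor _ i).mapIso
        (Groth.L00.DerivedApi.objIso (Groth.L00.DerivedApi.acyclicKFlat_pullback g) P hP) ≪≫
        (DerivedCategory.homologyFunctorFactors _ i).app gP) ≪≫
      ((gP.sc i).mapHomologyIso G).symm ≪≫
      (HomologicalComplex.homologyFunctor _ _ i).mapIso T).toLinearEquiv.finrank_eq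
  rw [h]
  haveI : FiniteDimensional (Z.presheaf.stalk z) (C.sc' (i - 1) i (i + 1)).X₂ :=
    finiteDimensional_Φ_of_iso ρ (e i)
  refine (congrArg (fun t => t + _ + _) ((ShortComplex.homologyMapIso (C.isoSc' (i - 1) i (i + 1) (CochainComplex.prev ℤ i) (CochainComplex.next ℤ i))).toLinearEquiv.finrank_eq)).trans ?_
  exact (finrank_homology_add (C.sc' (i - 1) i (i + 1))).trans (finrank_Φ_of_iso ρ (e i))

section Point

variable [Subsingleton Z] (z : Z)

theorem eq_top_of_mem {U : Z.Opens} (hz : z ∈ U) : U = ⊤ := by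
  ext w
  simp [Subsingleton.elim w z, hz]

theorem germ_top_bijective_ring : Function.Bijective (Z.presheaf.germ ⊤ z trivial) := by
  refine ⟨fun a b h => ?_, fun a => ?_⟩
  · obtain ⟨W, hW, iU, iV, e⟩ := TopCat.Presheaf.germ_eq Z.presheaf (U := ⊤) (V := ⊤) z trivial trivial a b h
    obtain rfl := eq_top_of_mem z hW
    rw [Subsingleton.elim iU (𝟙 _), Subsingleton.elim iV (𝟙 _)] at e
    simpa using e
  · obtain ⟨U, hU, s, hs⟩ := TopCat.Presheaf.exists_germ_eq (F := Z.presheaf) (x := z) a
    obtain rfl := eq_top_of_mem z hU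
    exact ⟨s, hs⟩

theorem germ_top_bijective_mod (M : Z.Modules) :
    Function.Bijective (M.presheaf.germ ⊤ z trivial) := by
  refine ⟨fun a b h => ?_, fun a => ?_⟩
  · obtain ⟨W, hW, iU, iV, e⟩ := TopCat.Presheaf.germ_eq M.presheaf (U := ⊤) (V := ⊤) z trivial trivial a b h
    obtain rfl := eq_top_of_mem z hW
    rw [Subsingleton.elim iU (𝟙 _), Subsingleton.elim iV (𝟙 _)] at e
    simpa using e
  · obtain ⟨U, hU, s, hs⟩ := TopCat.Presheaf.exists_germ_eq (F := M.presheaf) (x := z) a
    obtain rfl := eq_top_of_mem z hU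
    exact ⟨s, hs⟩

theorem finrank_sections_eq (M : Z.Modules) :
    Module.finrank (Coh.Γtop Z) (M.val.obj (op ⊤)) =
      Module.finrank (Z.presheaf.stalk z) ((Groth.L00.Stk.F Z z).obj M) :=
  congrArg Cardinal.toNat (rank_eq_of_equiv_equiv (Z.presheaf.germ ⊤ z trivial)
    (AddEquiv.ofBijective (M.presheaf.germ ⊤ z trivial).hom (germ_top_bijective_mod z M))
    (germ_top_bijective_ring z) (fun r m => _root_.Mero.germ_smul M ⊤ z trivial r m))

end Point

instance subsingleton_Spec_residueField (x : X) : Subsingleton (Spec (X.residueField x)) :=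
  inferInstanceAs (Subsingleton (PrimeSpectrum (X.residueField x)))

/-- the point -/
noncomputable def pt (x : X) : Spec (X.residueField x) :=
  (⊥ : PrimeSpectrum (X.residueField x))

theorem fromSpec_pt (x : X) : (X.fromSpecResidueField x) (pt x) = x :=
  Scheme.fromSpecResidueField_apply x _

theorem isField_stalk_pt (x : X) : IsField ((Spec (X.residueField x)).presheaf.stalk (pt x)) :=
  MulEquiv.isField (Field.toIsField (X.residueField x))
    ((RingEquiv.ofBijective _ (germ_top_bijective_ring (pt x))).symm.trans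
      (Scheme.ΓSpecIso (X.residueField x)).commRingCatIsoToRingEquiv).toMulEquiv

theorem betti_eq_bfib (E : DCoh.D X) (x : X) [DCoh.HasLpull (X.fromSpecResidueField x)] (i : ℤ) :
    PerfD.betti E x i = bfib (X.fromSpecResidueField x) (pt x) E i :=
  finrank_sections_eq (pt x) _

end Groth.L29.DC.Fib
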