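import Groth.Agent.L29.DCoh.Flat
import Groth.Agent.L00.PullStalk
import Groth.Agent.L00.RankSemi

/-!
Ranks at field valued points of morphisms between finite free modules.
-/

set_option autoImplicit false
set_option backward.isDefEq.respectTransparency false
set_option backward.isDefEq.respectTransparency.types false

universe u

open CategoryTheory CategoryTheory.Limits AlgebraicGeometry Opposite TensorProduct

namespace Groth.L29.DC.Fib

section Ring

variable {X : Scheme.{u}} {x : X} {K : Type u} [CommRing K] (ρ : X.presheaf.stalk x →+* K)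

/-- the fibre functor attached to a field valued point -/
noncomputable abbrev Φ : X.Modules ⥤ ModuleCat.{u} K :=
  Groth.L00.Stk.F X x ⋙ ModuleCat.extendScalars ρ

instance additive_Φ : (Φ ρ).Additive := inferInstance

/-- evaluation of global functions -/
noncomputable abbrev ev : Γ(X, ⊤) →+* K := ρ.comp (X.presheaf.germ ⊤ x trivial).hom

/-- the fibre of the structure sheaf -/
noncomputable def unitEquiv : K ≃ₗ[K] (Φ ρ).obj (Coh.structureModule X) :=
  letI := ρ.toAlgebra
  show K ≃ₗ[K] K ⊗[X.presheaf.stalk x] (Coh.structureModule X).presheaf.stalk x from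
  (TensorProduct.AlgebraTensorModule.rid (X.presheaf.stalk x) K K).symm ≪≫ₗ
    TensorProduct.AlgebraTensorModule.congr (LinearEquiv.refl K K)
      (LinearEquiv.ofBijective
        (LinearMap.toSpanSingleton (X.presheaf.stalk x) ((Coh.structureModule X).presheaf.stalk x)
          (Groth.L22.oneGerm x))
        ⟨(injective_iff_map_eq_zero _).2 fun a ha => Groth.L22.eq_zero_of_smul_oneGerm ha,
          Groth.L22.stalk_smul_oneGerm_surjective x⟩)

theorem map_comp_apply {L M N : X.Modules} (f : L ⟶ M) (g : M ⟶ N) (v : (Φ ρ).obj L) :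
    ((Φ ρ).map (f ≫ g)).hom v = ((Φ ρ).map g).hom (((Φ ρ).map f).hom v) := by
  rw [CategoryTheory.Functor.map_comp]; rfl

theorem unitEquiv_one :
    letI := ρ.toAlgebra
    unitEquiv ρ 1 = (1 : K) ⊗ₜ[X.presheaf.stalk x] Groth.L22.oneGerm x := by
  letI := ρ.toAlgebra
  change (1 : K) ⊗ₜ[X.presheaf.stalk x] ((1 : X.presheaf.stalk x) • Groth.L22.oneGerm x) = _
  rw [one_smul]

theorem map_unit (a : Coh.structureModule X ⟶ Coh.structureModule X) :
    ((Φ ρ).map a).hom (unitEquiv ρ 1) = ev ρ (a.app ⊤ (1 : Γ(X, ⊤))) • unitEquiv ρ 1 := by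
  letI := ρ.toAlgebra
  rw [unitEquiv_one]
  have h : ((Groth.L00.Stk.F X x).map a).hom (Groth.L22.oneGerm x) =
      X.presheaf.germ ⊤ x trivial (a.app ⊤ (1 : Γ(X, ⊤))) • Groth.L22.oneGerm x :=
    (DerSch.stalkFunctor_map_germ x a ⊤ trivial _).trans (Groth.L22.germ_smul_oneGerm (U := ⊤) (x := x) trivial _).symm
  change (1 : K) ⊗ₜ[X.presheaf.stalk x] ((Groth.L00.Stk.F X x).map a).hom (Groth.L22.oneGerm x) = _
  rw [h]
  exact (TensorProduct.tmul_smul _ (1 : K) _).trans
    ((TensorProduct.smul_tmul' _ (1 : K) _).trans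
      (congrArg (fun k => k ⊗ₜ[X.presheaf.stalk x] Groth.L22.oneGerm x) (by
        change ρ _ * (1 : K) = ρ _ • (1 : K)
        rw [smul_eq_mul])))

/-- inclusion of a summand -/
noncomputable abbrev incl (n : ℕ) (i : Fin n) : Coh.structureModule X ⟶ FlatMod.freeMod X n :=
  Sigma.ι (fun _ : Fin n => Coh.structureModule X) i

open Classical in
/-- projection to a summand -/
noncomputable def proj (n : ℕ) (i : Fin n) : FlatMod.freeMod X n ⟶ Coh.structureModule X :=
  Sigma.desc fun j => if j = i then 𝟙 _ else 0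

theorem incl_proj_self (n : ℕ) (i : Fin n) : incl (X := X) n i ≫ proj n i = 𝟙 _ := by
  simp [proj]

theorem incl_proj_ne (n : ℕ) {i j : Fin n} (h : j ≠ i) : incl (X := X) n j ≫ proj n i = 0 := by
  simp [proj, h]

theorem sum_proj_incl (n : ℕ) : ∑ i : Fin n, proj (X := X) n i ≫ incl n i = 𝟙 _ := by
  refine Sigma.hom_ext _ _ fun j => ?_
  rw [Preadditive.comp_sum, Category.comp_id, Finset.sum_eq_single j]
  · rw [← Category.assoc, incl_proj_self, Category.id_comp]
  · intro i _ h
    rw [← Category.assoc, incl_proj_ne n (Ne.symm h), zero_comp]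
  · exact fun h => absurd (Finset.mem_univ j) h

/-- coordinates on the fibre of a free module -/
noncomputable def coord (n : ℕ) : (Φ ρ).obj (FlatMod.freeMod X n) ≃ₗ[K] (Fin n → K) where
  toLinearMap := LinearMap.pi fun i => (unitEquiv ρ).symm.toLinearMap.comp ((Φ ρ).map (proj n i)).hom
  invFun w := ∑ i, ((Φ ρ).map (incl n i)).hom (unitEquiv ρ (w i))
  left_inv v := by
    simp only [LinearMap.pi_apply, AddHom.toFun_eq_coe, LinearMap.coe_toAddHom, LinearMap.coe_comp,
      LinearEquiv.coe_coe, Function.comp_apply, LinearEquiv.apply_symm_apply]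
    refine Eq.trans ?_ (congrArg (fun t => t.hom v) ((Φ ρ).map_id (FlatMod.freeMod X n)))
    rw [← sum_proj_incl, Functor.map_sum, ModuleCat.hom_sum, LinearMap.sum_apply]
    exact Finset.sum_congr rfl fun i _ => (map_comp_apply ρ _ _ v).symm
  right_inv w := by
    funext i
    simp only [LinearMap.pi_apply, AddHom.toFun_eq_coe, LinearMap.coe_toAddHom, LinearMap.coe_comp,
      LinearEquiv.coe_coe, Function.comp_apply, map_sum, Finset.sum_apply]
    rw [Finset.sum_eq_single i]
    · change (unitEquiv ρ).symm (((Φ ρ).map (proj n i)).hom (((Φ ρ).map (incl n i)).hom (unitEquiv ρ (w i)))) = w i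
      rw [← map_comp_apply, incl_proj_self, CategoryTheory.Functor.map_id]
      exact (unitEquiv ρ).symm_apply_apply _
    · intro j _ h
      change (unitEquiv ρ).symm (((Φ ρ).map (proj n i)).hom (((Φ ρ).map (incl n j)).hom (unitEquiv ρ (w j)))) = 0
      rw [← map_comp_apply, incl_proj_ne n h, Functor.map_zero]
      exact (unitEquiv ρ).symm.map_zero
    · exact fun h => absurd (Finset.mem_univ i) h

/-- the matrix of a morphism of free modules -/
noncomputable def mat {n m : ℕ} (φ : FlatMod.freeMod X n ⟶ FlatMod.freeMod X m) :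
    Matrix (Fin m) (Fin n) Γ(X, ⊤) :=
  fun i j => (incl n j ≫ φ ≫ proj m i).app ⊤ (1 : Γ(X, ⊤))

theorem coord_map {n m : ℕ} (φ : FlatMod.freeMod X n ⟶ FlatMod.freeMod X m) :
    (coord ρ m).toLinearMap.comp (((Φ ρ).map φ).hom.comp (coord ρ n).symm.toLinearMap) =
      ((mat φ).map (ev ρ)).mulVecLin := by
  refine (Pi.basisFun K (Fin n)).ext fun j => funext fun i => ?_
  simp only [Pi.basisFun_apply, LinearMap.comp_apply, LinearEquiv.coe_coe, Matrix.mulVecLin_apply,
    Matrix.mulVec_single_one]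
  have e : (coord ρ n).symm (Pi.single j 1) = ((Φ ρ).map (incl n j)).hom (unitEquiv ρ 1) := by
    change ∑ k, ((Φ ρ).map (incl n k)).hom (unitEquiv ρ ((Pi.single j 1 : Fin n → K) k)) = _
    rw [Finset.sum_eq_single j, Pi.single_eq_same]
    · intro k _ h
      rw [Pi.single_eq_of_ne h, map_zero, map_zero]
    · exact fun h => absurd (Finset.mem_univ j) h
  rw [e]
  change (unitEquiv ρ).symm (((Φ ρ).map (proj m i)).hom (((Φ ρ).map φ).hom
    (((Φ ρ).map (incl n j)).hom (unitEquiv ρ 1)))) = ev ρ (mat φ i j)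
  have h : ((Φ ρ).map (proj m i)).hom (((Φ ρ).map φ).hom
      (((Φ ρ).map (incl n j)).hom (unitEquiv ρ 1))) =
        ((Φ ρ).map (incl n j ≫ φ ≫ proj m i)).hom (unitEquiv ρ 1) := by
    rw [Functor.map_comp, Functor.map_comp]; rfl
  rw [h, map_unit, map_smul, LinearEquiv.symm_apply_apply, smul_eq_mul, mul_one]
  rfl

end Ring

variable {X : Scheme.{u}} {x : X} {K : Type u} [Field K] (ρ : X.presheaf.stalk x →+* K)

/-- the rank at a field valued point -/
noncomputable def rk {M N : X.Modules} (φ : M ⟶ N) : ℕ :=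
  Module.finrank K (LinearMap.range ((Φ ρ).map φ).hom)

theorem rk_free {n m : ℕ} (φ : FlatMod.freeMod X n ⟶ FlatMod.freeMod X m) :
    rk ρ φ = ((mat φ).map (ev ρ)).rank := by
  rw [Matrix.rank, ← coord_map, LinearMap.range_comp,
    LinearMap.range_comp_of_range_eq_top _ (LinearEquiv.range (coord ρ n).symm)]
  exact ((coord ρ m).submoduleMap _).finrank_eq

theorem rk_congr {M M' N N' : X.Modules} (e : M ≅ M') (e' : N ≅ N') (φ : M ⟶ N) :
    rk ρ (e.inv ≫ φ ≫ e'.hom) = rk ρ φ := by
  unfold rk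
  rw [Functor.map_comp, Functor.map_comp, ModuleCat.hom_comp, ModuleCat.hom_comp,
    LinearMap.range_comp_of_range_eq_top _
      (show LinearMap.range ((Φ ρ).map e.inv).hom = ⊤ from
        LinearMap.range_eq_top.2 (ConcreteCategory.bijective_of_isIso ((Φ ρ).map e.inv)).2),
    LinearMap.range_comp]
  exact (Submodule.equivMapOfInjective _ (ConcreteCategory.bijective_of_isIso ((Φ ρ).map e'.hom)).1 _).finrank_eq.symm

theorem ev_ne_zero_iff [IsLocalHom ρ] (a : Γ(X, ⊤)) : ev ρ a ≠ 0 ↔ x ∈ X.basicOpen a := by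
  rw [Scheme.mem_basicOpen_top]
  exact ⟨fun h => IsUnit.of_map ρ _ (isUnit_iff_ne_zero.2 h), fun h => (h.map ρ).ne_zero⟩

theorem finrank_Φ_of_iso {M : X.Modules} {n : ℕ} (e : M ≅ FlatMod.freeMod X n) :
    Module.finrank K ((Φ ρ).obj M) = n :=
  (((Φ ρ).mapIso e).toLinearEquiv ≪≫ₗ coord ρ n).finrank_eq.trans (Module.finrank_fin_fun K)

theorem finiteDimensional_Φ_of_iso {M : X.Modules} {n : ℕ} (e : M ≅ FlatMod.freeMod X n) :
    FiniteDimensional K ((Φ ρ).obj M) :=
  (((Φ ρ).mapIso e).toLinearEquiv ≪≫ₗ coord ρ n).symm.finiteDimensional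

/-- the rank only grows near a point -/
theorem exists_open_rk_le [IsLocalHom ρ] {M N : X.Modules} {n m : ℕ} (e : M ≅ FlatMod.freeMod X n)
    (e' : N ≅ FlatMod.freeMod X m) (φ : M ⟶ N) :
    ∃ U : X.Opens, x ∈ U ∧ ∀ (x' : X) (L : Type u) [Field L] (ρ' : X.presheaf.stalk x' →+* L)
      [IsLocalHom ρ'], x' ∈ U → rk ρ φ ≤ rk ρ' φ := by
  classical
  let A := mat (e.inv ≫ φ ≫ e'.hom)
  obtain ⟨s, t, hst⟩ := Groth.L00.RankSemi.exists_submatrix_det_ne_zero (A.map (ev ρ))
  refine ⟨X.basicOpen (A.submatrix s t).det, (ev_ne_zero_iff ρ _).1 ?_, fun x' L _ ρ' _ hx' => ?_⟩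
  · rw [RingHom.map_det, RingHom.mapMatrix_apply]; rw [← Matrix.submatrix_map]; exact hst
  rw [← rk_congr ρ e e', ← rk_congr ρ' e e', rk_free, rk_free]
  have hu : IsUnit ((A.map (ev ρ')).submatrix s t) := by
    rw [Matrix.isUnit_iff_isUnit_det, isUnit_iff_ne_zero]
    intro h
    refine (ev_ne_zero_iff ρ' _).2 hx' ?_
    rw [RingHom.map_det, RingHom.mapMatrix_apply]; rw [← Matrix.submatrix_map]; exact h
  refine le_of_eq_of_le ?_ (Matrix.rank_submatrix_le (A.map (ev ρ')) s t)
  rw [Matrix.rank_of_isUnit _ hu, Fintype.card_fin]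

/-- middle homology of a complex of vector spaces -/
theorem finrank_homology_add (S : ShortComplex (ModuleCat.{u} K)) [FiniteDimensional K S.X₂] :
    Module.finrank K S.homology + Module.finrank K (LinearMap.range S.f.hom) +
      Module.finrank K (LinearMap.range S.g.hom) = Module.finrank K S.X₂ := by
  have h : Module.finrank K S.homology = Module.finrank K (LinearMap.ker S.g.hom ⧸
      (LinearMap.range S.f.hom).submoduleOf (LinearMap.ker S.g.hom)) := by
    refine S.moduleCatHomologyIso.toLinearEquiv.finrank_eq.trans (Submodule.quotEquivOfEq _ _ ?_).finrank_eq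
    ext ⟨v, hv⟩
    simp only [LinearMap.mem_range, Submodule.submoduleOf, Submodule.mem_comap]
    exact ⟨fun ⟨w, hw⟩ => ⟨w, congrArg Subtype.val hw⟩, fun ⟨w, hw⟩ => ⟨w, Subtype.ext hw⟩⟩
  rw [h]
  exact Groth.L00.RankSemi.finrank_homology_add S.f.hom S.g.hom (by rw [← ModuleCat.hom_comp, S.zero]; rfl)

end Groth.L29.DC.Fib
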