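import Groth.Agent.L29.DCoh.FreeIso
import Groth.Agent.L29.DCoh.SingleSplit
import Groth.Agent.L29.DCoh.FibreLocal
import Mathlib.Algebra.Homology.DerivedCategory.FullyFaithful
import Mathlib.Algebra.Homology.DerivedCategory.TStructure

/-!
The locus where a perfect object is a locally free module placed in one degree.
-/

set_option autoImplicit false
set_option backward.isDefEq.respectTransparency false
set_option backward.isDefEq.respectTransparency.types false

universe u

open CategoryTheory CategoryTheory.Limits AlgebraicGeometry Opposite CochainComplex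

attribute [local instance] HasDerivedCategory.standard

namespace Groth.L29.DC.Fib

variable {X : Scheme.{u}}

/-- pseudo-inverse at a point -/
theorem exists_pseudo {U : Scheme.{u}} {x : U} {K : Type u} [Field K] (ρ : U.presheaf.stalk x →+* K)
    {M N : U.Modules} {n m : ℕ} (e : M ≅ FlatMod.freeMod U n) (e' : N ≅ FlatMod.freeMod U m) (ψ : M ⟶ N) :
    ∃ (h : N ⟶ M) (c : K), c ≠ 0 ∧ ∀ v, ((Φ ρ).map ψ).hom (((Φ ρ).map h).hom (((Φ ρ).map ψ).hom v)) =
      c • ((Φ ρ).map ψ).hom v := by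
  classical
  let ψ' := e.inv ≫ ψ ≫ e'.hom
  obtain ⟨s, t, hst⟩ := Groth.L00.RankSemi.exists_submatrix_det_ne_zero ((mat ψ').map (ev ρ))
  let Pt : Matrix (Fin n) (Fin _) Γ(U, ⊤) := fun i k => if i = t k then 1 else 0
  let Ps : Matrix (Fin _) (Fin m) Γ(U, ⊤) := fun k i => if i = s k then 1 else 0
  let B := Pt * ((mat ψ').submatrix s t).adjugate * Ps
  refine ⟨e'.hom ≫ ofMat B ≫ e.inv, _, hst, ?_⟩
  have h1 : (mat ψ').map (ev ρ) * B.map (ev ρ) * (mat ψ').map (ev ρ) =
      ((((mat ψ').map (ev ρ)).submatrix s t).det) • (mat ψ').map (ev ρ) := by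
    rw [← Split.submatrix_adjugate_mul _ s t hst]
    have ht : (mat ψ').map (ev ρ) * Pt.map (ev ρ) = ((mat ψ').map (ev ρ)).submatrix id t := by
      ext a b
      simp [Pt, Matrix.mul_apply, apply_ite, Finset.sum_ite_eq', Matrix.submatrix]
    have hs : Ps.map (ev ρ) * (mat ψ').map (ev ρ) = ((mat ψ').map (ev ρ)).submatrix s id := by
      ext a b
      simp [Ps, Matrix.mul_apply, apply_ite, ite_mul, Finset.sum_ite_eq', Matrix.submatrix]
    have ha : ((mat ψ').submatrix s t).adjugate.map (ev ρ) = (((mat ψ').map (ev ρ)).submatrix s t).adjugate := by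
      rw [← RingHom.mapMatrix_apply, RingHom.map_adjugate, RingHom.mapMatrix_apply, ← Matrix.submatrix_map]
    simp only [B, Matrix.map_mul, ha]
    rw [← hs, ← ht]
    simp only [Matrix.mul_assoc]
  have hcm : ∀ {p q : ℕ} (φ : FlatMod.freeMod U p ⟶ FlatMod.freeMod U q) (v : (Φ ρ).obj (FlatMod.freeMod U p)),
      coord ρ q (((Φ ρ).map φ).hom v) = ((mat φ).map (ev ρ)).mulVec (coord ρ p v) := fun φ v => by
    have := LinearMap.congr_fun (coord_map ρ φ) (coord ρ _ v)
    simpa using this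
  intro v
  have hψ : ψ = e.hom ≫ ψ' ≫ e'.inv := by simp [ψ']
  have key : ∀ w, ((Φ ρ).map ψ').hom (((Φ ρ).map (ofMat B)).hom (((Φ ρ).map ψ').hom w)) =
      ((((mat ψ').map (ev ρ)).submatrix s t).det) • ((Φ ρ).map ψ').hom w := fun w => by
    apply (coord ρ m).injective
    rw [map_smul, hcm, hcm, hcm, mat_ofMat, Matrix.mulVec_mulVec, Matrix.mulVec_mulVec, h1, Matrix.smul_mulVec]
  have e1 : ∀ {A A' : U.Modules} (i : A ≅ A') (w : (Φ ρ).obj A),
      ((Φ ρ).map i.inv).hom (((Φ ρ).map i.hom).hom w) = w := fun i w => by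
    rw [← map_comp_apply, i.hom_inv_id, CategoryTheory.Functor.map_id]; rfl
  rw [hψ]
  simp only [map_comp_apply]
  have e2 : ∀ w, ((Φ ρ).map e.hom).hom (((Φ ρ).map e.inv).hom w) = w := e1 e.symm
  have e3 : ∀ w, ((Φ ρ).map e'.hom).hom (((Φ ρ).map e'.inv).hom w) = w := e1 e'.symm
  rw [e2, e3, key, map_smul]

theorem exists_common_nhd {Y : Scheme.{u}} {y : Y} (s : Finset ℤ) (W : ℤ → Y.Opens) (h : ∀ j ∈ s, y ∈ W j) :
    y ∈ s.inf W := by
  classical
  induction s using Finset.induction with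
  | empty => trivial
  | insert k t hk ih =>
    rw [Finset.inf_insert]
    exact ⟨h k (Finset.mem_insert_self k t), ih fun j hj => h j (Finset.mem_insert_of_mem hj)⟩

theorem isIso_restrict_le {U : Scheme.{u}} {O W : U.Opens} (hle : O ≤ W) {A B : U.Modules} (φ : A ⟶ B)
    (h : IsIso ((Scheme.Modules.restrictFunctor W.ι).map φ)) :
    IsIso ((Scheme.Modules.restrictFunctor O.ι).map φ) := by
  haveI := h
  let t := resTrans W.ι (U.homOfLE hle) O.ι (U.homOfLE_ι hle)
  exact (NatIso.isIso_map_iff t φ).1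
    (inferInstanceAs (IsIso ((Scheme.Modules.restrictFunctor (U.homOfLE hle)).map
      ((Scheme.Modules.restrictFunctor W.ι).map φ))))

set_option maxHeartbeats 1000000 in
/-- near a point where all fibre cohomology is in degree `i` the complex is free in degree `i` -/
theorem exists_single_nhd [∀ x : X, DCoh.HasLpull (X.fromSpecResidueField x)] (E : DCoh.D X)
    (hE : DCoh.IsPerfect E) (x : X) (i : ℤ) (hx : ∀ j, j ≠ i → PerfD.betti E x j = 0) :
    ∃ (U : Scheme.{u}) (j : U ⟶ X) (_ : IsOpenImmersion j) (M : U.Modules) (r : ℕ), x ∈ j.opensRange ∧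
      Nonempty (M ≅ FlatMod.freeMod U r) ∧
      Nonempty ((DCoh.restrictD j).obj E ≅ (DerivedCategory.singleFunctor U.Modules i).obj M) := by
  obtain ⟨U, j, _, P, n, α, hxU, hP, hα, he⟩ := exists_model_of_perfect E hE x
  obtain ⟨u, rfl⟩ := hxU
  haveI := hα
  have hF := hP
  haveI := Groth.L00.KFlat.hasLpull (lpt j u)
  letI := stalkField (pt (j u)) (isField_stalk_pt _)
  let ρ := Groth.L00.PullStalk.φ (lpt j u) (pt (j u))
  -- exactness of the fibre away from `i`
  have hex : ∀ k, k ≠ i → ∀ v : (Φ ρ).obj (P.X k), ((Φ ρ).map (P.d k (k + 1))).hom v = 0 →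
      ∃ w, ((Φ ρ).map (P.d (k - 1) k)).hom w = v := by
    intro k hk v hv
    have h := betti_add_rkp j E hP n (fun i => (he i).some) (Approx.of_isIso α (k - 1)) u
      (show k - 1 < k by omega)
    rw [hx k hk, zero_add] at h
    haveI : FiniteDimensional ((Spec (X.residueField (j u))).presheaf.stalk (pt (j u))) ((Φ ρ).obj (P.X k)) :=
      finiteDimensional_Φ_of_iso ρ (he k).some
    have hn := finrank_Φ_of_iso ρ (he k).some
    let f := ((Φ ρ).map (P.d (k - 1) k)).hom
    let g := ((Φ ρ).map (P.d k (k + 1))).hom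
    have hrn := g.finrank_range_add_finrank_ker
    have hle : LinearMap.range f ≤ LinearMap.ker g := by
      rintro _ ⟨w, rfl⟩
      rw [LinearMap.mem_ker, ← map_comp_apply, HomologicalComplex.d_comp_d, Functor.map_zero]; rfl
    change Module.finrank _ (LinearMap.range f) + Module.finrank _ (LinearMap.range g) = n k at h
    have heq : LinearMap.range f = LinearMap.ker g :=
      Submodule.eq_of_le_of_finrank_eq hle (by omega)
    exact LinearMap.mem_range.1 (heq ▸ (LinearMap.mem_ker.2 hv : v ∈ LinearMap.ker g))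
  have hps := fun a b : ℤ => exists_pseudo ρ (he a).some (he b).some (P.d a b)
  choose h c hc hh using hps
  let uu : ∀ k, P.X k ⟶ P.X k := fun k => P.d k (k + 1) ≫ h k (k + 1) + h (k - 1) k ≫ P.d (k - 1) k
  have huu : ∀ k (v : (Φ ρ).obj (P.X k)), ((Φ ρ).map (uu k)).hom v =
      ((Φ ρ).map (h k (k + 1))).hom (((Φ ρ).map (P.d k (k + 1))).hom v) +
        ((Φ ρ).map (P.d (k - 1) k)).hom (((Φ ρ).map (h (k - 1) k)).hom v) := fun k v => by
    simp only [uu]
    rw [Functor.map_add, ModuleCat.hom_add, LinearMap.add_apply, map_comp_apply, map_comp_apply]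
  have hdd : ∀ a b d (v : (Φ ρ).obj (P.X a)), ((Φ ρ).map (P.d b d)).hom (((Φ ρ).map (P.d a b)).hom v) = 0 :=
    fun a b d v => by rw [← map_comp_apply, HomologicalComplex.d_comp_d, Functor.map_zero]; rfl
  have hinj : ∀ k, k ≠ i → Function.Injective ((Φ ρ).map (uu k)).hom := by
    intro k hk
    rw [injective_iff_map_eq_zero]
    intro v hv
    have h1 := congrArg ((Φ ρ).map (P.d k (k + 1))).hom hv
    rw [huu, map_add, hdd, hh, add_zero, map_zero] at h1
    have hdv := (smul_eq_zero.1 h1).resolve_left (hc _ _)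
    obtain ⟨w, rfl⟩ := hex k hk v hdv
    rw [huu, hdd, map_zero, zero_add, hh] at hv
    exact (smul_eq_zero.1 hv).resolve_left (hc _ _)
  choose W hW hWiso using fun k (hk : k ≠ i) => exists_isIso_nhd ρ (he k).some (he k).some (uu k) (hinj k hk)
  classical
  obtain ⟨⟨a, b, hv⟩, -⟩ := hF
  let s : Finset ℤ := ((Finset.range (b - a + 1).toNat).image fun k : ℕ => a + k).erase i
  let W' : ℤ → U.Opens := fun k => if hk : k = i then ⊤ else W k hk
  let O := s.inf W'
  have huO : u ∈ O := exists_common_nhd s W' fun k hk => by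
    simp only [W', dif_neg (Finset.ne_of_mem_erase hk)]
    have := hW k (Finset.ne_of_mem_erase hk)
    rwa [lpt_pt] at this
  let R := Scheme.Modules.restrictFunctor O.ι
  let P' := (R.mapHomologicalComplex (ComplexShape.up ℤ)).obj P
  have hiso : ∀ k, k ≠ i → IsIso (R.map (uu k)) := by
    intro k hk
    by_cases hks : k ∈ s
    · have hle : O ≤ W k hk := (Finset.inf_le hks).trans (le_of_eq (dif_neg hk))
      exact isIso_restrict_le hle _ (hWiso k hk)
    · have hz : IsZero (R.obj (P.X k)) := R.map_isZero (hv k (by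
        by_contra hcon
        refine hks (Finset.mem_erase.2 ⟨hk, Finset.mem_image.2 ⟨(k - a).toNat, Finset.mem_range.2 ?_, ?_⟩⟩) <;>
          omega))
      exact ⟨0, hz.eq_of_src _ _, hz.eq_of_src _ _⟩
  obtain ⟨M, M', ⟨eM⟩, ⟨eP⟩⟩ := Split.exists_single_split P' i (fun a b => R.map (h a b)) (fun k hk => by
    have := hiso k hk
    simp only [uu, Functor.map_add, Functor.map_comp] at this
    exact this)
  let eOi : P'.X i ≅ FlatMod.freeMod (↑O) (n i) :=
    R.mapIso (he i).some ≪≫ (Scheme.Modules.restrictFunctorIsoPullback O.ι).app _ ≪≫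
      Groth.L29.LocFree.pullbackFreeIso _ _
  haveI : IsLocalHom ((↑O : Scheme.{u}).residue ⟨u, huO⟩).hom :=
    inferInstanceAs (IsLocalHom (IsLocalRing.residue ((↑O : Scheme.{u}).presheaf.stalk ⟨u, huO⟩)))
  obtain ⟨O', r, hyO', ⟨eFree⟩⟩ :=
    exists_free_of_biprod ((↑O : Scheme.{u}).residue ⟨u, huO⟩).hom (eM ≪≫ eOi)
  haveI : IsIso (DerivedCategory.Q.map eP.hom) :=
    (DerivedCategory.isIso_Q_map_iff_quasiIso _ _).2 inferInstance
  let eO : (DCoh.restrictD (O.ι ≫ j)).obj E ≅ (DerivedCategory.singleFunctor _ i).obj M :=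
    ((resTransD j O.ι (O.ι ≫ j) rfl).app E).symm ≪≫ (DCoh.restrictD O.ι).mapIso (asIso α).symm ≪≫
      R.mapDerivedCategoryFactors.app P ≪≫ asIso (DerivedCategory.Q.map eP.hom) ≪≫
      ((DerivedCategory.singleFunctorIsoCompQ _ i).app M).symm
  refine ⟨_, O'.ι ≫ O.ι ≫ j, inferInstance, M.restrict O'.ι, r, ?_, ⟨eFree⟩,
    ⟨((resTransD (O.ι ≫ j) O'.ι (O'.ι ≫ O.ι ≫ j) rfl).app E).symm ≪≫ (DCoh.restrictD O'.ι).mapIso eO ≪≫
      ((Scheme.Modules.restrictFunctor O'.ι).mapDerivedCategorySingleFunctor i).app M⟩⟩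
  exact ⟨⟨⟨u, huO⟩, hyO'⟩, rfl⟩

/-- fibre dimensions of a free module placed in degree `i` -/
theorem betti_of_single [∀ x : X, DCoh.HasLpull (X.fromSpecResidueField x)] (E : DCoh.D X)
    {U : Scheme.{u}} (j : U ⟶ X) [IsOpenImmersion j] {M : U.Modules} {r : ℕ} (eM : M ≅ FlatMod.freeMod U r)
    {i : ℤ} (e : (DCoh.restrictD j).obj E ≅ (DerivedCategory.singleFunctor U.Modules i).obj M) (u : U) (k : ℤ) :
    PerfD.betti E (j u) k = if k = i then r else 0 := by
  let S := (HomologicalComplex.single U.Modules (ComplexShape.up ℤ) i).obj M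
  have hz : ∀ l, l ≠ i → IsZero (S.X l) := fun l hl =>
    HomologicalComplex.isZero_single_obj_X (ComplexShape.up ℤ) i M l hl
  let eS : ∀ l, S.X l ≅ FlatMod.freeMod U (if l = i then r else 0) := fun l =>
    if hl : l = i then eqToIso (by rw [hl]) ≪≫ HomologicalComplex.singleObjXSelf (ComplexShape.up ℤ) i M ≪≫
      eM ≪≫ eqToIso (by rw [if_pos hl])
    else (hz l hl).iso (by
      rw [if_neg hl]
      exact (IsZero.iff_id_eq_zero _).2 (Sigma.hom_ext _ _ fun t => t.elim0))
  have hS : DCoh.IsStrictlyPerfect S :=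
    ⟨⟨i, i, fun l hl => hz l (by omega)⟩, fun l => Groth.L29.LocFree.of_iso (eS l).symm (isFinLocFree_freeMod U _)⟩
  have h := betti_add_rkp j E hS _ eS
    (Approx.of_isIso (((DerivedCategory.singleFunctorIsoCompQ _ i).app M).inv ≫ e.inv) (k - 1)) u
    (show k - 1 < k by omega)
  have hr : ∀ a b, rkp j (S.d a b) u = 0 := fun a b => by
    letI := stalkField (pt (j u)) (isField_stalk_pt _)
    change Module.finrank _ (LinearMap.range ((Φ _).map (S.d a b)).hom) = 0
    rw [show S.d a b = 0 from rfl, Functor.map_zero, ModuleCat.hom_zero, LinearMap.range_zero, finrank_bot]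
  rw [hr, hr] at h
  simpa using h

end Groth.L29.DC.Fib
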