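import Groth.Agent.L29.DCoh.Approx
import Mathlib.CategoryTheory.Abelian.DiagramLemmas.Four
import Mathlib.Algebra.Homology.DerivedCategory.TStructure

/-!
The five lemma for approximations; approximations and shifts.
-/

set_option autoImplicit false
set_option backward.isDefEq.respectTransparency false
set_option backward.isDefEq.respectTransparency.types false

universe w v u

open CategoryTheory CategoryTheory.Limits CochainComplex Pretriangulated ComposableArrows

namespace Groth.L29.DC

variable {C : Type u} [Category.{v} C] [Abelian C] [HasDerivedCategory.{w} C]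

theorem δ_naturality {T T' : Triangle (DerivedCategory C)} (φ : T ⟶ T') (i j : ℤ) (hij : i + 1 = j) :
    DerivedCategory.HomologySequence.δ T i j hij ≫ (DerivedCategory.homologyFunctor C j).map φ.hom₁ =
      (DerivedCategory.homologyFunctor C i).map φ.hom₃ ≫ DerivedCategory.HomologySequence.δ T' i j hij := by
  show (DerivedCategory.homologyFunctor C 0).shiftMap T.mor₃ i j _ ≫
      ((DerivedCategory.homologyFunctor C 0).shift j).map φ.hom₁ =
    _ ≫ (DerivedCategory.homologyFunctor C 0).shiftMap T'.mor₃ i j _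
  rw [← Functor.shiftMap_comp, φ.comm₃, Functor.shiftMap_comp']
  rfl

/-- five lemma for approximations -/
theorem Approx.hom₃ {T T' : Triangle (DerivedCategory C)} (hT : T ∈ distTriang _)
    (hT' : T' ∈ distTriang _) (φ : T ⟶ T') (m : ℤ) (h₁ : Approx φ.hom₁ (m + 1)) (h₂ : Approx φ.hom₂ m) :
    Approx φ.hom₃ m := by
  let H := DerivedCategory.homologyFunctor C
  have epi₁ : ∀ i, m + 1 ≤ i → Epi ((H i).map φ.hom₁) := fun i hi => by
    rcases eq_or_lt_of_le hi with rfl | h
    · exact h₁.2
    · have := h₁.1 i h; infer_instance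
  have epi₂ : ∀ i, m ≤ i → Epi ((H i).map φ.hom₂) := fun i hi => by
    rcases eq_or_lt_of_le hi with rfl | h
    · exact h₂.2
    · have := h₂.1 i h; infer_instance
  let R := fun i => homMk₅
    (f := ((H 0).homologySequenceComposableArrows₅ T i (i + 1) rfl))
    (g := ((H 0).homologySequenceComposableArrows₅ T' i (i + 1) rfl))
    ((H i).map φ.hom₁) ((H i).map φ.hom₂) ((H i).map φ.hom₃) ((H (i + 1)).map φ.hom₁)
    ((H (i + 1)).map φ.hom₂) ((H (i + 1)).map φ.hom₃)
    (by change (H i).map T.mor₁ ≫ _ = _ ≫ (H i).map T'.mor₁; rw [← Functor.map_comp, ← Functor.map_comp, φ.comm₁])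
    (by change (H i).map T.mor₂ ≫ _ = _ ≫ (H i).map T'.mor₂; rw [← Functor.map_comp, ← Functor.map_comp, φ.comm₂])
    (δ_naturality φ i (i + 1) rfl)
    (by change (H (i + 1)).map T.mor₁ ≫ _ = _ ≫ (H (i + 1)).map T'.mor₁
        rw [← Functor.map_comp, ← Functor.map_comp, φ.comm₁])
    (by change (H (i + 1)).map T.mor₂ ≫ _ = _ ≫ (H (i + 1)).map T'.mor₂
        rw [← Functor.map_comp, ← Functor.map_comp, φ.comm₂])
  have ex := fun i => (H 0).homologySequenceComposableArrows₅_exact T hT i (i + 1) rfl
  have ex' := fun i => (H 0).homologySequenceComposableArrows₅_exact T' hT' i (i + 1) rfl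
  have hepi : ∀ i, m ≤ i → Epi ((H i).map φ.hom₃) := fun i hi => by
    haveI := h₂.1 (i + 1) (by omega)
    exact Abelian.epi_of_epi_of_epi_of_mono'' (k := 1) (by omega) (ex i) (ex' i) (R i) 1 2 3 4 rfl rfl rfl rfl
      (epi₂ i hi) (epi₁ (i + 1) (by omega)) (show Mono ((H (i + 1)).map φ.hom₂) from inferInstance)
  refine ⟨fun i hi => ?_, hepi m le_rfl⟩
  haveI := hepi i hi.le
  haveI := h₂.1 i hi
  haveI := h₁.1 (i + 1) (by omega)
  haveI : Mono ((H i).map φ.hom₃) :=
    Abelian.mono_of_epi_of_mono_of_mono'' (k := 0) (by omega) (ex i) (ex' i) (R i) 0 1 2 3 rfl rfl rfl rfl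
      (epi₁ i (by omega)) (show Mono ((H i).map φ.hom₂) from inferInstance)
      (show Mono ((H (i + 1)).map φ.hom₁) from inferInstance)
  exact isIso_of_mono_of_epi _

theorem Approx.shift {X Y : DerivedCategory C} {f : X ⟶ Y} {m a n : ℤ} (h : Approx f m) (hn : a + n = m) :
    Approx (f⟦a⟧') n := by
  obtain ⟨M, g, d, hT⟩ := distinguished_cocone_triangle f
  haveI : M.IsLE (m - 1) := (approx_iff_triangle _ hT m).1 h
  have hshift := Triangle.shift_distinguished _ hT a
  have h' : Approx (a.negOnePow • f⟦a⟧') n :=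
    (approx_iff_triangle _ hshift n).2
      (DerivedCategory.TStructure.t.isLE_shift M (m - 1) a (n - 1) (by omega))
  rcases Int.even_or_odd a with ha | ha
  · rwa [Int.negOnePow_even _ ha, one_smul] at h'
  · rw [Int.negOnePow_odd _ ha, Units.neg_smul, one_smul] at h'
    refine approx_congr (Iso.refl _) ⟨-𝟙 _, -𝟙 _, by simp, by simp⟩ (by simp) h'

end Groth.L29.DC
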