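import Groth.Agent.L29.DCoh.GapTensor
import Groth.Agent.L10.DRing.FibrePerfect
import Groth.Agent.L02.PC.Trunc
import Groth.Agent.L00.SingleTotal
import Groth.Agent.S6942

/-!
A pseudo-coherent complex over a Noetherian ring is perfect if tensoring with finite free complexes having
cohomology in degree zero and far below has vanishing cohomology in the gap.
-/

set_option autoImplicit false
set_option backward.defeqAttrib.useBackward true
set_option backward.isDefEq.respectTransparency false
set_option backward.isDefEq.respectTransparency.types false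

universe u

open CategoryTheory CategoryTheory.Limits MonoidalCategory HomologicalComplex TensorProduct

attribute [local instance] HasDerivedCategory.standard

namespace Groth.L29.DC.GapPerfect

open Groth.L00 Groth.L02.PC

variable {A : Type u} [CommRing A]

/-- the gap hypothesis -/
def HasGap (P : DRing.Cx A) (a d : ℤ) : Prop :=
  ∀ (G : DRing.Cx A) (n t b : ℤ), 0 < n → DRing.VanishesOutside G t b → DRing.TermwiseFiniteFree G →
    (∀ q, -n < q → q ≠ 0 → IsZero (G.homology q)) →
      ∀ i, d - n < i → i < a → IsZero (((GapTensor.Φ P).obj G).homology i)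

theorem perfect_of_gap [IsNoetherianRing A] (P : DRing.Cx A) {B : ℤ} (hPb : DRing.VanishesAbove P B)
    (hP : DRing.TermwiseFiniteFree P) (a d : ℤ) (h : HasGap P a d) : DRing.IsPerfect A (DRing.toD P) := by
  refine (Groth.L10.DR.perfect_and_amp_of_exMod (Iso.refl _) hPb hP a B (fun i hi m hm => ?_) fun i hi =>
    (P.exactAt_iff_isZero_homology i).1 (HomologicalComplex.ExactAt.of_isZero (hPb i hi))).1
  have hflat : ∀ p, Module.Flat A (P.X p) := fun p => haveI := (hP p).2; inferInstance
  let k := A ⧸ m
  obtain ⟨L, b₀, hLb, hL, ⟨eL⟩⟩ :=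
    (Groth.Agent.S6942.result A 0 (Dual.inD A k) k).2.2 (Module.Finite.of_surjective
      (Ideal.Quotient.mkₐ A m).toLinearMap Ideal.Quotient.mk_surjective)
  let sk := (HomologicalComplex.single (ModuleCat.{u} A) (ComplexShape.up ℤ) 0).obj (ModuleCat.of A k)
  let eL' : DerivedCategory.Q.obj L ≅ DerivedCategory.Q.obj sk :=
    eL ≪≫ (DerivedCategory.singleFunctorIsoCompQ _ 0).app (ModuleCat.of A k)
  have hLh : ∀ q, q ≠ 0 → IsZero (L.homology q) := fun q hq => by
    refine IsZero.of_iso ?_ (((DerivedCategory.homologyFunctorFactors _ q).app L).symm ≪≫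
      (DerivedCategory.homologyFunctor _ q).mapIso eL' ≪≫ (DerivedCategory.homologyFunctorFactors _ q).app sk)
    have hz : IsZero (sk.X q) :=
      HomologicalComplex.isZero_single_obj_X (ComplexShape.up ℤ) 0 (ModuleCat.of A k) q hq
    exact ShortComplex.isZero_homology_of_isZero_X₂ (sk.sc q) hz
  -- the truncation
  let n : ℤ := |d - i| + |B - i| + 2
  have hn₀ : 0 < n := by positivity
  have hn₁ : d - n < i := by
    have := le_abs_self (d - i); have := abs_nonneg (B - i); omega
  have hn₂ : B + (-n - 1) < i := by
    have := le_abs_self (B - i); have := abs_nonneg (d - i); omega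
  let G := trunc L (-n)
  let ι := truncι L (-n)
  haveI : ∀ q, Mono (ι.f q) := fun q => (ModuleCat.mono_iff_injective _).2 Subtype.val_injective
  haveI : Mono ι := HomologicalComplex.mono_of_mono_f ι inferInstance
  have hiso : ∀ q, -n ≤ q → IsIso (ι.f q) := fun q hq =>
    (ConcreteCategory.isIso_iff_bijective _).2 (truncι_bijective L (-n) hq)
  have hGh : ∀ q, -n < q → q ≠ 0 → IsZero (G.homology q) := fun q hq hq0 => by
    haveI : QuasiIsoAt ι q := by
      rw [quasiIsoAt_iff' ι (q - 1) q (q + 1) (by simp) (by simp)]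
      let φ := (HomologicalComplex.shortComplexFunctor' _ (ComplexShape.up ℤ) (q - 1) q (q + 1)).map ι
      haveI : Epi φ.τ₁ := by have := hiso (q - 1) (by omega); exact inferInstanceAs (Epi (ι.f (q - 1)))
      haveI : IsIso φ.τ₂ := hiso q (by omega)
      haveI : Mono φ.τ₃ := inferInstanceAs (Mono (ι.f (q + 1)))
      exact ShortComplex.quasiIso_of_epi_of_isIso_of_mono φ
    exact (hLh q hq0).of_iso (asIso (homologyMap ι q))
  have hG := h G n (-n) b₀ hn₀ (trunc_vanishesOutside L (-n) b₀ hLb) (trunc_finiteFree L (-n) fun q _ => hL q)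
    hGh i hn₁ hi
  let S := ShortComplex.mk ι (cokernel.π ι) (cokernel.condition ι)
  have hS := GapTensor.shortExact hflat S { exact := ShortComplex.exact_cokernel ι }
  have hL0 : IsZero (((GapTensor.Φ P).obj L).homology i) := by
    refine (hS.homology_exact₂ i).isZero_X₂ (hG.eq_of_src _ _) (IsZero.eq_of_tgt ?_ _ _)
    refine ShortComplex.isZero_homology_of_isZero_X₂ _
      (GapTensor.isZero_X_of_above P hPb (c := -n - 1) (fun q hq => ?_) i hn₂)
    haveI := hiso q (by omega)
    exact (isZero_cokernel_of_epi (ι.f q)).of_iso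
      (PreservesCokernel.iso (HomologicalComplex.eval _ (ComplexShape.up ℤ) q) ι)
  -- identification with the base change
  have hk := (GapTensor.isZero_iff hflat hPb eL' i).1 hL0
  let e : (((curriedTensor (ModuleCat.{u} A)).obj (ModuleCat.of A k)).mapHomologicalComplex (ComplexShape.up ℤ)).obj P ≅
      (GapTensor.Φ P).obj sk :=
    SingleTotal.iso (curriedTensor (ModuleCat.{u} A)) (ModuleCat.of A k) P ≪≫ KFlatAlg.commIso P sk
  have hex := (Groth.L10.DR.isZero_homology_iff_exact _ (i - 1) i (i + 1) (by omega) rfl).1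
    (hk.of_iso ((HomologicalComplex.homologyFunctor _ _ i).mapIso e))
  have hex' : Function.Exact ((P.d (i - 1) i).hom.lTensor k) ((P.d i (i + 1)).hom.lTensor k) := hex
  have := Groth.L10.ResidueExact.exMod_of_exact_baseChange (k := k) Ideal.Quotient.mk_surjective _ _ hex'
  rwa [Ideal.Quotient.algebraMap_eq, Ideal.mk_ker] at this

end Groth.L29.DC.GapPerfect
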