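import Mathlib.Algebra.Homology.DerivedCategory.TStructure
import Mathlib.Algebra.Homology.DerivedCategory.HomologySequence
import Mathlib.CategoryTheory.Triangulated.TStructure.TruncLTGE
import Mathlib.Algebra.Homology.DerivedCategory.SingleTriangle
import Mathlib.Algebra.Homology.DerivedCategory.FullyFaithful

/-!
The ghost lemma: a composite of `b - a + 1` maps which are zero on cohomology, between objects of amplitude
`[a, b]`, is zero in the derived category.
-/

set_option autoImplicit false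

universe w v u

open CategoryTheory CategoryTheory.Limits CategoryTheory.Pretriangulated DerivedCategory

set_option backward.defeqAttrib.useBackward true
set_option backward.isDefEq.respectTransparency false

namespace Groth.L29.DC.Ghost

variable {C : Type u} [Category.{v} C] [Abelian C] [HasDerivedCategory.{w} C]

local notation "t" => (TStructure.t : Triangulated.TStructure (DerivedCategory C))

theorem eq_zero_of_single {X Y : DerivedCategory C} (i : ℤ) [X.IsGE i] [X.IsLE i] [Y.IsGE i] [Y.IsLE i]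
    (g : X ⟶ Y) (hg : (homologyFunctor C i).map g = 0) : g = 0 := by
  obtain ⟨M, ⟨eX⟩⟩ := exists_iso_singleFunctor_obj_of_isGE_of_isLE X i
  obtain ⟨N, ⟨eY⟩⟩ := exists_iso_singleFunctor_obj_of_isGE_of_isLE Y i
  obtain ⟨φ, hφ⟩ := (singleFunctor C i).map_surjective (eX.inv ≫ g ≫ eY.hom)
  have h : (homologyFunctor C i).map ((singleFunctor C i).map φ) = 0 := by
    rw [hφ]; simp [hg]
  have h' := (singleFunctorCompHomologyFunctorIso C i).hom.naturality φ
  simp only [Functor.comp_map, Functor.id_map] at h'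
  rw [h, zero_comp] at h'
  have hφ0 : φ = 0 := by
    have := h'.symm
    rwa [← cancel_epi ((singleFunctorCompHomologyFunctorIso C i).hom.app M), comp_zero]
  rw [hφ0, Functor.map_zero] at hφ
  rw [← cancel_epi eX.inv, ← cancel_mono eY.hom]
  simp [hφ]

theorem exists_lift {W W' : DerivedCategory C} (i : ℤ) [W.IsLE i] [W'.IsLE i] (f : W ⟶ W')
    (hf : (homologyFunctor C i).map f = 0) :
    ∃ g : W ⟶ ((t).truncLT i).obj W', g ≫ ((t).truncLTι i).app W' = f := by
  suffices h : f ≫ ((t).truncGEπ i).app W' = 0 by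
    obtain ⟨g, hg⟩ := Triangle.coyoneda_exact₂ _ ((t).triangleLTGE_distinguished i W') f h
    exact ⟨g, hg.symm⟩
  rw [← (t).π_descTruncGE (f ≫ ((t).truncGEπ i).app W') i]
  suffices hg : (t).descTruncGE (f ≫ ((t).truncGEπ i).app W') i = 0 by rw [hg, comp_zero]
  apply eq_zero_of_single i
  haveI : Epi ((homologyFunctor C i).map (((t).truncGEπ i).app W)) := by
    refine (HomologySequence.epi_homologyMap_mor₂_iff _ ((t).triangleLTGE_distinguished i W) i (i + 1) rfl).2 ?_
    refine IsZero.eq_of_tgt ?_ _ _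
    exact isZero_of_isLE (((t).truncLT i).obj W) (i - 1) (i + 1) (by omega) (hX := inferInstanceAs ((t).IsLE _ _))
  rw [← cancel_epi ((homologyFunctor C i).map (((t).truncGEπ i).app W)), ← Functor.map_comp, (t).π_descTruncGE,
    Functor.map_comp, hf, zero_comp, comp_zero]

/-- the composite of `f 0, …, f (L-1)` -/
noncomputable def comp (Y : ℕ → DerivedCategory C) (f : ∀ n, Y (n + 1) ⟶ Y n) : ∀ (L j : ℕ), Y (j + L) ⟶ Y j
  | 0, _ => 𝟙 _
  | L + 1, j => eqToHom (congrArg Y (show j + (L + 1) = (j + 1) + L by omega)) ≫ comp Y f L (j + 1) ≫ f j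

theorem exists_factor (Y : ℕ → DerivedCategory C) (f : ∀ n, Y (n + 1) ⟶ Y n) (b : ℤ) (hb : ∀ n, (Y n).IsLE b)
    (hf : ∀ n i, (homologyFunctor C i).map (f n) = 0) :
    ∀ (L j : ℕ), ∃ (Z : DerivedCategory C) (_ : Z.IsLE (b - L)) (p : Y (j + L) ⟶ Z) (q : Z ⟶ Y j),
      comp Y f L j = p ≫ q
  | 0, j => ⟨Y j, by simpa using hb j, 𝟙 _, 𝟙 _, (Category.comp_id _).symm⟩
  | L + 1, j => by
    obtain ⟨Z, hZ, p, q, hpq⟩ := exists_factor Y f b hb hf L (j + 1)
    let i : ℤ := b - L
    let W := ((t).truncLT (i + 1)).obj (Y j)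
    haveI : W.IsLE i := inferInstanceAs ((t).IsLE (((t).truncLT (i + 1)).obj (Y j)) i)
    haveI : (t).IsLE Z i := hZ
    let h : Z ⟶ W := (t).liftTruncLT (q ≫ f j) i (i + 1) rfl
    have hh : h ≫ ((t).truncLTι (i + 1)).app (Y j) = q ≫ f j := (t).liftTruncLT_ι _ _ _ _
    haveI : Mono ((homologyFunctor C i).map (((t).truncLTι (i + 1)).app (Y j))) := by
      refine (HomologySequence.mono_homologyMap_mor₁_iff _ ((t).triangleLTGE_distinguished (i + 1) (Y j)) (i - 1) i
        (by omega)).2 ?_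
      refine IsZero.eq_of_src ?_ _ _
      exact isZero_of_isGE (((t).truncGE (i + 1)).obj (Y j)) (i + 1) (i - 1) (by omega)
        (hX := inferInstanceAs ((t).IsGE _ _))
    obtain ⟨g, hg⟩ := exists_lift i h (by
      rw [← cancel_mono ((homologyFunctor C i).map (((t).truncLTι (i + 1)).app (Y j))), ← Functor.map_comp, hh,
        Functor.map_comp, hf, comp_zero, zero_comp])
    refine ⟨((t).truncLT i).obj W, ?_, eqToHom (congrArg Y (show j + (L + 1) = (j + 1) + L by omega)) ≫ p ≫ g,
      ((t).truncLTι i).app W ≫ ((t).truncLTι (i + 1)).app (Y j), ?_⟩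
    · exact (t).isLE_truncLT_obj W i _ (by omega)
    · rw [comp, hpq]
      simp only [Category.assoc]
      rw [reassoc_of% hg, hh]

theorem comp_eq_zero (Y : ℕ → DerivedCategory C) (f : ∀ n, Y (n + 1) ⟶ Y n) (a b : ℤ) (ha : ∀ n, (Y n).IsGE a)
    (hb : ∀ n, (Y n).IsLE b) (hf : ∀ n i, (homologyFunctor C i).map (f n) = 0) (L : ℕ) (hL : b - L < a) (j : ℕ) :
    comp Y f L j = 0 := by
  obtain ⟨Z, hZ, p, q, hpq⟩ := exists_factor Y f b hb hf L j
  haveI : (t).IsLE Z (b - L) := hZ
  haveI : (t).IsGE (Y j) a := ha j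
  rw [hpq, (t).zero_of_isLE_of_isGE q (b - L) a hL inferInstance inferInstance, comp_zero]

end Groth.L29.DC.Ghost
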