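import Groth.Agent.L29.DCoh.LocalLift
import Groth.Agent.L29.DCoh.Five

/-!
Maps out of strictly perfect complexes in `D(O_X)` are locally chain maps.
-/

set_option autoImplicit false
set_option backward.isDefEq.respectTransparency false
set_option backward.isDefEq.respectTransparency.types false

universe u

open CategoryTheory CategoryTheory.Limits AlgebraicGeometry CochainComplex Pretriangulated

attribute [local instance] HasDerivedCategory.standard

namespace Groth.L29.DC

variable {X : Scheme.{u}}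

/-- restriction in the derived category is transitive -/
noncomputable def resTransD {U W : Scheme.{u}} (j : U ⟶ X) [IsOpenImmersion j] (k : W ⟶ U) [IsOpenImmersion k]
    (j' : W ⟶ X) [IsOpenImmersion j'] (h : k ≫ j = j') :
    DCoh.restrictD j ⋙ DCoh.restrictD k ≅ DCoh.restrictD j' :=
  let M := fun {A B : Scheme.{u}} (i : A ⟶ B) (_ : IsOpenImmersion i) =>
    (Scheme.Modules.restrictFunctor i).mapHomologicalComplex (ComplexShape.up ℤ)
  let F := fun {A B : Scheme.{u}} (i : A ⟶ B) (_ : IsOpenImmersion i) =>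
    (Scheme.Modules.restrictFunctor i).mapDerivedCategoryFactors
  let e : DerivedCategory.Q ⋙ (DCoh.restrictD j ⋙ DCoh.restrictD k) ≅ DerivedCategory.Q ⋙ DCoh.restrictD j' :=
    (Functor.associator _ _ _).symm ≪≫ Functor.isoWhiskerRight (F j inferInstance) _ ≪≫
      Functor.associator _ _ _ ≪≫ Functor.isoWhiskerLeft (M j inferInstance) (F k inferInstance) ≪≫
      (Functor.associator _ _ _).symm ≪≫ Functor.isoWhiskerRight (resTransCx j k j' h) _ ≪≫
      (F j' inferInstance).symm
  Localization.liftNatIso DerivedCategory.Q (HomologicalComplex.quasiIso X.Modules (ComplexShape.up ℤ))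
    (DerivedCategory.Q ⋙ (DCoh.restrictD j ⋙ DCoh.restrictD k)) (DerivedCategory.Q ⋙ DCoh.restrictD j') _ _ e

/-- restricting a strictly perfect complex -/
theorem isStrictlyPerfect_restrict {U : Scheme.{u}} (j : U ⟶ X) [IsOpenImmersion j]
    {E : CochainComplex X.Modules ℤ} (hE : DCoh.IsStrictlyPerfect E) :
    DCoh.IsStrictlyPerfect (((Scheme.Modules.restrictFunctor j).mapHomologicalComplex (ComplexShape.up ℤ)).obj E) := by
  obtain ⟨⟨a, b, h⟩, h'⟩ := hE
  exact ⟨⟨a, b, fun i hi => (Scheme.Modules.restrictFunctor j).map_isZero (h i hi)⟩,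
    fun i => Groth.L29.LocFree.of_iso ((Scheme.Modules.restrictFunctorIsoPullback j).app _).symm
      (Groth.L29.LocFree.pullback j (h' i))⟩

theorem exists_local_homotopy_lift {E F G : CochainComplex X.Modules ℤ} (α : E ⟶ F) (f : G ⟶ F)
    (hE : DCoh.IsStrictlyPerfect E) (a : ℤ) (hEa : ∀ j : ℤ, j < a → IsZero (E.X j))
    (hf : Approx (DerivedCategory.Q.map f) a) (x : X) :
    ∃ (V : X.Opens) (β : (DCoh.restrictCx V).obj E ⟶ (DCoh.restrictCx V).obj G), x ∈ V ∧
      Nonempty (Homotopy (β ≫ (DCoh.restrictCx V).map f) ((DCoh.restrictCx V).map α)) := by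
  have hc := (approx_Q_map_iff f a).1 hf
  rw [DerivedCategory.isLE_Q_obj_iff, CochainComplex.isLE_iff] at hc
  obtain ⟨V, hxV, ⟨H⟩⟩ := nullAt_of_isStrictlyPerfect (α ≫ mappingCone.inr f) hE a hEa
    (fun i hi => (HomologicalComplex.exactAt_iff_isZero_homology _ _).1 (hc i (by omega))) x
  let R := Scheme.Modules.restrictFunctor V.ι
  let e := mappingCone.mapHomologicalComplexIso f R
  let q := HomotopyCategory.quotient (V : Scheme.{u}).Modules (ComplexShape.up ℤ)
  have h0 : q.map ((DCoh.restrictCx V).map α) ≫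
      q.map (mappingCone.inr ((DCoh.restrictCx V).map f)) = 0 := by
    have h1 := HomotopyCategory.eq_of_homotopy _ _ H
    rw [Functor.map_zero] at h1
    have h2 : (DCoh.restrictCx V).map (mappingCone.inr f) ≫ e.hom =
        mappingCone.inr ((DCoh.restrictCx V).map f) :=
      CochainComplex.mappingCone.map_inr _ _
    rw [← Functor.map_comp, ← h2, ← Category.assoc, ← Functor.map_comp, Functor.map_comp, h1, zero_comp]
  obtain ⟨g, hg⟩ := Triangle.coyoneda_exact₂ _
    (HomotopyCategory.mappingCone_triangleh_distinguished ((DCoh.restrictCx V).map f)) _ h0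
  obtain ⟨β, rfl⟩ := q.map_surjective g
  exact ⟨V, β, hxV, ⟨HomotopyCategory.homotopyOfEq _ _ ((q.map_comp _ _).trans hg.symm)⟩⟩

theorem Q_map_eq_of_homotopy {C : Type*} [Category C] [Abelian C] [HasDerivedCategory C]
    {K L : CochainComplex C ℤ} {f g : K ⟶ L} (h : Homotopy f g) :
    DerivedCategory.Q.map f = DerivedCategory.Q.map g := by
  rw [← NatIso.naturality_1 (DerivedCategory.quotientCompQhIso C) f,
    ← NatIso.naturality_1 (DerivedCategory.quotientCompQhIso C) g, Functor.comp_map, Functor.comp_map,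
    HomotopyCategory.eq_of_homotopy _ _ h]

/-- maps out of a strictly perfect complex are locally chain maps -/
theorem exists_local_chainMap {E F : CochainComplex X.Modules ℤ} (hE : DCoh.IsStrictlyPerfect E)
    (α : DCoh.toD X E ⟶ DCoh.toD X F) (x : X) :
    ∃ (V : X.Opens) (β : (DCoh.restrictCx V).obj E ⟶ (DCoh.restrictCx V).obj F), x ∈ V ∧
      (resD V).map α = (resQIso V E).hom ≫ DerivedCategory.Q.map β ≫ (resQIso V F).inv := by
  obtain ⟨X', s, hs, g, rfl⟩ := DerivedCategory.right_fac α
  obtain ⟨⟨a, b, hv⟩, hf⟩ := hE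
  obtain ⟨V, β, hxV, ⟨H⟩⟩ := exists_local_homotopy_lift (𝟙 E) s ⟨⟨a, b, hv⟩, hf⟩ a
    (fun j hj => hv j (Or.inl hj)) (Approx.of_isIso _ a) x
  refine ⟨V, β ≫ (DCoh.restrictCx V).map g, hxV, ?_⟩
  have hQ := Q_map_eq_of_homotopy H
  rw [CategoryTheory.Functor.map_id, CategoryTheory.Functor.map_id, Functor.map_comp] at hQ
  let η := (Scheme.Modules.restrictFunctor V.ι).mapDerivedCategoryFactors
  haveI : IsIso (DerivedCategory.Q.map ((DCoh.restrictCx V).map s)) := by
    haveI : IsIso ((resD V).map (DerivedCategory.Q.map s)) := inferInstance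
    exact (NatIso.isIso_map_iff η s).1 this
  have hn_s : (resD V).map (DerivedCategory.Q.map s) ≫ η.hom.app E =
      η.hom.app X' ≫ DerivedCategory.Q.map ((DCoh.restrictCx V).map s) := η.hom.naturality s
  have hn_g : (resD V).map (DerivedCategory.Q.map g) ≫ η.hom.app F =
      η.hom.app X' ≫ DerivedCategory.Q.map ((DCoh.restrictCx V).map g) := η.hom.naturality g
  change (resD V).map (inv (DerivedCategory.Q.map s) ≫ DerivedCategory.Q.map g) =
    η.hom.app E ≫ DerivedCategory.Q.map (β ≫ (DCoh.restrictCx V).map g) ≫ η.inv.app F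
  rw [Functor.map_comp, Functor.map_inv, IsIso.inv_comp_eq, reassoc_of% hn_s, Functor.map_comp,
    Category.assoc]
  rw [← cancel_mono (η.hom.app F)]
  simp only [Category.assoc, Iso.inv_hom_id_app, Category.comp_id]
  rw [hn_g]
  congr 1
  have h2 : DerivedCategory.Q.map β = inv (DerivedCategory.Q.map ((DCoh.restrictCx V).map s)) :=
    IsIso.eq_inv_of_inv_hom_id hQ
  simp [h2]

/-- maps from strictly perfect complexes into objects vanishing in high degrees are locally zero -/
theorem exists_local_zero {E : CochainComplex X.Modules ℤ} (hE : DCoh.IsStrictlyPerfect E) (a : ℤ)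
    (hEa : ∀ i, i < a → IsZero (E.X i)) {C : DCoh.D X} [C.IsLE (a - 1)] (φ : DCoh.toD X E ⟶ C) (x : X) :
    ∃ V : X.Opens, x ∈ V ∧ (resD V).map φ = 0 := by
  obtain ⟨L, hL, ⟨e⟩⟩ := DerivedCategory.exists_iso_Q_obj_of_isLE C (a - 1)
  obtain ⟨V, β, hxV, hβ⟩ := exists_local_chainMap hE (φ ≫ e.hom) x
  refine ⟨V, hxV, ?_⟩
  have h0 : β = 0 := by
    ext i : 1
    rcases lt_or_ge i a with h | h
    · exact ((Scheme.Modules.restrictFunctor V.ι).map_isZero (hEa i h)).eq_of_src _ _
    · exact ((Scheme.Modules.restrictFunctor V.ι).map_isZero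
        (L.isZero_of_isStrictlyLE (a - 1) i (by omega))).eq_of_tgt _ _
  rw [h0, Functor.map_zero, zero_comp, comp_zero, Functor.map_comp] at hβ
  exact (cancel_mono ((resD V).map e.hom)).1 (by rw [hβ, zero_comp])

end Groth.L29.DC
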