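import Groth.Agent.L29.DCoh.PushPerfect
import Groth.Agent.L29.DCoh.RHomCoh
import Groth.Agent.L29.DCoh.RHomQCoh
import Groth.Agent.L29.DCoh.FibreLocal
import Groth.Agent.L16.Devissage
import Groth.Agent.L16.CohSupport

/-!
A perfect complex tensored with a coherent module that is flat over the base: coherence, support, boundedness
and finite tor amplitude.
-/

set_option autoImplicit false
set_option backward.defeqAttrib.useBackward true
set_option backward.isDefEq.respectTransparency false
set_option backward.isDefEq.respectTransparency.types false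

universe u

open CategoryTheory CategoryTheory.Limits MonoidalCategory AlgebraicGeometry

attribute [local instance] HasDerivedCategory.standard

namespace Groth.L29.DC.PerfectTensor

open Groth.L00 TensorProduct

variable {X S : Scheme.{u}} (f : X ⟶ S) (G : X.Modules)

theorem flat_tensor_trans (A B : Type u) [CommRing A] [CommRing B] [Algebra A B] (P G : Type u)
    [AddCommGroup P] [Module B P] [Module A P] [IsScalarTower A B P] [AddCommGroup G] [Module B G] [Module A G]
    [IsScalarTower A B G] [Module.Flat B P] [Module.Flat A G] : Module.Flat A (P ⊗[B] G) := by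
  rw [Module.Flat.iff_lTensor_preserves_injective_linearMap]
  intro M M' _ _ _ _ φ hφ
  let ψ : G ⊗[A] M →ₗ[B] G ⊗[A] M' := TensorProduct.AlgebraTensorModule.map LinearMap.id φ
  have hψ : Function.Injective ψ := fun u v h =>
    Module.Flat.lTensor_preserves_injective_linearMap φ hφ h
  let e := TensorProduct.AlgebraTensorModule.assoc A B B P G M
  let e' := TensorProduct.AlgebraTensorModule.assoc A B B P G M'
  have hsq : ∀ t, e' (φ.lTensor (P ⊗[B] G) t) = ψ.lTensor P (e t) := fun t => by
    induction t using TensorProduct.induction_on with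
    | zero => simp
    | tmul pg m =>
      induction pg using TensorProduct.induction_on with
      | zero => simp
      | tmul p g => simp [e, e', ψ]
      | add a b ha hb => simp only [TensorProduct.add_tmul, map_add, ha, hb]
    | add a b ha hb => simp only [map_add, ha, hb]
  intro u v h
  refine e.injective (Module.Flat.lTensor_preserves_injective_linearMap ψ hψ ?_)
  rw [← hsq, ← hsq, h]

/-- `P ↦ G ⊗ P` termwise -/
noncomputable abbrev TG : CochainComplex X.Modules ℤ ⥤ CochainComplex X.Modules ℤ :=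
  ((DCoh.tensorBi (X := X)).obj G).mapHomologicalComplex (ComplexShape.up ℤ)

section Stalk

variable {U : Scheme.{u}} (j : U ⟶ X) [IsOpenImmersion j]

theorem isZero_stalk_of_res {M : X.Modules} (h : IsZero ((ExtZero.res j).obj M)) (y : U) :
    IsZero ((Stk.F X (j y)).obj M) := by
  have hy : y ∉ CohB1.support ((ExtZero.res j).obj M) := fun hy =>
    (Groth.L21.Mod.mem_support_iff_not_isZero _ y).1 hy ((Groth.L21.Mod.stalkF U y).map_isZero h)
  rw [show CohB1.support ((ExtZero.res j).obj M) = j ⁻¹' CohB1.support M from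
    Groth.L21.Mod.support_restrict j M] at hy
  haveI : Subsingleton ((Stk.F X (j y)).obj M) := not_not.1 hy
  exact ModuleCat.isZero_of_subsingleton _

theorem isIso_stalk_of_res {M N : X.Modules} (φ : M ⟶ N) [IsIso ((ExtZero.res j).map φ)] (y : U) :
    IsIso ((Stk.F X (j y)).map φ) := by
  haveI : Mono ((Stk.F X (j y)).map φ) := Preadditive.mono_of_isZero_kernel _
    ((isZero_stalk_of_res j ((isZero_kernel_of_mono ((ExtZero.res j).map φ)).of_iso
      (PreservesKernel.iso (ExtZero.res j) φ)) y).of_iso (PreservesKernel.iso (Stk.F X (j y)) φ).symm)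
  haveI : Epi ((Stk.F X (j y)).map φ) := Preadditive.epi_of_isZero_cokernel _
    ((isZero_stalk_of_res j ((isZero_cokernel_of_epi ((ExtZero.res j).map φ)).of_iso
      (PreservesCokernel.iso (ExtZero.res j) φ)) y).of_iso (PreservesCokernel.iso (Stk.F X (j y)) φ).symm)
  exact isIso_of_mono_of_epi _

/-- quasi-isomorphisms on an open are quasi-isomorphisms on the stalks there -/
theorem isIso_Q_stalkCxOver {M N : CochainComplex X.Modules ℤ} (φ : M ⟶ N) [QuasiIso ((ExtZero.rCx j).map φ)]
    (y : U) : IsIso (DerivedCategory.Q.map ((DerSch.stalkCxOver f (j y)).map φ)) := by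
  haveI := ExtZero.preservesFiniteLimits j
  refine (EvalLocal.acyclic_cone_iff _).1 (Eval.acyclic_of_iso
    (CochainComplex.mappingCone.mapHomologicalComplexIso φ (DerSch.stalkOver f (j y))) fun i => ?_)
  rw [HomologicalComplex.exactAt_iff_isZero_homology]
  refine (KFlatAlg.acyclic_restrictScalars (f.stalkMap (j y)).hom ((Stk.S X (j y)).obj (CochainComplex.mappingCone φ)) i).2 ?_
  refine IsZero.of_iso ?_ (((CochainComplex.mappingCone φ).sc i).mapHomologyIso (Stk.F X (j y)))
  refine isZero_stalk_of_res j (IsZero.of_iso ?_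
    (((CochainComplex.mappingCone φ).sc i).mapHomologyIso (ExtZero.res j)).symm) y
  exact (HomologicalComplex.exactAt_iff_isZero_homology _ _).1 (ProjQis.acyclic_map_cone j φ i)

theorem quasiIso_res_TG {K K' : CochainComplex X.Modules ℤ} (g : K ⟶ K') (hK : DCoh.IsKFlat K)
    (hK' : DCoh.IsKFlat K') [QuasiIso ((ExtZero.rCx j).map g)] :
    QuasiIso ((ExtZero.rCx j).map ((TG G).map g)) := by
  haveI := ExtZero.preservesFiniteLimits j
  have h := (Eval.setting j).tensor ((HomologicalComplex.single X.Modules (ComplexShape.up ℤ) 0).obj G)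
    (KFlat.isKFlat_cone g hK hK') (ProjQis.acyclic_map_cone j g)
  have h' : ((ExtZero.rCx j).obj ((TG G).obj (CochainComplex.mappingCone g))).Acyclic :=
    Eval.acyclic_of_iso ((ExtZero.rCx j).mapIso (SingleTotal.iso (DCoh.tensorBi (X := X)) G _)).symm h
  refine (DerivedCategory.isIso_Q_map_iff_quasiIso _ _).1 ((EvalLocal.acyclic_cone_iff _).1 (Eval.acyclic_of_iso
    ((ExtZero.rCx j).mapIso (CochainComplex.mappingCone.mapHomologicalComplexIso g ((DCoh.tensorBi (X := X)).obj G)) ≪≫
      CochainComplex.mappingCone.mapHomologicalComplexIso ((TG G).map g) (ExtZero.res j)) h'))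

theorem flat_stalk_tensor (N : X.Modules) (x : X) (hN : Module.Flat (X.presheaf.stalk x) ((Stk.F X x).obj N))
    (hG : FlatMod.IsFlatOverAt f G x) :
    Module.Flat (S.presheaf.stalk (f.base x))
      ((DerSch.stalkOver f x).obj (((DCoh.tensorBi (X := X)).obj G).obj N)) := by
  letI := (f.stalkMap x).hom.toAlgebra
  letI := FlatMod.moduleStalkOver f G x
  haveI : IsScalarTower (S.presheaf.stalk (f.base x)) (X.presheaf.stalk x) (G.presheaf.stalk x) :=
    ⟨fun r a m => by
      show ((f.stalkMap x).hom r * a) • m = (f.stalkMap x).hom r • (a • m)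
      rw [mul_smul]⟩
  haveI : Module.Flat (X.presheaf.stalk x) ((Stk.F X x).obj N) := hN
  haveI : Module.Flat (S.presheaf.stalk (f.base x)) (G.presheaf.stalk x) := hG
  letI : Module (S.presheaf.stalk (f.base x)) ((Stk.F X x).obj N) :=
    Module.compHom _ (f.stalkMap x).hom
  haveI : IsScalarTower (S.presheaf.stalk (f.base x)) (X.presheaf.stalk x) ((Stk.F X x).obj N) :=
    ⟨fun r a m => by
      show ((f.stalkMap x).hom r * a) • m = (f.stalkMap x).hom r • (a • m)
      rw [mul_smul]⟩
  haveI : Module.Flat (S.presheaf.stalk (f.base x))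
      (((Stk.F X x).obj N) ⊗[X.presheaf.stalk x] (G.presheaf.stalk x)) := flat_tensor_trans _ _ _ _
  let e : (((Stk.F X x).obj N) ⊗[X.presheaf.stalk x] (G.presheaf.stalk x)) ≃ₗ[X.presheaf.stalk x]
      ((Stk.F X x).obj (((DCoh.tensorBi (X := X)).obj G).obj N)) :=
    (Stk.β x N G).toLinearEquiv
  let T := (DerSch.stalkOver f x).obj (((DCoh.tensorBi (X := X)).obj G).obj N)
  let L : (((Stk.F X x).obj N) ⊗[X.presheaf.stalk x] (G.presheaf.stalk x)) →ₗ[S.presheaf.stalk (f.base x)] T :=
    { toFun := fun t => e t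
      map_add' := fun a b => e.map_add a b
      map_smul' := fun r t => by
        show e (r • t) = (f.stalkMap x).hom r • e t
        rw [← algebraMap_smul (X.presheaf.stalk x) r t]
        exact e.map_smul _ t }
  exact Module.Flat.of_linearEquiv (LinearEquiv.ofBijective L e.bijective).symm

theorem flat_stalk_extZero {M : U.Modules} {n : ℕ} (e : M ≅ FlatMod.freeMod U n) (y : U) :
    Module.Flat (X.presheaf.stalk (j y)) ((Stk.F X (j y)).obj ((CxOX.extZero j).obj M)) := by
  let e' : M ≅ (ExtZero.res j).obj (FlatMod.freeMod X n) :=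
    e ≪≫ (Groth.L29.LocFree.pullbackFreeIso j n).symm ≪≫ ((Scheme.Modules.restrictFunctorIsoPullback j).app _).symm
  let φ : (CxOX.extZero j).obj ((ExtZero.res j).obj (FlatMod.freeMod X n)) ⟶ FlatMod.freeMod X n :=
    (CxOX.extZeroAdj j).counit.app _
  haveI : IsIso ((ExtZero.res j).map φ) := by
    have h := (CxOX.extZeroAdj j).right_triangle_components (FlatMod.freeMod X n)
    exact @IsIso.of_isIso_fac_left _ _ _ _ _ _ _ _ inferInstance inferInstance h
  haveI := isIso_stalk_of_res j φ y
  haveI : Module.Flat (X.presheaf.stalk (j y)) ((Stk.F X (j y)).obj (FlatMod.freeMod X n)) :=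
    isFlat_of_isFinLocFree (isFinLocFree_freeMod X n) (j y)
  exact Module.Flat.of_linearEquiv
    ((Stk.F X (j y)).mapIso ((CxOX.extZero j).mapIso e') ≪≫ asIso ((Stk.F X (j y)).map φ)).toLinearEquiv

end Stalk

section Coherent

variable [IsLocallyNoetherian X]

theorem isCoh_tensor_free {H : X.Modules} (hH : Coh.IsCoh H) :
    ∀ n : ℕ, Coh.IsCoh (((DCoh.tensorBi (X := X)).obj H).obj (FlatMod.freeMod X n)) := by
  intro n
  induction n with
  | zero =>
    exact RHomC.isCoh_of_isZero (((DCoh.tensorBi (X := X)).obj H).map_isZero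
      ((IsZero.iff_id_eq_zero _).2 (Sigma.hom_ext _ _ fun i => i.elim0)))
  | succ n ih =>
    have h1 : Coh.IsCoh (((DCoh.tensorBi (X := X)).obj H).obj (Coh.structureModule X)) :=
      Groth.L16.CohSupport.isCoh_of_iso ((RHom.unitNatIso.app H).symm ≪≫ Tensor.tensorComm _ _) hH
    haveI := preservesBinaryBiproducts_of_preservesBiproducts ((DCoh.tensorBi (X := X)).obj H)
    exact Groth.L16.CohSupport.isCoh_of_iso
      ((((DCoh.tensorBi (X := X)).obj H).mapBiprod _ _).symm ≪≫
        ((DCoh.tensorBi (X := X)).obj H).mapIso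
          (coprodFinSuccIso fun _ : Fin (n + 1) => Coh.structureModule X).symm)
      (Groth.L16.Devissage.isCoh_biprod h1 ih)

theorem isCoh_homology (K : CochainComplex X.Modules ℤ) (h : ∀ i, Coh.IsCoh (K.X i)) (i : ℤ) :
    Coh.IsCoh (K.homology i) := by
  have hz : Coh.IsCoh (K.cycles i) :=
    Groth.L16.CohSupport.isCoh_of_iso ((kernelIsKernel _).conePointUniqueUpToIso (K.cyclesIsKernel i (i + 1) (by simp)))
      (Groth.L16.CohKernel.isCoh_kernel_cokernel (h i) (h (i + 1)) (K.d i (i + 1))).1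
  exact Groth.L16.CohSupport.isCoh_of_iso
    ((cokernelIsCokernel _).coconePointUniqueUpToIso (K.homologyIsCokernel (i - 1) i (by simp)))
    (Groth.L16.CohKernel.isCoh_kernel_cokernel (h (i - 1)) hz (K.toCycles (i - 1) i)).2

end Coherent

/-- the local models -/
def Model (P : CochainComplex X.Modules ℤ) {U : Scheme.{u}} (j : U ⟶ X) [IsOpenImmersion j] : Prop :=
  ∃ (E : CochainComplex U.Modules ℤ) (a b : ℤ), DCoh.IsStrictlyPerfect E ∧ DCoh.VanishesOutside E a b ∧
    (∀ i, ∃ n : ℕ, Nonempty (E.X i ≅ FlatMod.freeMod U n)) ∧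
    ∃ (Z : CochainComplex X.Modules ℤ) (g : Z ⟶ P) (s : Z ⟶ (ExtZero.eCx j).obj E),
      DCoh.IsKFlat Z ∧ QuasiIso ((ExtZero.rCx j).map g) ∧ QuasiIso ((ExtZero.rCx j).map s)

theorem exists_model (P : CochainComplex X.Modules ℤ) (hPf : DCoh.IsKFlat P)
    (hP : DCoh.IsPerfect (DCoh.toD X P)) (x : X) :
    ∃ (U : Scheme.{u}) (j : U ⟶ X) (_ : IsOpenImmersion j), x ∈ j.opensRange ∧ Model P j := by
  obtain ⟨V, hx, E₀, hE₀, ⟨e₀⟩⟩ := (isPerfect_iff _).1 hP x
  obtain ⟨W, hW, hfree⟩ := Fib.exists_free_nhd hE₀ ⟨x, hx⟩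
  let j := W.ι ≫ V.ι
  let E := (ExtZero.rCx W.ι).obj E₀
  have hE : DCoh.IsStrictlyPerfect E := isStrictlyPerfect_restrict W.ι hE₀
  obtain ⟨⟨a, b, hv⟩, -⟩ := id hE
  let e : DerivedCategory.Q.obj E ≅ DerivedCategory.Q.obj ((ExtZero.rCx j).obj P) :=
    ((Scheme.Modules.restrictFunctor W.ι).mapDerivedCategoryFactors.app E₀).symm ≪≫
      (DCoh.restrictD W.ι).mapIso e₀.symm ≪≫
      (resTransD V.ι W.ι j rfl).app _ ≪≫ (Scheme.Modules.restrictFunctor j).mapDerivedCategoryFactors.app P
  obtain ⟨R, s, hs, g, hg⟩ := DerivedCategory.right_fac e.hom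
  haveI : QuasiIso s := (DerivedCategory.isIso_Q_map_iff_quasiIso _ s).1 hs
  haveI : QuasiIso g := by
    refine (DerivedCategory.isIso_Q_map_iff_quasiIso _ g).1 ?_
    rw [show DerivedCategory.Q.map g = DerivedCategory.Q.map s ≫ e.hom by rw [hg, IsIso.hom_inv_id_assoc]]
    infer_instance
  let r : (KFlat.RF _).obj R ⟶ R := (KFlat.rF _).app R
  haveI : QuasiIso r := KFlat.quasiIso_rF R
  refine ⟨W, j, inferInstance, mem_opensRange_comp hx hW, E, a, b, hE, hv, hfree,
    (ExtZero.eCx j).obj ((KFlat.RF _).obj R), ((ExtZero.adjCx j).homEquiv _ P).symm (r ≫ g),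
    (ExtZero.eCx j).map (r ≫ s), ExtZero.isKFlat_eCx j (KFlat.isKFlat_RF R),
    EvalPerf.quasiIso_res_adjoint j (r ≫ g), EvalPerf.quasiIso_res_eCx j (r ≫ s)⟩

variable {G} (P : CochainComplex X.Modules ℤ) (hPf : DCoh.IsKFlat P)

section Local

variable {U : Scheme.{u}} (j : U ⟶ X) [IsOpenImmersion j]

include hPf in
theorem of_model (hm : Model P j) :
    ∃ a b : ℤ, (FlatMod.IsFlatOver f G → ∀ y : U, DerSch.HasTorAmplitudeAt f a b ((TG G).obj P) (j y)) ∧
      (∀ i, (i < a ∨ b < i) → ∀ y : U, IsZero ((Stk.F X (j y)).obj (((TG G).obj P).homology i))) ∧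
      ([IsLocallyNoetherian X] → Coh.IsCoh G → ∀ i, Coh.IsCoh ((((TG G).obj P).homology i).restrict j)) := by
  obtain ⟨E, a, b, hE, hv, hfree, Z, g, s, hZ, hg, hs⟩ := hm
  haveI := hg
  haveI := hs
  haveI := ExtZero.preservesFiniteLimits j
  haveI : (CxOX.extZero j).Additive := (CxOX.extZeroAdj j).left_adjoint_additive
  have hE' : DCoh.IsKFlat ((ExtZero.eCx j).obj E) := ExtZero.isKFlat_eCx j (isKFlat_of_isStrictlyPerfect hE)
  haveI := quasiIso_res_TG G j g hZ hPf
  haveI := quasiIso_res_TG G j s hZ hE'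
  let F' := (TG G).obj ((ExtZero.eCx j).obj E)
  have hzero : ∀ i, (i < a ∨ b < i) → IsZero (F'.X i) := fun i hi =>
    ((DCoh.tensorBi (X := X)).obj G).map_isZero ((CxOX.extZero j).map_isZero (hv i hi))
  let eH : ∀ i, ((ExtZero.rCx j).obj ((TG G).obj P)).homology i ≅ ((ExtZero.rCx j).obj F').homology i := fun i =>
    (asIso (HomologicalComplex.homologyMap ((ExtZero.rCx j).map ((TG G).map g)) i)).symm ≪≫
      asIso (HomologicalComplex.homologyMap ((ExtZero.rCx j).map ((TG G).map s)) i)
  refine ⟨a, b, fun hflat y => ?_, fun i hi y => ?_, fun {_} hG i => ?_⟩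
  · haveI := isIso_Q_stalkCxOver f j ((TG G).map g) y
    haveI := isIso_Q_stalkCxOver f j ((TG G).map s) y
    refine ⟨(DerSch.stalkCxOver f (j y)).obj F', fun i hi => (DerSch.stalkOver f (j y)).map_isZero (hzero i hi),
      fun i => ?_, ⟨(asIso (DerivedCategory.Q.map ((DerSch.stalkCxOver f (j y)).map ((TG G).map s)))).symm ≪≫
        asIso (DerivedCategory.Q.map ((DerSch.stalkCxOver f (j y)).map ((TG G).map g)))⟩⟩
    obtain ⟨n, ⟨e⟩⟩ := hfree i
    exact flat_stalk_tensor f G _ (j y) (flat_stalk_extZero j e y) (hflat (j y))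
  · refine isZero_stalk_of_res j ?_ y
    refine IsZero.of_iso ?_ ((((TG G).obj P).sc i).mapHomologyIso (ExtZero.res j)).symm
    refine IsZero.of_iso ?_ (eH i)
    exact ShortComplex.isZero_homology_of_isZero_X₂ _ ((ExtZero.res j).map_isZero (hzero i hi))
  · haveI : IsLocallyNoetherian U := isLocallyNoetherian_of_isOpenImmersion j
    refine Groth.L16.CohSupport.isCoh_of_iso
      ((eH i).symm ≪≫ (((TG G).obj P).sc i).mapHomologyIso (ExtZero.res j)) ?_
    refine isCoh_homology _ (fun k => ?_) i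
    obtain ⟨n, ⟨e⟩⟩ := hfree k
    refine Groth.L16.CohSupport.isCoh_of_iso ?_ (isCoh_tensor_free (RHomC.isCoh_restrict j hG) n)
    exact ((DCoh.tensorBi (X := U)).obj ((ExtZero.res j).obj G)).mapIso
        (e.symm ≪≫ asIso ((CxOX.extZeroAdj j).unit.app (E.X k))) ≪≫
      Groth.L00.Tensor.tensorRestrict j G ((CxOX.extZero j).obj (E.X k))

end Local

include hPf in
/-- the global properties -/
theorem main [IsLocallyNoetherian X] [CompactSpace ↥S] (hP : DCoh.IsPerfect (DCoh.toD X P)) (hG : Coh.IsCoh G)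
    (hflat : FlatMod.IsFlatOver f G) (hsupp : ClSub.IsProperOver f (CohB1.support G)) [LocallyOfFiniteType f] :
    ∃ a b : ℤ, DerSch.HasTorAmplitude f a b ((TG G).obj P) ∧
      DCoh.IsCohD (DCoh.toD X ((TG G).obj P)) ∧ (DCoh.toD X ((TG G).obj P)).IsGE a ∧
      (DCoh.toD X ((TG G).obj P)).IsLE b ∧
      ∀ i, ClSub.IsProperOver f (CohB1.support (DCoh.HD (DCoh.toD X ((TG G).obj P)) i)) := by
  choose U j hj hx hm using exists_model P hPf hP
  have hl := fun x => haveI := hj x; of_model f (G := G) P hPf (j x) (hm x)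
  choose a b htor hvan hcoh using hl
  obtain ⟨U₀, hU₀, hZU⟩ := SupportReduce.exists_qc_open f hsupp
  have hZc : IsCompact (CohB1.support G) := hU₀.of_isClosed_subset hsupp.choose hZU
  obtain ⟨t, ht⟩ := hZc.elim_finite_subcover (fun x => haveI := hj x; ((j x).opensRange : Set X))
    (fun x => haveI := hj x; (j x).opensRange.isOpen) (fun x _ => Set.mem_iUnion.2 ⟨x, hx x⟩)
  obtain ⟨A, hA⟩ := (t.image a).finite_toSet.bddBelow
  obtain ⟨B, hB⟩ := (t.image b).finite_toSet.bddAbove
  have hout : ∀ x, x ∉ CohB1.support G → ∀ i, IsZero ((Stk.F X x).obj (((TG G).obj P).X i)) := fun x hx' i => by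
    haveI : Subsingleton ((Stk.F X x).obj G) := not_not.1 hx'
    exact (((curriedTensor (ModuleCat.{u} (X.presheaf.stalk x))).obj ((Stk.F X x).obj (P.X i))).map_isZero
      (ModuleCat.isZero_of_subsingleton ((Stk.F X x).obj G))).of_iso (Stk.β x (P.X i) G).symm
  have htor' : DerSch.HasTorAmplitude f A B ((TG G).obj P) := fun x => by
    by_cases hx' : x ∈ CohB1.support G
    · obtain ⟨x₀, hx₀, hxx₀⟩ := Set.mem_iUnion₂.1 (ht hx')
      haveI := hj x₀
      obtain ⟨y, rfl⟩ := hxx₀
      obtain ⟨E, hE, hEf, e⟩ := htor x₀ hflat y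
      exact ⟨E, fun i hi => hE i (by
        have := hA (Finset.mem_coe.2 (Finset.mem_image_of_mem a hx₀))
        have := hB (Finset.mem_coe.2 (Finset.mem_image_of_mem b hx₀))
        omega), hEf, e⟩
    · have hz : ∀ i, IsZero (((DerSch.stalkCxOver f x).obj ((TG G).obj P)).X i) := fun i =>
        (ModuleCat.restrictScalars (f.stalkMap x).hom).map_isZero (hout x hx' i)
      refine ⟨(DerSch.stalkCxOver f x).obj ((TG G).obj P), fun i _ => hz i, fun i => ?_, ⟨Iso.refl _⟩⟩
      haveI := ModuleCat.subsingleton_of_isZero (hz i)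
      infer_instance
  have hH : ∀ i x, (x ∉ CohB1.support G ∨ i < A ∨ B < i) → IsZero ((Stk.F X x).obj (((TG G).obj P).homology i)) :=
    fun i x h => by
      by_cases hx' : x ∈ CohB1.support G
      · obtain ⟨x₀, hx₀, hxx₀⟩ := Set.mem_iUnion₂.1 (ht hx')
        haveI := hj x₀
        obtain ⟨y, rfl⟩ := hxx₀
        refine hvan x₀ i ?_ y
        have := hA (Finset.mem_coe.2 (Finset.mem_image_of_mem a hx₀))
        have := hB (Finset.mem_coe.2 (Finset.mem_image_of_mem b hx₀))
        rcases h with h | h | h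
        · exact absurd hx' h
        · omega
        · omega
      · exact IsZero.of_iso (ShortComplex.isZero_homology_of_isZero_X₂ _ (hout x hx' i))
          ((((TG G).obj P).sc i).mapHomologyIso (Stk.F X x)).symm
  let e : ∀ i, DCoh.HD (DCoh.toD X ((TG G).obj P)) i ≅ ((TG G).obj P).homology i := fun i =>
    (DerivedCategory.homologyFunctorFactors _ i).app _
  have hcohD : DCoh.IsCohD (DCoh.toD X ((TG G).obj P)) := fun i =>
    Groth.L16.CohSupport.isCoh_of_iso (e i).symm (RHomC.isCoh_of_cover fun x => by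
      haveI := hj x
      refine ⟨(j x).opensRange, hx x, ?_⟩
      have h := RHomC.isCoh_restrict (j x).isoOpensRange.inv (hcoh x hG i)
      exact Groth.L16.CohSupport.isCoh_of_iso
        ((resTrans (j x) (j x).isoOpensRange.inv _ (j x).isoOpensRange_inv_comp).app _) h)
  have hbd : ∀ i, (i < A ∨ B < i) → IsZero (DCoh.HD (DCoh.toD X ((TG G).obj P)) i) := fun i hi =>
    ((Stk.isZero_iff _).2 fun x => hH i x (Or.inr hi)).of_iso (e i)
  refine ⟨A, B, htor', hcohD, (DerivedCategory.isGE_iff _ _).2 fun i hi => hbd i (Or.inl hi),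
    (DerivedCategory.isLE_iff _ _).2 fun i hi => hbd i (Or.inr hi), fun i => ?_⟩
  refine Groth.L17.ProperOver.isProperOver_mono hsupp
    (Groth.L16.CohSupport.isClosed_support _ (hcohD i).2) fun x hxi => ?_
  by_contra hx'
  refine hxi ?_
  rw [show Subsingleton ((DCoh.HD (DCoh.toD X ((TG G).obj P)) i).presheaf.stalk x) =
    Subsingleton ((Stk.F X x).obj (DCoh.HD (DCoh.toD X ((TG G).obj P)) i)) from rfl]
  exact ModuleCat.subsingleton_of_isZero ((hH i x (Or.inl hx')).of_iso ((Stk.F X x).mapIso (e i)))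

end Groth.L29.DC.PerfectTensor
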