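import Groth.Agent.L29.DCoh.PCNoeth
import Groth.Agent.L29.DCoh.Eval
import Groth.Agent.L29.DCoh.EvalPerf

/-!
Internal Hom into bounded complexes of injectives on Noetherian schemes.
-/

set_option autoImplicit false
set_option linter.style.haveILetI false
set_option backward.defeqAttrib.useBackward true
set_option backward.isDefEq.respectTransparency false
set_option backward.isDefEq.respectTransparency.types false

universe u

open CategoryTheory CategoryTheory.Limits AlgebraicGeometry CochainComplex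

attribute [local instance] HasDerivedCategory.standard

noncomputable section

namespace Groth.L29.DC.RHomInjDim

open Groth.L00

variable {X : Scheme.{u}}

theorem isStrictlyGE_tensor {P C : CochainComplex X.Modules ℤ} {p c : ℤ} [P.IsStrictlyGE p]
    [C.IsStrictlyGE c] : ((DCoh.tensorCx.obj P).obj C).IsStrictlyGE (p + c) := by
  refine (CochainComplex.isStrictlyGE_iff _ _).2 fun n hn => ?_
  refine (IsZero.iff_id_eq_zero _).2 (HomologicalComplex.mapBifunctor.hom_ext fun i j h => ?_)
  have hij : i + j = n := h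
  by_cases hi : i < p
  · exact (((DCoh.tensorBi (X := X)).map_isZero (P.isZero_of_isStrictlyGE p i hi)).obj (C.X j)).eq_of_src _ _
  · exact (Functor.map_isZero _ (C.isZero_of_isStrictlyGE c j (by omega))).eq_of_src _ _

/-- a single flat module is K-flat -/
theorem isKFlat_single_flat {M : X.Modules} (hM : FlatMod.IsFlat M) (n : ℤ) :
    DCoh.IsKFlat ((HomologicalComplex.single X.Modules (ComplexShape.up ℤ) n).obj M) := by
  refine Groth.L00.TorAmp.isKFlat_of_vanishes (a := n) (b := n)
    (fun i hi => HomologicalComplex.isZero_single_obj_X _ _ _ _ (by omega)) fun i => ?_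
  rcases eq_or_ne i n with rfl | hi
  · exact Groth.L00.KFlat.isFlat_of_iso (HomologicalComplex.singleObjXSelf _ i M).symm hM
  · exact Groth.L00.KFlat.isFlat_zero (HomologicalComplex.isZero_single_obj_X _ _ _ _ hi)

set_option maxHeartbeats 1600000 in
/-- bounded below into a bounded complex of injectives is bounded above -/
theorem isLE_RSheafHom (E : CochainComplex X.Modules ℤ) (n : ℤ) (hE : (DCoh.toD X E).IsGE n)
    [DCoh.HasLTensorCx E] [DCoh.HasRSheafHom E] (I : CochainComplex X.Modules ℤ) (hI : ∀ i, Injective (I.X i))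
    (a b : ℤ) [I.IsStrictlyGE a] [I.IsStrictlyLE b] :
    ((DCoh.RSheafHom E).obj (DCoh.toD X I)).IsLE (b - n) := by
  haveI := hI
  haveI : I.IsKInjective := CochainComplex.isKInjective_of_injective I a
  haveI := QRlim.enoughKInj X
  obtain ⟨E', hE', ⟨eE⟩⟩ : ∃ E' : CochainComplex X.Modules ℤ, E'.IsStrictlyGE n ∧
      Nonempty (DCoh.toD X E ≅ DCoh.toD X E') := by
    haveI : E.IsGE n := by
      rw [CochainComplex.isGE_iff]
      intro i hi
      exact (HomologicalComplex.exactAt_iff_isZero_homology _ _).2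
        ((DerivedCategory.isZero_of_isGE (DCoh.toD X E) n i hi).of_iso
          (((DerivedCategory.homologyFunctorFactors _ i).app E).symm))
    exact ⟨E.truncGE n, inferInstance, ⟨asIso (DerivedCategory.Q.map (E.πTruncGE n))⟩⟩
  haveI := hE'
  haveI := KFlat.hasLTensorCx E'
  obtain ⟨t⟩ := RHom.nonempty_lt_iso eE
  let Z := (DCoh.RSheafHom E).obj (DCoh.toD X I)
  refine (DerivedCategory.isLE_iff Z (b - n)).2 fun i hi => ?_
  have h0 : ∀ {T : X.Modules} (y : T ⟶ (DerivedCategory.homologyFunctor X.Modules 0).obj (Z⟦i⟧)), y = 0 := by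
    intro T y
    obtain ⟨T₁, p₁, hp₁, ξ, hξ⟩ := Groth.L10.LocalDetect.exists_lift y
    obtain ⟨F, q, hq, hF⟩ := Eval.exists_flat_cover T₁
    let P := (CochainComplex.singleFunctor X.Modules i).obj F
    have hzero : ∀ u : DerivedCategory.Q.obj P ⟶ Z, u = 0 := by
      intro u
      apply ((DCoh.RSheafHomAdj E).homEquiv _ _).symm.injective
      haveI := FiveRight.additive_left (DCoh.RSheafHomAdj E)
      rw [RHomExact.symm_zero]
      let w := ((DCoh.RSheafHomAdj E).homEquiv _ _).symm u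
      have hP : DCoh.IsKFlat P := isKFlat_single_flat hF i
      haveI := Assoc.isIso_counit E' P hP
      let k : (DCoh.LTensorCx E).obj (DerivedCategory.Q.obj P) ≅
          DerivedCategory.Q.obj ((DCoh.tensorCx.obj P).obj E') :=
        t.app _ ≪≫ asIso (((DCoh.tensorCxQ E').totalLeftDerivedCounit DerivedCategory.Q
          (HomologicalComplex.quasiIso X.Modules (ComplexShape.up ℤ))).app P)
      obtain ⟨φ, hφ⟩ := DerAdj.exists_Q_map (k.inv ≫ w)
      haveI : P.IsStrictlyGE i := (CochainComplex.isStrictlyGE_iff _ _).2 fun j hj =>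
        HomologicalComplex.isZero_single_obj_X _ _ _ _ (by omega)
      haveI := isStrictlyGE_tensor (P := P) (C := E') (p := i) (c := n)
      have hφ0 : φ = 0 := by
        refine HomologicalComplex.hom_ext _ _ fun j => ?_
        rcases lt_or_ge j (i + n) with hj | hj
        · exact (CochainComplex.isZero_of_isStrictlyGE _ (i + n) j hj).eq_of_src _ _
        · exact (I.isZero_of_isStrictlyLE b j (by omega)).eq_of_tgt _ _
      rw [hφ0, Functor.map_zero] at hφ
      show w = 0
      rw [← cancel_epi k.inv, ← hφ, comp_zero]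
    have hξ0 : ((DerivedCategory.singleFunctor X.Modules 0).map q) ≫ ξ = 0 := by
      let η := (DerivedCategory.singleFunctor X.Modules 0).map q ≫ ξ
      let e0 : (DerivedCategory.singleFunctor X.Modules i).obj F ≅
          ((DerivedCategory.singleFunctor X.Modules 0).obj F)⟦-i⟧ :=
        (((DerivedCategory.singleFunctors X.Modules).shiftIso (-i) i 0 (by omega)).app F).symm
      let c : (Z⟦i⟧)⟦-i⟧ ≅ Z := (shiftFunctorCompIsoId (DCoh.D X) i (-i) (by omega)).app Z
      have hz := hzero (((DerivedCategory.singleFunctorIsoCompQ X.Modules i).app F).inv ≫ e0.hom ≫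
        (CategoryTheory.shiftFunctor (DCoh.D X) (-i)).map η ≫ c.hom)
      apply (CategoryTheory.shiftFunctor (DCoh.D X) (-i)).map_injective
      rw [Functor.map_zero]
      rw [← cancel_epi e0.hom, ← cancel_mono c.hom, comp_zero, zero_comp, Category.assoc,
        ← cancel_epi ((DerivedCategory.singleFunctorIsoCompQ X.Modules i).app F).inv, comp_zero]
      exact hz
    haveI := hp₁; haveI := hq
    rw [← cancel_epi p₁, ← cancel_epi q, comp_zero, comp_zero, ← hξ, ← Groth.L10.LocalDetect.cls_map, hξ0,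
      Groth.L10.LocalDetect.cls_zero]
  exact ((IsZero.iff_id_eq_zero _).2 (h0 (𝟙 _))).of_iso
    (((DerivedCategory.homologyFunctor X.Modules 0).shiftIso i 0 i (add_zero i)).app Z).symm

theorem cohD_truncLE [IsLocallyNoetherian X] (L : CochainComplex X.Modules ℤ) (hL : DCoh.IsCohD (DCoh.toD X L))
    (n : ℤ) : DCoh.IsCohD (DCoh.toD X (L.truncLE n)) := fun i => by
  rcases le_or_gt i n with h | h
  · haveI : QuasiIsoAt (L.ιTruncLE n) i := CochainComplex.quasiIsoAt_ιTruncLE L n i h
    exact Groth.L16.CohSupport.isCoh_of_iso (((DerivedCategory.homologyFunctorFactors _ i).app L) ≪≫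
      (isoOfQuasiIsoAt (L.ιTruncLE n) i).symm ≪≫ ((DerivedCategory.homologyFunctorFactors _ i).app (L.truncLE n)).symm) (hL i)
  · haveI : (DCoh.toD X (L.truncLE n)).IsLE n := inferInstanceAs ((DerivedCategory.Q.obj (L.truncLE n)).IsLE n)
    exact RHomC.isCoh_of_isZero (DerivedCategory.isZero_of_isLE _ n i h)

theorem isGE_cone_ιTruncLE (L : CochainComplex X.Modules ℤ) (n : ℤ) :
    (DCoh.toD X (mappingCone (L.ιTruncLE n))).IsGE (n + 1) := by
  have hS := L.shortComplexTruncLE_shortExact n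
  haveI := mappingCone.quasiIso_descShortComplex hS
  let e := asIso (DerivedCategory.Q.map (mappingCone.descShortComplex (L.shortComplexTruncLE n))) ≪≫
    asIso (DerivedCategory.Q.map (L.shortComplexTruncLEX₃ToTruncGE n (n + 1) rfl))
  haveI : (DerivedCategory.Q.obj (L.truncGE (n + 1))).IsGE (n + 1) := inferInstance
  exact DerivedCategory.TStructure.t.isGE_of_iso e.symm (n + 1)

set_option maxHeartbeats 1600000 in
/-- internal Hom into bounded injectives with coherent cohomology keeps coherence -/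
theorem cohD_RSheafHom [IsLocallyNoetherian X] (L : CochainComplex X.Modules ℤ) (hL : DCoh.IsCohD (DCoh.toD X L))
    [DCoh.HasLTensorCx L] [DCoh.HasRSheafHom L] (I : CochainComplex X.Modules ℤ) (hI : ∀ i, Injective (I.X i))
    (a b : ℤ) [I.IsStrictlyGE a] [I.IsStrictlyLE b] (hIc : DCoh.IsCohD (DCoh.toD X I)) :
    DCoh.IsCohD ((DCoh.RSheafHom L).obj (DCoh.toD X I)) := by
  intro j
  let n : ℤ := b - j
  let g := L.ιTruncLE n
  let S := mappingCone.triangleRotateShortComplex g
  haveI := KFlat.hasLTensorCx S.X₂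
  haveI := KFlat.hasLTensorCx S.X₃
  haveI := RHom.hasRSheafHom S.X₂
  haveI := RHom.hasRSheafHom S.X₃
  haveI := QRlim.enoughKInj X
  haveI : DCoh.HasLTensorCx S.X₁ := inferInstanceAs (DCoh.HasLTensorCx L)
  haveI : DCoh.HasRSheafHom S.X₁ := inferInstanceAs (DCoh.HasRSheafHom L)
  have hC : (DCoh.toD X S.X₂).IsGE (n + 1) := isGE_cone_ιTruncLE L n
  haveI : (L.truncLE n)⟦(1 : ℤ)⟧.IsStrictlyLE (n - 1) :=
    CochainComplex.isStrictlyLE_shift _ n 1 (n - 1) (by omega)
  haveI : (DCoh.toD X S.X₃).IsLE (n - 1) :=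
    inferInstanceAs ((DerivedCategory.Q.obj ((L.truncLE n)⟦(1 : ℤ)⟧)).IsLE (n - 1))
  have h₃c : DCoh.IsCohD (DCoh.toD X S.X₃) := RHomC.cohD_of_iso
    ((DerivedCategory.Q.commShiftIso (1 : ℤ)).app (L.truncLE n)).symm
    (FiveRight.PD_shift (fun N : X.Modules => Coh.IsCoh N) (fun e h => Groth.L16.CohSupport.isCoh_of_iso e h)
      (cohD_truncLE L hL n) 1)
  haveI : (DCoh.toD X I).IsGE a := inferInstanceAs ((DerivedCategory.Q.obj I).IsGE a)
  haveI : ((DCoh.toD X I)⟦(1 : ℤ)⟧).IsGE (a - 1) := RHom.isGE_shift inferInstance 1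
  have hI1c : DCoh.IsCohD ((DCoh.toD X I)⟦(1 : ℤ)⟧) :=
    FiveRight.PD_shift (fun N : X.Modules => Coh.IsCoh N) (fun e h => Groth.L16.CohSupport.isCoh_of_iso e h) hIc 1
  have hz : Coh.IsCoh (DCoh.HD ((DCoh.RSheafHom S.X₂).obj (DCoh.toD X I)) j) := by
    haveI := isLE_RSheafHom S.X₂ (n + 1) hC I hI a b
    exact RHomC.isCoh_of_isZero (DerivedCategory.isZero_of_isLE _ (b - (n + 1)) j (by omega))
  have hz' : Coh.IsCoh (DCoh.HD ((DCoh.RSheafHom S.X₂).obj ((DCoh.toD X I)⟦(1 : ℤ)⟧)) j) := by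
    haveI : I⟦(1 : ℤ)⟧.IsStrictlyGE (a - 1) := CochainComplex.isStrictlyGE_shift _ a 1 (a - 1) (by omega)
    haveI : I⟦(1 : ℤ)⟧.IsStrictlyLE (b - 1) := CochainComplex.isStrictlyLE_shift _ b 1 (b - 1) (by omega)
    have hle := isLE_RSheafHom S.X₂ (n + 1) hC (I⟦(1 : ℤ)⟧) (fun i => hI (i + 1)) (a - 1) (b - 1)
    exact RHomC.isCoh_of_isZero ((DerivedCategory.isZero_of_isLE (hX := hle) _ (b - 1 - (n + 1)) j (by omega)).of_iso
      ((DerivedCategory.homologyFunctor _ j).mapIso ((DCoh.RSheafHom S.X₂).mapIso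
        ((DerivedCategory.Q.commShiftIso (1 : ℤ)).app I).symm)))
  exact FiveRight.first_of_at (fun N : X.Modules => Coh.IsCoh N)
    (fun φ a b => (Groth.L16.CohKernel.isCoh_kernel_cokernel a b φ).1) (fun φ a b => (Groth.L16.CohKernel.isCoh_kernel_cokernel a b φ).2)
    (fun T hT a b => Groth.L17.CohClass.isCoh_of_shortExact T hT a b)
    ((DCoh.tensorCx (X := X)).flip.map S.f) ((DCoh.tensorCx (X := X)).flip.map S.g)
    (RHom.flip_comp_zero S) (RHom.flip_shortExact S (mappingCone.triangleRotateShortComplexSplitting g))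
    (DCoh.RSheafHomAdj S.X₁) (DCoh.RSheafHomAdj S.X₂) (DCoh.RSheafHomAdj S.X₃)
    ((DCoh.tensorCxQ S.X₁).totalLeftDerivedCounit DerivedCategory.Q _)
    ((DCoh.tensorCxQ S.X₂).totalLeftDerivedCounit DerivedCategory.Q _)
    ((DCoh.tensorCxQ S.X₃).totalLeftDerivedCounit DerivedCategory.Q _)
    DCoh.IsKFlat (fun P hP => Assoc.isIso_counit _ P hP) (fun P hP => Assoc.isIso_counit _ P hP)
    (fun P hP => Assoc.isIso_counit _ P hP) (RHom.exists_good S (mappingCone.triangleRotateShortComplexSplitting g))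
    (RHom.ltMap S.f) (RHom.ltMap S.g) (fun P => RHom.ltMap_fac S.f P) (fun P => RHom.ltMap_fac S.g P)
    (DCoh.toD X I) j hz hz'
    ((PCNoeth.isCohD_RSheafHom S.X₃ (n - 1) h₃c _ a hIc).1 j)
    ((PCNoeth.isCohD_RSheafHom S.X₃ (n - 1) h₃c _ (a - 1) hI1c).1 j)

end Groth.L29.DC.RHomInjDim
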