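import Groth.Agent.L10.RelPC.RpushAmp
import Groth.Agent.L10.RelPC.RpushBound
import Groth.Agent.L10.RelPC.PushCoh
import Groth.Agent.L12.IntSh.Vanish
import Groth.Agent.L07.FibreDimSemi
import Groth.Agent.L29.DCoh.RpushQCoh
import Groth.Agent.L29.DCoh.RelTor
import Groth.Agent.L29.DCoh.PCQCoh
import Groth.Agent.L29.DCoh.RpushColim
import Groth.Agent.L17.ToAbRpush
import Groth.Agent.Lead.RelTorStalk
import Groth.Agent.L00.TorAmp
import Groth.Agent.S6200

/-!
Tor amplitude of direct images bounded by the fibre dimension.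
-/

set_option autoImplicit false
set_option linter.style.haveILetI false
set_option backward.defeqAttrib.useBackward true
set_option backward.isDefEq.respectTransparency false
set_option backward.isDefEq.respectTransparency.types false

universe u

open CategoryTheory CategoryTheory.Limits AlgebraicGeometry DerivedCategory

attribute [local instance] HasDerivedCategory.standard

noncomputable section

namespace Groth.L29.DC.RpushTorFibre

variable {X Y : Scheme.{u}} (f : X ⟶ Y)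

/-- fibres of a restriction are no bigger -/
theorem fiber_restrict_le (V : Y.Opens) (v : (V : Scheme.{u})) (c : WithBot ℕ∞)
    (h : topologicalKrullDim (f.fiber (V.ι v)) ≤ c) :
    topologicalKrullDim ((f ∣_ V).fiber v) ≤ c := by
  let g := f ∣_ V
  let t : g.fiber v → f ⁻¹' {V.ι v} := fun z => ⟨(f ⁻¹ᵁ V).ι (g.fiberι v z), by
    have h1 : g (g.fiberι v z) = v := (Set.ext_iff.1 (g.range_fiberι v) _).1 ⟨z, rfl⟩
    have h2 := congrArg (fun k : _ ⟶ Y => k (g.fiberι v z)) (morphismRestrict_ι f V)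
    simp only [Scheme.Hom.comp_apply] at h2
    rw [Set.mem_preimage, Set.mem_singleton_iff, ← h2, h1]⟩
  have hind : Topology.IsInducing t := by
    refine Topology.IsInducing.of_comp (by fun_prop) continuous_subtype_val ?_
    exact (f ⁻¹ᵁ V).ι.isEmbedding.isInducing.comp (g.fiberι v).isEmbedding.isInducing
  exact hind.topologicalKrullDim_le.trans
    (((f.fiberHomeo (V.ι v)).symm.isInducing.topologicalKrullDim_le).trans h)

variable [IsProper f]

/-- higher direct images vanish above the fibre dimension -/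
theorem isZero_Rpush (n : ℕ) (hd : ∀ y : Y, topologicalKrullDim (f.fiber y) ≤ n) (M : X.Modules)
    (hM : Coh.IsQCoh M) (p : ℕ) (hp : n < p) : IsZero ((Coh.Rpush f p).obj M) := by
  haveI := hM
  haveI : HasInjectiveResolutions X.Modules := Groth.L17.PushQCoh.hasInjectiveResolutions X
  obtain ⟨e⟩ := Groth.L17.nonempty_toAb_Rpush_iso f M p
  have hz : IsZero (Coh.toAb ((Coh.Rpush f p).obj M)) :=
    (Groth.L12.IntSh.isZero_of_stalks_zero _ fun y => Groth.Agent.S7411.result f y n (hd y) M p hp).of_iso e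
  haveI : (Groth.L17.toAbShF Y).Faithful := inferInstanceAs (SheafOfModules.toSheaf.{u} Y.ringCatSheaf).Faithful
  exact (IsZero.iff_id_eq_zero _).2 ((Groth.L17.toAbShF Y).map_injective (hz.eq_of_src _ _))

theorem isLE_Rpush_compact [CompactSpace Y] [DCoh.HasRpush f] (n : ℕ)
    (hd : ∀ y : Y, topologicalKrullDim (f.fiber y) ≤ n) (E : DCoh.D X) (hE : DCoh.IsQCohD E) (m : ℤ)
    (hm : E.IsLE m) : ((DCoh.Rpush f).obj E).IsLE (m + n) := by
  haveI : HasInjectiveResolutions X.Modules := Groth.L17.PushQCoh.hasInjectiveResolutions X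
  exact Groth.L10.RelPC.RpushBound.isLE_Rpush f n (fun M hM i hi => RpushQC.isZero_HD_Rpush f (n + 1)
    (fun N hN p hp => isZero_Rpush f n hd N hN p (by omega)) _ (Groth.L10.RelPC.PushCoh.isQCohD_inD M hM)
    inferInstance i (by push_cast; omega)) E hE m hm

theorem torAmp [Flat f] [DCoh.HasRpush f] (n : ℕ) (hd : ∀ y : Y, topologicalKrullDim (f.fiber y) ≤ n)
    (E : DCoh.D X) (hE : DCoh.IsPerfect E) (a b : ℤ) (hab : DCoh.HasFlatAmplitudeIn a b E) :
    DCoh.HasTorAmplitudeIn a (b + n) ((DCoh.Rpush f).obj E) := by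
  have hq := PCQCoh.isQCohD_of_perfect hE
  obtain ⟨F, hv, hf, ⟨eF⟩⟩ := hab
  haveI : F.IsStrictlyLE b := (CochainComplex.isStrictlyLE_iff _ _).2 fun i hi => hv i (Or.inr hi)
  haveI hEle : E.IsLE b := DerivedCategory.TStructure.t.isLE_of_iso eF b
  have hqF : DCoh.IsQCohD (DCoh.toD X F) := isQCohD_of_iso eF.symm hq
  have hF : DerSch.HasTorAmplitude (f ≫ 𝟙 Y) a b F := fun x => by
    rw [Category.comp_id]
    exact Groth.Lead.RelTorStalk.ampAt_of_relFlatAmp f F
      ⟨F, hv, fun i => RelTor.isFlatOver_of_isFlat f (hf i), ⟨Iso.refl _⟩⟩ x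
  let R := DerivedCategory.Q.objPreimage ((DCoh.Rpush f).obj (DCoh.toD X F))
  let eR : DCoh.toD Y R ≅ (DCoh.Rpush f).obj (DCoh.toD X F) := DerivedCategory.Q.objObjPreimageIso _
  have hloc : ∀ y : Y, ∃ U : Y.Opens, y ∈ U ∧ ∀ i, b + (n : ℤ) < i →
      IsZero ((Scheme.Modules.restrictFunctor U.ι).obj (DCoh.HD ((DCoh.Rpush f).obj (DCoh.toD X F)) i)) := fun y => by
    obtain ⟨_, ⟨(V : Y.Opens), hV, rfl⟩, hyV, -⟩ :=
      Y.isBasis_affineOpens.exists_subset_of_mem_open (Set.mem_univ y) isOpen_univ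
    haveI : IsAffine (V : Scheme.{u}) := hV
    haveI := RpushQC.hasRpush (f ∣_ V)
    obtain ⟨e⟩ := RpushRes.nonempty_iso f V.ι (f ⁻¹ᵁ V).ι (f ∣_ V)
      (by rw [Scheme.Opens.opensRange_ι, Scheme.Opens.opensRange_ι]) (morphismRestrict_ι f V)
    haveI : DerivedCategory.IsLE ((DCoh.restrictD (f ⁻¹ᵁ V).ι).obj (DCoh.toD X F)) b :=
      (DerivedCategory.isLE_iff _ b).2 fun i hi => IsZero.of_iso
        (Functor.map_isZero _ (DerivedCategory.isZero_of_isLE (DCoh.toD X F) b i hi)) (HDResIso _ _ i)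
    have hle := isLE_Rpush_compact (f ∣_ V) n
      (fun v => fiber_restrict_le f V v n (hd (V.ι v))) _
      (isQCohD_restrictD (f ⁻¹ᵁ V).ι hqF) b inferInstance
    exact ⟨V, hyV, fun i hi => IsZero.of_iso (DerivedCategory.isZero_of_isLE (hX := hle) _ (b + n) i hi)
      ((HDResIso V.ι _ i).symm ≪≫ (DerivedCategory.homologyFunctor _ i).mapIso (e.app _))⟩
  have hR : DerSch.HasTorAmplitude (𝟙 Y) a (b + n) R := fun y =>
    Groth.L10.RelPC.RpushAmp.ampAt_Rpush f (𝟙 Y) F hqF hF R eR y (hloc y)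
  haveI : (DCoh.toD Y R).IsLE (b + n) := Groth.Lead.RelTorStalk.isLE_of_ampAt (𝟙 Y) R fun y => ⟨a, hR y⟩
  obtain ⟨P, hPv, hPf, ⟨eP⟩⟩ := (Groth.Agent.S6200.result R (b + n) a (b + n)).2 hR
  exact Groth.L00.TorAmp.torAmp_of_flatAmp hPv hPf (eP ≪≫ eR ≪≫ (DCoh.Rpush f).mapIso eF)

end Groth.L29.DC.RpushTorFibre
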