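import Groth.Agent.L29.DCoh.Ghost
import Mathlib.RingTheory.Filtration
import Mathlib.Data.Int.Interval
import Mathlib.Algebra.Category.ModuleCat.Monoidal.Basic
import Mathlib.Algebra.Homology.Additive
import Mathlib.Algebra.Homology.ShortComplex.ModuleCat
import Mathlib.RingTheory.Flat.Basic

/-!
Powers of an ideal killing the cohomology of a bounded complex of finite projective modules act by zero in the
derived category.
-/

set_option autoImplicit false

universe w u

open CategoryTheory CategoryTheory.Limits HomologicalComplex TensorProduct MonoidalCategory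

set_option backward.defeqAttrib.useBackward true
set_option backward.isDefEq.respectTransparency false

namespace Groth.L29.DC.TensorPow

variable {A : Type u} [CommRing A] (J : Ideal A) (K : CochainComplex (ModuleCat.{u} A) ℤ)

instance additive_curried (M : ModuleCat.{u} A) : ((curriedTensor (ModuleCat.{u} A)).obj M).Additive :=
  inferInstanceAs (tensorLeft M).Additive

/-- `J^n ⊗ K` -/
noncomputable abbrev T (n : ℕ) : CochainComplex (ModuleCat.{u} A) ℤ :=
  (((curriedTensor (ModuleCat.{u} A)).obj (ModuleCat.of A (J ^ n : Ideal A))).mapHomologicalComplex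
    (ComplexShape.up ℤ)).obj K

/-- the map induced by `J^n ⊆ J^m` -/
noncomputable abbrev ι {m n : ℕ} (h : m ≤ n) : T J K n ⟶ T J K m :=
  (NatTrans.mapHomologicalComplex ((curriedTensor (ModuleCat.{u} A)).map
    (ModuleCat.ofHom (Submodule.inclusion (p := J ^ n) (p' := J ^ m) (Ideal.pow_le_pow_right h))))
    (ComplexShape.up ℤ)).app K

theorem ι_refl (n : ℕ) : ι J K (le_refl n) = 𝟙 _ := by
  refine HomologicalComplex.hom_ext _ _ fun i => ModuleCat.hom_ext (TensorProduct.ext' fun a k => ?_)
  rfl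

theorem ι_comp {l m n : ℕ} (h : l ≤ m) (h' : m ≤ n) : ι J K h' ≫ ι J K h = ι J K (h.trans h') := by
  refine HomologicalComplex.hom_ext _ _ fun i => ModuleCat.hom_ext (TensorProduct.ext' fun a k => ?_)
  rfl

/-- multiplication `J^n ⊗ K^i → K^i` -/
noncomputable def μ (n : ℕ) (i : ℤ) : (T J K n).X i →ₗ[A] K.X i :=
  TensorProduct.lift ((LinearMap.lsmul A (K.X i)).comp (J ^ n).subtype)

theorem μ_d (n : ℕ) (i j : ℤ) (w : (T J K n).X i) : μ J K n j ((T J K n).d i j w) = K.d i j (μ J K n i w) := by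
  induction w using TensorProduct.induction_on with
  | zero =>
    exact ((congrArg (μ J K n j) (map_zero ((T J K n).d i j).hom)).trans (map_zero _)).trans
      ((congrArg (K.d i j) (map_zero (μ J K n i))).trans (map_zero (K.d i j).hom)).symm
  | tmul a k => exact ((K.d i j).hom.map_smul (a : A) k).symm
  | add x y hx hy =>
    exact ((congrArg (μ J K n j) (map_add ((T J K n).d i j).hom x y)).trans (map_add _ _ _)).trans
      ((congrArg₂ (· + ·) hx hy).trans ((congrArg (K.d i j) (map_add (μ J K n i) x y)).trans (map_add (K.d i j).hom _ _)).symm)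

theorem μ_ι {m n : ℕ} (h : m ≤ n) (i : ℤ) (w : (T J K n).X i) :
    μ J K m i ((ι J K h).f i w) = μ J K n i w := by
  induction w using TensorProduct.induction_on with
  | zero =>
    exact ((congrArg (μ J K m i) (map_zero ((ι J K h).f i).hom)).trans (map_zero _)).trans (map_zero (μ J K n i)).symm
  | tmul a k => rfl
  | add x y hx hy =>
    exact ((congrArg (μ J K m i) (map_add ((ι J K h).f i).hom x y)).trans (map_add _ _ _)).trans
      ((congrArg₂ (· + ·) hx hy).trans (map_add (μ J K n i) x y).symm)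

theorem μ_injective (n : ℕ) (i : ℤ) [Module.Flat A (K.X i)] : Function.Injective (μ J K n i) := by
  have e : μ J K n i = (TensorProduct.lid A (K.X i)).toLinearMap ∘ₗ (J ^ n).subtype.rTensor (K.X i) :=
    TensorProduct.ext' fun a k => rfl
  rw [e]
  exact (TensorProduct.lid A (K.X i)).injective.comp
    (Module.Flat.rTensor_preserves_injective_linearMap _ (J ^ n).injective_subtype)

theorem μ_mem (n : ℕ) (i : ℤ) (w : (T J K n).X i) : μ J K n i w ∈ J ^ n • (⊤ : Submodule A (K.X i)) := by
  induction w using TensorProduct.induction_on with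
  | zero => rw [map_zero]; exact zero_mem _
  | tmul a k => exact Submodule.smul_mem_smul a.2 Submodule.mem_top
  | add x y hx hy => rw [map_add]; exact add_mem hx hy

theorem exists_μ_eq (n : ℕ) (i : ℤ) {z : K.X i} (hz : z ∈ J ^ n • (⊤ : Submodule A (K.X i))) :
    ∃ w, μ J K n i w = z :=
  Submodule.smul_induction_on hz (fun a ha k _ => ⟨(⟨a, ha⟩ : (J ^ n : Ideal A)) ⊗ₜ k, rfl⟩)
    fun x y ⟨p, hp⟩ ⟨q, hq⟩ => ⟨p + q, (map_add _ _ _).trans (congrArg₂ (· + ·) hp hq)⟩

variable {J K}

theorem smul_mem_range (hJ : ∀ q : ℤ, ∀ x ∈ J, ∀ c : ↑(K.homology q), x • c = 0) (i : ℤ) {x : A} (hx : x ∈ J)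
    {z : K.X i} (hz : K.d i (i + 1) z = 0) : x • z ∈ LinearMap.range (K.d (i - 1) i).hom := by
  let k : ModuleCat.of A A ⟶ K.X i := ModuleCat.ofHom (LinearMap.toSpanSingleton A _ z)
  have hk : k ≫ K.d i (i + 1) = 0 := ModuleCat.hom_ext (LinearMap.ext fun a => by
    change K.d i (i + 1) (a • z) = 0
    rw [map_smul, hz, smul_zero])
  let c := K.liftCycles k (i + 1) (CochainComplex.next ℤ i) hk (1 : A)
  have hc : K.iCycles i c = z := by
    change (K.liftCycles k (i + 1) (CochainComplex.next ℤ i) hk ≫ K.iCycles i) (1 : A) = z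
    rw [liftCycles_i]
    exact one_smul A z
  have h0 : K.homologyπ i (x • c) = 0 := by rw [map_smul]; exact hJ i x hx _
  obtain ⟨y, hy⟩ := (ShortComplex.moduleCat_exact_iff _).1 (ShortComplex.exact_of_g_is_cokernel
    (ShortComplex.mk _ _ (K.toCycles_comp_homologyπ (i - 1) i))
    (K.homologyIsCokernel (i - 1) i (CochainComplex.prev ℤ i))) (x • c) h0
  refine ⟨y, ?_⟩
  rw [← hc, ← map_smul, ← hy]
  exact (ConcreteCategory.congr_hom (K.toCycles_i (i - 1) i) y).symm

/-- one degree -/
theorem exists_uniform [IsNoetherianRing A] (hfin : ∀ q : ℤ, Module.Finite A (K.X q))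
    (hJ : ∀ q : ℤ, ∀ x ∈ J, ∀ c : ↑(K.homology q), x • c = 0) (i : ℤ) :
    ∃ c : ℕ, ∀ (m n : ℕ), m + c ≤ n → ∀ z : K.X i, K.d i (i + 1) z = 0 →
      z ∈ J ^ n • (⊤ : Submodule A (K.X i)) →
        z ∈ (J ^ m • (⊤ : Submodule A (K.X (i - 1)))).map (K.d (i - 1) i).hom := by
  haveI := hfin i
  let Z := LinearMap.ker (K.d i (i + 1)).hom
  obtain ⟨k, hk⟩ := Ideal.exists_pow_inf_eq_pow_smul J Z
  refine ⟨k + 1, fun m n hn z hz hzn => ?_⟩
  have h1 : z ∈ J ^ (n - k) • Z := by
    have : z ∈ J ^ n • (⊤ : Submodule A (K.X i)) ⊓ Z := ⟨hzn, hz⟩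
    rw [hk n (by omega)] at this
    exact Submodule.smul_mono le_rfl inf_le_right this
  have h2 : z ∈ J ^ m • (J • Z) := by
    rw [← Submodule.smul_assoc, smul_eq_mul, ← pow_succ]
    exact Submodule.smul_mono_left (Ideal.pow_le_pow_right (by omega)) h1
  rw [Submodule.map_smul'', Submodule.map_top]
  exact Submodule.smul_mono le_rfl (Submodule.smul_le.2 fun x hx y hy => smul_mem_range hJ i hx hy) h2

variable {a b : ℤ}

theorem exists_ghost [IsNoetherianRing A] (hK : ∀ q : ℤ, q < a ∨ b < q → IsZero (K.X q))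
    (hfin : ∀ q : ℤ, Module.Finite A (K.X q)) (hproj : ∀ q : ℤ, Module.Projective A (K.X q))
    (hJ : ∀ q : ℤ, ∀ x ∈ J, ∀ c : ↑(K.homology q), x • c = 0) :
    ∃ c : ℕ, ∀ (m n : ℕ) (h : m ≤ n), m + c ≤ n → ∀ i, homologyMap (ι J K h) i = 0 := by
  choose cc hcc using exists_uniform hfin hJ
  refine ⟨(Finset.Icc a b).sup cc, fun m n h hmn i => ?_⟩
  by_cases hi : a ≤ i ∧ i ≤ b
  swap
  · have hX : IsZero ((T J K n).X i) :=
      Functor.map_isZero ((curriedTensor (ModuleCat.{u} A)).obj (ModuleCat.of A (J ^ n : Ideal A))) (hK i (by omega))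
    exact (HomologicalComplex.ExactAt.isZero_homology (ShortComplex.exact_of_isZero_X₂ ((T J K n).sc i) hX)).eq_of_src _ _
  rw [← cancel_epi ((T J K n).homologyπ i), homologyπ_naturality, comp_zero]
  refine ModuleCat.hom_ext (LinearMap.ext fun x => ?_)
  let w := (T J K n).iCycles i x
  have hw : (T J K n).d i (i + 1) w = 0 := ConcreteCategory.congr_hom ((T J K n).iCycles_d i (i + 1)) x
  obtain ⟨u, hu, hdu⟩ := hcc i m n (le_trans (Nat.add_le_add_left (Finset.le_sup (Finset.mem_Icc.2 hi)) m) hmn)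
    (μ J K n i w) (by rw [← μ_d, hw, map_zero]) (μ_mem J K n i w)
  obtain ⟨y, rfl⟩ := exists_μ_eq J K m (i - 1) hu
  haveI := hproj i
  have hy : (T J K m).toCycles (i - 1) i y = cyclesMap (ι J K h) i x := by
    apply (ModuleCat.mono_iff_injective ((T J K m).iCycles i)).1 inferInstance
    apply μ_injective J K m i
    refine (congrArg (μ J K m i) (ConcreteCategory.congr_hom ((T J K m).toCycles_i (i - 1) i) y)).trans ?_
    refine Eq.trans ?_ (congrArg (μ J K m i) (ConcreteCategory.congr_hom (cyclesMap_i (ι J K h) i) x)).symm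
    exact ((μ_d J K m (i - 1) i y).trans hdu).trans (μ_ι J K h i w).symm
  change (T J K m).homologyπ i (cyclesMap (ι J K h) i x) = 0
  rw [← hy]
  exact ConcreteCategory.congr_hom ((T J K m).toCycles_comp_homologyπ (i - 1) i) y

variable [HasDerivedCategory.{w} (ModuleCat.{u} A)]

theorem Q_map_eq_zero (hK : ∀ q : ℤ, q < a ∨ b < q → IsZero (K.X q)) (c : ℕ)
    (hc : ∀ (m n : ℕ) (h : m ≤ n), m + c ≤ n → ∀ i, homologyMap (ι J K h) i = 0) (m N : ℕ) (h : m ≤ N)
    (hN : N = m + (0 + ((b - a).toNat + 1)) * c) : DerivedCategory.Q.map (ι J K h) = 0 := by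
  let Y : ℕ → DerivedCategory (ModuleCat.{u} A) := fun j => DerivedCategory.Q.obj (T J K (m + j * c))
  have hle : ∀ j L : ℕ, m + j * c ≤ m + (j + L) * c := fun j L =>
    Nat.add_le_add_left (Nat.mul_le_mul_right c (Nat.le_add_right j L)) m
  let f : ∀ j, Y (j + 1) ⟶ Y j := fun j => DerivedCategory.Q.map (ι J K (hle j 1))
  have hcomp : ∀ L j, Ghost.comp Y f L j = DerivedCategory.Q.map (ι J K (hle j L)) := by
    intro L
    induction L with
    | zero =>
      intro j
      exact (DerivedCategory.Q.map_id _).symm.trans (congrArg _ (ι_refl J K _).symm)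
    | succ L IH =>
      intro j
      have hcast : ∀ (p q : ℕ) (e : p = q), eqToHom (congrArg Y e) =
          DerivedCategory.Q.map (ι J K (show m + q * c ≤ m + p * c by rw [e])) := by
        rintro p _ rfl
        exact (DerivedCategory.Q.map_id _).symm.trans (congrArg _ (ι_refl J K _).symm)
      rw [Ghost.comp, IH, hcast _ _ (show j + (L + 1) = j + 1 + L by omega), ← Functor.map_comp, ← Functor.map_comp, ι_comp, ι_comp]
  subst hN
  rw [← ι_comp J K (show m ≤ m + 0 * c by omega) (hle 0 _), Functor.map_comp, ← hcomp]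
  suffices h0 : Ghost.comp Y f ((b - a).toNat + 1) 0 = 0 by rw [h0, zero_comp]
  haveI : ∀ n, (T J K n).IsStrictlyGE a := fun n =>
    (CochainComplex.isStrictlyGE_iff _ a).2 fun i hi => Functor.map_isZero ((curriedTensor (ModuleCat.{u} A)).obj (ModuleCat.of A (J ^ n : Ideal A))) (hK i (Or.inl hi))
  haveI : ∀ n, (T J K n).IsStrictlyLE b := fun n =>
    (CochainComplex.isStrictlyLE_iff _ b).2 fun i hi => Functor.map_isZero ((curriedTensor (ModuleCat.{u} A)).obj (ModuleCat.of A (J ^ n : Ideal A))) (hK i (Or.inr hi))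
  refine Ghost.comp_eq_zero Y f a b (fun n => inferInstance) (fun n => inferInstance) (fun n i => ?_) _
    (by have := Int.self_le_toNat (b - a); omega) 0
  have := (DerivedCategory.homologyFunctorFactors (ModuleCat.{u} A) i).hom.naturality (ι J K (hle n 1))
  simp only [Functor.comp_map, HomologicalComplex.homologyFunctor_map] at this
  rw [hc _ _ (hle n 1) (by rw [Nat.add_mul, one_mul]; omega), comp_zero] at this
  rwa [← cancel_mono ((DerivedCategory.homologyFunctorFactors (ModuleCat.{u} A) i).hom.app (T J K (m + n * c))),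
    zero_comp]

end Groth.L29.DC.TensorPow
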