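import Groth.Agent.L00.FunctorTotal
import Mathlib.Algebra.BigOperators.Group.Finset.Basic

/-!
A natural map of bifunctors induces a map of total complexes; it is invertible when only finitely many summands occur.
-/

set_option autoImplicit false
set_option quotPrecheck false
set_option backward.isDefEq.respectTransparency false
set_option backward.isDefEq.respectTransparency.types false

open CategoryTheory CategoryTheory.Limits HomologicalComplex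

namespace Groth.L29.DC.TotalMap

universe v v' w

variable {C₁ C₂ C₁' C₂' : Type*} [Category C₁] [Category C₂] [Category C₁'] [Category C₂']
  {D : Type*} [Category.{v} D] {E : Type*} [Category.{v'} E]
  [Preadditive C₁] [Preadditive C₂] [Preadditive C₁'] [Preadditive C₂'] [Preadditive D] [Preadditive E]
  (F : C₁ ⥤ C₂ ⥤ D) [F.Additive] [∀ X, (F.obj X).Additive]
  (F' : C₁' ⥤ C₂' ⥤ E) [F'.Additive] [∀ X, (F'.obj X).Additive]
  (G₁ : C₁ ⥤ C₁') (G₂ : C₂ ⥤ C₂') (G : D ⥤ E) [G₁.Additive] [G₂.Additive] [G.Additive]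
  (β : ∀ X Y, (F'.obj (G₁.obj X)).obj (G₂.obj Y) ⟶ G.obj ((F.obj X).obj Y))
  (hβ₁ : ∀ {X X' : C₁} (f : X ⟶ X') (Y : C₂),
    (F'.map (G₁.map f)).app (G₂.obj Y) ≫ β X' Y = β X Y ≫ G.map ((F.map f).app Y))
  (hβ₂ : ∀ (X : C₁) {Y Y' : C₂} (g : Y ⟶ Y'),
    (F'.obj (G₁.obj X)).map (G₂.map g) ≫ β X Y' = β X Y ≫ G.map ((F.obj X).map g))
  (K₁ : CochainComplex C₁ ℤ) (K₂ : CochainComplex C₂ ℤ)

local notation "cc" => ComplexShape.up ℤ
local notation "L₁" => (G₁.mapHomologicalComplex cc).obj K₁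
local notation "L₂" => (G₂.mapHomologicalComplex cc).obj K₂

variable [HasMapBifunctor K₁ K₂ F (ComplexShape.up ℤ)]
  [HasMapBifunctor ((G₁.mapHomologicalComplex (ComplexShape.up ℤ)).obj K₁)
    ((G₂.mapHomologicalComplex (ComplexShape.up ℤ)).obj K₂) F' (ComplexShape.up ℤ)]

/-- the map in one degree -/
noncomputable def mapX (j : ℤ) :
    (mapBifunctor L₁ L₂ F' cc).X j ⟶ G.obj ((mapBifunctor K₁ K₂ F cc).X j) :=
  mapBifunctorDesc fun i₁ i₂ h => β (K₁.X i₁) (K₂.X i₂) ≫ G.map (ιMapBifunctor K₁ K₂ F cc i₁ i₂ j h)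

theorem ι_mapX (i₁ i₂ j : ℤ) (h : ComplexShape.π cc cc cc (i₁, i₂) = j) :
    ιMapBifunctor L₁ L₂ F' cc i₁ i₂ j h ≫ mapX F F' G₁ G₂ G β K₁ K₂ j =
      β (K₁.X i₁) (K₂.X i₂) ≫ G.map (ιMapBifunctor K₁ K₂ F cc i₁ i₂ j h) :=
  ι_mapBifunctorDesc _ i₁ i₂ h

theorem ιOrZero_mapX (i₁ i₂ j : ℤ) :
    ιMapBifunctorOrZero L₁ L₂ F' cc i₁ i₂ j ≫ mapX F F' G₁ G₂ G β K₁ K₂ j =
      β (K₁.X i₁) (K₂.X i₂) ≫ G.map (ιMapBifunctorOrZero K₁ K₂ F cc i₁ i₂ j) := by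
  by_cases h : ComplexShape.π cc cc cc (i₁, i₂) = j
  · rw [ιMapBifunctorOrZero_eq _ _ _ _ _ _ _ h, ιMapBifunctorOrZero_eq _ _ _ _ _ _ _ h, ι_mapX]
  · rw [ιMapBifunctorOrZero_eq_zero _ _ _ _ _ _ _ h, ιMapBifunctorOrZero_eq_zero _ _ _ _ _ _ _ h,
      G.map_zero, comp_zero, zero_comp]

include hβ₁ in
theorem d₁_mapX (i₁ i₂ j : ℤ) :
    mapBifunctor.d₁ L₁ L₂ F' cc i₁ i₂ j ≫ mapX F F' G₁ G₂ G β K₁ K₂ j =
      β (K₁.X i₁) (K₂.X i₂) ≫ G.map (mapBifunctor.d₁ K₁ K₂ F cc i₁ i₂ j) := by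
  by_cases h : (ComplexShape.up ℤ).Rel i₁ ((ComplexShape.up ℤ).next i₁)
  · rw [mapBifunctor.d₁_eq' _ _ _ _ h, mapBifunctor.d₁_eq' _ _ _ _ h, Linear.units_smul_comp,
      Category.assoc, ιOrZero_mapX, Units.smul_def, Units.smul_def, Functor.map_zsmul, Preadditive.comp_zsmul, Functor.map_comp,
      ← Category.assoc, ← Category.assoc]
    congr 2
    exact hβ₁ _ _
  · rw [mapBifunctor.d₁_eq_zero _ _ _ _ _ _ _ h, mapBifunctor.d₁_eq_zero _ _ _ _ _ _ _ h,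
      G.map_zero, comp_zero, zero_comp]

include hβ₂ in
theorem d₂_mapX (i₁ i₂ j : ℤ) :
    mapBifunctor.d₂ L₁ L₂ F' cc i₁ i₂ j ≫ mapX F F' G₁ G₂ G β K₁ K₂ j =
      β (K₁.X i₁) (K₂.X i₂) ≫ G.map (mapBifunctor.d₂ K₁ K₂ F cc i₁ i₂ j) := by
  by_cases h : (ComplexShape.up ℤ).Rel i₂ ((ComplexShape.up ℤ).next i₂)
  · rw [mapBifunctor.d₂_eq' _ _ _ _ _ h, mapBifunctor.d₂_eq' _ _ _ _ _ h, Linear.units_smul_comp,
      Category.assoc, ιOrZero_mapX, Units.smul_def, Units.smul_def, Functor.map_zsmul, Preadditive.comp_zsmul, Functor.map_comp,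
      ← Category.assoc, ← Category.assoc]
    congr 2
    exact hβ₂ _ _
  · rw [mapBifunctor.d₂_eq_zero _ _ _ _ _ _ _ h, mapBifunctor.d₂_eq_zero _ _ _ _ _ _ _ h,
      G.map_zero, comp_zero, zero_comp]

include hβ₁ hβ₂ in
/-- the map of total complexes -/
noncomputable def map : mapBifunctor L₁ L₂ F' cc ⟶ (G.mapHomologicalComplex cc).obj (mapBifunctor K₁ K₂ F cc) where
  f j := mapX F F' G₁ G₂ G β K₁ K₂ j
  comm' j j' _ := by
    apply mapBifunctor.hom_ext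
    intro i₁ i₂ h
    change ιMapBifunctor L₁ L₂ F' cc i₁ i₂ j h ≫ mapX F F' G₁ G₂ G β K₁ K₂ j ≫ G.map ((mapBifunctor K₁ K₂ F cc).d j j') =
      ιMapBifunctor L₁ L₂ F' cc i₁ i₂ j h ≫ _ ≫ mapX F F' G₁ G₂ G β K₁ K₂ j'
    rw [← Category.assoc, ι_mapX, Category.assoc, ← G.map_comp, mapBifunctor.d_eq, mapBifunctor.d_eq,
      Preadditive.comp_add, Preadditive.add_comp, Preadditive.comp_add]
    rw [← Category.assoc (f := ιMapBifunctor L₁ L₂ F' cc i₁ i₂ j h),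
      ← Category.assoc (f := ιMapBifunctor L₁ L₂ F' cc i₁ i₂ j h), mapBifunctor.ι_D₁,
      mapBifunctor.ι_D₂, mapBifunctor.ι_D₁, mapBifunctor.ι_D₂, d₁_mapX F F' G₁ G₂ G β hβ₁,
      d₂_mapX F F' G₁ G₂ G β hβ₂, G.map_add, Preadditive.comp_add]

/-- projection to the summand indexed by the second degree -/
noncomputable def πSnd (j : ℤ) (q : ℤ) :
    (mapBifunctor K₁ K₂ F cc).X j ⟶ (F.obj (K₁.X (j - q))).obj (K₂.X q) :=
  mapBifunctorDesc fun i₁ i₂ h =>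
    if e : i₂ = q then eqToHom (by
      have : i₁ + i₂ = j := h
      subst e; rw [show i₁ = j - i₂ by omega]) else 0

theorem sum_πSnd (j : ℤ) (s : Finset ℤ) (hs : ∀ q, q ∉ s → IsZero (K₂.X q)) :
    ∑ q ∈ s, πSnd F K₁ K₂ j q ≫ ιMapBifunctor K₁ K₂ F cc (j - q) q j (show j - q + q = j by omega) = 𝟙 _ := by
  apply mapBifunctor.hom_ext
  intro i₁ i₂ h
  rw [Preadditive.comp_sum, Category.comp_id]
  have h' : i₁ + i₂ = j := h
  by_cases hi : i₂ ∈ s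
  · rw [Finset.sum_eq_single i₂]
    · rw [← Category.assoc, πSnd, ι_mapBifunctorDesc, dif_pos rfl]
      obtain rfl : i₁ = j - i₂ := by omega
      simp
    · intro q _ hq
      rw [← Category.assoc, πSnd, ι_mapBifunctorDesc, dif_neg (Ne.symm hq), zero_comp]
    · exact fun hc => absurd hi hc
  · exact ((F.obj (K₁.X i₁)).map_isZero (hs i₂ hi)).eq_of_src _ _

/-- finitely many summands -/
theorem isIso_mapX (hβ : ∀ (p q : ℤ), IsIso (β (K₁.X p) (K₂.X q))) (j : ℤ) (s : Finset ℤ)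
    (hs : ∀ q, q ∉ s → IsZero (K₂.X q)) : IsIso (mapX F F' G₁ G₂ G β K₁ K₂ j) := by
  let g : G.obj ((mapBifunctor K₁ K₂ F cc).X j) ⟶ (mapBifunctor L₁ L₂ F' cc).X j :=
    ∑ q ∈ s, G.map (πSnd F K₁ K₂ j q) ≫ (@inv _ _ _ _ _ (hβ (j - q) q)) ≫
      ιMapBifunctor L₁ L₂ F' cc (j - q) q j (show j - q + q = j by omega)
  refine ⟨⟨g, ?_, ?_⟩⟩
  · apply mapBifunctor.hom_ext
    intro i₁ i₂ h
    rw [← Category.assoc, ι_mapX, Category.comp_id, Category.assoc, Preadditive.comp_sum, Preadditive.comp_sum]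
    have h' : i₁ + i₂ = j := h
    by_cases hi : i₂ ∈ s
    · rw [Finset.sum_eq_single i₂]
      · rw [← G.map_comp_assoc, πSnd, ι_mapBifunctorDesc, dif_pos rfl]
        obtain rfl : i₁ = j - i₂ := by omega
        haveI := hβ (j - i₂) i₂
        simp
      · intro q _ hq
        rw [← G.map_comp_assoc, πSnd, ι_mapBifunctorDesc, dif_neg (Ne.symm hq), G.map_zero, zero_comp, comp_zero]
      · exact fun hc => absurd hi hc
    · exact ((F'.obj (G₁.obj (K₁.X i₁))).map_isZero (G₂.map_isZero (hs i₂ hi))).eq_of_src _ _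
  · rw [Preadditive.sum_comp, ← G.map_id, ← sum_πSnd F K₁ K₂ j s hs, G.map_sum]
    refine Finset.sum_congr rfl fun q _ => ?_
    haveI := hβ (j - q) q
    rw [Category.assoc, Category.assoc, ι_mapX, IsIso.inv_hom_id_assoc, G.map_comp]

include hβ₂ in
/-- naturality in the second complex -/
theorem map_natural₂ {K₂' : CochainComplex C₂ ℤ} (a : K₂ ⟶ K₂') [HasMapBifunctor K₁ K₂' F (ComplexShape.up ℤ)]
    [HasMapBifunctor ((G₁.mapHomologicalComplex (ComplexShape.up ℤ)).obj K₁)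
      ((G₂.mapHomologicalComplex (ComplexShape.up ℤ)).obj K₂') F' (ComplexShape.up ℤ)] (j : ℤ) :
    (mapBifunctorMap (𝟙 L₁) ((G₂.mapHomologicalComplex cc).map a) F' cc).f j ≫
        mapX F F' G₁ G₂ G β K₁ K₂' j =
      mapX F F' G₁ G₂ G β K₁ K₂ j ≫ G.map ((mapBifunctorMap (𝟙 K₁) a F cc).f j) := by
  refine mapBifunctor.hom_ext fun p q h => ?_
  rw [ι_mapBifunctorMap_assoc, ι_mapX, ← Category.assoc (f := ιMapBifunctor _ _ _ _ p q j h), ι_mapX,
    Category.assoc, ← G.map_comp, ι_mapBifunctorMap]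
  simp only [HomologicalComplex.id_f, CategoryTheory.Functor.map_id, NatTrans.id_app, Category.id_comp]
  rw [G.map_comp, ← Category.assoc, ← Category.assoc]
  exact congrArg (fun t => t ≫ _) (hβ₂ (K₁.X p) (a.f q))

end Groth.L29.DC.TotalMap
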